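import Mathlib
import Cfsg.Agent.Lib.Helper78.CharMore
import Cfsg.Agent.Lib.Helper78.CharValues

/-!
# Generalized characters of norm three vanishing at the identity (helper52)

`exists_pair_of_norm_three`: a class function `Θ` with integer multiplicities, `[Θ,Θ] = 3`,
`[Θ,1] = 1` and `Θ 1 = 0` has the shape `1 + χ₂ - χ₁` with `χ₁, χ₂` nontrivial irreducible
characters and `χ₁ 1 = χ₂ 1 + 1`.
-/

set_option autoImplicit false

namespace Cfsg.Agent.Lib.Helper52

open Cfsg Cfsg.Agent.Lib.Helper78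
open scoped ComplexConjugate

universe u

variable {G : Type u} [Group G] [Fintype G]

/-- the trivial character as an element of `IrrCharacter G`. -/
noncomputable def trivIrr (G : Type u) [Group G] : IrrCharacter G :=
  ⟨fun _ => 1, isIrrCharacter_one⟩

theorem irr_degree_pos (χ : IrrCharacter G) :
    ∃ d : ℕ, 0 < d ∧ (χ : G → ℂ) 1 = (d : ℂ) :=
  ⟨charDegree (χ : G → ℂ), IsIrrCharacter.charDegree_pos χ.2,
    IsCharacter.apply_one_eq_charDegree (IsIrrCharacter.isCharacter χ.2)⟩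

theorem exists_pair_of_norm_three {Θ : G → ℂ} (hcf : IsClassFunction G Θ)
    (hint : ∀ χ : IrrCharacter G, ∃ n : ℤ, classInner Θ (χ : G → ℂ) = n)
    (hnorm : classInner Θ Θ = 3) (htriv : classInner Θ (fun _ => (1 : ℂ)) = 1)
    (h1 : Θ 1 = 0) :
    ∃ χ₁ χ₂ : IrrCharacter G, (χ₁ : G → ℂ) ≠ (fun _ => 1) ∧ (χ₂ : G → ℂ) ≠ (fun _ => 1) ∧
      (χ₁ : G → ℂ) 1 = (χ₂ : G → ℂ) 1 + 1 ∧
      ∀ g, Θ g = 1 + (χ₂ : G → ℂ) g - (χ₁ : G → ℂ) g := by
  classical
  choose m hm using hint
  have hP := classInner_eq_sum_mul_conj Θ hcf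
  rw [hnorm] at hP
  simp only [hm, map_intCast] at hP
  have hN : ∑ χ : IrrCharacter G, m χ * m χ = 3 := by
    have : ((∑ χ : IrrCharacter G, m χ * m χ : ℤ) : ℂ) = 3 := by
      push_cast; exact hP.symm
    exact_mod_cast this
  set τ : IrrCharacter G := trivIrr G with hτ
  have hmτ : m τ = 1 := by
    have : (m τ : ℂ) = 1 := by rw [← hm τ]; exact htriv
    exact_mod_cast this
  -- the sum over the nontrivial characters
  have hN2 : ∑ χ ∈ Finset.univ.erase τ, m χ * m χ = 2 := by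
    have := Finset.add_sum_erase Finset.univ (fun χ => m χ * m χ) (Finset.mem_univ τ)
    rw [hN, hmτ] at this
    linarith
  have hle : ∀ χ ∈ Finset.univ.erase τ, m χ * m χ ≤ 2 := by
    intro χ hχ
    rw [← hN2]
    exact Finset.single_le_sum (f := fun χ => m χ * m χ) (fun _ _ => mul_self_nonneg _) hχ
  have hsq : ∀ χ ∈ Finset.univ.erase τ, m χ * m χ = if m χ = 0 then 0 else 1 := by
    intro χ hχ
    have h2 := hle χ hχ
    split_ifs with h0
    · rw [h0]; ring
    · have hpos : 0 < m χ * m χ := mul_self_pos.mpr h0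
      have : m χ ≤ 1 := by nlinarith
      have : -1 ≤ m χ := by nlinarith
      have : m χ = 1 ∨ m χ = -1 := by omega
      rcases this with h | h <;> rw [h] <;> ring
  set T : Finset (IrrCharacter G) := (Finset.univ.erase τ).filter (fun χ => m χ ≠ 0) with hT
  have hTcard : T.card = 2 := by
    have h3 : ∑ χ ∈ Finset.univ.erase τ, m χ * m χ =
        ∑ χ ∈ Finset.univ.erase τ, if m χ = 0 then (0 : ℤ) else 1 :=
      Finset.sum_congr rfl hsq
    rw [hN2] at h3
    have h4 : ∑ χ ∈ Finset.univ.erase τ, (if m χ = 0 then (0 : ℤ) else 1) = (T.card : ℤ) := by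
      rw [hT, Finset.card_filter]
      push_cast
      apply Finset.sum_congr rfl
      intro χ _
      by_cases h : m χ = 0 <;> simp [h]
    rw [h4] at h3
    exact_mod_cast h3.symm
  obtain ⟨α, β, hαβ, hTeq⟩ := Finset.card_eq_two.mp hTcard
  have hαT : α ∈ T := by rw [hTeq]; simp
  have hβT : β ∈ T := by rw [hTeq]; simp
  have hα := Finset.mem_filter.mp hαT
  have hβ := Finset.mem_filter.mp hβT
  have hατ : α ≠ τ := (Finset.mem_erase.mp hα.1).1
  have hβτ : β ≠ τ := (Finset.mem_erase.mp hβ.1).1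
  have hmα : m α = 1 ∨ m α = -1 := by
    have h := hsq α hα.1
    rw [if_neg hα.2] at h
    exact mul_self_eq_one_iff.mp h
  have hmβ : m β = 1 ∨ m β = -1 := by
    have h := hsq β hβ.1
    rw [if_neg hβ.2] at h
    exact mul_self_eq_one_iff.mp h
  have hrest : ∀ χ, χ ≠ τ → χ ≠ α → χ ≠ β → m χ = 0 := by
    intro χ h1 h2 h3
    by_contra h0
    have : χ ∈ T := Finset.mem_filter.mpr ⟨Finset.mem_erase.mpr ⟨h1, Finset.mem_univ _⟩, h0⟩
    rw [hTeq] at this
    simp at this
    rcases this with h | h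
    · exact h2 h
    · exact h3 h
  -- the decomposition
  have hΘ : Θ = (τ : G → ℂ) + ((m α : ℂ) • (α : G → ℂ) + (m β : ℂ) • (β : G → ℂ)) := by
    conv_lhs => rw [classFunction_eq_sum_irr hcf]
    have hsub : ∑ χ : IrrCharacter G, classInner Θ (χ : G → ℂ) • (χ : G → ℂ) =
        ∑ χ ∈ ({τ, α, β} : Finset (IrrCharacter G)), classInner Θ (χ : G → ℂ) • (χ : G → ℂ) := by
      symm
      apply Finset.sum_subset (Finset.subset_univ _)
      intro χ _ hχ
      simp only [Finset.mem_insert, Finset.mem_singleton, not_or] at hχ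
      rw [hm, hrest χ hχ.1 hχ.2.1 hχ.2.2]
      simp
    rw [hsub, Finset.sum_insert (by simp [hατ.symm, hβτ.symm]),
      Finset.sum_insert (by simp [hαβ]), Finset.sum_singleton, hm, hm, hm, hmτ]
    simp
  have hτ1 : ∀ g, (τ : G → ℂ) g = 1 := fun g => rfl
  have hne : ∀ χ : IrrCharacter G, χ ≠ τ → (χ : G → ℂ) ≠ (fun _ => 1) := by
    intro χ h h'
    exact h (Subtype.ext h')
  obtain ⟨a, ha, ha1⟩ := irr_degree_pos α
  obtain ⟨b, hb, hb1⟩ := irr_degree_pos β
  have hdeg : (1 : ℂ) + ((m α : ℂ) * a + (m β : ℂ) * b) = 0 := by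
    have := congrFun hΘ 1
    rw [h1] at this
    simp only [Pi.add_apply, Pi.smul_apply, smul_eq_mul, hτ1, ha1, hb1] at this
    exact this.symm
  have hdegZ : (1 : ℤ) + (m α * a + m β * b) = 0 := by exact_mod_cast hdeg
  rcases hmα with hα1 | hα1 <;> rcases hmβ with hβ1 | hβ1
  · exfalso; rw [hα1, hβ1] at hdegZ; omega
  · -- m α = 1, m β = -1 : χ₁ = β, χ₂ = α
    refine ⟨β, α, hne β hβτ, hne α hατ, ?_, ?_⟩
    · rw [ha1, hb1]
      rw [hα1, hβ1] at hdegZ
      have : (b : ℤ) = a + 1 := by omega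
      exact_mod_cast this
    · intro g
      have := congrFun hΘ g
      simp only [Pi.add_apply, Pi.smul_apply, smul_eq_mul, hτ1, hα1, hβ1] at this
      rw [this]; push_cast; ring
  · refine ⟨α, β, hne α hατ, hne β hβτ, ?_, ?_⟩
    · rw [ha1, hb1]
      rw [hα1, hβ1] at hdegZ
      have : (a : ℤ) = b + 1 := by omega
      exact_mod_cast this
    · intro g
      have := congrFun hΘ g
      simp only [Pi.add_apply, Pi.smul_apply, smul_eq_mul, hτ1, hα1, hβ1] at this
      rw [this]; push_cast; ring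
  · exfalso; rw [hα1, hβ1] at hdegZ; omega

end Cfsg.Agent.Lib.Helper52
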