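import Mathlib
import Cfsg.Agent.S0842

/-!
# Generalized quaternion Sylow 2-subgroups: derived subgroup and a linear character (helper52)

* `card_commutator_of_quatData`: the derived subgroup of a generalized quaternion group of
  order `4m` has order `m`.
* `exists_lam`: if `C = K ⋊ ⟨g⟩` with `K` of odd order and `g` of order `2 ^ (j + 2)` there is a
  homomorphism `C →* ℂˣ` sending `g` to `I` and trivial on the elements whose order is not
  divisible by `2 ^ (j + 1)`.
-/

set_option autoImplicit false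

namespace Cfsg.Agent.Lib.Helper52

open Cfsg.Agent.S0843

section Comm

variable {G : Type*} [Group G] [Finite G]

theorem card_commutator_of_quatData {P A : Subgroup G} (h : QuatData P A) {m : ℕ} (hm : 0 < m)
    (hcardA : Nat.card A = 2 * m) (hcardP : Nat.card P = 4 * m) :
    Nat.card (⁅P, P⁆ : Subgroup G) = m := by
  have hfin := h.fin
  have hcyc := h.cyc
  obtain ⟨g, hg⟩ := IsCyclic.exists_generator (α := A)
  have hog : orderOf g = 2 * m := by
    rw [orderOf_eq_card_of_forall_mem_zpowers hg, hcardA]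
  have hoa : orderOf (g : G) = 2 * m := by rw [Subgroup.orderOf_coe, hog]
  set B : Subgroup G := Subgroup.zpowers ((g : G) ^ 2) with hB
  -- squares of elements of `A` lie in `B`
  have hsq : ∀ x ∈ A, x * x ∈ B := by
    intro x hx
    obtain ⟨k, hk⟩ := hg ⟨x, hx⟩
    have hx' : x = (g : G) ^ k := by
      have := congrArg Subtype.val hk
      simpa using this.symm
    refine ⟨k, ?_⟩
    simp only
    rw [hx', ← zpow_natCast, ← zpow_mul, ← zpow_add]
    congr 1
    push_cast; ring
  have hcomm : ∀ a ∈ A, ∀ b ∈ A, a * b = b * a := comm_of_isCyclic_subgroup A hcyc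
  -- the derived subgroup lies in `B`
  have hle : (⁅P, P⁆ : Subgroup G) ≤ B := by
    rw [Subgroup.commutator_le]
    intro s hs t ht
    rw [commutatorElement_def]
    by_cases hsA : s ∈ A
    · by_cases htA : t ∈ A
      · have : s * t * s⁻¹ * t⁻¹ = 1 := by
          rw [hcomm s hsA t htA]; group
        rw [this]; exact B.one_mem
      · have h1 := (h.out t ht htA).2 s⁻¹ (A.inv_mem hsA)
        rw [inv_inv] at h1
        have : s * t * s⁻¹ * t⁻¹ = s * (t * s⁻¹ * t⁻¹) := by group
        rw [this, h1]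
        exact hsq s hsA
    · by_cases htA : t ∈ A
      · have h1 := (h.out s hs hsA).2 t htA
        rw [h1]
        have := B.inv_mem (hsq t htA)
        rwa [mul_inv_rev] at this
      · have htinvA : t⁻¹ ∉ A := fun h' => htA (by simpa using A.inv_mem h')
        have hu : t⁻¹ * s ∈ A := (h.idx t⁻¹ (P.inv_mem ht) s hs).mpr
          ⟨fun h' => absurd h' htinvA, fun h' => absurd h' hsA⟩
        set u := t⁻¹ * s with hu_def
        have hs_eq : s = t * u := by rw [hu_def]; group
        have h1 := (h.out t ht htA).2 u⁻¹ (A.inv_mem hu)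
        rw [inv_inv] at h1
        have h2 : s * t * s⁻¹ * t⁻¹ = t * (u * (t * u⁻¹ * t⁻¹)) * t⁻¹ := by
          rw [hs_eq]; group
        rw [h2, h1]
        have h3 := (h.out t ht htA).2 (u * u) (A.mul_mem hu hu)
        rw [h3]
        exact B.inv_mem (hsq u hu)
  -- an element outside `A`
  have hPA : ¬ P ≤ A := by
    intro hle'
    have hfinP : Finite P := Nat.finite_of_card_ne_zero (by rw [hcardP]; omega)
    have := Subgroup.card_le_of_le hle'
    omega
  obtain ⟨z, hzP, hzA⟩ := SetLike.not_le_iff_exists.mp hPA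
  have hge : B ≤ (⁅P, P⁆ : Subgroup G) := by
    rw [hB, Subgroup.zpowers_le]
    have h1 := (h.out z hzP hzA).2 (g : G) g.2
    have h2 := Subgroup.commutator_mem_commutator hzP (h.le g.2)
    rw [commutatorElement_def, h1] at h2
    have h3 := Subgroup.inv_mem _ h2
    have h4 : ((g : G)⁻¹ * (g : G)⁻¹)⁻¹ = (g : G) ^ 2 := by group
    rwa [h4] at h3
  have heq : (⁅P, P⁆ : Subgroup G) = B := le_antisymm hle hge
  rw [heq, hB, Nat.card_zpowers, orderOf_pow, hoa]
  have : Nat.gcd (2 * m) 2 = 2 := Nat.gcd_eq_right ⟨m, rfl⟩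
  rw [this]
  omega

end Comm

section Lam

variable {G : Type*} [Group G] [Finite G]

/-- the unit `I` of `ℂ`. -/
noncomputable def unitI : ℂˣ := Units.mk0 Complex.I Complex.I_ne_zero

theorem unitI_val : ((unitI : ℂˣ) : ℂ) = Complex.I := rfl

theorem unitI_pow_four : unitI ^ 4 = 1 := by
  apply Units.ext
  rw [Units.val_pow_eq_pow_val, unitI_val, Complex.I_pow_four, Units.val_one]

theorem unitI_inv_ne : unitI⁻¹ ≠ unitI := by
  intro h
  have h1 : ((unitI⁻¹ : ℂˣ) : ℂ) = ((unitI : ℂˣ) : ℂ) := by rw [h]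
  rw [Units.val_inv_eq_inv_val, unitI_val, Complex.inv_I] at h1
  have h2 := congrArg Complex.im h1
  simp at h2
  norm_num at h2

theorem exists_lam (C K : Subgroup G) (hKC : K ≤ C)
    (hKn : ∀ c ∈ C, ∀ k ∈ K, c * k * c⁻¹ ∈ K) (hKodd : Odd (Nat.card K))
    (g : G) (hgC : g ∈ C) (j : ℕ) (hg : orderOf g = 2 ^ (j + 2))
    (hsup : C ≤ K ⊔ Subgroup.zpowers g) :
    ∃ lam : C →* ℂˣ, lam ⟨g, hgC⟩ = unitI ∧
      ∀ y : C, ¬ 2 ^ (j + 1) ∣ orderOf (y : G) → lam y = 1 := by
  classical
  set K' : Subgroup C := K.subgroupOf C with hK'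
  have hK'n : K'.Normal := by
    constructor
    intro k hk c
    rw [hK', Subgroup.mem_subgroupOf] at hk ⊢
    have := hKn c c.2 k hk
    simpa using this
  set π : C →* C ⧸ K' := QuotientGroup.mk' K' with hπ
  set g' : C := ⟨g, hgC⟩ with hg'
  set q : C ⧸ K' := π g' with hq
  -- `q` generates the quotient
  have hgen : ∀ x : C ⧸ K', x ∈ Subgroup.zpowers q := by
    intro x
    obtain ⟨c, rfl⟩ := QuotientGroup.mk'_surjective K' x
    set M : Subgroup G := ((Subgroup.zpowers q).comap π).map C.subtype with hM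
    have hKM : K ≤ M := by
      intro k hk
      refine ⟨⟨k, hKC hk⟩, ?_, rfl⟩
      rw [SetLike.mem_coe, Subgroup.mem_comap]
      have : π ⟨k, hKC hk⟩ = 1 := by
        rw [hπ, QuotientGroup.mk'_apply, QuotientGroup.eq_one_iff, hK', Subgroup.mem_subgroupOf]
        exact hk
      rw [this]; exact Subgroup.one_mem _
    have hgM : Subgroup.zpowers g ≤ M := by
      rw [Subgroup.zpowers_le]
      refine ⟨g', ?_, rfl⟩
      rw [SetLike.mem_coe, Subgroup.mem_comap]
      exact Subgroup.mem_zpowers q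
    have hcM : (c : G) ∈ M := (sup_le hKM hgM) (hsup c.2)
    obtain ⟨c', hc', hcc⟩ := hcM
    have : c' = c := Subtype.ext hcc
    rw [this, SetLike.mem_coe, Subgroup.mem_comap] at hc'
    exact hc'
  -- the order of `q`
  have hog' : orderOf g' = 2 ^ (j + 2) := by
    rw [← hg, ← Subgroup.orderOf_coe]
  have hoq : orderOf q = 2 ^ (j + 2) := by
    rw [← hog']
    rw [orderOf_eq_orderOf_iff]
    intro i
    rw [hq, ← map_pow]
    constructor
    · intro h
      rw [hπ, QuotientGroup.mk'_apply, QuotientGroup.eq_one_iff, hK',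
        Subgroup.mem_subgroupOf] at h
      -- `g ^ i ∈ K` has odd order dividing a power of two
      have h1 : orderOf ((g' ^ i : C) : G) ∣ Nat.card K := by
        have := orderOf_dvd_natCard (⟨((g' ^ i : C) : G), h⟩ : K)
        rwa [Subgroup.orderOf_mk] at this
      have h2 : orderOf ((g' ^ i : C) : G) ∣ 2 ^ (j + 2) := by
        rw [Subgroup.orderOf_coe, ← hog']
        exact orderOf_pow_dvd i
      have h3 : Odd (orderOf ((g' ^ i : C) : G)) := hKodd.of_dvd_nat h1
      obtain ⟨l, -, hl⟩ := (Nat.dvd_prime_pow Nat.prime_two).mp h2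
      have hl0 : l = 0 := by
        by_contra hne
        rw [hl] at h3
        exact (Nat.not_even_iff_odd.mpr h3) (Nat.even_pow.mpr ⟨even_two, hne⟩)
      rw [hl0, pow_zero, orderOf_eq_one_iff] at hl
      exact Subtype.ext hl
    · intro h
      rw [h, map_one]
  have hζ : orderOf unitI ∣ orderOf q := by
    rw [hoq]
    exact (orderOf_dvd_of_pow_eq_one unitI_pow_four).trans
      ⟨2 ^ j, by rw [pow_add]; ring⟩
  set ψ : C ⧸ K' →* ℂˣ := monoidHomOfForallMemZpowers hgen hζ with hψ
  have hψq : ψ q = unitI := monoidHomOfForallMemZpowers_apply_gen hgen hζ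
  refine ⟨ψ.comp π, hψq, ?_⟩
  intro y hy
  rw [MonoidHom.comp_apply]
  have hyq := hgen (π y)
  rw [← mem_powers_iff_mem_zpowers, Submonoid.mem_powers_iff] at hyq
  obtain ⟨k, hk⟩ := hyq
  rw [← hk, map_pow, hψq]
  -- the order of `π y`
  have h1 : orderOf (π y) ∣ orderOf (y : G) := by
    rw [Subgroup.orderOf_coe]
    exact orderOf_map_dvd π y
  have h2 : orderOf (π y) ∣ 2 ^ (j + 2) := by
    rw [← hoq, ← hk]
    exact orderOf_pow_dvd k
  obtain ⟨l, hl, hl'⟩ := (Nat.dvd_prime_pow Nat.prime_two).mp h2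
  have hlj : l ≤ j := by
    by_contra hlt
    apply hy
    refine dvd_trans ?_ h1
    rw [hl']
    exact pow_dvd_pow 2 (by omega)
  have h3 : (π y) ^ (2 ^ j) = 1 := by
    apply orderOf_dvd_iff_pow_eq_one.mp
    rw [hl']
    exact pow_dvd_pow 2 hlj
  rw [← hk, ← pow_mul] at h3
  have h4 : 2 ^ (j + 2) ∣ k * 2 ^ j := by
    rw [← hoq]
    exact orderOf_dvd_of_pow_eq_one h3
  have h5 : 4 ∣ k := by
    have : 2 ^ j * 4 ∣ 2 ^ j * k := by
      have e1 : 2 ^ (j + 2) = 2 ^ j * 4 := by rw [pow_add]; norm_num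
      rw [e1, mul_comm k] at h4
      exact h4
    exact (Nat.mul_dvd_mul_iff_left (by positivity)).mp this
  obtain ⟨k', rfl⟩ := h5
  rw [pow_mul, unitI_pow_four, one_pow]

end Lam

end Cfsg.Agent.Lib.Helper52
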