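import Mathlib
import Cfsg.Agent.S0842

/-!
# A normal subgroup meeting a Sylow 2-subgroup in a cyclic group, when `O(G) = 1`

`central_of_cyclic_inter`: if `O(G) = 1`, `N ⊴ G` and `S ∩ N` is cyclic for a Sylow 2-subgroup `S`,
then every involution of `N` is central in `G`.  (Requested by helper4 for S0201.)
-/

set_option autoImplicit false
open Cfsg

namespace Cfsg.Agent.Lib.Helper52

universe u

/-- two involutions in a cyclic subgroup coincide -/
theorem involution_unique_of_isCyclic {G : Type*} [Group G] [Finite G] (H : Subgroup G)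
    (hH : IsCyclic H) {x y : G} (hx : x ∈ H) (hy : y ∈ H) (hox : orderOf x = 2)
    (hoy : orderOf y = 2) : x = y := by
  classical
  haveI := Fintype.ofFinite H
  have h2 : 2 ∣ Fintype.card H := by
    have := orderOf_dvd_card (x := (⟨x, hx⟩ : H))
    rwa [Subgroup.orderOf_mk, hox] at this
  have hcard := IsCyclic.card_orderOf_eq_totient (α := H) h2
  rw [Nat.totient_two, Finset.card_eq_one] at hcard
  obtain ⟨z, hz⟩ := hcard
  have hx' : (⟨x, hx⟩ : H) ∈ Finset.univ.filter (fun a : H => orderOf a = 2) := by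
    simp [Subgroup.orderOf_mk, hox]
  have hy' : (⟨y, hy⟩ : H) ∈ Finset.univ.filter (fun a : H => orderOf a = 2) := by
    simp [Subgroup.orderOf_mk, hoy]
  rw [hz, Finset.mem_singleton] at hx' hy'
  exact congrArg Subtype.val (hx'.trans hy'.symm)

/-- If `O(G) = 1`, `N ⊴ G` and `S ∩ N` is cyclic (`S` a Sylow 2-subgroup), then the involutions of
`N` are central in `G`. -/
theorem central_of_cyclic_inter {G : Type u} [Group G] [Finite G] (S : Sylow 2 G)
    (N : Subgroup G) [N.Normal]
    (hO : ∀ K : Subgroup G, K.Normal → Odd (Nat.card K) → K = ⊥)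
    (hcyc : IsCyclic ((S : Subgroup G) ⊓ N : Subgroup G)) (t : G) (ht : orderOf t = 2)
    (htN : t ∈ N) : t ∈ Subgroup.center G := by
  have hNn : N.Normal := inferInstance
  have h2N : 2 ∣ Nat.card N := by
    have := orderOf_dvd_natCard (⟨t, htN⟩ : N)
    rwa [Subgroup.orderOf_mk, ht] at this
  let R : Sylow 2 N := default
  -- `R` embeds in `S ⊓ N`
  obtain ⟨g, hg⟩ := Cfsg.Agent.Lib.Helper85.exists_conj_le_sylow S
    (T := (R : Subgroup N).map N.subtype) (R.isPGroup'.map _)
  have hmem : ∀ r : R, g * ((r : N) : G) * g⁻¹ ∈ (S : Subgroup G) ⊓ N := by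
    intro r
    refine Subgroup.mem_inf.mpr ⟨hg ⟨((r : N) : G), ⟨(r : N), r.2, rfl⟩, rfl⟩, ?_⟩
    exact hNn.conj_mem _ (r : N).2 g
  let φ : R →* ((S : Subgroup G) ⊓ N : Subgroup G) :=
    { toFun := fun r => ⟨g * ((r : N) : G) * g⁻¹, hmem r⟩
      map_one' := by ext; simp
      map_mul' := by intro a b; ext; simp [mul_assoc] }
  have hφ : Function.Injective φ := by
    intro a b hab
    have h1 : g * ((a : N) : G) * g⁻¹ = g * ((b : N) : G) * g⁻¹ := congrArg Subtype.val hab
    have h2 : ((a : N) : G) = ((b : N) : G) := by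
      have := congrArg (fun z => g⁻¹ * z * g) h1
      simpa [mul_assoc] using this
    exact Subtype.ext (Subtype.ext h2)
  have hR : IsCyclic R := isCyclic_of_injective φ hφ
  obtain ⟨K, hKN, hKodd, hKcard, -, hKmem⟩ :=
    Cfsg.Agent.S0842.exists_normal_two_complement N R hR h2N
  have hKnormal : K.Normal := by
    refine ⟨fun x hx c => hKmem _ (hNn.conj_mem x (hKN hx) c) ?_⟩
    have h1 : orderOf (c * x * c⁻¹) = orderOf x := (MulAut.conj c).orderOf_eq x
    rw [h1]
    have h2 : orderOf x ∣ Nat.card K := by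
      have := orderOf_dvd_natCard (⟨x, hx⟩ : K)
      rwa [Subgroup.orderOf_mk] at this
    exact hKodd.of_dvd_nat h2
  have hKbot : K = ⊥ := hO K hKnormal hKodd
  have hK1 : Nat.card K = 1 := by rw [hKbot]; exact Subgroup.card_bot
  rw [hK1, one_mul] at hKcard
  have hRtop : (R : Subgroup N) = ⊤ := Subgroup.eq_top_of_card_eq _ hKcard
  have hNcyc : IsCyclic N := by
    have e : N ≃* R := (Subgroup.topEquiv (G := N)).symm.trans (MulEquiv.subgroupCongr hRtop.symm)
    exact isCyclic_of_injective e.toMonoidHom e.injective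
  rw [Subgroup.mem_center_iff]
  intro c
  have h1 : orderOf (c * t * c⁻¹) = 2 := by
    rw [← ht]; exact (MulAut.conj c).orderOf_eq t
  have h2 : c * t * c⁻¹ = t :=
    involution_unique_of_isCyclic N hNcyc (hNn.conj_mem t htN c) htN h1 ht
  calc c * t = (c * t * c⁻¹) * c := by group
    _ = t * c := by rw [h2]

end Cfsg.Agent.Lib.Helper52
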