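import Mathlib
import Cfsg.Agent.Lib.Helper52.NormThree
import Cfsg.Agent.Lib.Helper75.Clifford
import Cfsg.Agent.Lib.Helper77.Linear
import Cfsg.Agent.S0148

/-!
# Exceptional characters from a T.I. set with normalizer of index two (helper52)

`exists_exceptional_pair`: `C ≤ N` of index two, `X ⊆ C` a T.I. set with normalizer `N`,
`lam` a linear character of `C` that is trivial off `X` and not `N`-invariant. Then
`(1 - lam)^G = 1 + χ₂ - χ₁` with `χ₁ 1 = χ₂ 1 + 1`, and `χ₁ - χ₂ = 1` off the conjugates of `X`.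
-/

set_option autoImplicit false

namespace Cfsg.Agent.Lib.Helper52

open Cfsg Cfsg.Agent.Lib.Helper78 Cfsg.Agent.Lib.Helper75
open scoped ComplexConjugate

universe u

section HomSums

variable {H : Type u} [Group H] [Fintype H]

theorem sum_hom_eq_zero (α : H →* ℂˣ) (hα : α ≠ 1) : ∑ h : H, ((α h : ℂˣ) : ℂ) = 0 := by
  have hne : ((Units.coeHom ℂ).comp α : H →* ℂ) ≠ 1 := by
    intro h
    apply hα
    ext x
    have := DFunLike.congr_fun h x
    simpa using this
  have := sum_hom_units_eq_zero ((Units.coeHom ℂ).comp α) hne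
  simpa using this

omit [Fintype H] in
theorem hom_conj [Finite H] (α : H →* ℂˣ) (h : H) :
    conj ((α h : ℂˣ) : ℂ) = (((α h)⁻¹ : ℂˣ) : ℂ) := by
  have hpow : ((α h : ℂˣ) : ℂ) ^ orderOf h = 1 := by
    rw [← Units.val_pow_eq_pow_val, ← map_pow, pow_orderOf_eq_one, map_one, Units.val_one]
  have hnorm : ‖((α h : ℂˣ) : ℂ)‖ = 1 :=
    Complex.norm_eq_one_of_pow_eq_one hpow (orderOf_pos h).ne'
  have hmul : ((α h : ℂˣ) : ℂ) * conj ((α h : ℂˣ) : ℂ) = 1 := by
    rw [Complex.mul_conj, Complex.normSq_eq_norm_sq, hnorm]; simp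
  rw [Units.val_inv_eq_inv_val]
  exact eq_inv_of_mul_eq_one_right hmul

theorem sum_one_sub_hom (α β : H →* ℂˣ) (hα : α ≠ 1) (hβ : β ≠ 1) :
    ∑ h : H, (1 - ((α h : ℂˣ) : ℂ)) * conj (1 - ((β h : ℂˣ) : ℂ)) =
      if α = β then 2 * (Fintype.card H : ℂ) else (Fintype.card H : ℂ) := by
  classical
  have h1 : ∀ h : H, (1 - ((α h : ℂˣ) : ℂ)) * conj (1 - ((β h : ℂˣ) : ℂ)) =
      1 - ((α h : ℂˣ) : ℂ) - (((β⁻¹) h : ℂˣ) : ℂ) + (((α * β⁻¹) h : ℂˣ) : ℂ) := by
    intro h
    rw [map_sub, map_one, hom_conj]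
    simp only [MonoidHom.mul_apply, MonoidHom.inv_apply, Units.val_mul]
    ring
  simp only [h1, Finset.sum_add_distrib, Finset.sum_sub_distrib, Finset.sum_const,
    Finset.card_univ, nsmul_eq_mul, mul_one]
  rw [sum_hom_eq_zero α hα, sum_hom_eq_zero β⁻¹ (fun h => hβ (by
    ext x
    have := DFunLike.congr_fun h x
    simpa using this))]
  split_ifs with hab
  · subst hab
    have : α * α⁻¹ = 1 := mul_inv_cancel α
    simp [this]; ring
  · rw [sum_hom_eq_zero (α * β⁻¹) (by intro h; exact hab (mul_inv_eq_one.mp h))]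
    ring

end HomSums

section Conj

variable {G : Type u} [Group G]

/-- the hom `c ↦ lam (t⁻¹ c t)` for `t` normalizing `C`. -/
def conjHomC (C : Subgroup G) (lam : C →* ℂˣ) (t : G) (ht : ∀ c ∈ C, t⁻¹ * c * t ∈ C) :
    C →* ℂˣ where
  toFun c := lam ⟨t⁻¹ * c * t, ht c c.2⟩
  map_one' := by
    have : (⟨t⁻¹ * ((1 : C) : G) * t, ht _ (1 : C).2⟩ : C) = 1 := by
      apply Subtype.ext; simp
    rw [this, map_one]
  map_mul' a b := by
    rw [← map_mul]
    congr 1
    apply Subtype.ext
    simp only [Subgroup.coe_mul]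
    group

theorem conjHomC_apply (C : Subgroup G) (lam : C →* ℂˣ) (t : G)
    (ht : ∀ c ∈ C, t⁻¹ * c * t ∈ C) (c : C) :
    conjHomC C lam t ht c = lam ⟨t⁻¹ * c * t, ht c c.2⟩ := rfl

end Conj

section Main

variable {G : Type u} [Group G] [Fintype G]

theorem exists_exceptional_pair
    (C N : Subgroup G) (hCN : C ≤ N) (hidx : C.relIndex N = 2)
    (X : Set G)
    (hTI : ∀ g : G, ∀ y ∈ X, g * y * g⁻¹ ∈ X → g ∈ N)
    (lam : C →* ℂˣ)
    (hlamX : ∀ y : C, (y : G) ∉ X → lam y = 1)
    (s x₀ : G) (hsN : s ∈ N) (hx₀ : x₀ ∈ C) (hsx₀ : s * x₀ * s⁻¹ ∈ C)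
    (hne : lam ⟨s * x₀ * s⁻¹, hsx₀⟩ ≠ lam ⟨x₀, hx₀⟩) :
    ∃ χ₁ χ₂ : G → ℂ, IsIrrCharacter G χ₁ ∧ IsIrrCharacter G χ₂ ∧ χ₁ ≠ (fun _ => 1) ∧
      χ₂ ≠ (fun _ => 1) ∧ χ₁ 1 = χ₂ 1 + 1 ∧
      ∀ g : G, (∀ h : G, h * g * h⁻¹ ∉ X) → χ₁ g - χ₂ g = 1 := by
  classical
  -- normality of `C` in `N`
  have hidx' : (C.subgroupOf N).index = 2 := hidx
  have hn : (C.subgroupOf N).Normal := Subgroup.normal_of_index_eq_two hidx'
  have hCnorm : ∀ t ∈ N, ∀ c ∈ C, t * c * t⁻¹ ∈ C := by
    intro t ht c hc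
    have := hn.conj_mem ⟨c, hCN hc⟩ (by rw [Subgroup.mem_subgroupOf]; exact hc) ⟨t, ht⟩
    rw [Subgroup.mem_subgroupOf] at this
    simpa using this
  have hCnorm' : ∀ t ∈ N, ∀ c ∈ C, t⁻¹ * c * t ∈ C := by
    intro t ht c hc
    have := hCnorm t⁻¹ (N.inv_mem ht) c hc
    simpa using this
  have hmul2 : ∀ a ∈ N, ∀ b ∈ N, (a * b ∈ C ↔ (a ∈ C ↔ b ∈ C)) := by
    intro a ha b hb
    have := Subgroup.mul_mem_iff_of_index_two hidx' (a := ⟨a, ha⟩) (b := ⟨b, hb⟩)
    simpa [Subgroup.mem_subgroupOf] using this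
  -- `lam` is not trivial, `s ∉ C`
  have hlam1 : lam ≠ 1 := by
    intro h
    apply hne
    rw [h]; simp
  have hsC : s ∉ C := by
    intro hs
    apply hne
    have : (⟨s * x₀ * s⁻¹, hsx₀⟩ : C) = ⟨s, hs⟩ * ⟨x₀, hx₀⟩ * ⟨s, hs⟩⁻¹ := by
      apply Subtype.ext; simp
    rw [this, map_mul, map_mul, map_inv, mul_comm, inv_mul_cancel_left]
  -- the functions
  set φ : C → ℂ := fun c => 1 - ((lam c : ℂˣ) : ℂ) with hφ
  set Θ : G → ℂ := indFun C φ with hΘ
  have hΘcf : IsClassFunction G Θ := isClassFunction_indFun C φ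
  have hcardC : (Nat.card C : ℂ) ≠ 0 := by
    have : Nat.card C ≠ 0 := Nat.card_pos.ne'
    exact_mod_cast this
  have hφX : ∀ c : C, (c : G) ∉ X → φ c = 0 := by
    intro c hc
    simp only [hφ, hlamX c hc, Units.val_one, sub_self]
  -- integrality
  have hΘint : ∀ χ : IrrCharacter G, ∃ n : ℤ, classInner Θ (χ : G → ℂ) = n := by
    intro χ
    have h1 : IsCharacter G (indFun C (fun _ : C => (1 : ℂ))) :=
      Cfsg.Agent.S0148.result C _ (IsIrrCharacter.isCharacter isIrrCharacter_one)
    have h2 : IsCharacter G (indFun C (fun c : C => ((lam c : ℂˣ) : ℂ))) :=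
      Cfsg.Agent.S0148.result C _
        (IsIrrCharacter.isCharacter (Cfsg.Agent.Lib.Helper77.isIrrCharacter_of_monoidHom lam))
    obtain ⟨a, ha⟩ := IsCharacter.exists_nat_classInner h1 χ
    obtain ⟨b, hb⟩ := IsCharacter.exists_nat_classInner h2 χ
    refine ⟨(a : ℤ) - b, ?_⟩
    have hsplit : Θ = indFun C (fun _ : C => (1 : ℂ)) +
        (-1 : ℂ) • indFun C (fun c : C => ((lam c : ℂˣ) : ℂ)) := by
      funext g
      simp only [hΘ, hφ, indFun, Pi.add_apply, Pi.smul_apply, smul_eq_mul]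
      have hx : ∀ x : G, extendByZero C (fun c : C => 1 - ((lam c : ℂˣ) : ℂ)) (x⁻¹ * g * x) =
          extendByZero C (fun _ : C => (1 : ℂ)) (x⁻¹ * g * x) +
            -1 * extendByZero C (fun c : C => ((lam c : ℂˣ) : ℂ)) (x⁻¹ * g * x) := by
        intro x
        by_cases hx : x⁻¹ * g * x ∈ C
        · rw [extendByZero_of_mem C _ hx, extendByZero_of_mem C _ hx,
            extendByZero_of_mem C _ hx]
          ring
        · rw [extendByZero_of_not_mem C _ hx, extendByZero_of_not_mem C _ hx,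
            extendByZero_of_not_mem C _ hx]
          ring
      simp only [hx, Finset.sum_add_distrib, ← Finset.mul_sum]
      ring
    rw [hsplit, classInner_add_left, classInner_smul_left, ha, hb]
    push_cast; ring
  -- value at one
  have hΘ1 : Θ 1 = 0 := by
    rw [hΘ, indFun_one]
    simp [hφ]
  -- multiplicity of the trivial character
  have hsumlam : ∑ c : C, ((lam c : ℂˣ) : ℂ) = 0 := sum_hom_eq_zero lam hlam1
  have hΘtriv : classInner Θ (fun _ => (1 : ℂ)) = 1 := by
    have hcf1 : IsClassFunction G (fun _ : G => (1 : ℂ)) := fun _ _ => rfl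
    rw [hΘ, frobenius_reciprocity C φ hcf1]
    unfold classInner
    simp only [map_one, mul_one, hφ, Finset.sum_sub_distrib, hsumlam, Finset.sum_const,
      Finset.card_univ, nsmul_eq_mul, sub_zero]
    rw [← Nat.card_eq_fintype_card]
    field_simp
  -- vanishing
  have hΘvan : ∀ g : G, (∀ h : G, h * g * h⁻¹ ∉ X) → Θ g = 0 := by
    intro g hg
    simp only [hΘ, indFun]
    rw [Finset.sum_eq_zero, mul_zero]
    intro x _
    by_cases hx : x⁻¹ * g * x ∈ C
    · rw [extendByZero_of_mem C _ hx]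
      apply hφX
      have := hg x⁻¹
      simpa using this
    · exact extendByZero_of_not_mem C _ hx
  -- the norm
  have hΘnorm : classInner Θ Θ = 3 := by
    have hcardN : (Nat.card N : ℂ) = 2 * (Nat.card C : ℂ) := by
      have h1 := (C.subgroupOf N).index_mul_card
      rw [hidx', Nat.card_congr (Subgroup.subgroupOfEquivOfLe hCN).toEquiv] at h1
      rw [← h1]; push_cast; ring
    have hfilter : ∀ K : Subgroup G, ((Finset.univ.filter (fun t : G => t ∈ K)).card : ℂ) =
        (Nat.card K : ℂ) := by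
      intro K
      rw [Nat.card_eq_fintype_card, Fintype.card_subtype]
    have hfr : classInner Θ Θ = classInner φ (fun c : C => Θ c) :=
      frobenius_reciprocity C φ hΘcf
    set f : G → ℂ := extendByZero C φ with hf
    have hΘc : ∀ g : G, Θ g = (Nat.card C : ℂ)⁻¹ * ∑ t : G, f (t⁻¹ * g * t) := fun g => rfl
    set J : G → ℂ := fun t => ∑ c : C, φ c * conj (f (t⁻¹ * (c : G) * t)) with hJdef
    have hJ : ∀ t : G, J t = (if t ∈ N then (Nat.card C : ℂ) else 0) +
        (if t ∈ C then (Nat.card C : ℂ) else 0) := by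
      intro t
      by_cases htN : t ∈ N
      · have hmem : ∀ c ∈ C, t⁻¹ * c * t ∈ C := hCnorm' t htN
        set lamt := conjHomC C lam t hmem with hlamt
        have hlamt1 : lamt ≠ 1 := by
          intro h
          apply hlam1
          ext c
          have hc' : t * (c : G) * t⁻¹ ∈ C := hCnorm t htN c c.2
          have := DFunLike.congr_fun h ⟨t * (c : G) * t⁻¹, hc'⟩
          rw [hlamt, conjHomC_apply] at this
          have hcc : (⟨t⁻¹ * ((⟨t * (c : G) * t⁻¹, hc'⟩ : C) : G) * t, hmem _ hc'⟩ : C) = c := by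
            apply Subtype.ext
            simp only
            group
          rw [hcc] at this
          rw [this]; simp
        have hJt : J t = ∑ c : C, (1 - ((lam c : ℂˣ) : ℂ)) * conj (1 - ((lamt c : ℂˣ) : ℂ)) := by
          simp only [hJdef]
          apply Finset.sum_congr rfl
          intro c _
          rw [hf, extendByZero_of_mem C φ (hmem c c.2)]
          rfl
        rw [hJt, sum_one_sub_hom lam lamt hlam1 hlamt1, if_pos htN, ← Nat.card_eq_fintype_card]
        by_cases htC : t ∈ C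
        · have heq : lam = lamt := by
            ext c
            rw [hlamt, conjHomC_apply]
            have : (⟨t⁻¹ * (c : G) * t, hmem c c.2⟩ : C) = (⟨t, htC⟩ : C)⁻¹ * c * ⟨t, htC⟩ := by
              apply Subtype.ext; simp
            rw [this, map_mul, map_mul, map_inv, mul_comm, mul_inv_cancel_left]
          rw [if_pos heq, if_pos htC]; ring
        · have hneq : lam ≠ lamt := by
            intro heq
            apply hne
            have hst : s * t ∈ C := (hmul2 s hsN t htN).mpr ⟨fun h => absurd h hsC,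
              fun h => absurd h htC⟩
            have h1 := DFunLike.congr_fun heq ⟨x₀, hx₀⟩
            rw [hlamt, conjHomC_apply] at h1
            have : (⟨t⁻¹ * ((⟨x₀, hx₀⟩ : C) : G) * t, hmem _ hx₀⟩ : C) =
                (⟨s * t, hst⟩ : C)⁻¹ * ⟨s * x₀ * s⁻¹, hsx₀⟩ * ⟨s * t, hst⟩ := by
              apply Subtype.ext
              simp only [Subgroup.coe_mul, Subgroup.coe_inv]
              group
            rw [this, map_mul, map_mul, map_inv, mul_comm, mul_inv_cancel_left] at h1
            exact h1.symm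
          rw [if_neg hneq, if_neg htC]; ring
      · have htC : t ∉ C := fun h => htN (hCN h)
        rw [if_neg htN, if_neg htC, add_zero]
        simp only [hJdef]
        apply Finset.sum_eq_zero
        intro c _
        by_cases hcX : (c : G) ∈ X
        · by_cases hx : t⁻¹ * (c : G) * t ∈ C
          · rw [hf, extendByZero_of_mem C φ hx]
            have : ((⟨t⁻¹ * (c : G) * t, hx⟩ : C) : G) ∉ X := by
              intro h
              apply htN
              have := hTI t⁻¹ c hcX (by simpa using h)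
              simpa using N.inv_mem this
            rw [hφX _ this]; simp
          · rw [hf, extendByZero_of_not_mem C φ hx]; simp
        · rw [hφX c hcX, zero_mul]
    have hsum : ∑ t : G, J t = 3 * (Nat.card C : ℂ) * (Nat.card C : ℂ) := by
      simp only [hJ, Finset.sum_add_distrib, Finset.sum_ite, Finset.sum_const_zero, add_zero,
        Finset.sum_const, nsmul_eq_mul, hfilter, hcardN]
      ring
    rw [hfr]
    unfold classInner
    have hswap : ∑ c : C, φ c * conj (Θ c) = (Nat.card C : ℂ)⁻¹ * ∑ t : G, J t := by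
      have h1 : ∀ c : C, φ c * conj (Θ c) =
          (Nat.card C : ℂ)⁻¹ * ∑ t : G, φ c * conj (f (t⁻¹ * (c : G) * t)) := by
        intro c
        rw [hΘc, map_mul, map_inv₀, map_natCast, map_sum, Finset.mul_sum, Finset.mul_sum,
          Finset.mul_sum]
        apply Finset.sum_congr rfl
        intro t _
        ring
      simp only [h1, hJdef]
      rw [← Finset.mul_sum, Finset.sum_comm]
    rw [hswap, hsum]
    field_simp
  obtain ⟨χ₁, χ₂, h1, h2, h3, h4⟩ :=
    exists_pair_of_norm_three hΘcf hΘint hΘnorm hΘtriv hΘ1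
  refine ⟨χ₁, χ₂, χ₁.2, χ₂.2, h1, h2, h3, ?_⟩
  intro g hg
  have := h4 g
  rw [hΘvan g hg] at this
  linear_combination this

end Main

end Cfsg.Agent.Lib.Helper52
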