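import Mathlib
import Cfsg.Agent.Lib.Helper52.ExcPair

/-!
# The induced class function `(1 - lam)^G` for an invariant linear character (helper52)

`theta_norm_four`: `C ≤ N` of index two, `X ⊆ C` a T.I. set with normalizer `N`, `lam` a
nontrivial linear character of `C`, trivial off `X` and `N`-invariant. Then
`Θ = indFun C (1 - lam)` has integer multiplicities, `Θ 1 = 0`, `[Θ, 1] = 1`, `[Θ, Θ] = 4`,
`Θ = 0` off the conjugates of `X` and `Θ x = 2 (1 - lam x)` on `X`.
-/

set_option autoImplicit false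

namespace Cfsg.Agent.Lib.Helper52

open Cfsg Cfsg.Agent.Lib.Helper78 Cfsg.Agent.Lib.Helper75
open scoped ComplexConjugate

universe u

section Main

variable {G : Type u} [Group G] [Fintype G]

theorem theta_norm_four
    (C N : Subgroup G) (hCN : C ≤ N) (hidx : C.relIndex N = 2)
    (X : Set G)
    (hTI : ∀ g : G, ∀ y ∈ X, g * y * g⁻¹ ∈ X → g ∈ N)
    (lam : C →* ℂˣ) (hlam1 : lam ≠ 1)
    (hlamX : ∀ y : C, (y : G) ∉ X → lam y = 1)
    (hinv : ∀ t ∈ N, ∀ c : C, ∀ h : t⁻¹ * (c : G) * t ∈ C, lam ⟨t⁻¹ * (c : G) * t, h⟩ = lam c) :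
    IsClassFunction G (indFun C (fun c : C => 1 - ((lam c : ℂˣ) : ℂ))) ∧
    (∀ χ : IrrCharacter G, ∃ n : ℤ,
      classInner (indFun C (fun c : C => 1 - ((lam c : ℂˣ) : ℂ))) (χ : G → ℂ) = n) ∧
    indFun C (fun c : C => 1 - ((lam c : ℂˣ) : ℂ)) 1 = 0 ∧
    classInner (indFun C (fun c : C => 1 - ((lam c : ℂˣ) : ℂ))) (fun _ => (1 : ℂ)) = 1 ∧
    classInner (indFun C (fun c : C => 1 - ((lam c : ℂˣ) : ℂ)))
      (indFun C (fun c : C => 1 - ((lam c : ℂˣ) : ℂ))) = 4 ∧
    (∀ g : G, (∀ h : G, h * g * h⁻¹ ∉ X) →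
      indFun C (fun c : C => 1 - ((lam c : ℂˣ) : ℂ)) g = 0) ∧
    (∀ x : C, (x : G) ∈ X →
      indFun C (fun c : C => 1 - ((lam c : ℂˣ) : ℂ)) (x : G) = 2 * (1 - ((lam x : ℂˣ) : ℂ))) := by
  classical
  have hidx' : (C.subgroupOf N).index = 2 := hidx
  have hn : (C.subgroupOf N).Normal := Subgroup.normal_of_index_eq_two hidx'
  have hCnorm : ∀ t ∈ N, ∀ c ∈ C, t * c * t⁻¹ ∈ C := by
    intro t ht c hc
    have := hn.conj_mem ⟨c, hCN hc⟩ (by rw [Subgroup.mem_subgroupOf]; exact hc) ⟨t, ht⟩
    rw [Subgroup.mem_subgroupOf] at this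
    simpa using this
  have hCnorm' : ∀ t ∈ N, ∀ c ∈ C, t⁻¹ * c * t ∈ C := by
    intro t ht c hc
    have := hCnorm t⁻¹ (N.inv_mem ht) c hc
    simpa using this
  set φ : C → ℂ := fun c => 1 - ((lam c : ℂˣ) : ℂ) with hφ
  set Θ : G → ℂ := indFun C φ with hΘ
  have hΘcf : IsClassFunction G Θ := isClassFunction_indFun C φ
  have hcardC : (Nat.card C : ℂ) ≠ 0 := by
    have : Nat.card C ≠ 0 := Nat.card_pos.ne'
    exact_mod_cast this
  have hφX : ∀ c : C, (c : G) ∉ X → φ c = 0 := by
    intro c hc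
    simp only [hφ, hlamX c hc, Units.val_one, sub_self]
  have hcardN : (Nat.card N : ℂ) = 2 * (Nat.card C : ℂ) := by
    have h1 := (C.subgroupOf N).index_mul_card
    rw [hidx', Nat.card_congr (Subgroup.subgroupOfEquivOfLe hCN).toEquiv] at h1
    rw [← h1]; push_cast; ring
  have hfilter : ∀ K : Subgroup G, ((Finset.univ.filter (fun t : G => t ∈ K)).card : ℂ) =
      (Nat.card K : ℂ) := by
    intro K
    rw [Nat.card_eq_fintype_card, Fintype.card_subtype]
  set f : G → ℂ := extendByZero C φ with hf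
  have hΘc : ∀ g : G, Θ g = (Nat.card C : ℂ)⁻¹ * ∑ t : G, f (t⁻¹ * g * t) := fun g => rfl
  -- values of `f` at conjugates
  have hfN : ∀ t ∈ N, ∀ c : C, f (t⁻¹ * (c : G) * t) = φ c := by
    intro t ht c
    have hmem := hCnorm' t ht c c.2
    rw [hf, extendByZero_of_mem C φ hmem]
    simp only [hφ, hinv t ht c hmem]
  have hfnotN : ∀ t : G, t ∉ N → ∀ c : C, (c : G) ∈ X → f (t⁻¹ * (c : G) * t) = 0 := by
    intro t htN c hcX
    by_cases hx : t⁻¹ * (c : G) * t ∈ C
    · rw [hf, extendByZero_of_mem C φ hx]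
      apply hφX
      intro h
      apply htN
      have := hTI t⁻¹ c hcX (by simpa using h)
      simpa using N.inv_mem this
    · rw [hf, extendByZero_of_not_mem C φ hx]
  refine ⟨hΘcf, ?_, ?_, ?_, ?_, ?_, ?_⟩
  · -- integrality
    intro χ
    have h1 : IsCharacter G (indFun C (fun _ : C => (1 : ℂ))) :=
      Cfsg.Agent.S0148.result C _ (IsIrrCharacter.isCharacter isIrrCharacter_one)
    have h2 : IsCharacter G (indFun C (fun c : C => ((lam c : ℂˣ) : ℂ))) :=
      Cfsg.Agent.S0148.result C _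
        (IsIrrCharacter.isCharacter (Cfsg.Agent.Lib.Helper77.isIrrCharacter_of_monoidHom lam))
    obtain ⟨a, ha⟩ := IsCharacter.exists_nat_classInner h1 χ
    obtain ⟨b, hb⟩ := IsCharacter.exists_nat_classInner h2 χ
    refine ⟨(a : ℤ) - b, ?_⟩
    have hsplit : Θ = indFun C (fun _ : C => (1 : ℂ)) +
        (-1 : ℂ) • indFun C (fun c : C => ((lam c : ℂˣ) : ℂ)) := by
      funext g
      simp only [hΘ, hφ, indFun, Pi.add_apply, Pi.smul_apply, smul_eq_mul]
      have hx : ∀ x : G, extendByZero C (fun c : C => 1 - ((lam c : ℂˣ) : ℂ)) (x⁻¹ * g * x) =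
          extendByZero C (fun _ : C => (1 : ℂ)) (x⁻¹ * g * x) +
            -1 * extendByZero C (fun c : C => ((lam c : ℂˣ) : ℂ)) (x⁻¹ * g * x) := by
        intro x
        by_cases hx : x⁻¹ * g * x ∈ C
        · rw [extendByZero_of_mem C _ hx, extendByZero_of_mem C _ hx,
            extendByZero_of_mem C _ hx]
          ring
        · rw [extendByZero_of_not_mem C _ hx, extendByZero_of_not_mem C _ hx,
            extendByZero_of_not_mem C _ hx]
          ring
      simp only [hx, Finset.sum_add_distrib, ← Finset.mul_sum]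
      ring
    rw [hsplit, classInner_add_left, classInner_smul_left, ha, hb]
    push_cast; ring
  · -- value at one
    rw [hΘ, indFun_one]
    simp [hφ]
  · -- multiplicity of the trivial character
    have hsumlam : ∑ c : C, ((lam c : ℂˣ) : ℂ) = 0 := sum_hom_eq_zero lam hlam1
    have hcf1 : IsClassFunction G (fun _ : G => (1 : ℂ)) := fun _ _ => rfl
    rw [hΘ, frobenius_reciprocity C φ hcf1]
    unfold classInner
    simp only [map_one, mul_one, hφ, Finset.sum_sub_distrib, hsumlam, Finset.sum_const,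
      Finset.card_univ, nsmul_eq_mul, sub_zero]
    rw [← Nat.card_eq_fintype_card]
    field_simp
  · -- the norm
    have hfr : classInner Θ Θ = classInner φ (fun c : C => Θ c) :=
      frobenius_reciprocity C φ hΘcf
    set J : G → ℂ := fun t => ∑ c : C, φ c * conj (f (t⁻¹ * (c : G) * t)) with hJdef
    have hJ : ∀ t : G, J t = if t ∈ N then 2 * (Nat.card C : ℂ) else 0 := by
      intro t
      by_cases htN : t ∈ N
      · rw [if_pos htN]
        have hJt : J t = ∑ c : C, (1 - ((lam c : ℂˣ) : ℂ)) * conj (1 - ((lam c : ℂˣ) : ℂ)) := by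
          simp only [hJdef]
          apply Finset.sum_congr rfl
          intro c _
          rw [hfN t htN c]
        rw [hJt, sum_one_sub_hom lam lam hlam1 hlam1, if_pos rfl, ← Nat.card_eq_fintype_card]
      · rw [if_neg htN]
        simp only [hJdef]
        apply Finset.sum_eq_zero
        intro c _
        by_cases hcX : (c : G) ∈ X
        · rw [hfnotN t htN c hcX]; simp
        · rw [hφX c hcX, zero_mul]
    have hsum : ∑ t : G, J t = 4 * (Nat.card C : ℂ) * (Nat.card C : ℂ) := by
      simp only [hJ, Finset.sum_ite, Finset.sum_const_zero, add_zero,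
        Finset.sum_const, nsmul_eq_mul, hfilter, hcardN]
      ring
    rw [hfr]
    unfold classInner
    have hswap : ∑ c : C, φ c * conj (Θ c) = (Nat.card C : ℂ)⁻¹ * ∑ t : G, J t := by
      have h1 : ∀ c : C, φ c * conj (Θ c) =
          (Nat.card C : ℂ)⁻¹ * ∑ t : G, φ c * conj (f (t⁻¹ * (c : G) * t)) := by
        intro c
        rw [hΘc, map_mul, map_inv₀, map_natCast, map_sum, Finset.mul_sum, Finset.mul_sum,
          Finset.mul_sum]
        apply Finset.sum_congr rfl
        intro t _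
        ring
      simp only [h1, hJdef]
      rw [← Finset.mul_sum, Finset.sum_comm]
    rw [hswap, hsum]
    field_simp
  · -- vanishing
    intro g hg
    simp only [hΘ, indFun]
    rw [Finset.sum_eq_zero, mul_zero]
    intro x _
    by_cases hx : x⁻¹ * g * x ∈ C
    · rw [extendByZero_of_mem C _ hx]
      apply hφX
      have := hg x⁻¹
      simpa using this
    · exact extendByZero_of_not_mem C _ hx
  · -- values on `X`
    intro x hxX
    rw [hΘc]
    have h1 : ∀ t : G, f (t⁻¹ * (x : G) * t) = if t ∈ N then φ x else 0 := by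
      intro t
      by_cases htN : t ∈ N
      · rw [if_pos htN, hfN t htN x]
      · rw [if_neg htN, hfnotN t htN x hxX]
    simp only [h1, Finset.sum_ite, Finset.sum_const_zero, add_zero, Finset.sum_const,
      nsmul_eq_mul, hfilter, hcardN]
    field_simp
    rfl

end Main

end Cfsg.Agent.Lib.Helper52
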