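import Mathlib
import Cfsg.Agent.Lib.Helper52.ExcQ8
import Cfsg.Agent.Lib.Helper52.QuatExc
import Cfsg.Agent.S0846

/-!
# Quaternion Sylow 2-subgroups of order 8: the class function `(1 - lam)^G` (helper52)

For an element `a` of order four in a group with Sylow 2-subgroup `Q8`:
* `two_elem_orderOf_dvd_four`: 2-elements have order dividing four;
* `mem_zpowers_of_comm`: a 2-element commuting with `a` is a power of `a`;
* `exists_two_complement_centralizer`: `C_G(a) = K ⋊ ⟨a⟩` with `K` of odd order;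
* `exists_invert`: some element inverts `a`;
* `relIndex_centralizer_normalizer`: `C_G(a)` has index two in `N_G(⟨a⟩)`;
* `exists_theta_Q8`: the generalized character `Θ` of norm four.
-/

set_option autoImplicit false

namespace Cfsg.Agent.Lib.Helper52

open Cfsg Cfsg.Agent.S0843 Cfsg.Agent.S0842 Cfsg.Agent.Lib.Helper85

section Q8

variable {G : Type*} [Group G] [Finite G]

/-- every 2-element has order dividing four -/
theorem two_elem_orderOf_dvd_four (S : Sylow 2 G) (e : (S : Subgroup G) ≃* QuaternionGroup 2)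
    {w : G} (hw : ∃ k : ℕ, orderOf w = 2 ^ k) : orderOf w ∣ 4 := by
  obtain ⟨k, hk⟩ := hw
  obtain ⟨A, hA, hcardA, hcardS⟩ := exists_quatData_card (S : Subgroup G) e
  have h2 : IsPGroup 2 (Subgroup.zpowers w) :=
    IsPGroup.of_card (n := k) (by rw [Nat.card_zpowers, hk])
  obtain ⟨c, -, hc⟩ := exists_conj_le_of_le S ⊤ le_top (Subgroup.zpowers w) le_top h2
  have h3 := hc w (Subgroup.mem_zpowers w)
  have ho : orderOf (c * w * c⁻¹) = orderOf w := (MulAut.conj c).orderOf_eq w
  rw [← ho]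
  by_cases hwA : c * w * c⁻¹ ∈ A
  · have hfin := hA.fin
    have := orderOf_dvd_natCard (⟨c * w * c⁻¹, hwA⟩ : A)
    rw [Subgroup.orderOf_mk, hcardA] at this
    exact this
  · rw [(hA.out _ h3 hwA).1]

/-- a 2-element commuting with an element `a` of order four is a power of `a` -/
theorem mem_zpowers_of_comm (S : Sylow 2 G) (e : (S : Subgroup G) ≃* QuaternionGroup 2)
    {a : G} (ha : orderOf a = 4) {y : G} (hy : ∃ k : ℕ, orderOf y = 2 ^ k)
    (hc : y * a = a * y) : y ∈ Subgroup.zpowers a := by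
  have hm : NeZero 2 := ⟨by norm_num⟩
  obtain ⟨k, hk⟩ := hy
  have hzy : IsPGroup 2 (Subgroup.zpowers y) :=
    IsPGroup.of_card (n := k) (by rw [Nat.card_zpowers, hk])
  have hza : IsPGroup 2 (Subgroup.zpowers a) :=
    IsPGroup.of_card (n := 2) (by rw [Nat.card_zpowers, ha]; norm_num)
  have hcomm1 : ∀ s ∈ Subgroup.zpowers y, ∀ t ∈ Subgroup.zpowers a, s * t = t * s := by
    rintro _ ⟨i, rfl⟩ _ ⟨j, rfl⟩
    simp only
    exact ((Commute.zpow_zpow (show Commute y a from hc)) i j).eq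
  have hle : Subgroup.zpowers y ≤ Subgroup.centralizer (Subgroup.zpowers a : Set G) := by
    intro s hs
    rw [Subgroup.mem_centralizer_iff]
    intro t ht
    exact (hcomm1 s hs t ht).symm
  set T : Subgroup G := Subgroup.zpowers y ⊔ Subgroup.zpowers a with hT
  have hT2 : IsPGroup 2 T :=
    IsPGroup.to_sup_of_normal_right' hzy hza (hle.trans (Subgroup.centralizer_le_normalizer _))
  have hzcomm : ∀ x : G, ∀ s ∈ Subgroup.zpowers x, ∀ t ∈ Subgroup.zpowers x, s * t = t * s := by
    rintro x _ ⟨i, rfl⟩ _ ⟨j, rfl⟩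
    simp only
    rw [← zpow_add, ← zpow_add, add_comm]
  have hTcomm := comm_sup (Subgroup.zpowers y) (Subgroup.zpowers a) (hzcomm y) (hzcomm a) hcomm1
  have hTcyc : IsCyclic T := isCyclic_of_comm_two_group S e _ hT2 hTcomm
  obtain ⟨w, hw⟩ := IsCyclic.exists_generator (α := T)
  have hwo : orderOf w = Nat.card T := orderOf_eq_card_of_forall_mem_zpowers hw
  have hw2 : ∃ j : ℕ, orderOf (w : G) = 2 ^ j := by
    obtain ⟨j, hj⟩ := IsPGroup.iff_card.mp hT2
    exact ⟨j, by rw [Subgroup.orderOf_coe, hwo, hj]⟩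
  have h4 := two_elem_orderOf_dvd_four S e hw2
  rw [Subgroup.orderOf_coe, hwo] at h4
  have hle4 : Nat.card T ≤ Nat.card (Subgroup.zpowers a) := by
    rw [Nat.card_zpowers, ha]
    exact Nat.le_of_dvd (by norm_num) h4
  have heq : Subgroup.zpowers a = T :=
    Subgroup.eq_of_le_of_card_ge le_sup_right hle4
  rw [heq]
  exact le_sup_left (a := Subgroup.zpowers y) (Subgroup.mem_zpowers y)

/-- the centralizer of an element of order four has a normal 2-complement -/
theorem exists_two_complement_centralizer (S : Sylow 2 G)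
    (e : (S : Subgroup G) ≃* QuaternionGroup 2) {a : G} (ha : orderOf a = 4) :
    ∃ K : Subgroup G, K ≤ Subgroup.centralizer ({a} : Set G) ∧ Odd (Nat.card K) ∧
      K ⊔ Subgroup.zpowers a = Subgroup.centralizer ({a} : Set G) ∧
      ∀ x ∈ Subgroup.centralizer ({a} : Set G), Odd (orderOf x) → x ∈ K := by
  set C : Subgroup G := Subgroup.centralizer ({a} : Set G) with hC
  have haC : a ∈ C := by
    rw [hC, Subgroup.mem_centralizer_iff]
    intro x hx
    rw [Set.mem_singleton_iff] at hx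
    rw [hx]
  have hzC : Subgroup.zpowers a ≤ C := by
    rw [Subgroup.zpowers_le]; exact haC
  have hza : IsPGroup 2 (Subgroup.zpowers a) :=
    IsPGroup.of_card (n := 2) (by rw [Nat.card_zpowers, ha]; norm_num)
  have hmax : ∀ T : Subgroup G, T ≤ C → IsPGroup 2 T →
      Nat.card T ≤ Nat.card (Subgroup.zpowers a) := by
    intro T hTC hT
    apply Subgroup.card_le_of_le
    intro y hy
    have hyo : ∃ k : ℕ, orderOf y = 2 ^ k := by
      obtain ⟨k, hk⟩ := hT ⟨y, hy⟩
      have h1 : y ^ 2 ^ k = 1 := by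
        have := congrArg Subtype.val hk
        simpa using this
      obtain ⟨j, -, hj⟩ := (Nat.dvd_prime_pow Nat.prime_two).mp (orderOf_dvd_of_pow_eq_one h1)
      exact ⟨j, hj⟩
    have hyc : y * a = a * y := by
      have := Subgroup.mem_centralizer_iff.mp (hTC hy) a (Set.mem_singleton a)
      exact this.symm
    exact mem_zpowers_of_comm S e ha hyo hyc
  obtain ⟨R, hR⟩ := (sylow_subgroupOf_iff hzC).mpr ⟨hza, hmax⟩
  have hRcyc : IsCyclic R := by
    have h1 : IsCyclic ↥((Subgroup.zpowers a).subgroupOf C) :=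
      isCyclic_of_surjective (Subgroup.subgroupOfEquivOfLe hzC).symm
        (Subgroup.subgroupOfEquivOfLe hzC).symm.surjective
    rw [← hR] at h1
    exact h1
  have h2C : 2 ∣ Nat.card C := by
    have h1 := Subgroup.card_dvd_of_le hzC
    rw [Nat.card_zpowers, ha] at h1
    exact dvd_trans ⟨2, rfl⟩ h1
  obtain ⟨K, hKC, hKodd, -, hKsup, hKmem⟩ := exists_normal_two_complement C R hRcyc h2C
  have hRmap : (R : Subgroup C).map C.subtype = Subgroup.zpowers a := by
    rw [hR]; exact Subgroup.map_subgroupOf_eq_of_le hzC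
  rw [hRmap] at hKsup
  exact ⟨K, hKC, hKodd, hKsup, hKmem⟩

/-- some element inverts a given element of order four -/
theorem exists_invert (S : Sylow 2 G) (e : (S : Subgroup G) ≃* QuaternionGroup 2) {a : G}
    (ha : orderOf a = 4) : ∃ b : G, b * a * b⁻¹ = a⁻¹ := by
  have hm : NeZero 2 := ⟨by norm_num⟩
  obtain ⟨A, hA, hcardA, hcardS⟩ := exists_quatData_card (S : Subgroup G) e
  have hza : IsPGroup 2 (Subgroup.zpowers a) :=
    IsPGroup.of_card (n := 2) (by rw [Nat.card_zpowers, ha]; norm_num)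
  obtain ⟨c, -, hc⟩ := exists_conj_le_of_le S ⊤ le_top (Subgroup.zpowers a) le_top hza
  have haS := hc a (Subgroup.mem_zpowers a)
  set a' := c * a * c⁻¹ with ha'
  have hoa' : orderOf a' = 4 := by
    rw [← ha]; exact (MulAut.conj c).orderOf_eq a
  -- it suffices to invert `a'` inside `S`
  suffices h : ∃ y : G, y * a' * y⁻¹ = a'⁻¹ by
    obtain ⟨y, hy⟩ := h
    refine ⟨c⁻¹ * y * c, ?_⟩
    have h1 : c⁻¹ * y * c * a * (c⁻¹ * y * c)⁻¹ = c⁻¹ * (y * a' * y⁻¹) * c := by
      rw [ha']; group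
    rw [h1, hy, ha']
    group
  by_cases haA : a' ∈ A
  · have hSA : ¬ (S : Subgroup G) ≤ A := by
      intro hle
      have := Subgroup.card_le_of_le hle
      omega
    obtain ⟨y, hyS, hyA⟩ := SetLike.not_le_iff_exists.mp hSA
    exact ⟨y, (hA.out y hyS hyA).2 a' haA⟩
  · have hfinA := hA.fin
    have hcycA := hA.cyc
    obtain ⟨g, hg⟩ := IsCyclic.exists_generator (α := A)
    have hog : orderOf (g : G) = 4 := by
      rw [Subgroup.orderOf_coe, orderOf_eq_card_of_forall_mem_zpowers hg, hcardA]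
    have h1 := (hA.out a' haS haA).2 (g : G) g.2
    -- `g ^ 2 = a' ^ 2`
    have hg2 : orderOf ((g : G) ^ 2) = 2 := by
      rw [orderOf_pow_of_dvd (by norm_num) ⟨2, by rw [hog]⟩, hog]
    have ha2 : orderOf (a' ^ 2) = 2 := by
      rw [orderOf_pow_of_dvd (by norm_num) ⟨2, by rw [hoa']⟩, hoa']
    have hsq : (g : G) ^ 2 = a' ^ 2 :=
      Cfsg.Agent.S0846.involution_unique S e hA
        (Subgroup.pow_mem _ (hA.le g.2) 2) (Subgroup.pow_mem _ haS 2) hg2 ha2
    refine ⟨(g : G), ?_⟩
    have h2 : a' * (g : G)⁻¹ * a'⁻¹ = (g : G) := by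
      have := congrArg (fun x => x⁻¹) h1
      simp only [mul_inv_rev, inv_inv] at this
      rw [← mul_assoc] at this
      exact this
    have h3 : a' * (g : G)⁻¹ = (g : G) * a' := by
      calc a' * (g : G)⁻¹ = a' * (g : G)⁻¹ * a'⁻¹ * a' := by group
        _ = (g : G) * a' := by rw [h2]
    have ha4 : a' ^ 4 = 1 := by rw [← hoa']; exact pow_orderOf_eq_one a'
    have hg4 : (g : G) ^ 4 = 1 := by rw [← hog]; exact pow_orderOf_eq_one _
    calc (g : G) * a' * (g : G)⁻¹ = a' * (g : G)⁻¹ * (g : G)⁻¹ := by rw [h3]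
      _ = a' * ((g : G) ^ 2)⁻¹ := by group
      _ = a' * (a' ^ 2)⁻¹ := by rw [hsq]
      _ = a'⁻¹ * (a' ^ 4)⁻¹ * a' ^ 4 := by group
      _ = a'⁻¹ := by rw [ha4]; group

/-- elements of order four in `⟨a⟩` -/
theorem eq_or_eq_inv_of_mem_zpowers {a x : G} (ha : orderOf a = 4) (hx : x ∈ Subgroup.zpowers a)
    (hox : orderOf x = 4) : x = a ∨ x = a⁻¹ := by
  obtain ⟨k, rfl⟩ := hx
  simp only at hox ⊢
  have ha4 : a ^ (4 : ℤ) = 1 := by
    have := pow_orderOf_eq_one a
    rw [ha] at this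
    exact_mod_cast this
  have hk : k = 4 * (k / 4) + k % 4 := (Int.mul_ediv_add_emod k 4).symm
  have hred : a ^ k = a ^ (k % 4) := by
    conv_lhs => rw [hk]
    rw [zpow_add, zpow_mul, ha4, one_zpow, one_mul]
  have h0 : 0 ≤ k % 4 := Int.emod_nonneg k (by norm_num)
  have h4 : k % 4 < 4 := Int.emod_lt_of_pos k (by norm_num)
  rw [hred] at hox ⊢
  have hcases : k % 4 = 0 ∨ k % 4 = 1 ∨ k % 4 = 2 ∨ k % 4 = 3 := by omega
  rcases hcases with h | h | h | h
  · exfalso
    rw [h, zpow_zero, orderOf_one] at hox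
    omega
  · left; rw [h, zpow_one]
  · exfalso
    rw [h] at hox
    have h2 : (a ^ (2 : ℤ)) ^ 2 = 1 := by
      rw [← zpow_natCast, ← zpow_mul]
      exact ha4
    have := orderOf_dvd_of_pow_eq_one h2
    rw [hox] at this
    omega
  · right
    rw [h]
    have : a ^ (3 : ℤ) * a = 1 := by
      rw [← zpow_add_one]
      exact ha4
    exact eq_inv_of_mul_eq_one_left this

/-- `C_G(a)` has index two in `N_G(⟨a⟩)` -/
theorem relIndex_centralizer_normalizer (S : Sylow 2 G)
    (e : (S : Subgroup G) ≃* QuaternionGroup 2) {a : G} (ha : orderOf a = 4) :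
    Subgroup.centralizer ({a} : Set G) ≤ Subgroup.normalizer (Subgroup.zpowers a : Set G) ∧
    (Subgroup.centralizer ({a} : Set G)).relIndex
      (Subgroup.normalizer (Subgroup.zpowers a : Set G)) = 2 := by
  set C : Subgroup G := Subgroup.centralizer ({a} : Set G) with hC
  set N : Subgroup G := Subgroup.normalizer (Subgroup.zpowers a : Set G) with hN
  have hmemC : ∀ t : G, t ∈ C ↔ t * a * t⁻¹ = a := by
    intro t
    rw [hC, Subgroup.mem_centralizer_iff]
    constructor
    · intro h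
      have := h a (Set.mem_singleton a)
      rw [← this]; group
    · intro h x hx
      rw [Set.mem_singleton_iff] at hx
      rw [hx]
      calc a * t = t * a * t⁻¹ * t := by rw [h]
        _ = t * a := by group
  have hCN : C ≤ N := by
    intro t ht
    rw [hN, Subgroup.mem_normalizer_iff]
    intro x
    have h1 := (hmemC t).mp ht
    have hconj : ∀ k : ℤ, t * a ^ k * t⁻¹ = a ^ k := by
      intro k
      have : t * a ^ k * t⁻¹ = (t * a * t⁻¹) ^ k := by
        rw [conj_zpow]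
      rw [this, h1]
    constructor
    · rintro ⟨k, rfl⟩
      simp only
      rw [hconj k]
      exact ⟨k, rfl⟩
    · rintro ⟨k, hk⟩
      simp only at hk
      refine ⟨k, ?_⟩
      simp only
      have : x = t⁻¹ * (t * x * t⁻¹) * t := by group
      rw [this, ← hk]
      have h2 := hconj k
      calc a ^ k = t⁻¹ * (t * a ^ k * t⁻¹) * t := by group
        _ = t⁻¹ * a ^ k * t := by rw [h2]
  refine ⟨hCN, ?_⟩
  obtain ⟨b, hb⟩ := exists_invert S e ha
  have ha_ne : a⁻¹ ≠ a := by
    intro h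
    have h2 : a ^ 2 = 1 := by
      rw [pow_two]
      nth_rw 1 [← h]
      exact inv_mul_cancel a
    have := orderOf_dvd_of_pow_eq_one h2
    rw [ha] at this
    omega
  have hbN : b ∈ N := by
    rw [hN, Subgroup.mem_normalizer_iff]
    intro x
    have hconj : ∀ k : ℤ, b * a ^ k * b⁻¹ = a ^ (-k) := by
      intro k
      have : b * a ^ k * b⁻¹ = (b * a * b⁻¹) ^ k := by rw [conj_zpow]
      rw [this, hb, inv_zpow, zpow_neg]
    constructor
    · rintro ⟨k, rfl⟩
      simp only
      rw [hconj k]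
      exact ⟨-k, rfl⟩
    · rintro ⟨k, hk⟩
      simp only at hk
      refine ⟨-k, ?_⟩
      simp only
      have h2 := hconj (-k)
      rw [neg_neg] at h2
      have : x = b⁻¹ * (b * x * b⁻¹) * b := by group
      rw [this, ← hk, ← h2]
      group
  -- conjugates of `a` under `N`
  have hNa : ∀ t ∈ N, t * a * t⁻¹ = a ∨ t * a * t⁻¹ = a⁻¹ := by
    intro t ht
    have h1 : t * a * t⁻¹ ∈ Subgroup.zpowers a :=
      (Subgroup.mem_normalizer_iff.mp ht a).mp (Subgroup.mem_zpowers a)
    have h2 : orderOf (t * a * t⁻¹) = 4 := by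
      rw [← ha]; exact (MulAut.conj t).orderOf_eq a
    exact eq_or_eq_inv_of_mem_zpowers ha h1 h2
  show (C.subgroupOf N).index = 2
  rw [Subgroup.index_eq_two_iff]
  refine ⟨⟨b, hbN⟩, ?_⟩
  intro t
  rw [Subgroup.mem_subgroupOf, Subgroup.mem_subgroupOf]
  have htb : ((t * ⟨b, hbN⟩ : N) : G) = (t : G) * b := rfl
  rw [htb, hmemC, hmemC]
  have hcalc : (t : G) * b * a * ((t : G) * b)⁻¹ = ((t : G) * a * (t : G)⁻¹)⁻¹ := by
    have : (t : G) * b * a * ((t : G) * b)⁻¹ = (t : G) * (b * a * b⁻¹) * (t : G)⁻¹ := by group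
    rw [this, hb]
    group
  rw [hcalc]
  rcases hNa t t.2 with h | h
  · rw [h]
    right
    exact ⟨rfl, ha_ne⟩
  · rw [h, inv_inv]
    left
    exact ⟨rfl, ha_ne⟩

/-- the 2-part of an element of `C_G(a)` of order divisible by four -/
theorem exists_odd_pow_eq (S : Sylow 2 G) (e : (S : Subgroup G) ≃* QuaternionGroup 2) {a : G}
    (ha : orderOf a = 4) {y : G} (hyC : y ∈ Subgroup.centralizer ({a} : Set G))
    (h4 : 4 ∣ orderOf y) :
    ∃ b : ℕ, Odd b ∧ orderOf y = 4 * b ∧ (y ^ b = a ∨ y ^ b = a⁻¹) := by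
  have hy0 : orderOf y ≠ 0 := (orderOf_pos y).ne'
  obtain ⟨k, b, hb, hkb⟩ := Nat.exists_eq_two_pow_mul_odd hy0
  have hb0 : b ≠ 0 := by
    rintro rfl
    simp at hb
  have ho : orderOf (y ^ b) = 2 ^ k := by
    rw [orderOf_pow_of_dvd hb0 ⟨2 ^ k, by rw [hkb]; ring⟩, hkb]
    exact Nat.mul_div_cancel _ (Nat.pos_of_ne_zero hb0)
  have hyc : y ^ b * a = a * y ^ b := by
    have h1 : y * a = a * y :=
      (Subgroup.mem_centralizer_iff.mp hyC a (Set.mem_singleton a)).symm
    exact ((show Commute y a from h1).pow_left b).eq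
  have hmem := mem_zpowers_of_comm S e ha ⟨k, ho⟩ hyc
  have hdvd := two_elem_orderOf_dvd_four S e ⟨k, ho⟩
  rw [ho] at hdvd
  have h4' : 4 ∣ 2 ^ k := by
    have hcop : Nat.Coprime 4 b := by
      have : Nat.Coprime (2 ^ 2) b := Nat.Coprime.pow_left _ (Nat.coprime_two_left.mpr hb)
      simpa using this
    rw [hkb] at h4
    exact hcop.dvd_of_dvd_mul_right h4
  have hk4 : 2 ^ k = 4 := Nat.dvd_antisymm hdvd h4'
  rw [hk4] at ho hkb
  exact ⟨b, hb, hkb, eq_or_eq_inv_of_mem_zpowers ha hmem ho⟩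

/-- T.I. property -/
theorem mem_normalizer_of_conj_mem (S : Sylow 2 G) (e : (S : Subgroup G) ≃* QuaternionGroup 2)
    {a : G} (ha : orderOf a = 4) {g y : G}
    (hyC : y ∈ Subgroup.centralizer ({a} : Set G)) (h4 : 4 ∣ orderOf y)
    (hgC : g * y * g⁻¹ ∈ Subgroup.centralizer ({a} : Set G)) :
    g ∈ Subgroup.normalizer (Subgroup.zpowers a : Set G) := by
  have hle : ∀ w : G, w ∈ Subgroup.centralizer ({a} : Set G) → 4 ∣ orderOf w →
      Subgroup.zpowers a ≤ Subgroup.zpowers w := by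
    intro w hw h4w
    obtain ⟨b, -, -, hb⟩ := exists_odd_pow_eq S e ha hw h4w
    rw [Subgroup.zpowers_le]
    rcases hb with hb | hb
    · rw [← hb]; exact Subgroup.pow_mem _ (Subgroup.mem_zpowers w) b
    · have : a = (w ^ b)⁻¹ := by rw [hb, inv_inv]
      rw [this]
      exact Subgroup.inv_mem _ (Subgroup.pow_mem _ (Subgroup.mem_zpowers w) b)
  have hconj : orderOf (g * y * g⁻¹) = orderOf y := (MulAut.conj g).orderOf_eq y
  have h1 := hle (g * y * g⁻¹) hgC (by rw [hconj]; exact h4)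
  have h2 := hle y hyC h4
  set D : Subgroup G := Subgroup.zpowers a with hD
  have h3 : D.map (MulAut.conj g).toMonoidHom ≤ Subgroup.zpowers (g * y * g⁻¹) := by
    rintro _ ⟨d, hd, rfl⟩
    obtain ⟨k, rfl⟩ := h2 hd
    refine ⟨k, ?_⟩
    simp [MulAut.conj_apply]
  have hcard : Nat.card (D.map (MulAut.conj g).toMonoidHom) = Nat.card D :=
    Subgroup.card_map_of_injective (MulAut.conj g).injective
  have hcyc : IsCyclic (Subgroup.zpowers (g * y * g⁻¹)) := inferInstance
  have heq : D.map (MulAut.conj g).toMonoidHom = D :=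
    le_antisymm
      (le_of_card_dvd_of_le_cyclic _ _ _ hcyc h3 h1 (by rw [hcard]))
      (le_of_card_dvd_of_le_cyclic _ _ _ hcyc h1 h3 (by rw [hcard]))
  exact Subgroup.mem_normalizer_iff_map_conj_eq.mpr heq

/-- the linear character of order two of `C_G(a)` -/
theorem exists_lam_Q8 (S : Sylow 2 G) (e : (S : Subgroup G) ≃* QuaternionGroup 2) {a : G}
    (ha : orderOf a = 4) :
    ∃ lam : Subgroup.centralizer ({a} : Set G) →* ℂˣ,
      (∀ y : Subgroup.centralizer ({a} : Set G), ¬ 4 ∣ orderOf (y : G) → lam y = 1) ∧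
      (∀ y : Subgroup.centralizer ({a} : Set G), 4 ∣ orderOf (y : G) → lam y = -1) := by
  obtain ⟨K, hKC, hKodd, hKsup, hKmem⟩ := exists_two_complement_centralizer S e ha
  set C : Subgroup G := Subgroup.centralizer ({a} : Set G) with hC
  have haC : a ∈ C := by
    rw [hC, Subgroup.mem_centralizer_iff]
    intro x hx
    rw [Set.mem_singleton_iff] at hx
    rw [hx]
  have hKn : ∀ c ∈ C, ∀ k ∈ K, c * k * c⁻¹ ∈ K := by
    intro c hc k hk
    apply hKmem _ (C.mul_mem (C.mul_mem hc (hKC hk)) (C.inv_mem hc))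
    have ho : orderOf (c * k * c⁻¹) = orderOf k := (MulAut.conj c).orderOf_eq k
    rw [ho]
    have : orderOf k ∣ Nat.card K := by
      have := orderOf_dvd_natCard (⟨k, hk⟩ : K)
      rwa [Subgroup.orderOf_mk] at this
    exact hKodd.of_dvd_nat this
  obtain ⟨lam₀, hlam₀a, hlam₀⟩ := exists_lam C K hKC hKn hKodd a haC 0 (by rw [ha]; norm_num)
    (le_of_eq hKsup.symm)
  have hodd1 : ∀ y : C, Odd (orderOf (y : G)) → lam₀ y = 1 := by
    intro y hy
    apply hlam₀
    rw [zero_add, pow_one]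
    exact fun h => (Nat.not_even_iff_odd.mpr hy) (even_iff_two_dvd.mpr h)
  have hI2 : unitI * unitI = -1 := by
    apply Units.ext
    rw [Units.val_mul, unitI_val, Complex.I_mul_I]
    simp
  refine ⟨lam₀ * lam₀, ?_, ?_⟩
  · intro y hy
    rw [MonoidHom.mul_apply, ← map_mul]
    apply hodd1
    -- `y * y` has odd order
    have h1 : orderOf ((y * y : C) : G) = orderOf (y : G) / Nat.gcd (orderOf (y : G)) 2 := by
      rw [Subgroup.coe_mul, ← pow_two, orderOf_pow]
    rw [h1]
    rcases Nat.even_or_odd (orderOf (y : G)) with hev | hod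
    · obtain ⟨r, hr⟩ := hev
      have hg : Nat.gcd (orderOf (y : G)) 2 = 2 := Nat.gcd_eq_right ⟨r, by rw [hr]; ring⟩
      rw [hg]
      have hr2 : orderOf (y : G) / 2 = r := by rw [hr]; omega
      rw [hr2]
      rcases Nat.even_or_odd r with hre | hro
      · exfalso
        obtain ⟨r', hr'⟩ := hre
        exact hy ⟨r', by rw [hr, hr']; ring⟩
      · exact hro
    · have hg : Nat.gcd (orderOf (y : G)) 2 = 1 :=
        Nat.coprime_two_right.mpr hod
      rw [hg, Nat.div_one]
      exact hod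
  · intro y hy
    obtain ⟨b, hb, hyb, hpow⟩ := exists_odd_pow_eq S e ha y.2 hy
    -- `lam (y ^ b) = -1`
    have h1 : (lam₀ * lam₀) (y ^ b) = -1 := by
      have hyb' : (y ^ b : C) = ⟨a, haC⟩ ∨ (y ^ b : C) = ⟨a, haC⟩⁻¹ := by
        rcases hpow with h | h
        · left; exact Subtype.ext (by simpa using h)
        · right; exact Subtype.ext (by simpa using h)
      rcases hyb' with h | h
      · rw [h, MonoidHom.mul_apply, hlam₀a, hI2]
      · rw [h, MonoidHom.mul_apply, map_inv, hlam₀a, ← mul_inv, hI2]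
        simp
    -- `lam y ^ 2 = 1`
    have h2 : ((lam₀ * lam₀) y) ^ 2 = 1 := by
      have : ((lam₀ * lam₀) y) ^ 2 = lam₀ (y ^ 4) := by
        rw [MonoidHom.mul_apply, map_pow, ← pow_two, ← pow_mul]
      rw [this]
      apply hodd1
      have : orderOf ((y ^ 4 : C) : G) = b := by
        rw [Subgroup.coe_pow, orderOf_pow, hyb]
        have : Nat.gcd (4 * b) 4 = 4 := Nat.gcd_eq_right ⟨b, rfl⟩
        rw [this]
        omega
      rw [this]
      exact hb
    have h3 : (lam₀ * lam₀) y = 1 ∨ (lam₀ * lam₀) y = -1 := by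
      have h4 : (((lam₀ * lam₀) y : ℂˣ) : ℂ) ^ 2 = 1 := by
        rw [← Units.val_pow_eq_pow_val, h2, Units.val_one]
      rcases sq_eq_one_iff.mp h4 with h | h
      · left; exact Units.ext h
      · right; exact Units.ext (by rw [h]; simp)
    rcases h3 with h | h
    · exfalso
      rw [map_pow, h, one_pow] at h1
      have := congrArg (fun u : ℂˣ => (u : ℂ)) h1
      simp at this
      norm_num at this
    · exact h

end Q8

section Theta

universe u

variable {G : Type u} [Group G] [Fintype G]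

open Cfsg.Agent.Lib.Helper78 in
/-- the generalized character `Θ = (1 - lam)^G` of norm four attached to an element `a` of order
four: it takes the value `4` on the elements of order divisible by four having a conjugate in
`C_G(a)` and vanishes elsewhere. -/
theorem exists_theta_Q8 (S : Sylow 2 G) (e : (S : Subgroup G) ≃* QuaternionGroup 2) (a : G)
    (ha : orderOf a = 4) :
    ∃ Θ : G → ℂ, IsClassFunction G Θ ∧
      (∀ χ : IrrCharacter G, ∃ n : ℤ, classInner Θ (χ : G → ℂ) = n) ∧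
      Θ 1 = 0 ∧ classInner Θ (fun _ => (1 : ℂ)) = 1 ∧ classInner Θ Θ = 4 ∧
      (∀ g : G, (4 ∣ orderOf g ∧ ∃ h : G, h * g * h⁻¹ ∈ Subgroup.centralizer ({a} : Set G)) →
        Θ g = 4) ∧
      (∀ g : G, ¬ (4 ∣ orderOf g ∧ ∃ h : G, h * g * h⁻¹ ∈ Subgroup.centralizer ({a} : Set G)) →
        Θ g = 0) := by
  classical
  set C : Subgroup G := Subgroup.centralizer ({a} : Set G) with hC
  set N : Subgroup G := Subgroup.normalizer (Subgroup.zpowers a : Set G) with hN
  obtain ⟨hCN, hidx⟩ := relIndex_centralizer_normalizer S e ha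
  obtain ⟨lam, hlam1, hlam4⟩ := exists_lam_Q8 S e ha
  set X : Set G := {y | y ∈ C ∧ 4 ∣ orderOf y} with hX
  have hconj : ∀ g y : G, orderOf (g * y * g⁻¹) = orderOf y := fun g y =>
    (MulAut.conj g).orderOf_eq y
  have haC : a ∈ C := by
    rw [hC, Subgroup.mem_centralizer_iff]
    intro x hx
    rw [Set.mem_singleton_iff] at hx
    rw [hx]
  have hTI : ∀ g : G, ∀ y ∈ X, g * y * g⁻¹ ∈ X → g ∈ N := by
    intro g y hy hgy
    exact mem_normalizer_of_conj_mem S e ha hy.1 hy.2 hgy.1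
  have hlamne : lam ≠ 1 := by
    intro h
    have h1 := hlam4 ⟨a, haC⟩ (by rw [ha])
    rw [h] at h1
    have := congrArg (fun u : ℂˣ => (u : ℂ)) h1
    simp at this
    norm_num at this
  have hlamX : ∀ y : C, (y : G) ∉ X → lam y = 1 := by
    intro y hy
    apply hlam1
    intro h4
    exact hy ⟨y.2, h4⟩
  have hinv : ∀ t ∈ N, ∀ c : C, ∀ h : t⁻¹ * (c : G) * t ∈ C,
      lam ⟨t⁻¹ * (c : G) * t, h⟩ = lam c := by
    intro t _ c h
    have ho : orderOf (t⁻¹ * (c : G) * t) = orderOf (c : G) := by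
      have := hconj t⁻¹ (c : G)
      rwa [inv_inv] at this
    by_cases h4 : 4 ∣ orderOf (c : G)
    · rw [hlam4 c h4, hlam4 ⟨_, h⟩ (by rw [ho]; exact h4)]
    · rw [hlam1 c h4, hlam1 ⟨_, h⟩ (by rw [ho]; exact h4)]
  obtain ⟨h1, h2, h3, h4, h5, h6, h7⟩ :=
    theta_norm_four C N hCN hidx X hTI lam hlamne hlamX hinv
  refine ⟨_, h1, h2, h3, h4, h5, ?_, ?_⟩
  · rintro g ⟨hg4, h, hh⟩
    have hxX : h * g * h⁻¹ ∈ X := ⟨hh, by rw [hconj]; exact hg4⟩
    have := h7 ⟨h * g * h⁻¹, hh⟩ hxX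
    rw [hlam4 ⟨_, hh⟩ hxX.2] at this
    rw [← h1 g h, this]
    simp
    norm_num
  · intro g hg
    apply h6
    intro h hh
    apply hg
    refine ⟨?_, h, hh.1⟩
    have := hh.2
    rwa [hconj] at this

end Theta

end Cfsg.Agent.Lib.Helper52
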