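import Mathlib
import Cfsg.Agent.Lib.Helper52.Q8Setup
import Cfsg.Agent.Lib.Helper4.BlockStep
import Cfsg.Agent.Lib.Helper76.PCore

/-!
# `q8_theta`: the norm-four generalized character in the form used by the block step (helper52)
-/

set_option autoImplicit false

namespace Cfsg.Agent.Lib.Helper52

open Cfsg Cfsg.Agent.Lib.Helper78

universe u

section

variable {G : Type u} [Group G] [Fintype G]

/-- odd-order elements of `C_G(a)` lie in `O_{2'}(C_G(a))` -/
theorem mem_centralizerPPrimeCore_of_odd (S : Sylow 2 G)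
    (e : (S : Subgroup G) ≃* QuaternionGroup 2) {a : G} (ha : orderOf a = 4) {y : G}
    (hy : y ∈ Subgroup.centralizer ({a} : Set G)) (hodd : ¬ 2 ∣ orderOf y) :
    y ∈ Cfsg.centralizerPPrimeCore 2 a := by
  obtain ⟨K, hKC, hKodd, hKsup, hKmem⟩ := exists_two_complement_centralizer S e ha
  set C : Subgroup G := Subgroup.centralizer ({a} : Set G) with hC
  have hyK : y ∈ K := hKmem y hy (Nat.odd_iff.mpr (by omega))
  have hKn : (K.subgroupOf C).Normal := by
    constructor
    intro k hk c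
    rw [Subgroup.mem_subgroupOf] at hk ⊢
    apply hKmem _ (C.mul_mem (C.mul_mem c.2 (hKC hk)) (C.inv_mem c.2))
    have ho : orderOf ((c : G) * k * (c : G)⁻¹) = orderOf (k : G) :=
      (MulAut.conj (c : G)).orderOf_eq k
    show Odd (orderOf ((c : G) * k * (c : G)⁻¹))
    rw [ho]
    have : orderOf (k : G) ∣ Nat.card K := by
      have := orderOf_dvd_natCard (⟨(k : G), hk⟩ : K)
      rwa [Subgroup.orderOf_mk] at this
    exact hKodd.of_dvd_nat this
  have hcop : (Nat.card (K.subgroupOf C)).Coprime 2 := by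
    rw [Nat.card_congr (Subgroup.subgroupOfEquivOfLe hKC).toEquiv]
    exact Nat.coprime_two_right.mpr hKodd
  have hle := Cfsg.Agent.Lib.Helper76.le_pPrimeCore 2 (K.subgroupOf C) hKn hcop
  refine ⟨⟨y, hy⟩, hle ?_, rfl⟩
  rw [Subgroup.mem_subgroupOf]
  exact hyK

/-- an element of `C_G(a)` of order divisible by four is conjugate to `a * v` with `v` of odd order
in `C_G(a)` -/
theorem exists_conj_mul_odd (S : Sylow 2 G) (e : (S : Subgroup G) ≃* QuaternionGroup 2) {a : G}
    (ha : orderOf a = 4) {y : G} (hy : y ∈ Subgroup.centralizer ({a} : Set G))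
    (h4 : 4 ∣ orderOf y) :
    ∃ v : G, v ∈ Subgroup.centralizer ({a} : Set G) ∧ ¬ 2 ∣ orderOf v ∧ IsConj (a * v) y := by
  obtain ⟨K, hKC, hKodd, hKsup, hKmem⟩ := exists_two_complement_centralizer S e ha
  set C : Subgroup G := Subgroup.centralizer ({a} : Set G) with hC
  have haC : a ∈ C := by
    rw [hC, Subgroup.mem_centralizer_iff]
    intro x hx
    rw [Set.mem_singleton_iff] at hx
    rw [hx]
  have hcomm : ∀ x ∈ C, x * a = a * x := by
    intro x hx
    exact (Subgroup.mem_centralizer_iff.mp hx a (Set.mem_singleton a)).symm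
  have hKoddel : ∀ k ∈ K, Odd (orderOf k) := by
    intro k hk
    have : orderOf k ∣ Nat.card K := by
      have := orderOf_dvd_natCard (⟨k, hk⟩ : K)
      rwa [Subgroup.orderOf_mk] at this
    exact hKodd.of_dvd_nat this
  -- `⟨a⟩` normalizes `K`
  have hnorm : Subgroup.zpowers a ≤ Subgroup.normalizer (K : Set G) := by
    rw [Subgroup.zpowers_le, Subgroup.mem_normalizer_iff]
    intro k
    constructor
    · intro hk
      apply hKmem _ (C.mul_mem (C.mul_mem haC (hKC hk)) (C.inv_mem haC))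
      have ho : orderOf (a * k * a⁻¹) = orderOf k := (MulAut.conj a).orderOf_eq k
      rw [ho]; exact hKoddel k hk
    · intro hk
      have h1 : k = a⁻¹ * (a * k * a⁻¹) * a := by group
      have hkC : a * k * a⁻¹ ∈ C := hKC hk
      have h2 : a * k * a⁻¹ = k := by
        have hk' : k ∈ C := by
          rw [h1]
          exact C.mul_mem (C.mul_mem (C.inv_mem haC) hkC) haC
        rw [← hcomm k hk']; group
      rw [← h2]; exact hk
  have hset := Subgroup.coe_mul_of_right_le_normalizer_left K (Subgroup.zpowers a) hnorm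
  have hyK : y ∈ ((K ⊔ Subgroup.zpowers a : Subgroup G) : Set G) := by
    rw [hKsup]; exact hy
  rw [hset] at hyK
  obtain ⟨k, hk, z, hz, hkz⟩ := Set.mem_mul.mp hyK
  have hkC : k ∈ C := hKC hk
  have hzC : z ∈ C := by
    obtain ⟨i, rfl⟩ := hz
    exact C.zpow_mem haC i
  have hkz_comm : Commute k z := by
    obtain ⟨i, rfl⟩ := hz
    exact (show Commute k a from hcomm k hkC).zpow_right i
  -- `z` has order four
  have hzo : orderOf z = 4 := by
    obtain ⟨b, hb, hyb, hpow⟩ := exists_odd_pow_eq S e ha hy h4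
    -- `y ^ b = k ^ b * z ^ b`
    have h1 : y ^ b = k ^ b * z ^ b := by
      rw [← hkz, hkz_comm.mul_pow]
    -- `k ^ b ∈ K ∩ ⟨a⟩ = 1`
    have hzb : z ^ b ∈ Subgroup.zpowers a := Subgroup.pow_mem _ hz b
    have hkb : k ^ b ∈ Subgroup.zpowers a := by
      have : k ^ b = y ^ b * (z ^ b)⁻¹ := by rw [h1]; group
      rw [this]
      apply Subgroup.mul_mem _ _ (Subgroup.inv_mem _ hzb)
      rcases hpow with h | h
      · rw [h]; exact Subgroup.mem_zpowers a
      · rw [h]; exact Subgroup.inv_mem _ (Subgroup.mem_zpowers a)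
    have hkb1 : k ^ b = 1 := by
      have h2 : orderOf (k ^ b) ∣ 4 := by
        have := orderOf_dvd_natCard (⟨k ^ b, hkb⟩ : Subgroup.zpowers a)
        rwa [Subgroup.orderOf_mk, Nat.card_zpowers, ha] at this
      have h3 : Odd (orderOf (k ^ b)) := hKoddel _ (Subgroup.pow_mem _ hk b)
      have h5 : orderOf (k ^ b) = 1 := by
        have : orderOf (k ^ b) ∣ 2 ^ 2 := by simpa using h2
        obtain ⟨l, -, hl⟩ := (Nat.dvd_prime_pow Nat.prime_two).mp this
        rcases Nat.eq_zero_or_pos l with h0 | h0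
        · rw [hl, h0, pow_zero]
        · exfalso
          rw [hl] at h3
          exact (Nat.not_even_iff_odd.mpr h3) (Nat.even_pow.mpr ⟨even_two, h0.ne'⟩)
      exact orderOf_eq_one_iff.mp h5
    rw [hkb1, one_mul] at h1
    -- `z ^ b` has order four, so has `z`
    have hzb4 : orderOf (z ^ b) = 4 := by
      rw [← h1]
      rcases hpow with h | h
      · rw [h, ha]
      · rw [h, orderOf_inv, ha]
    have hz4 : orderOf z ∣ 4 := by
      have := orderOf_dvd_natCard (⟨z, hz⟩ : Subgroup.zpowers a)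
      rwa [Subgroup.orderOf_mk, Nat.card_zpowers, ha] at this
    have h6 : orderOf (z ^ b) ∣ orderOf z := orderOf_pow_dvd b
    rw [hzb4] at h6
    exact Nat.dvd_antisymm hz4 h6
  have hkodd : ¬ 2 ∣ orderOf k := by
    intro h
    exact (Nat.not_even_iff_odd.mpr (hKoddel k hk)) (even_iff_two_dvd.mpr h)
  rcases eq_or_eq_inv_of_mem_zpowers ha hz hzo with hza | hza
  · refine ⟨k, hkC, hkodd, ?_⟩
    have : a * k = y := by rw [← hkz, hza, hcomm k hkC]
    rw [this]
  · obtain ⟨b₀, hb₀⟩ := exists_invert S e ha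
    have hb₀' : b₀ * a⁻¹ * b₀⁻¹ = a := by
      have := congrArg (fun x => x⁻¹) hb₀
      simp only [mul_inv_rev, inv_inv] at this
      rw [← mul_assoc] at this
      exact this
    set v := b₀ * k * b₀⁻¹ with hv
    have hvo : orderOf v = orderOf k := (MulAut.conj b₀).orderOf_eq k
    have hva : v * a = a * v := by
      have h1 : k * a⁻¹ = a⁻¹ * k := by
        have := hcomm k hkC
        calc k * a⁻¹ = a⁻¹ * (a * k) * a⁻¹ := by group
          _ = a⁻¹ * (k * a) * a⁻¹ := by rw [this]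
          _ = a⁻¹ * k := by group
      calc v * a = b₀ * k * b₀⁻¹ * (b₀ * a⁻¹ * b₀⁻¹) := by rw [hb₀']
        _ = b₀ * (k * a⁻¹) * b₀⁻¹ := by group
        _ = b₀ * (a⁻¹ * k) * b₀⁻¹ := by rw [h1]
        _ = (b₀ * a⁻¹ * b₀⁻¹) * (b₀ * k * b₀⁻¹) := by group
        _ = a * v := by rw [hb₀']
    have hvC : v ∈ C := by
      rw [hC, Subgroup.mem_centralizer_iff]
      intro x hx
      rw [Set.mem_singleton_iff] at hx
      rw [hx]
      exact hva.symm
    refine ⟨v, hvC, by rw [hvo]; exact hkodd, ?_⟩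
    rw [isConj_iff]
    refine ⟨b₀⁻¹, ?_⟩
    rw [← hva, hv, ← hkz, hza]
    have : b₀ * k * b₀⁻¹ * a = b₀ * k * b₀⁻¹ * (b₀ * a⁻¹ * b₀⁻¹) := by rw [hb₀']
    rw [this]
    group

/-- the order of the image of `a 1` -/
theorem orderOf_symm_a_one (S : Sylow 2 G) (e : (S : Subgroup G) ≃* QuaternionGroup 2) :
    orderOf (((e.symm (QuaternionGroup.a 1) : (S : Subgroup G)) : G)) = 4 := by
  rw [Subgroup.orderOf_coe, MulEquiv.orderOf_eq, QuaternionGroup.orderOf_a_one]

/-- **the norm-four generalized character**, general element `a` of order four. -/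
theorem q8_theta_of_orderOf (S : Sylow 2 G) (e : (S : Subgroup G) ≃* QuaternionGroup 2) (a : G)
    (ha : orderOf a = 4) :
    ∃ Θ : G → ℂ, IsClassFunction G Θ ∧
      (∀ χ : IrrCharacter G, ∃ n : ℤ, classInner Θ (χ : G → ℂ) = n) ∧
      Θ 1 = 0 ∧ classInner Θ (fun _ => (1 : ℂ)) = 1 ∧ classInner Θ Θ = 4 ∧
      (∀ g, Θ g ≠ 0 → ∃ v ∈ Cfsg.centralizerPPrimeCore 2 a, IsConj (a * v) g) ∧
      (∀ v ∈ Cfsg.centralizerPPrimeCore 2 a, Θ (a * v) = Θ a) ∧
      (∀ y ∈ Subgroup.centralizer ({a} : Set G), ¬ 2 ∣ orderOf y →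
        y ∈ Cfsg.centralizerPPrimeCore 2 a) ∧
      Θ a = 4 := by
  obtain ⟨Θ, h1, h2, h3, h4, h5, h6, h7⟩ := exists_theta_Q8 S e a ha
  have haC : a ∈ Subgroup.centralizer ({a} : Set G) := by
    rw [Subgroup.mem_centralizer_iff]
    intro x hx
    rw [Set.mem_singleton_iff] at hx
    rw [hx]
  have hval : ∀ v ∈ Cfsg.centralizerPPrimeCore 2 a, Θ (a * v) = 4 := by
    intro v hv
    have hcomm := Cfsg.Agent.Lib.Helper4.mem_centralizerPPrimeCore_commute hv
    have hodd := Cfsg.Agent.Lib.Helper4.mem_centralizerPPrimeCore_orderOf (p := 2) hv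
    have hvC : v ∈ Subgroup.centralizer ({a} : Set G) := by
      rw [Subgroup.mem_centralizer_iff]
      intro x hx
      rw [Set.mem_singleton_iff] at hx
      rw [hx]
      exact hcomm.eq
    apply h6
    refine ⟨?_, 1, ?_⟩
    · have hcop : Nat.Coprime (orderOf a) (orderOf v) := by
        rw [ha]
        have : Nat.Coprime (2 ^ 2) (orderOf v) :=
          Nat.Coprime.pow_left _ ((Nat.Prime.coprime_iff_not_dvd Nat.prime_two).mpr hodd)
        simpa using this
      rw [hcomm.orderOf_mul_eq_mul_orderOf_of_coprime hcop, ha]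
      exact ⟨orderOf v, rfl⟩
    · simp only [one_mul, inv_one, mul_one]
      exact Subgroup.mul_mem _ haC hvC
  have hΘa : Θ a = 4 := by
    have := hval 1 (Subgroup.one_mem _)
    rwa [mul_one] at this
  refine ⟨Θ, h1, h2, h3, h4, h5, ?_, ?_, ?_, hΘa⟩
  · intro g hg
    have hcond : 4 ∣ orderOf g ∧ ∃ h : G, h * g * h⁻¹ ∈ Subgroup.centralizer ({a} : Set G) := by
      by_contra hcon
      exact hg (h7 g hcon)
    obtain ⟨hg4, h, hh⟩ := hcond
    have ho : orderOf (h * g * h⁻¹) = orderOf g := (MulAut.conj h).orderOf_eq g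
    obtain ⟨v, hvC, hvodd, hconj⟩ := exists_conj_mul_odd S e ha hh (by rw [ho]; exact hg4)
    refine ⟨v, mem_centralizerPPrimeCore_of_odd S e ha hvC hvodd, ?_⟩
    refine hconj.trans ?_
    rw [isConj_iff]
    exact ⟨h⁻¹, by group⟩
  · intro v hv
    rw [hval v hv, hΘa]
  · intro y hy hodd
    exact mem_centralizerPPrimeCore_of_odd S e ha hy hodd

/-- the same for the image of `a 1` under the given isomorphism. -/
theorem q8_theta (S : Sylow 2 G) (e : (S : Subgroup G) ≃* QuaternionGroup 2) :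
    ∃ Θ : G → ℂ, IsClassFunction G Θ ∧
      (∀ χ : IrrCharacter G, ∃ n : ℤ, classInner Θ (χ : G → ℂ) = n) ∧
      Θ 1 = 0 ∧ classInner Θ (fun _ => (1 : ℂ)) = 1 ∧ classInner Θ Θ = 4 ∧
      (∀ g, Θ g ≠ 0 → ∃ v ∈ Cfsg.centralizerPPrimeCore 2
        (((e.symm (QuaternionGroup.a 1) : (S : Subgroup G)) : G)),
          IsConj ((((e.symm (QuaternionGroup.a 1) : (S : Subgroup G)) : G)) * v) g) ∧
      (∀ v ∈ Cfsg.centralizerPPrimeCore 2 (((e.symm (QuaternionGroup.a 1) : (S : Subgroup G)) : G)),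
        Θ ((((e.symm (QuaternionGroup.a 1) : (S : Subgroup G)) : G)) * v) =
          Θ (((e.symm (QuaternionGroup.a 1) : (S : Subgroup G)) : G))) ∧
      (∀ y ∈ Subgroup.centralizer
          ({(((e.symm (QuaternionGroup.a 1) : (S : Subgroup G)) : G))} : Set G),
        ¬ 2 ∣ orderOf y → y ∈ Cfsg.centralizerPPrimeCore 2
          (((e.symm (QuaternionGroup.a 1) : (S : Subgroup G)) : G))) ∧
      Θ (((e.symm (QuaternionGroup.a 1) : (S : Subgroup G)) : G)) = 4 :=
  q8_theta_of_orderOf S e _ (orderOf_symm_a_one S e)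

end

end Cfsg.Agent.Lib.Helper52
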