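/-
Elementwise structure of finite nilpotent subgroups (helper52): elements of coprime order commute,
the `p`-elements form a `p`-subgroup, central elements of prime order exist.
-/
import Mathlib
import Cfsg.Agent.Lib.Helper65.NilpBasic
import Cfsg.Agent.Lib.Helper1.Fitting

set_option autoImplicit false

namespace Cfsg.Agent.Lib.Helper52

variable {G : Type*} [Group G]

/-- Elements of coprime orders in a finite nilpotent subgroup commute. -/
theorem comm_of_coprime_of_mem_nilpotent [Finite G] (H : Subgroup G) (hH : Group.IsNilpotent H)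
    {a b : G} (ha : a ∈ H) (hb : b ∈ H) (h : (orderOf a).Coprime (orderOf b)) : a * b = b * a := by
  have := Cfsg.Agent.Lib.Helper65.commute_of_coprime_orderOf (N := H) ⟨a, ha⟩ ⟨b, hb⟩
    (by rw [Subgroup.orderOf_mk, Subgroup.orderOf_mk]; exact h)
  exact congrArg Subtype.val this.eq

/-- A subgroup containing all elements of prime power order of a finite subgroup `K` contains `K`. -/
theorem le_of_forall_primePow_order_mem [Finite G] (K C : Subgroup G)
    (h : ∀ x ∈ K, ∀ q k : ℕ, q.Prime → orderOf x = q ^ k → x ∈ C) : K ≤ C := by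
  have htop : (⨆ q : Nat.Primes, ((default : Sylow (q : ℕ) K) : Subgroup K)) = ⊤ :=
    Cfsg.Agent.Lib.Helper1.iSup_sylow_eq_top (G := K) (fun q => default)
  have hle : (⨆ q : Nat.Primes, ((default : Sylow (q : ℕ) K) : Subgroup K)) ≤ C.subgroupOf K := by
    apply iSup_le
    intro q y hy
    rw [Subgroup.mem_subgroupOf]
    have : Fact (q : ℕ).Prime := ⟨q.2⟩
    obtain ⟨k, hk⟩ := (IsPGroup.iff_orderOf.mp (default : Sylow (q : ℕ) K).isPGroup') ⟨y, hy⟩
    apply h (y : G) y.2 q k q.2
    rw [Subgroup.orderOf_mk] at hk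
    rw [Subgroup.orderOf_coe]
    exact hk
  intro x hx
  have : (⟨x, hx⟩ : K) ∈ C.subgroupOf K := hle (htop ▸ Subgroup.mem_top _)
  exact Subgroup.mem_subgroupOf.mp this

/-- In a finite nilpotent subgroup `H`, the `p`-elements lie in a `p`-subgroup of `H`. -/
theorem exists_pSubgroup_of_nilpotent [Finite G] (H : Subgroup G) (hH : Group.IsNilpotent H)
    (p : ℕ) [Fact p.Prime] :
    ∃ P : Subgroup G, P ≤ H ∧ IsPGroup p P ∧ ∀ h ∈ H, ∀ k : ℕ, orderOf h = p ^ k → h ∈ P := by
  have hnorm := ((Group.isNilpotent_of_finite_tfae (G := H)).out 0 3).mp hH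
  let P0 : Sylow p H := default
  have hP0 : (P0 : Subgroup H).Normal := hnorm p inferInstance P0
  refine ⟨(P0 : Subgroup H).map H.subtype, Subgroup.map_subtype_le _, P0.isPGroup'.map _, ?_⟩
  intro h hh k hk
  have hz : IsPGroup p (Subgroup.zpowers (⟨h, hh⟩ : H)) := by
    apply IsPGroup.of_card (n := k)
    rw [Nat.card_zpowers, Subgroup.orderOf_mk, hk]
  obtain ⟨Q, hQ⟩ := hz.exists_le_sylow
  have hU := Sylow.unique_of_normal P0 hP0
  have hQP : Q = P0 := (hU.uniq Q).trans (hU.uniq P0).symm
  rw [hQP] at hQ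
  exact ⟨⟨h, hh⟩, hQ (Subgroup.mem_zpowers _), rfl⟩

/-- A `p`-element of a finite nilpotent subgroup `H` commuting with all `p`-elements of `H` is
central in `H`. -/
theorem central_of_comm_pElements [Finite G] (H : Subgroup G) (hH : Group.IsNilpotent H)
    (p : ℕ) [hp : Fact p.Prime] {u : G} (hu : u ∈ H) {i : ℕ} (hui : orderOf u = p ^ i)
    (hc : ∀ h ∈ H, ∀ k : ℕ, orderOf h = p ^ k → u * h = h * u) : ∀ h ∈ H, u * h = h * u := by
  have : H ≤ Subgroup.centralizer ({u} : Set G) := by
    apply le_of_forall_primePow_order_mem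
    intro x hx q k hq hxk
    rw [Subgroup.mem_centralizer_singleton_iff]
    by_cases hqp : q = p
    · subst hqp
      exact (hc x hx k hxk).symm
    · refine (comm_of_coprime_of_mem_nilpotent H hH hu hx ?_).symm
      rw [hui, hxk]
      exact Nat.Coprime.pow _ _ ((Nat.coprime_primes hp.out hq).mpr (Ne.symm hqp))
  intro h hh
  have := Subgroup.mem_centralizer_singleton_iff.mp (this hh)
  exact this.symm

/-- A finite nilpotent subgroup whose order is divisible by `p` has a central element of order `p`. -/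
theorem exists_central_orderOf_eq_prime [Finite G] (H : Subgroup G) (hH : Group.IsNilpotent H)
    (p : ℕ) [hp : Fact p.Prime] (hdvd : p ∣ Nat.card H) :
    ∃ u ∈ H, orderOf u = p ∧ ∀ h ∈ H, u * h = h * u := by
  obtain ⟨P, hPH, hP, hPmem⟩ := exists_pSubgroup_of_nilpotent H hH p
  obtain ⟨x, hx⟩ := exists_prime_orderOf_dvd_card' (G := H) p hdvd
  have hxP : (x : G) ∈ P := hPmem x x.2 1 (by rw [Subgroup.orderOf_coe, hx, pow_one])
  have hx1 : (x : G) ≠ 1 := by
    intro h1
    have : orderOf (x : G) = 1 := by rw [h1, orderOf_one]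
    rw [Subgroup.orderOf_coe, hx] at this
    exact hp.out.one_lt.ne' this
  have hnt : Nontrivial P := ⟨⟨⟨x, hxP⟩, 1, fun h => hx1 (congrArg Subtype.val h)⟩⟩
  have hcnt := hP.center_nontrivial
  obtain ⟨w, hw⟩ := exists_ne (1 : Subgroup.center P)
  have hw1 : ((w : P) : G) ≠ 1 := by
    intro h1
    apply hw
    ext
    exact h1
  have hwc : ∀ y ∈ P, ((w : P) : G) * y = y * ((w : P) : G) := by
    intro y hy
    have := (Subgroup.mem_center_iff.mp w.2) ⟨y, hy⟩
    exact (congrArg Subtype.val this).symm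
  obtain ⟨k, hk⟩ := (IsPGroup.iff_orderOf.mp hP) (w : P)
  rw [← Subgroup.orderOf_coe] at hk
  have hk0 : k ≠ 0 := by
    rintro rfl
    rw [pow_zero, orderOf_eq_one_iff] at hk
    exact hw1 hk
  have hpdvd : p ∣ orderOf ((w : P) : G) := by rw [hk]; exact dvd_pow_self p hk0
  set u : G := ((w : P) : G) ^ (orderOf ((w : P) : G) / p) with hu
  have huo : orderOf u = p := orderOf_pow_orderOf_div (by rw [hk]; exact (pow_pos hp.out.pos k).ne') hpdvd
  have huP : u ∈ P := Subgroup.pow_mem _ (w : P).2 _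
  refine ⟨u, hPH huP, huo, ?_⟩
  apply central_of_comm_pElements H hH p (hPH huP) (i := 1) (by rw [huo, pow_one])
  intro h hh k' hk'
  have hhP := hPmem h hh k' hk'
  have := hwc h hhP
  exact ((Commute.pow_left (show Commute ((w : P) : G) h from this) _)).eq

end Cfsg.Agent.Lib.Helper52
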