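/-
Tools for CN-groups (helper52): fixed points of `p`-groups on `p`-groups, generation by a Sylow
subgroup and `p'`-elements, lifting commuting elements through a normal `p`-subgroup,
transfer of nilpotency.
-/
import Mathlib
import Cfsg.Prelude.Def_LieExceptional
import Cfsg.Agent.Lib.Helper52.NilpSub
import Cfsg.Agent.Lib.Helper9.PrimePowerWitness
import Cfsg.Agent.Lib.Helper22.Coprime

set_option autoImplicit false

namespace Cfsg.Agent.Lib.Helper52

variable {G : Type*} [Group G]

/-- A `p`-group `S` normalizing a nontrivial `p`-group `Z` centralizes a non-identity element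
of `Z`. -/
theorem exists_ne_one_centralized [Finite G] (p : ℕ) [hp : Fact p.Prime] (S Z : Subgroup G)
    (hS : IsPGroup p S) (hZ : IsPGroup p Z) (hSZ : S ≤ Subgroup.normalizer (Z : Set G))
    (hZ1 : Z ≠ ⊥) : ∃ z ∈ Z, z ≠ 1 ∧ ∀ s ∈ S, s * z = z * s := by
  have hcong := Cfsg.Agent.Lib.Helper9.card_modEq_card_inf_centralizer p Z S hS hSZ
  have hpZ : p ∣ Nat.card Z := by
    obtain ⟨k, hk⟩ := IsPGroup.iff_card.mp hZ
    rw [hk]
    apply dvd_pow_self
    rintro rfl
    rw [pow_zero] at hk
    exact hZ1 (Subgroup.card_eq_one.mp hk)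
  have hne : (Z ⊓ Subgroup.centralizer (S : Set G)) ≠ ⊥ := by
    intro hbot
    rw [hbot, Subgroup.card_bot] at hcong
    have h0 : Nat.card Z % p = 0 := Nat.mod_eq_zero_of_dvd hpZ
    have h1 : Nat.card Z % p = 1 % p := hcong
    rw [Nat.mod_eq_of_lt hp.out.one_lt] at h1
    omega
  obtain ⟨z, hz, hz1⟩ := (Subgroup.bot_or_exists_ne_one _).resolve_left hne
  obtain ⟨hzZ, hzC⟩ := Subgroup.mem_inf.mp hz
  exact ⟨z, hzZ, hz1, fun s hs => Subgroup.mem_centralizer_iff.mp hzC s hs⟩

/-- A subgroup `C` containing a Sylow `p`-subgroup of the finite subgroup `K` and all elements of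
`K` of prime power order for primes other than `p` contains `K`. -/
theorem le_of_sylow_le_of_forall_primePow [Finite G] (p : ℕ) [hp : Fact p.Prime] (K C : Subgroup G)
    (S : Sylow p K) (hS : (S : Subgroup K).map K.subtype ≤ C)
    (h : ∀ x ∈ K, ∀ q k : ℕ, q.Prime → q ≠ p → orderOf x = q ^ k → x ∈ C) : K ≤ C := by
  have htop : C.subgroupOf K = ⊤ := by
    rw [← Subgroup.index_eq_one]
    by_contra hne
    obtain ⟨r, hr, hdvd⟩ := Nat.exists_prime_and_dvd hne
    have : Fact r.Prime := ⟨hr⟩
    by_cases hrp : r = p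
    · subst hrp
      have hle : (S : Subgroup K) ≤ C.subgroupOf K := by
        intro y hy
        rw [Subgroup.mem_subgroupOf]
        exact hS ⟨y, hy, rfl⟩
      exact S.not_dvd_index (hdvd.trans (Subgroup.index_dvd_of_le hle))
    · let Q : Sylow r K := default
      have hle : (Q : Subgroup K) ≤ C.subgroupOf K := by
        intro y hy
        rw [Subgroup.mem_subgroupOf]
        obtain ⟨k, hk⟩ := (IsPGroup.iff_orderOf.mp Q.isPGroup') ⟨y, hy⟩
        rw [Subgroup.orderOf_mk] at hk
        apply h (y : G) y.2 r k hr hrp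
        rw [Subgroup.orderOf_coe]
        exact hk
      exact Q.not_dvd_index (hdvd.trans (Subgroup.index_dvd_of_le hle))
  intro x hx
  have : (⟨x, hx⟩ : K) ∈ C.subgroupOf K := htop ▸ Subgroup.mem_top _
  exact Subgroup.mem_subgroupOf.mp this

/-- If `a` has `r`-power order, `M` is a normal subgroup of order prime to `r`, and the images of
`a` and `g` commute in `G ⧸ M`, then `a` commutes with some element of the coset `g M`. -/
theorem exists_mul_comm_of_quotient_comm [Finite G] (M : Subgroup G) [M.Normal] {r : ℕ}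
    [Fact r.Prime] (hM : (Nat.card M).Coprime r) (a g : G) {k : ℕ} (ha : orderOf a = r ^ k)
    (hcomm : (a : G ⧸ M) * (g : G ⧸ M) = (g : G ⧸ M) * (a : G ⧸ M)) :
    ∃ m ∈ M, a * (g * m) = (g * m) * a := by
  have hPa : IsPGroup r (Subgroup.zpowers a) :=
    IsPGroup.of_card (n := k) (by rw [Nat.card_zpowers, ha])
  have hE : Subgroup.zpowers a ≤
      (Subgroup.centralizer ({(g : G ⧸ M)} : Set (G ⧸ M))).comap (QuotientGroup.mk' M) := by
    rw [Subgroup.zpowers_le, Subgroup.mem_comap, Subgroup.mem_centralizer_singleton_iff]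
    exact hcomm
  obtain ⟨m, hm, hfix⟩ := Cfsg.Agent.Lib.Helper22.exists_centralized_mem_coset
    (Subgroup.zpowers a) M hPa hM g (by
      intro t ht m hm
      have htc := hE ht
      rw [Subgroup.mem_comap, Subgroup.mem_centralizer_singleton_iff] at htc
      have htc' : (t : G ⧸ M) * (g : G ⧸ M) = (g : G ⧸ M) * (t : G ⧸ M) := htc
      rw [← QuotientGroup.eq_one_iff (N := M)]
      have hm1 : (m : G ⧸ M) = 1 := (QuotientGroup.eq_one_iff m).mpr hm
      simp only [QuotientGroup.mk_mul, QuotientGroup.mk_inv, hm1, mul_one]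
      rw [htc']
      group)
  exact ⟨m, hm, hfix a (Subgroup.mem_zpowers a)⟩

/-- The image of a nilpotent subgroup is nilpotent. -/
theorem isNilpotent_map {G' : Type*} [Group G'] (f : G →* G') (N : Subgroup G)
    (hN : Group.IsNilpotent N) : Group.IsNilpotent (N.map f) :=
  Group.nilpotent_of_surjective (f.subgroupMap N) (f.subgroupMap_surjective N)

/-- Being a CN-group is invariant under isomorphism. -/
theorem isCNGroup_of_mulEquiv {G' : Type*} [Group G'] (e : G ≃* G') (h : Cfsg.IsCNGroup G) :
    Cfsg.IsCNGroup G' := by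
  intro g hg
  have hg' : e.symm g ≠ 1 := by
    intro h1
    apply hg
    have := congrArg e h1
    simpa using this
  have hnil := isNilpotent_map e.toMonoidHom _ (h (e.symm g) hg')
  have heq : (Subgroup.centralizer ({e.symm g} : Set G)).map e.toMonoidHom =
      Subgroup.centralizer ({g} : Set G') := by
    ext y
    rw [Subgroup.mem_map, Subgroup.mem_centralizer_singleton_iff]
    constructor
    · rintro ⟨x, hx, rfl⟩
      rw [Subgroup.mem_centralizer_singleton_iff] at hx
      have := congrArg e hx
      simpa using this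
    · intro hy
      refine ⟨e.symm y, ?_, by simp⟩
      rw [Subgroup.mem_centralizer_singleton_iff, ← map_mul, ← map_mul, hy]
  rwa [heq] at hnil

end Cfsg.Agent.Lib.Helper52
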