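/-
CN-groups acting without fixed points (helper52): an `r'`-element normalizing an `r`-subgroup `Q`
centralizes it, provided `Q ⊔ ⟨g⟩` acts fixed-point-freely on a nontrivial abelian normal subgroup.
-/
import Mathlib
import Cfsg.Agent.Lib.Helper52.CNBasic
import Cfsg.Agent.Lib.Helper54.Coprime
import Cfsg.Agent.S0034
import Cfsg.Agent.S0039
import Cfsg.Agent.S0666

set_option autoImplicit false

namespace Cfsg.Agent.Lib.Helper52

variable {G : Type*} [Group G]

/-- A Frobenius group `Q ⋊ ⟨y⟩` (`Q` an `r`-group, `y` of prime order `s ≠ r` acting without fixed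
points on `Q`) acting on a nontrivial abelian normal `r'`-subgroup `V` such that the non-identity
elements of `Q` have no fixed points on `V`: then `y` has a non-identity fixed point on `V`. -/
theorem exists_fixed_of_frobenius_action [Finite G] (V : Subgroup G) [V.Normal]
    (hVab : IsMulCommutative V) (hV1 : V ≠ ⊥) (r s : ℕ) [hr : Fact r.Prime] [hs : Fact s.Prime]
    (hrs : r ≠ s) (hVr : (Nat.card V).Coprime r) (Q : Subgroup G) (hQ : IsPGroup r Q) (hQ1 : Q ≠ ⊥)
    (y : G) (hy : orderOf y = s) (hyQ : y ∈ Subgroup.normalizer (Q : Set G))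
    (hfpf : ∀ h ∈ Subgroup.zpowers y, h ≠ 1 → ∀ x ∈ Q, x ≠ 1 → h * x ≠ x * h)
    (hVB : ∀ e ∈ Q ⊔ Subgroup.zpowers y, e ≠ 1 → V ⊓ Subgroup.centralizer ({e} : Set G) = ⊥) :
    V ⊓ Subgroup.centralizer ({y} : Set G) ≠ ⊥ := by
  obtain ⟨a, ha⟩ := IsPGroup.iff_card.mp hQ
  have hcy : Nat.card (Subgroup.zpowers y) = s := by rw [Nat.card_zpowers, hy]
  have hcop : (Nat.card Q).Coprime (Nat.card (Subgroup.zpowers y)) := by
    rw [ha, hcy]
    exact Nat.Coprime.pow_left a ((Nat.coprime_primes hr.out hs.out).mpr hrs)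
  have hyN : Subgroup.zpowers y ≤ Subgroup.normalizer (Q : Set G) := by
    rw [Subgroup.zpowers_le]; exact hyQ
  have hBN : Q ⊔ Subgroup.zpowers y ≤ Subgroup.normalizer (Q : Set G) :=
    sup_le Subgroup.le_normalizer hyN
  have hdisj : Q ⊓ Subgroup.zpowers y = ⊥ := (Subgroup.disjoint_of_coprime_natCard hcop).eq_bot
  have hcardB : Nat.card (Q ⊔ Subgroup.zpowers y : Subgroup G) = Nat.card Q * s := by
    rw [Cfsg.Agent.Lib.Helper54.card_sup_of_le_normalizer hyN hdisj, hcy]
  have hKn : (Q.subgroupOf (Q ⊔ Subgroup.zpowers y)).Normal :=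
    Subgroup.normal_subgroupOf_of_le_normalizer hBN
  have cK : Nat.card (Q.subgroupOf (Q ⊔ Subgroup.zpowers y)) = Nat.card Q :=
    Nat.card_congr (Subgroup.subgroupOfEquivOfLe le_sup_left).toEquiv
  have cH : Nat.card ((Subgroup.zpowers y).subgroupOf (Q ⊔ Subgroup.zpowers y)) = s := by
    rw [Nat.card_congr (Subgroup.subgroupOfEquivOfLe le_sup_right).toEquiv, hcy]
  have hc : Subgroup.IsComplement' (Q.subgroupOf (Q ⊔ Subgroup.zpowers y))
      ((Subgroup.zpowers y).subgroupOf (Q ⊔ Subgroup.zpowers y)) := by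
    apply Subgroup.isComplement'_of_coprime
    · rw [cK, cH, hcardB]
    · rw [cK, cH, ← hcy]; exact hcop
  have hQcard : 1 < Nat.card Q := (Subgroup.one_lt_card_iff_ne_bot Q).mpr hQ1
  have hK1 : Q.subgroupOf (Q ⊔ Subgroup.zpowers y) ≠ ⊥ := by
    rw [← Subgroup.one_lt_card_iff_ne_bot, cK]; exact hQcard
  have hH1 : (Subgroup.zpowers y).subgroupOf (Q ⊔ Subgroup.zpowers y) ≠ ⊥ := by
    rw [← Subgroup.one_lt_card_iff_ne_bot, cH]; exact hs.out.one_lt
  have hFrob : Cfsg.IsFrobeniusComplement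
      ((Subgroup.zpowers y).subgroupOf (Q ⊔ Subgroup.zpowers y)) := by
    refine (Cfsg.Agent.S0039.result _ _ hc hK1 hH1).mpr ?_
    intro h hh hh1
    rw [Subgroup.eq_bot_iff_forall]
    intro k hk
    obtain ⟨hkK, hkC⟩ := Subgroup.mem_inf.mp hk
    by_contra hk1
    have hhG : (h : G) ≠ 1 := fun e => hh1 (Subtype.ext e)
    have hkG : (k : G) ≠ 1 := fun e => hk1 (Subtype.ext e)
    refine hfpf (h : G) (Subgroup.mem_subgroupOf.mp hh) hhG (k : G)
      (Subgroup.mem_subgroupOf.mp hkK) hkG ?_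
    rw [Subgroup.mem_centralizer_singleton_iff] at hkC
    exact (congrArg Subtype.val hkC).symm
  have hker := (Cfsg.Agent.S0034.result _ hFrob).1
  have hidx : ((Subgroup.zpowers y).subgroupOf (Q ⊔ Subgroup.zpowers y)).index = Nat.card Q := by
    rw [hc.index_eq_card, cK]
  rw [hidx] at hker
  -- a non-identity element of the kernel
  have hnt : Nontrivial (Cfsg.frobeniusKernel
      ((Subgroup.zpowers y).subgroupOf (Q ⊔ Subgroup.zpowers y))) := by
    rw [← Finite.one_lt_card_iff_nontrivial, hker]; exact hQcard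
  obtain ⟨k0, hk0⟩ := exists_ne (⟨1, Or.inl rfl⟩ : Cfsg.frobeniusKernel
      ((Subgroup.zpowers y).subgroupOf (Q ⊔ Subgroup.zpowers y)))
  have hk0G : ((k0 : ↥(Q ⊔ Subgroup.zpowers y)) : G) ≠ 1 := by
    intro e
    apply hk0
    apply Subtype.ext
    apply Subtype.ext
    exact e
  have hCK : V ⊓ Subgroup.centralizer (Subtype.val '' Cfsg.frobeniusKernel
      ((Subgroup.zpowers y).subgroupOf (Q ⊔ Subgroup.zpowers y)) : Set G) = ⊥ := by
    rw [eq_bot_iff, ← hVB _ (k0 : ↥(Q ⊔ Subgroup.zpowers y)).2 hk0G]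
    apply inf_le_inf_left
    apply Subgroup.centralizer_le
    rintro _ rfl
    exact ⟨(k0 : ↥(Q ⊔ Subgroup.zpowers y)), k0.2, rfl⟩
  have hres := Cfsg.Agent.S0666.result V (Q ⊔ Subgroup.zpowers y) hVab hV1
    (by rw [Subgroup.normalizer_eq_top]; exact le_top) _ hFrob
    (by rw [hker, ha]; exact Nat.Coprime.pow_right a hVr) hCK
  rw [Subgroup.map_subgroupOf_eq_of_le le_sup_right] at hres
  intro hbot
  apply hres
  rw [eq_bot_iff, ← hbot]
  apply inf_le_inf_left
  apply Subgroup.centralizer_le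
  intro x hx
  rw [Set.mem_singleton_iff] at hx
  rw [hx]
  exact Subgroup.mem_zpowers y

/-- Prime power case of `centralizes_of_fpf`. -/
theorem centralizes_of_fpf_primePow [Finite G] (hCN : Cfsg.IsCNGroup G) (V : Subgroup G) [V.Normal]
    (hVab : IsMulCommutative V) (hV1 : V ≠ ⊥) (r : ℕ) [hr : Fact r.Prime]
    (hVr : (Nat.card V).Coprime r) (Q : Subgroup G) (hQ : IsPGroup r Q) (g : G)
    (hg : g ∈ Subgroup.normalizer (Q : Set G)) (s k : ℕ) (hs : s.Prime) (hsr : s ≠ r)
    (hgo : orderOf g = s ^ k)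
    (hfpf : ∀ e ∈ Q ⊔ Subgroup.zpowers g, e ≠ 1 → V ⊓ Subgroup.centralizer ({e} : Set G) = ⊥) :
    g ∈ Subgroup.centralizer (Q : Set G) := by
  have : Fact s.Prime := ⟨hs⟩
  rw [Subgroup.mem_centralizer_iff]
  by_cases hQ1 : Q = ⊥
  · intro q hq
    rw [hQ1, SetLike.mem_coe, Subgroup.mem_bot] at hq
    rw [hq, one_mul, mul_one]
  obtain ⟨w, hwQ, hw1, hwc⟩ := exists_ne_one_centralized r Q Q hQ hQ Subgroup.le_normalizer hQ1
  have hord : ∀ q ∈ Q, (orderOf q).Coprime (orderOf g) := by
    intro q hq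
    obtain ⟨j, hj⟩ := (IsPGroup.iff_orderOf.mp hQ) ⟨q, hq⟩
    rw [Subgroup.orderOf_mk] at hj
    rw [hj, hgo]
    exact Nat.Coprime.pow _ _ ((Nat.coprime_primes hr.out hs).mpr (Ne.symm hsr))
  by_cases hfix : ∃ x ∈ Q, x ≠ 1 ∧ g * x = x * g
  · obtain ⟨x, hxQ, hx1, hgx⟩ := hfix
    have hwL : w ∈ Subgroup.centralizer ({x} : Set G) :=
      Subgroup.mem_centralizer_singleton_iff.mpr (hwc x hxQ).symm
    have hgL : g ∈ Subgroup.centralizer ({x} : Set G) :=
      Subgroup.mem_centralizer_singleton_iff.mpr hgx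
    have hwg : w * g = g * w :=
      comm_of_coprime_of_mem_nilpotent _ (hCN x hx1) hwL hgL (hord w hwQ)
    intro q hq
    have hqL : q ∈ Subgroup.centralizer ({w} : Set G) :=
      Subgroup.mem_centralizer_singleton_iff.mpr (hwc q hq)
    have hgL' : g ∈ Subgroup.centralizer ({w} : Set G) :=
      Subgroup.mem_centralizer_singleton_iff.mpr hwg.symm
    exact comm_of_coprime_of_mem_nilpotent _ (hCN w hw1) hqL hgL' (hord q hq)
  · exfalso
    push Not at hfix
    have hg1 : g ≠ 1 := by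
      intro h
      exact hfix w hwQ hw1 (by rw [h, one_mul, mul_one])
    have hk0 : k ≠ 0 := by
      rintro rfl
      rw [pow_zero, orderOf_eq_one_iff] at hgo
      exact hg1 hgo
    have hsdvd : s ∣ orderOf g := by rw [hgo]; exact dvd_pow_self s hk0
    have hyo : orderOf (g ^ (orderOf g / s)) = s :=
      orderOf_pow_orderOf_div (by rw [hgo]; exact (pow_pos hs.pos k).ne') hsdvd
    have hyzg : Subgroup.zpowers (g ^ (orderOf g / s)) ≤ Subgroup.zpowers g := by
      rw [Subgroup.zpowers_le]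
      exact Subgroup.pow_mem _ (Subgroup.mem_zpowers g) _
    have hy1 : g ^ (orderOf g / s) ≠ 1 := by
      intro h
      rw [h, orderOf_one] at hyo
      exact hs.one_lt.ne hyo
    have hyQ : g ^ (orderOf g / s) ∈ Subgroup.normalizer (Q : Set G) :=
      Subgroup.pow_mem _ hg _
    have hres := exists_fixed_of_frobenius_action V hVab hV1 r s (Ne.symm hsr) hVr Q hQ hQ1
      (g ^ (orderOf g / s)) hyo hyQ (by
        intro h hh hh1 x hx hx1 hcomm
        have hhg : h ∈ Subgroup.zpowers g := hyzg hh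
        obtain ⟨m, rfl⟩ := Subgroup.mem_zpowers_iff.mp hhg
        have hgL : g ∈ Subgroup.centralizer ({g ^ m} : Set G) := by
          rw [Subgroup.mem_centralizer_singleton_iff]
          exact ((Commute.refl g).zpow_right m).eq
        have hxL : x ∈ Subgroup.centralizer ({g ^ m} : Set G) :=
          Subgroup.mem_centralizer_singleton_iff.mpr hcomm.symm
        have := comm_of_coprime_of_mem_nilpotent _ (hCN _ hh1) hxL hgL (hord x hx)
        exact hfix x hx hx1 this.symm)
      (by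
        intro e he he1
        exact hfpf e ((sup_le_sup_left hyzg Q) he) he1)
    exact hres (hfpf _ ((le_sup_right : Subgroup.zpowers g ≤ Q ⊔ Subgroup.zpowers g)
      (hyzg (Subgroup.mem_zpowers _))) hy1)

/-- In a CN-group, let `g` be an `r'`-element normalizing the `r`-subgroup `Q`, such that all
non-identity elements of `Q ⊔ ⟨g⟩` act without fixed points on a nontrivial abelian normal
`r'`-subgroup `V`. Then `g` centralizes `Q`. -/
theorem centralizes_of_fpf [Finite G] (hCN : Cfsg.IsCNGroup G) (V : Subgroup G) [V.Normal]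
    (hVab : IsMulCommutative V) (hV1 : V ≠ ⊥) (r : ℕ) [hr : Fact r.Prime]
    (hVr : (Nat.card V).Coprime r) (Q : Subgroup G) (hQ : IsPGroup r Q) (g : G)
    (hg : g ∈ Subgroup.normalizer (Q : Set G)) (hgr : (orderOf g).Coprime r)
    (hfpf : ∀ e ∈ Q ⊔ Subgroup.zpowers g, e ≠ 1 → V ⊓ Subgroup.centralizer ({e} : Set G) = ⊥) :
    g ∈ Subgroup.centralizer (Q : Set G) := by
  have hle : Subgroup.zpowers g ≤ Subgroup.centralizer (Q : Set G) := by
    apply le_of_forall_primePow_order_mem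
    intro x hx s k hs hxo
    have hxg : Subgroup.zpowers x ≤ Subgroup.zpowers g := by
      rw [Subgroup.zpowers_le]; exact hx
    by_cases hk : k = 0
    · subst hk
      rw [pow_zero, orderOf_eq_one_iff] at hxo
      rw [hxo]; exact Subgroup.one_mem _
    have hsr : s ≠ r := by
      rintro rfl
      have h1 : s ∣ orderOf x := by rw [hxo]; exact dvd_pow_self s hk
      have h2 : orderOf x ∣ orderOf g := orderOf_dvd_of_mem_zpowers hx
      have := Nat.dvd_gcd (h1.trans h2) (dvd_refl s)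
      rw [hgr] at this
      exact hs.one_lt.ne' (Nat.dvd_one.mp this)
    apply centralizes_of_fpf_primePow hCN V hVab hV1 r hVr Q hQ x ?_ s k hs hsr hxo
    · intro e he he1
      exact hfpf e ((sup_le_sup_left hxg Q) he) he1
    · have : Subgroup.zpowers g ≤ Subgroup.normalizer (Q : Set G) := by
        rw [Subgroup.zpowers_le]; exact hg
      exact this hx
  exact hle (Subgroup.mem_zpowers g)

end Cfsg.Agent.Lib.Helper52
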