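/-
Nilpotency criteria (helper52): a finite group with a normal `r`-complement for every prime `r`
is nilpotent; hence (Frobenius) a finite group in which `r'`-elements normalizing an `r`-subgroup
centralize it, for every prime `r`, is nilpotent.
-/
import Mathlib
import Cfsg.Agent.S0071

set_option autoImplicit false

namespace Cfsg.Agent.Lib.Helper52

/-- A finite group with a normal `r`-complement for every prime `r` is nilpotent. -/
theorem isNilpotent_of_normal_complements {X : Type*} [Group X] [Finite X]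
    (h : ∀ (r : ℕ) [Fact r.Prime], ∃ (R : Sylow r X) (N : Subgroup X),
      N.Normal ∧ N.IsComplement' (R : Subgroup X)) :
    Group.IsNilpotent X := by
  classical
  apply ((Group.isNilpotent_of_finite_tfae (G := X)).out 0 3).mpr
  intro s hs S
  have h' : ∀ r : ℕ, ∃ N : Subgroup X, N.Normal ∧
      (r.Prime → (Nat.card N).Coprime r ∧ ∃ a : ℕ, N.index = r ^ a) := by
    intro r
    by_cases hr : r.Prime
    · have : Fact r.Prime := ⟨hr⟩
      obtain ⟨R, N, hN, hc⟩ := h r
      refine ⟨N, hN, fun _ => ?_⟩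
      have hidx : N.index = Nat.card (R : Subgroup X) := hc.symm.index_eq_card
      have hcardN : Nat.card N = (R : Subgroup X).index := hc.index_eq_card.symm
      obtain ⟨a, ha⟩ := IsPGroup.iff_card.mp R.isPGroup'
      refine ⟨?_, a, by rw [hidx, ha]⟩
      rw [hcardN]
      exact ((Nat.Prime.coprime_iff_not_dvd hr).mpr R.not_dvd_index).symm
    · exact ⟨⊤, inferInstance, fun h => absurd h hr⟩
  choose N hNn hN using h'
  have hTn : (⨅ (r : ℕ) (_ : r.Prime ∧ r ≠ s), N r).Normal :=
    Subgroup.normal_iInf_normal (fun r => Subgroup.normal_iInf_normal (fun _ => hNn r))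
  have hST : (S : Subgroup X) ≤ ⨅ (r : ℕ) (_ : r.Prime ∧ r ≠ s), N r := by
    apply le_iInf
    intro r
    apply le_iInf
    rintro ⟨hr, hrs⟩
    have := hNn r
    obtain ⟨-, a, ha⟩ := hN r hr
    obtain ⟨b, hb⟩ := IsPGroup.iff_card.mp S.isPGroup'
    rw [← Subgroup.relIndex_eq_one]
    have h1 : (N r).relIndex (S : Subgroup X) ∣ r ^ a := by
      rw [← ha]; exact Subgroup.relIndex_dvd_index_of_normal _ _
    have h2 : (N r).relIndex (S : Subgroup X) ∣ s ^ b := by
      rw [← hb]; exact Subgroup.relIndex_dvd_card _ _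
    have hcop : (r ^ a).Coprime (s ^ b) :=
      Nat.Coprime.pow _ _ ((Nat.coprime_primes hr hs.out).mpr hrs)
    exact Nat.eq_one_of_dvd_coprimes hcop h1 h2
  have hTp : IsPGroup s (⨅ (r : ℕ) (_ : r.Prime ∧ r ≠ s), N r : Subgroup X) := by
    apply IsPGroup.of_card
      (n := (Nat.card (⨅ (r : ℕ) (_ : r.Prime ∧ r ≠ s), N r : Subgroup X)).primeFactorsList.length)
    apply Nat.eq_prime_pow_of_unique_prime_dvd Nat.card_pos.ne'
    intro d hd hdv
    by_contra hds
    have hle : (⨅ (r : ℕ) (_ : r.Prime ∧ r ≠ s), N r) ≤ N d :=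
      iInf_le_of_le d (iInf_le _ ⟨hd, hds⟩)
    have h1 : d ∣ Nat.card (N d) := hdv.trans (Subgroup.card_dvd_of_le hle)
    have h2 := (hN d hd).1
    have : d ∣ 1 := by
      have := Nat.dvd_gcd h1 (dvd_refl d)
      rwa [h2] at this
    exact hd.one_lt.ne' (Nat.dvd_one.mp this)
  have heq := S.is_maximal' hTp hST
  rw [← heq]
  exact hTn

/-- **Frobenius' criterion for nilpotency.** A finite group in which, for every prime `r`, every
element of order prime to `r` normalizing an `r`-subgroup `Q` centralizes `Q`, is nilpotent. -/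
theorem isNilpotent_of_forall_normalizer_le_centralizer {X : Type*} [Group X] [Finite X]
    (h : ∀ (r : ℕ) [Fact r.Prime] (Q : Subgroup X), IsPGroup r Q →
      ∀ g ∈ Subgroup.normalizer (Q : Set X), (orderOf g).Coprime r →
        g ∈ Subgroup.centralizer (Q : Set X)) :
    Group.IsNilpotent X := by
  apply isNilpotent_of_normal_complements
  intro r hr
  let R : Sylow r X := default
  obtain ⟨N, hNn, hNc⟩ := (Cfsg.Agent.S0071.result R).mpr
    (fun Q hQ g hg hcop => h r Q (R.isPGroup'.to_le hQ) g hg hcop)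
  exact ⟨R, N, hNn, hNc⟩

end Cfsg.Agent.Lib.Helper52
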