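/-
Gaschütz's theorem machinery (helper52).

For an abelian normal subgroup `K` of a finite group `G` and subgroups `A ≤ U` with `U = K A`, we consider
functions `f : G → K` with `f (k g) = k f g` (`k ∈ K`) and `f (g a) = f g` (`a ∈ A`); these are the
"right-`A`-invariant transversals" of `K`.  The difference of two such functions is constant on left cosets of `U`
and the product over `G ⧸ U` gives `D f f' ∈ K`, a 1-cocycle-like gadget on which `G` acts.
-/
import Mathlib.GroupTheory.Complement
import Mathlib.GroupTheory.Index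
import Mathlib.GroupTheory.OrderOfElement
import Mathlib.GroupTheory.GroupAction.ConjAct
import Mathlib.Algebra.BigOperators.Group.Finset.Basic
import Mathlib.Tactic.Group

set_option autoImplicit false

namespace Cfsg.Agent.Lib.Helper52

open scoped IsMulCommutative

variable {G : Type*} [Group G]

/-- Functions `G → K` that are left-`K`-equivariant and right-`A`-invariant. -/
structure GFun (K A : Subgroup G) where
  f : G → K
  left : ∀ (k : K) (g : G), f (k * g) = k * f g
  right : ∀ a ∈ A, ∀ g : G, f (g * a) = f g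

namespace GFun

variable {K A : Subgroup G}

theorem ext' {f f' : GFun K A} (h : ∀ g, f.f g = f'.f g) : f = f' := by
  cases f; cases f'; congr; funext g; exact h g

theorem right_K [K.Normal] (f : GFun K A) (k : K) (g : G) :
    f.f (g * k) = MulAut.conjNormal g k * f.f g := by
  have : g * (k : G) = ((MulAut.conjNormal g k : K) : G) * g := by
    rw [MulAut.conjNormal_apply]; group
  rw [this, f.left]

/-- pointwise difference -/
def d (f f' : GFun K A) (g : G) : K := (f.f g)⁻¹ * f'.f g

theorem d_self (f : GFun K A) (g : G) : d f f g = 1 := by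
  unfold d; rw [inv_mul_cancel]

theorem d_mul_d (f f' f'' : GFun K A) (g : G) : d f f' g * d f' f'' g = d f f'' g := by
  unfold d; group

theorem d_inv (f f' : GFun K A) (g : G) : (d f f' g)⁻¹ = d f' f g := by
  unfold d; group

theorem d_mul_right_K [K.Normal] (f f' : GFun K A) (k : K) (g : G) :
    d f f' (g * k) = d f f' g := by
  unfold d
  rw [right_K, right_K]
  group

theorem d_mul_right_A (f f' : GFun K A) (a : G) (ha : a ∈ A) (g : G) :
    d f f' (g * a) = d f f' g := by
  unfold d; rw [f.right a ha, f'.right a ha]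

theorem d_mul_right_U [K.Normal] {U : Subgroup G}
    (hU : ∀ u ∈ U, ∃ k : K, ∃ a ∈ A, u = k * a) (f f' : GFun K A) (u : G) (hu : u ∈ U) (g : G) :
    d f f' (g * u) = d f f' g := by
  obtain ⟨k, a, ha, rfl⟩ := hU u hu
  rw [← mul_assoc, d_mul_right_A _ _ a ha, d_mul_right_K]

theorem d_out [K.Normal] {U : Subgroup G}
    (hU : ∀ u ∈ U, ∃ k : K, ∃ a ∈ A, u = k * a) (f f' : GFun K A) (g : G) :
    d f f' (QuotientGroup.mk g : G ⧸ U).out = d f f' g := by
  obtain ⟨h, hh⟩ := QuotientGroup.mk_out_eq_mul U g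
  rw [hh, d_mul_right_U hU f f' h h.2]

/-- The `G`-action on `GFun`. -/
def smul [K.Normal] (x : G) (f : GFun K A) : GFun K A where
  f g := MulAut.conjNormal x (f.f (x⁻¹ * g))
  left k g := by
    have h1 : x⁻¹ * (↑k * g) = ((MulAut.conjNormal x⁻¹ k : K) : G) * (x⁻¹ * g) := by
      rw [MulAut.conjNormal_apply]; group
    rw [h1, f.left, map_mul]
    congr 1
    apply Subtype.ext
    rw [MulAut.conjNormal_apply, MulAut.conjNormal_apply]; group
  right a ha g := by rw [← mul_assoc, f.right a ha]

theorem smul_f [K.Normal] (x : G) (f : GFun K A) (g : G) :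
    (smul x f).f g = MulAut.conjNormal x (f.f (x⁻¹ * g)) := rfl

theorem one_smul [K.Normal] (f : GFun K A) : smul 1 f = f := by
  apply ext'; intro g
  rw [smul_f]; simp

theorem mul_smul [K.Normal] (x y : G) (f : GFun K A) : smul (x * y) f = smul x (smul y f) := by
  apply ext'; intro g
  rw [smul_f, smul_f, smul_f, map_mul, mul_inv_rev, mul_assoc]
  rfl

theorem d_smul [K.Normal] (x : G) (f f' : GFun K A) (g : G) :
    d (smul x f) (smul x f') g = MulAut.conjNormal x (d f f' (x⁻¹ * g)) := by
  unfold d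
  rw [smul_f, smul_f, map_mul, map_inv]

/-- conjugation by an element of the abelian group `K` is trivial on `K`. -/
theorem conjNormal_K [K.Normal] [IsMulCommutative K] (k c : K) :
    MulAut.conjNormal (k : G) c = c := by
  apply Subtype.ext
  rw [MulAut.conjNormal_apply]
  have h2 := congrArg Subtype.val (mul_comm' k c)
  simp only [Subgroup.coe_mul] at h2
  rw [h2]; group

theorem smul_K_f [K.Normal] [IsMulCommutative K] (k : K) (f : GFun K A) (g : G) :
    (smul (k : G) f).f g = f.f g * k⁻¹ := by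
  rw [smul_f]
  have h1 : (k : G)⁻¹ * g = ((k⁻¹ : K) : G) * g := by simp
  rw [h1, f.left, conjNormal_K, mul_comm']

theorem d_smul_K [K.Normal] [IsMulCommutative K] (k : K) (f : GFun K A) (g : G) :
    d f (smul (k : G) f) g = k⁻¹ := by
  unfold d; rw [smul_K_f]; group

section D

variable [Finite G] [IsMulCommutative K]

/-- The product of the pointwise difference over `G ⧸ U`. -/
noncomputable def D (U : Subgroup G) (f f' : GFun K A) : K :=
  letI := Fintype.ofFinite (G ⧸ U)
  ∏ q : G ⧸ U, d f f' q.out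

theorem D_self (U : Subgroup G) (f : GFun K A) : D U f f = 1 := by
  unfold D
  simp only [d_self]
  exact Finset.prod_const_one

theorem D_mul_D (U : Subgroup G) (f f' f'' : GFun K A) : D U f f' * D U f' f'' = D U f f'' := by
  unfold D
  rw [← Finset.prod_mul_distrib]
  simp only [d_mul_d]

theorem D_inv (U : Subgroup G) (f f' : GFun K A) : (D U f f')⁻¹ = D U f' f := by
  rw [inv_eq_iff_mul_eq_one, D_mul_D, D_self]

theorem D_smul [K.Normal] {U : Subgroup G} (hU : ∀ u ∈ U, ∃ k : K, ∃ a ∈ A, u = k * a)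
    (x : G) (f f' : GFun K A) :
    D U (smul x f) (smul x f') = MulAut.conjNormal x (D U f f') := by
  let _ := Fintype.ofFinite (G ⧸ U)
  unfold D
  rw [map_prod]
  simp only [d_smul]
  have h1 : ∀ q : G ⧸ U, d f f' (x⁻¹ * q.out) = d f f' ((x⁻¹ • q : G ⧸ U)).out := by
    intro q
    have : (x⁻¹ • q : G ⧸ U) = QuotientGroup.mk (x⁻¹ * q.out) := by
      conv_lhs => rw [← QuotientGroup.out_eq' q]
      rfl
    rw [this, d_out hU]
  simp only [h1]
  convert Fintype.prod_equiv (MulAction.toPerm (x⁻¹ : G)) (fun q : G ⧸ U =>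
    MulAut.conjNormal x (d f f' ((x⁻¹ • q : G ⧸ U)).out))
    (fun q : G ⧸ U => MulAut.conjNormal x (d f f' q.out)) (fun q => rfl) using 2

theorem D_smul_K [K.Normal] (U : Subgroup G) (k : K) (f : GFun K A) :
    D U f (smul (k : G) f) = (k⁻¹) ^ U.index := by
  let _ := Fintype.ofFinite (G ⧸ U)
  unfold D
  simp only [d_smul_K]
  rw [Finset.prod_const, Finset.card_univ, Subgroup.index_eq_card, Nat.card_eq_fintype_card]

end D

section Delta

variable [Finite G] [IsMulCommutative K] [K.Normal]

/-- The crossed homomorphism `x ↦ D f (x • f)`. -/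
noncomputable def delta (U : Subgroup G) (f : GFun K A) (x : G) : K := D U f (smul x f)

theorem delta_one (U : Subgroup G) (f : GFun K A) : delta U f 1 = 1 := by
  unfold delta; rw [one_smul, D_self]

theorem delta_mul {U : Subgroup G} (hU : ∀ u ∈ U, ∃ k : K, ∃ a ∈ A, u = k * a)
    (f : GFun K A) (x y : G) :
    delta U f (x * y) = delta U f x * MulAut.conjNormal x (delta U f y) := by
  unfold delta
  rw [mul_smul, ← D_smul hU, D_mul_D]

theorem delta_K (U : Subgroup G) (f : GFun K A) (k : K) : delta U f (k : G) = (k⁻¹) ^ U.index := by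
  unfold delta; rw [D_smul_K]

/-- The kernel of the crossed homomorphism, as a subgroup. -/
noncomputable def ker {U : Subgroup G} (hU : ∀ u ∈ U, ∃ k : K, ∃ a ∈ A, u = k * a)
    (f : GFun K A) : Subgroup G where
  carrier := {x | delta U f x = 1}
  one_mem' := delta_one U f
  mul_mem' := by
    intro x y hx hy
    change delta U f x = 1 at hx
    change delta U f y = 1 at hy
    change delta U f (x * y) = 1
    rw [delta_mul hU, hx, hy, map_one, mul_one]
  inv_mem' := by
    intro x hx
    change delta U f x = 1 at hx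
    change delta U f x⁻¹ = 1
    have h := delta_mul hU f x x⁻¹
    rw [mul_inv_cancel, delta_one, hx, one_mul] at h
    have h2 : MulAut.conjNormal x (delta U f x⁻¹) = MulAut.conjNormal x 1 := by
      rw [← h, map_one]
    exact (MulAut.conjNormal x).injective h2

theorem mem_ker {U : Subgroup G} (hU : ∀ u ∈ U, ∃ k : K, ∃ a ∈ A, u = k * a)
    (f : GFun K A) (x : G) : x ∈ ker hU f ↔ delta U f x = 1 := Iff.rfl

theorem ker_isComplement' {U : Subgroup G} (hU : ∀ u ∈ U, ∃ k : K, ∃ a ∈ A, u = k * a)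
    (hcop : (Nat.card K).Coprime U.index) (f : GFun K A) :
    Subgroup.IsComplement' K (ker hU f) := by
  apply Subgroup.isComplement'_of_disjoint_and_mul_eq_univ
  · rw [Subgroup.disjoint_def]
    intro x hxK hx
    rw [mem_ker] at hx
    have h1 := delta_K U f ⟨x, hxK⟩
    rw [show ((⟨x, hxK⟩ : K) : G) = x from rfl, hx] at h1
    have h2 : (powCoprime hcop) (⟨x, hxK⟩ : K)⁻¹ = (powCoprime hcop) 1 := by
      rw [powCoprime_apply, powCoprime_apply, one_pow, ← h1]
    have h3 := (powCoprime hcop).injective h2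
    rw [inv_eq_one] at h3
    exact congrArg Subtype.val h3
  · rw [Set.eq_univ_iff_forall]
    intro x
    -- choose k with k ^ index = delta x
    set k : K := (powCoprime hcop).symm (delta U f x) with hk
    have hk' : k ^ U.index = delta U f x := by
      have := (powCoprime hcop).apply_symm_apply (delta U f x)
      rwa [powCoprime_apply] at this
    have h1 : (k : G) * x ∈ ker hU f := by
      rw [mem_ker, delta_mul hU, delta_K, conjNormal_K, inv_pow, hk', inv_mul_cancel]
    refine ⟨(k⁻¹ : K), (k⁻¹ : K).2, (k : G) * x, h1, ?_⟩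
    simp

/-- If `g ~ f'` (i.e. `D g f' = 1`) and `y` fixes `g`, then `y ∈ ker f'`. -/
theorem mem_ker_of_fix {U : Subgroup G} (hU : ∀ u ∈ U, ∃ k : K, ∃ a ∈ A, u = k * a)
    (f' g : GFun K A) (hg : D U g f' = 1) (y : G) (hy : smul y g = g) : y ∈ ker hU f' := by
  rw [mem_ker]
  unfold delta
  have h1 : D U f' g = 1 := by rw [← D_inv, hg, inv_one]
  have h2 : D U (smul y g) (smul y f') = 1 := by rw [D_smul hU, hg, map_one]
  rw [← D_mul_D U f' g (smul y f'), h1, one_mul]
  rw [hy] at h2
  exact h2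

/-- For any two `f g`, some `K`-translate of `f` is equivalent to `g`. -/
theorem exists_smul_equiv {U : Subgroup G} (hcop : (Nat.card K).Coprime U.index)
    (f g : GFun K A) : ∃ k : K, D U (smul (k : G) f) g = 1 := by
  set c : K := D U f g with hc
  set k : K := (powCoprime hcop).symm c⁻¹ with hk
  have hk' : k ^ U.index = c⁻¹ := by
    have := (powCoprime hcop).apply_symm_apply c⁻¹
    rwa [powCoprime_apply] at this
  refine ⟨k, ?_⟩
  rw [← D_mul_D U (smul (k : G) f) f g, ← D_inv U f (smul (k : G) f), D_smul_K, inv_pow, inv_inv, hk',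
    inv_mul_cancel]

end Delta

end GFun

/-! ### The `K`-part of an element with respect to a complement -/

section kpart

variable {K H : Subgroup G}

/-- The `K`-part of `g = k * a` (`k ∈ K`, `a ∈ H`); junk value `1` if `g ∉ K H`. -/
noncomputable def kpart (K H : Subgroup G) (g : G) : K :=
  open Classical in
  if h : ∃ k : K, ∃ a ∈ H, g = k * a then Classical.choose h else 1

theorem kpart_mul (hKH : K ⊓ H = ⊥) (k : K) (a : G) (ha : a ∈ H) : kpart K H (k * a) = k := by
  have h : ∃ k' : K, ∃ a' ∈ H, (k : G) * a = k' * a' := ⟨k, a, ha, rfl⟩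
  unfold kpart
  rw [dif_pos h]
  obtain ⟨a', ha', heq⟩ := Classical.choose_spec h
  set k' := Classical.choose h
  have h1 : (k' : G)⁻¹ * k = a' * a⁻¹ := by
    calc (k' : G)⁻¹ * k = (k' : G)⁻¹ * (k * a) * a⁻¹ := by group
      _ = (k' : G)⁻¹ * (k' * a') * a⁻¹ := by rw [heq]
      _ = a' * a⁻¹ := by group
  have hmem : (k' : G)⁻¹ * k ∈ K ⊓ H :=
    ⟨K.mul_mem (K.inv_mem k'.2) k.2, h1 ▸ H.mul_mem ha' (H.inv_mem ha)⟩
  rw [hKH, Subgroup.mem_bot] at hmem
  apply Subtype.ext
  have : (k : G) = k' * ((k' : G)⁻¹ * k) := by group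
  rw [this, hmem, mul_one]

end kpart

namespace GFun

variable {K A : Subgroup G}

/-- The `GFun` attached to a complement `H` of `K` in `G`: `g = k h ↦ k`. -/
noncomputable def ofCompl {H : Subgroup G} (hKH : K ⊓ H = ⊥)
    (hG : ∀ g : G, ∃ k : K, ∃ a ∈ H, g = k * a) (hAH : A ≤ H) : GFun K A where
  f := kpart K H
  left k g := by
    obtain ⟨k', a, ha, rfl⟩ := hG g
    rw [← mul_assoc, ← Subgroup.coe_mul, kpart_mul hKH _ _ ha, kpart_mul hKH _ _ ha]
  right a ha g := by
    obtain ⟨k', b, hb, rfl⟩ := hG g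
    rw [mul_assoc, kpart_mul hKH _ _ (H.mul_mem hb (hAH ha)), kpart_mul hKH _ _ hb]

theorem ofCompl_f {H : Subgroup G} (hKH : K ⊓ H = ⊥)
    (hG : ∀ g : G, ∃ k : K, ∃ a ∈ H, g = k * a) (hAH : A ≤ H) (k : K) (a : G) (ha : a ∈ H) :
    (ofCompl hKH hG hAH : GFun K A).f (k * a) = k := kpart_mul hKH k a ha

theorem smul_ofCompl [K.Normal] {H : Subgroup G} (hKH : K ⊓ H = ⊥)
    (hG : ∀ g : G, ∃ k : K, ∃ a ∈ H, g = k * a) (hAH : A ≤ H) (h : G) (hh : h ∈ H) :
    smul h (ofCompl hKH hG hAH : GFun K A) = ofCompl hKH hG hAH := by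
  apply ext'
  intro g
  obtain ⟨k, a, ha, rfl⟩ := hG g
  rw [smul_f, ofCompl_f hKH hG hAH k a ha]
  have h1 : h⁻¹ * (↑k * a) = ((MulAut.conjNormal h⁻¹ k : K) : G) * (h⁻¹ * a) := by
    rw [MulAut.conjNormal_apply]; group
  rw [h1, ofCompl_f hKH hG hAH _ _ (H.mul_mem (H.inv_mem hh) ha)]
  apply Subtype.ext
  rw [MulAut.conjNormal_apply, MulAut.conjNormal_apply]; group

/-- The `GFun` attached to a complement `A` of `K` in `U`, extended to `G` via coset representatives of `U`. -/
noncomputable def ofComplU [K.Normal] {U : Subgroup G} (hKU : K ≤ U) (hAU : A ≤ U) (hKA : K ⊓ A = ⊥)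
    (hU : ∀ u ∈ U, ∃ k : K, ∃ a ∈ A, u = k * a) : GFun K A where
  f g := MulAut.conjNormal (QuotientGroup.mk g : G ⧸ U).out
    (kpart K A ((QuotientGroup.mk g : G ⧸ U).out⁻¹ * g))
  left k g := by
    have hq : (QuotientGroup.mk ((k : G) * g) : G ⧸ U) = QuotientGroup.mk g := by
      rw [QuotientGroup.eq]
      have : ((k : G) * g)⁻¹ * g = g⁻¹ * (k : G)⁻¹ * g⁻¹⁻¹ := by group
      rw [this]
      exact hKU (Subgroup.Normal.conj_mem inferInstance _ (K.inv_mem k.2) _)
    rw [hq]
    set t := (QuotientGroup.mk g : G ⧸ U).out with ht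
    have htU : t⁻¹ * g ∈ U := by
      rw [← QuotientGroup.eq, ht, QuotientGroup.out_eq']
    obtain ⟨k', a, ha, hka⟩ := hU _ htU
    have h1 : t⁻¹ * ((k : G) * g) = ((MulAut.conjNormal t⁻¹ k * k' : K) : G) * a := by
      rw [Subgroup.coe_mul, MulAut.conjNormal_apply, mul_assoc, ← hka]; group
    rw [h1, hka, kpart_mul hKA _ _ ha, kpart_mul hKA _ _ ha, map_mul]
    congr 1
    apply Subtype.ext
    rw [MulAut.conjNormal_apply, MulAut.conjNormal_apply]; group
  right a ha g := by
    have hq : (QuotientGroup.mk (g * a) : G ⧸ U) = QuotientGroup.mk g := by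
      rw [QuotientGroup.eq]
      have : (g * a)⁻¹ * g = a⁻¹ := by group
      rw [this]
      exact U.inv_mem (hAU ha)
    rw [hq]
    set t := (QuotientGroup.mk g : G ⧸ U).out with ht
    have htU : t⁻¹ * g ∈ U := by
      rw [← QuotientGroup.eq, ht, QuotientGroup.out_eq']
    obtain ⟨k', b, hb, hkb⟩ := hU _ htU
    rw [← mul_assoc, hkb, mul_assoc, kpart_mul hKA _ _ (A.mul_mem hb ha), kpart_mul hKA _ _ hb]

end GFun

end Cfsg.Agent.Lib.Helper52
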