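import Cfsg.Agent.Lib.Helper52.CohTIMain
import Cfsg.Agent.Lib.Helper77.Linear

/-!
# A relevant character of degree `e` exists when `K` is nilpotent
-/

set_option autoImplicit false
set_option linter.unusedSectionVars false
set_option linter.style.haveILetI false

namespace Cfsg.Agent.Lib.Helper52

open Cfsg Cfsg.Agent.Lib.Helper74 Cfsg.Agent.Lib.Helper78 Cfsg.Agent.Lib.Helper75
open scoped ComplexConjugate

universe u

/-- a nontrivial finite nilpotent group has a nonprincipal linear character -/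
theorem exists_linear_ne_one (X : Type u) [Group X] [Finite X] [Nontrivial X]
    [Group.IsNilpotent X] :
    ∃ θ : IrrCharacter X, (θ : X → ℂ) 1 = 1 ∧ (θ : X → ℂ) ≠ fun _ => 1 := by
  classical
  haveI : Group.IsSolvable X := IsNilpotent.to_isSolvable
  have h1 := Group.IsSolvable.commutator_lt_top_of_nontrivial X
  have h2 := Cfsg.Agent.Lib.Helper77.card_linear_characters (G := X)
  have h3 : (commutator X).index ≠ 1 := by
    intro h
    rw [Subgroup.index_eq_one] at h
    exact h1.ne h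
  have h4 : (commutator X).index ≠ 0 := Subgroup.index_ne_zero_of_finite
  have h5 : 1 < Nat.card {χ : IrrCharacter X // (χ : X → ℂ) 1 = 1} := by
    rw [h2]
    omega
  haveI : Finite {χ : IrrCharacter X // (χ : X → ℂ) 1 = 1} :=
    Nat.finite_of_card_ne_zero (by omega)
  obtain ⟨a, b, hab⟩ := Finite.one_lt_card_iff_nontrivial.mp h5
  by_cases ha : (a.1 : X → ℂ) = fun _ => 1
  · refine ⟨b.1, b.2, ?_⟩
    intro hb
    apply hab
    apply Subtype.ext
    apply Subtype.ext
    rw [ha, hb]
  · exact ⟨a.1, a.2, ha⟩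

section TIFN

variable {G : Type u} [Group G] [Fintype G] {K : Subgroup G}

local notation "NK" => Subgroup.normalizer (K : Set G)

variable [Fintype ↥(Subgroup.normalizer (K : Set G))]

theorem exists_relChar_degree_index
    (hC : ∀ k ∈ K, k ≠ 1 → Subgroup.centralizer ({k} : Set G) ≤ K) (hK : K ≠ ⊥)
    (hnil : Group.IsNilpotent K) :
    ∃ ζ : RelChar K, (ζ.1 : ↥NK → ℂ) 1 = ((K.subgroupOf NK).index : ℂ) := by
  classical
  haveI : Fintype ↥(K.subgroupOf NK) := Fintype.ofFinite _
  haveI : Group.IsNilpotent ↥(K.subgroupOf NK) :=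
    Group.nilpotent_of_mulEquiv (Subgroup.subgroupOfEquivOfLe (Subgroup.le_normalizer (H := K))).symm
  haveI : Nontrivial ↥(K.subgroupOf NK) := by
    haveI : Nontrivial K := (Subgroup.nontrivial_iff_ne_bot K).mpr hK
    exact (Subgroup.subgroupOfEquivOfLe (Subgroup.le_normalizer (H := K))).toEquiv.nontrivial
  obtain ⟨θ, hθ1, hθne⟩ := exists_linear_ne_one ↥(K.subgroupOf NK)
  have hmem := indFun_mem_tifnS hC θ.2 hθne
  refine ⟨⟨⟨indFun (K.subgroupOf NK) (θ : ↥(K.subgroupOf NK) → ℂ), hmem.1⟩, hmem.2⟩, ?_⟩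
  show indFun (K.subgroupOf NK) (θ : ↥(K.subgroupOf NK) → ℂ) 1 = _
  rw [indFun_one, hθ1, mul_one]

end TIFN

end Cfsg.Agent.Lib.Helper52
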