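import Mathlib
import Cfsg.Agent.Lib.Helper1.ThompsonFpf

/-!
# A normal subgroup containing the centralizers of its nonidentity elements is a nilpotent
Hall subgroup with a complement (Frobenius kernel)
-/

set_option autoImplicit false
set_option linter.unusedSectionVars false
set_option linter.style.haveILetI false

namespace Cfsg.Agent.Lib.Helper52

universe u

section Normal

variable {X : Type u} [Group X] [Finite X] (N : Subgroup X) [N.Normal]

/-- the order of `N` is coprime to its index -/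
theorem coprime_card_index_of_centralizer_le
    (hC : ∀ n ∈ N, n ≠ 1 → Subgroup.centralizer ({n} : Set X) ≤ N) :
    Nat.Coprime (Nat.card N) N.index := by
  classical
  rw [Nat.coprime_iff_gcd_eq_one]
  by_contra hne
  obtain ⟨p, hp, hpd⟩ := Nat.exists_prime_and_dvd hne
  haveI : Fact p.Prime := ⟨hp⟩
  have hp1 : p ∣ Nat.card N := hpd.trans (Nat.gcd_dvd_left _ _)
  have hp2 : p ∣ N.index := hpd.trans (Nat.gcd_dvd_right _ _)
  haveI : Fintype N := Fintype.ofFinite _
  rw [Nat.card_eq_fintype_card] at hp1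
  obtain ⟨h, hh⟩ := exists_prime_orderOf_dvd_card p hp1
  have hh1 : (h : X) ≠ 1 := by
    intro h1
    have : h = 1 := Subtype.ext h1
    rw [this, orderOf_one] at hh
    exact hp.one_lt.ne hh
  have hzp : IsPGroup p (Subgroup.zpowers (h : X)) := by
    rw [IsPGroup.iff_card, Nat.card_zpowers, Subgroup.orderOf_coe, hh]
    exact ⟨1, (pow_one p).symm⟩
  obtain ⟨P, hP⟩ := hzp.exists_le_sylow
  have hhP : (h : X) ∈ (P : Subgroup X) := hP (Subgroup.mem_zpowers _)
  haveI : Nontrivial (P : Subgroup X) := ⟨⟨⟨(h : X), hhP⟩, 1, fun h' => hh1 (congrArg Subtype.val h')⟩⟩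
  haveI := P.2.center_nontrivial
  obtain ⟨z, hz⟩ := exists_ne (1 : Subgroup.center (P : Subgroup X))
  have hz1 : ((z : (P : Subgroup X)) : X) ≠ 1 := by
    intro h'
    apply hz
    apply Subtype.ext
    apply Subtype.ext
    exact h'
  have hzc : ∀ y ∈ (P : Subgroup X), y * ((z : (P : Subgroup X)) : X) = ((z : (P : Subgroup X)) : X) * y := by
    intro y hy
    have := Subgroup.mem_center_iff.mp z.2 ⟨y, hy⟩
    exact congrArg Subtype.val this
  have hzN : ((z : (P : Subgroup X)) : X) ∈ N := by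
    apply hC (h : X) h.2 hh1
    rw [Subgroup.mem_centralizer_singleton_iff]
    exact (hzc _ hhP).symm
  have hPN : (P : Subgroup X) ≤ N := by
    intro y hy
    apply hC _ hzN hz1
    rw [Subgroup.mem_centralizer_singleton_iff]
    exact hzc y hy
  have h3 : N.index ∣ (P : Subgroup X).index := Subgroup.index_dvd_of_le hPN
  exact P.not_dvd_index (hp2.trans h3)

/-- `N` has a nontrivial complement on which it is fixed-point-free, and is nilpotent -/
theorem nilpotent_and_complement_of_centralizer_le (hNtop : N ≠ ⊤) (hN1 : N ≠ ⊥)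
    (hC : ∀ n ∈ N, n ≠ 1 → Subgroup.centralizer ({n} : Set X) ≤ N) :
    Group.IsNilpotent N ∧ ∃ W : Subgroup X, N.IsComplement' W ∧ W ≠ ⊥ := by
  classical
  obtain ⟨W, hW⟩ := Subgroup.exists_right_complement'_of_coprime
    (coprime_card_index_of_centralizer_le N hC)
  have hW1 : W ≠ ⊥ := by
    intro h
    apply hNtop
    have := hW.sup_eq_top
    rw [h, sup_bot_eq] at this
    exact this
  refine ⟨?_, W, hW, hW1⟩
  -- an element of prime order in `W`
  have hcard : Nat.card W ≠ 1 := by
    intro h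
    exact hW1 (Subgroup.card_eq_one.mp h)
  obtain ⟨p, hp, hpd⟩ := Nat.exists_prime_and_dvd hcard
  haveI : Fact p.Prime := ⟨hp⟩
  haveI : Fintype W := Fintype.ofFinite _
  rw [Nat.card_eq_fintype_card] at hpd
  obtain ⟨w, hw⟩ := exists_prime_orderOf_dvd_card p hpd
  have hw1 : (w : X) ≠ 1 := by
    intro h1
    have : w = 1 := Subtype.ext h1
    rw [this, orderOf_one] at hw
    exact hp.one_lt.ne hw
  have hwN : (w : X) ∉ N := by
    intro h
    apply hw1
    have : (w : X) ∈ N ⊓ W := ⟨h, w.2⟩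
    rw [hW.disjoint.eq_bot] at this
    exact this
  set φ : MulAut N := MulAut.conjNormal (w : X) with hφ
  have hfpf : MonoidHom.FixedPointFree ((φ : N ≃* N) : N →* N) := by
    intro n hn
    by_contra hn1
    have hn1' : (n : X) ≠ 1 := fun h => hn1 (Subtype.ext h)
    apply hwN
    apply hC (n : X) n.2 hn1'
    rw [Subgroup.mem_centralizer_singleton_iff]
    have := congrArg Subtype.val hn
    simp only [hφ, MonoidHom.coe_coe, MulAut.conjNormal_apply] at this
    have h2 : (w : X) * (n : X) = ((w : X) * (n : X) * (w : X)⁻¹) * (w : X) := by group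
    rw [h2, this]
  have hord : orderOf φ = p := by
    have h1 : orderOf φ ∣ p := by
      have := orderOf_map_dvd (MulAut.conjNormal (H := N)) (w : X)
      rw [Subgroup.orderOf_coe, hw] at this
      exact this
    rcases (Nat.dvd_prime hp).mp h1 with h | h
    · exfalso
      rw [orderOf_eq_one_iff] at h
      obtain ⟨n, hn, hn1⟩ : ∃ n ∈ N, n ≠ 1 := by
        by_contra hcon
        push Not at hcon
        exact hN1 ((Subgroup.eq_bot_iff_forall N).mpr hcon)
      have := hfpf ⟨n, hn⟩ (by rw [h]; rfl)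
      exact hn1 (congrArg Subtype.val this)
    · exact h
  exact Cfsg.Agent.Lib.Helper1.thompson_fpf_nilpotent φ hfpf p hp hord

end Normal

section Sub

variable {G : Type u} [Group G] [Finite G]

/-- the subgroup form: `H` normal in `L`, containing the `L`-centralizers of its nonidentity
elements -/
theorem frobenius_kernel_setup (H L : Subgroup G) (hHL : H < L) (hH1 : H ≠ ⊥)
    (hHn : ∀ x ∈ L, ∀ h ∈ H, x * h * x⁻¹ ∈ H)
    (hfrob : ∀ h ∈ H, h ≠ 1 → L ⊓ Subgroup.centralizer ({h} : Set G) ≤ H) :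
    Group.IsNilpotent H ∧ ∃ W : Subgroup G, W ≤ L ∧ W ≠ ⊥ ∧ H ⊓ W = ⊥ ∧ H ⊔ W = L ∧
      ∀ w ∈ W, w ≠ 1 → ∀ h ∈ H, w * h = h * w → h = 1 := by
  classical
  haveI : (H.subgroupOf L).Normal := by
    refine ⟨fun n hn x => ?_⟩
    rw [Subgroup.mem_subgroupOf] at hn ⊢
    exact hHn x x.2 n hn
  have hC : ∀ n ∈ H.subgroupOf L, n ≠ 1 →
      Subgroup.centralizer ({n} : Set L) ≤ H.subgroupOf L := by
    intro n hn hn1 x hx
    rw [Subgroup.mem_subgroupOf] at hn ⊢
    apply hfrob (n : G) hn (fun h => hn1 (Subtype.ext h))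
    refine Subgroup.mem_inf.mpr ⟨x.2, ?_⟩
    rw [Subgroup.mem_centralizer_singleton_iff] at hx ⊢
    exact congrArg Subtype.val hx
  have htop : H.subgroupOf L ≠ ⊤ := by
    intro h
    rw [Subgroup.subgroupOf_eq_top] at h
    exact lt_irrefl _ (lt_of_lt_of_le hHL h)
  have hbot : H.subgroupOf L ≠ ⊥ := by
    intro h
    rw [Subgroup.subgroupOf_eq_bot] at h
    apply hH1
    rw [← inf_eq_left.mpr hHL.le]
    exact disjoint_iff.mp h
  obtain ⟨hnil, W', hW', hW'1⟩ := nilpotent_and_complement_of_centralizer_le (H.subgroupOf L)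
    htop hbot hC
  refine ⟨?_, W'.map L.subtype, ?_, ?_, ?_, ?_, ?_⟩
  · haveI := hnil
    exact Group.nilpotent_of_mulEquiv (Subgroup.subgroupOfEquivOfLe hHL.le)
  · exact Subgroup.map_subtype_le W'
  · intro h
    apply hW'1
    rw [Subgroup.map_eq_bot_iff_of_injective _ (Subgroup.subtype_injective L)] at h
    exact h
  · rw [Subgroup.eq_bot_iff_forall]
    intro x hx'
    obtain ⟨hx, hxW⟩ := Subgroup.mem_inf.mp hx'
    rw [Subgroup.mem_map] at hxW
    obtain ⟨w, hw, rfl⟩ := hxW
    have : w ∈ H.subgroupOf L ⊓ W' := ⟨Subgroup.mem_subgroupOf.mpr hx, hw⟩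
    rw [hW'.disjoint.eq_bot, Subgroup.mem_bot] at this
    rw [this]
    rfl
  · have h1 := congrArg (Subgroup.map L.subtype) hW'.sup_eq_top
    rw [Subgroup.map_sup, ← MonoidHom.range_eq_map, Subgroup.range_subtype,
      Subgroup.subgroupOf_map_subtype, inf_eq_left.mpr hHL.le] at h1
    exact h1
  · intro w hw hw1 h hh hcomm
    by_contra hh1
    rw [Subgroup.mem_map] at hw
    obtain ⟨w', hw', rfl⟩ := hw
    apply hw1
    have hwH : (L.subtype w' : G) ∈ H := by
      apply hfrob h hh hh1
      refine Subgroup.mem_inf.mpr ⟨w'.2, ?_⟩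
      rw [Subgroup.mem_centralizer_singleton_iff]
      exact hcomm
    have : w' ∈ H.subgroupOf L ⊓ W' := ⟨Subgroup.mem_subgroupOf.mpr hwH, hw'⟩
    rw [hW'.disjoint.eq_bot, Subgroup.mem_bot] at this
    rw [this]
    rfl

end Sub

end Cfsg.Agent.Lib.Helper52
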