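import Cfsg.Agent.Lib.Helper52.FreeConj
import Cfsg.Agent.Lib.Helper3.Integrality
import Cfsg.Agent.Lib.Helper75.Clifford
import Cfsg.Agent.Lib.Helper78.CharMore
import Cfsg.Agent.Lib.Helper79.Schur
import Cfsg.Agent.S0840

/-!
# Peterfalvi (6.6): an irreducible character constant on `Z#`, `Z ≤ Z(P)` normal in `N(P)`, `P` a
T.I. Sylow subgroup with normalizer of odd order, takes there an integer value congruent to its
degree modulo `|P|`
-/

set_option autoImplicit false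
set_option linter.unusedSectionVars false
set_option linter.style.haveILetI false

namespace Cfsg.Agent.Lib.Helper52

open Cfsg Cfsg.Agent.Lib.Helper78 Cfsg.Agent.Lib.Helper75 Cfsg.Agent.Lib.Helper79
open scoped ComplexConjugate Pointwise

universe u

section

variable {G : Type u} [Group G]

theorem conj_pow_eq_of_conj_eq_inv {l z : G} (h : l * z * l⁻¹ = z⁻¹) (n : ℕ) :
    l ^ n * z * (l ^ n)⁻¹ = if Even n then z else z⁻¹ := by
  induction n with
  | zero => simp
  | succ n ih =>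
    have e : l ^ (n + 1) * z * (l ^ (n + 1))⁻¹ = l * (l ^ n * z * (l ^ n)⁻¹) * l⁻¹ := by
      rw [pow_succ']
      group
    rw [e, ih]
    by_cases hn : Even n
    · rw [if_pos hn, if_neg (by rw [Nat.even_add_one]; exact fun h' => h' hn), h]
    · rw [if_neg hn, if_pos (by rw [Nat.even_add_one]; exact hn)]
      have : l * z⁻¹ * l⁻¹ = (l * z * l⁻¹)⁻¹ := by group
      rw [this, h, inv_inv]

/-- in a group of odd order no nonidentity element is conjugate to its inverse -/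
theorem eq_one_of_conj_eq_inv_of_odd {l z : G} (hl : Odd (orderOf l)) (hz : Odd (orderOf z))
    (h : l * z * l⁻¹ = z⁻¹) : z = 1 := by
  have h1 := conj_pow_eq_of_conj_eq_inv h (orderOf l)
  rw [pow_orderOf_eq_one, if_neg (Nat.not_even_iff_odd.mpr hl)] at h1
  simp only [one_mul, inv_one, mul_one] at h1
  have h2 : z ^ 2 = 1 := by
    rw [sq]
    nth_rewrite 1 [h1]
    exact inv_mul_cancel z
  have h3 : orderOf z ∣ 2 := orderOf_dvd_of_pow_eq_one h2
  have h4 : orderOf z = 1 := by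
    rcases (Nat.dvd_prime Nat.prime_two).mp h3 with h' | h'
    · exact h'
    · rw [h'] at hz
      exact absurd hz (by decide)
  exact orderOf_eq_one_iff.mp h4

theorem ti_sylow_const_congr {G : Type u} [Group G] [Finite G] (p : ℕ) [Fact p.Prime]
    (P : Sylow p G)
    (hTI : ∀ g : G, g ∉ Subgroup.normalizer ((P : Subgroup G) : Set G) →
      ∀ x ∈ (P : Subgroup G), g * x * g⁻¹ ∈ (P : Subgroup G) → x = 1)
    (hodd : Odd (Nat.card (Subgroup.normalizer ((P : Subgroup G) : Set G))))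
    (Z : Subgroup G) (hZ1 : Z ≠ ⊥) (hZP : Z ≤ P)
    (hZn : ∀ x ∈ Subgroup.normalizer ((P : Subgroup G) : Set G), ∀ z ∈ Z, x * z * x⁻¹ ∈ Z)
    (hZc : ∀ z ∈ Z, ∀ y ∈ (P : Subgroup G), z * y = y * z)
    (ψ : G → ℂ) (hψ : Cfsg.IsIrrCharacter G ψ)
    (hconst : ∀ z ∈ Z, ∀ z' ∈ Z, z ≠ 1 → z' ≠ 1 → ψ z = ψ z') (z : G) (hz : z ∈ Z)
    (hz1 : z ≠ 1) :
    ∃ n d : ℤ, ψ z = n ∧ ψ 1 = d ∧ (Nat.card (P : Subgroup G) : ℤ) ∣ d - n := by
  classical
  haveI : Fintype G := Fintype.ofFinite G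
  set L := Subgroup.normalizer ((P : Subgroup G) : Set G) with hL
  have hPL : (P : Subgroup G) ≤ L := Subgroup.le_normalizer
  set χ : IrrCharacter G := ⟨ψ, hψ⟩ with hχ
  obtain ⟨dn, hdn0, hdn⟩ := irr_apply_one_eq_natCast χ
  have hd : ψ 1 = (dn : ℂ) := hdn
  have hclass : ∀ g h : G, ψ (h * g * h⁻¹) = ψ g := isClassFunction_irr χ
  set a : ℂ := ψ z with ha
  have hconst' : ∀ z' ∈ Z, z' ≠ 1 → ψ z' = a := fun z' hz' hz'1 => hconst z' hz' z hz hz'1 hz1
  have haint : IsIntegral ℤ a := isIntegral_irr χ z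
  -- oddness
  have hoddL : ∀ l ∈ L, Odd (orderOf l) := fun l hl =>
    Odd.of_dvd_nat hodd (Subgroup.orderOf_dvd_natCard L hl)
  -- Step 0: `a` is an integer
  haveI : Fintype ↥Z := Fintype.ofFinite _
  obtain ⟨k, hk⟩ := IsCharacter.exists_nat_classInner
    (isCharacter_res Z (IsIrrCharacter.isCharacter hψ))
    (⟨fun _ => 1, isIrrCharacter_one⟩ : IrrCharacter ↥Z)
  have hsumZ : ∑ z' : ↥Z, ψ z' = (dn : ℂ) + ((Nat.card Z : ℂ) - 1) * a := by
    have h3 : ∀ z' : ↥Z, ψ z' = a + (if z' = 1 then (dn : ℂ) - a else 0) := by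
      intro z'
      by_cases h : z' = 1
      · rw [if_pos h, h, Subgroup.coe_one, hd]
        ring
      · rw [if_neg h, add_zero]
        exact hconst' z' z'.2 (fun h' => h (Subtype.ext h'))
    rw [Finset.sum_congr rfl (fun z' _ => h3 z'), Finset.sum_add_distrib, Finset.sum_const,
      Finset.sum_ite_eq' Finset.univ (1 : ↥Z), if_pos (Finset.mem_univ _), Finset.card_univ,
      Nat.card_eq_fintype_card]
    simp only [nsmul_eq_mul]
    ring
  have hZcard : 2 ≤ Nat.card Z := by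
    have : 1 < Nat.card Z := by
      rw [Subgroup.one_lt_card_iff_ne_bot]
      exact hZ1
    omega
  have hk' : (dn : ℂ) + ((Nat.card Z : ℂ) - 1) * a = (Nat.card Z : ℂ) * k := by
    rw [← hsumZ]
    unfold classInner at hk
    simp only [map_one, mul_one] at hk
    have hne : (Nat.card Z : ℂ) ≠ 0 := by
      have : Nat.card Z ≠ 0 := by omega
      exact_mod_cast this
    rw [← hk]
    field_simp
  obtain ⟨n, han⟩ : ∃ n : ℤ, a = (n : ℂ) := by
    have hne : ((Nat.card Z : ℚ) - 1) ≠ 0 := by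
      have : (2 : ℚ) ≤ (Nat.card Z : ℚ) := by exact_mod_cast hZcard
      linarith
    have hneC : ((Nat.card Z : ℂ) - 1) ≠ 0 := by
      have := hne
      intro h'
      apply this
      have h2 : (((Nat.card Z : ℚ) - 1 : ℚ) : ℂ) = 0 := by push_cast; exact h'
      exact_mod_cast h2
    have hq : a = ((((Nat.card Z : ℚ) * k - dn) / ((Nat.card Z : ℚ) - 1) : ℚ) : ℂ) := by
      push_cast
      rw [eq_div_iff hneC]
      linear_combination hk'
    rw [hq] at haint
    obtain ⟨n, hn⟩ := Cfsg.Agent.Lib.Helper3.exists_int_of_isIntegral_ratCast _ haint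
    refine ⟨n, ?_⟩
    rw [hq, ← hn]
    push_cast
    rfl
  -- Step 1: the two class sums
  set s : Finset G := Finset.univ.filter (fun x : G => IsConj z x) with hs
  have hcardC : (Nat.card (Subgroup.centralizer ({z} : Set G)) : ℂ) ≠ 0 := by
    have : Nat.card (Subgroup.centralizer ({z} : Set G)) ≠ 0 := Nat.card_pos.ne'
    exact_mod_cast this
  have hzinv : ψ z⁻¹ = a := hconst' z⁻¹ (Z.inv_mem hz) (by simpa using hz1)
  have hT1 : (Nat.card (Subgroup.centralizer ({z} : Set G)) : ℂ) * ∑ x ∈ s, ψ (x * z) =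
      (Nat.card G : ℂ) * a * a / dn := by
    rw [← Cfsg.Agent.S0840.sum_conj_eq z (fun x => ψ (x * z))]
    have := irr_sum_conj_mul χ z z
    rw [← hd]
    exact this
  have hT2 : (Nat.card (Subgroup.centralizer ({z} : Set G)) : ℂ) * ∑ x ∈ s, ψ (x⁻¹ * z) =
      (Nat.card G : ℂ) * a * a / dn := by
    rw [← Cfsg.Agent.S0840.sum_conj_eq z (fun x => ψ (x⁻¹ * z))]
    have := irr_sum_conj_mul χ z⁻¹ z
    have e : (Nat.card G : ℂ) * a * a / dn =
        (Nat.card G : ℂ) * (χ : G → ℂ) z⁻¹ * (χ : G → ℂ) z / (χ : G → ℂ) 1 := by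
      show (Nat.card G : ℂ) * a * a / dn = (Nat.card G : ℂ) * ψ z⁻¹ * ψ z / ψ 1
      rw [hzinv, hd]
    rw [e, ← this]
    apply Finset.sum_congr rfl
    intro u _
    congr 2
    group
  have hTeq : ∑ x ∈ s, ψ (x * z) = ∑ x ∈ s, ψ (x⁻¹ * z) :=
    mul_left_cancel₀ hcardC (hT1.trans hT2.symm)
  -- TI facts
  have hTI1 : ∀ x ∈ s, x ∈ (P : Subgroup G) → ∃ l ∈ L, l * z * l⁻¹ = x := by
    intro x hx hxP
    rw [hs, Finset.mem_filter] at hx
    obtain ⟨w, hw⟩ := isConj_iff.mp hx.2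
    refine ⟨w, ?_, hw⟩
    by_contra hwL
    exact hz1 (hTI w hwL z (hZP hz) (by rw [hw]; exact hxP))
  have hsZ : ∀ x ∈ s, x ∈ (P : Subgroup G) → x ∈ Z := by
    intro x hx hxP
    obtain ⟨l, hl, rfl⟩ := hTI1 x hx hxP
    exact hZn l hl z hz
  have hzs : z ∈ s := by
    rw [hs, Finset.mem_filter]
    exact ⟨Finset.mem_univ _, IsConj.refl z⟩
  have hzP : z ∈ (P : Subgroup G) := hZP hz
  -- the free part
  set sN : Finset G := s.filter (fun x => x ∉ (P : Subgroup G)) with hsN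
  set sP : Finset G := s.filter (fun x => x ∈ (P : Subgroup G)) with hsP
  have hcomm : ∀ g ∈ (P : Subgroup G), g * z * g⁻¹ = z := by
    intro g hg
    rw [← hZc z hz g hg]
    group
  have hsNstab : ∀ g ∈ (P : Subgroup G), ∀ x ∈ sN, g * x * g⁻¹ ∈ sN := by
    intro g hg x hx
    rw [hsN, Finset.mem_filter, hs, Finset.mem_filter] at hx ⊢
    refine ⟨⟨Finset.mem_univ _, ?_⟩, ?_⟩
    · exact hx.1.2.trans (isConj_iff.mpr ⟨g, rfl⟩)
    · intro h'
      apply hx.2
      have := (P : Subgroup G).mul_mem ((P : Subgroup G).mul_mem ((P : Subgroup G).inv_mem hg) h') hg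
      have e : g⁻¹ * (g * x * g⁻¹) * g = x := by group
      rwa [e] at this
  have hsNfree : ∀ g ∈ (P : Subgroup G), ∀ x ∈ sN, g * x * g⁻¹ = x → g = 1 := by
    intro g hg x hx hgx
    rw [hsN, Finset.mem_filter, hs, Finset.mem_filter] at hx
    obtain ⟨w, hw⟩ := isConj_iff.mp hx.1.2
    have hwL : w ∉ L := by
      intro hwL
      apply hx.2
      rw [← hw]
      exact hZP (hZn w hwL z hz)
    set g' : G := w⁻¹ * g * w with hg'
    have hg'z : g' * z * g'⁻¹ = z := by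
      have e : g' * z * g'⁻¹ = w⁻¹ * (g * (w * z * w⁻¹) * g⁻¹) * w := by
        rw [hg']; group
      rw [e, hw, hgx, ← hw]
      group
    have hg'L : g' ∈ L := by
      by_contra hcon
      exact hz1 (hTI g' hcon z hzP (by rw [hg'z]; exact hzP))
    have hQ : IsPGroup p ((P : Subgroup G).map (MulAut.conj w⁻¹).toMonoidHom) :=
      P.isPGroup'.map _
    have hg'Q : g' ∈ (P : Subgroup G).map (MulAut.conj w⁻¹).toMonoidHom := by
      refine ⟨g, hg, ?_⟩
      simp [hg']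
    have hg'P : g' ∈ (P : Subgroup G) := by
      have h1 := hQ.inf_normalizer_sylow P
      have h2 : g' ∈ (P : Subgroup G).map (MulAut.conj w⁻¹).toMonoidHom ⊓ (P : Subgroup G) := by
        rw [← h1]
        exact ⟨hg'Q, hg'L⟩
      exact h2.2
    have h1 : g' = 1 := by
      apply hTI w hwL g' hg'P
      have e : w * g' * w⁻¹ = g := by rw [hg']; group
      rw [e]
      exact hg
    have e : g = w * g' * w⁻¹ := by rw [hg']; group
    rw [e, h1]
    group
  obtain ⟨β₁, hβ₁, hsum₁⟩ := sum_eq_card_mul_of_free_conj (P : Subgroup G) sN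
    (fun x => ψ (x * z)) hsNstab hsNfree
    (by
      intro g hg x _
      have e : g * x * g⁻¹ * z = g * (x * z) * g⁻¹ := by
        nth_rewrite 1 [← hcomm g hg]
        group
      show ψ (g * x * g⁻¹ * z) = ψ (x * z)
      rw [e, hclass])
    (fun x _ => isIntegral_irr χ _)
  obtain ⟨β₂, hβ₂, hsum₂⟩ := sum_eq_card_mul_of_free_conj (P : Subgroup G) sN
    (fun x => ψ (x⁻¹ * z)) hsNstab hsNfree
    (by
      intro g hg x _
      have e : (g * x * g⁻¹)⁻¹ * z = g * (x⁻¹ * z) * g⁻¹ := by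
        nth_rewrite 1 [← hcomm g hg]
        group
      show ψ ((g * x * g⁻¹)⁻¹ * z) = ψ (x⁻¹ * z)
      rw [e, hclass])
    (fun x _ => isIntegral_irr χ _)
  -- the part inside `P`
  have hP1 : ∑ x ∈ sP, ψ (x * z) = (sP.card : ℂ) * a := by
    rw [Finset.sum_congr rfl (g := fun _ => a), Finset.sum_const, nsmul_eq_mul]
    intro x hx
    rw [hsP, Finset.mem_filter] at hx
    have hxZ := hsZ x hx.1 hx.2
    apply hconst' _ (Z.mul_mem hxZ hz)
    intro hxz
    obtain ⟨l, hl, hlx⟩ := hTI1 x hx.1 hx.2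
    have : l * z * l⁻¹ = z⁻¹ := by
      rw [hlx]
      exact eq_inv_of_mul_eq_one_left hxz
    exact hz1 (eq_one_of_conj_eq_inv_of_odd (hoddL l hl) (hoddL z (hPL hzP)) this)
  have hzsP : z ∈ sP := by
    rw [hsP, Finset.mem_filter]
    exact ⟨hzs, hzP⟩
  have hP2 : ∑ x ∈ sP, ψ (x⁻¹ * z) = (sP.card : ℂ) * a + ((dn : ℂ) - a) := by
    have h3 : ∀ x ∈ sP, ψ (x⁻¹ * z) = a + (if x = z then (dn : ℂ) - a else 0) := by
      intro x hx
      by_cases h : x = z
      · rw [if_pos h, h, inv_mul_cancel, hd]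
        ring
      · rw [if_neg h, add_zero]
        rw [hsP, Finset.mem_filter] at hx
        have hxZ := hsZ x hx.1 hx.2
        apply hconst' _ (Z.mul_mem (Z.inv_mem hxZ) hz)
        intro hxz
        apply h
        have := eq_inv_of_mul_eq_one_left hxz
        rw [inv_inj] at this
        exact this
    rw [Finset.sum_congr rfl h3, Finset.sum_add_distrib, Finset.sum_const,
      Finset.sum_ite_eq' sP z, if_pos hzsP, nsmul_eq_mul]
  -- combine
  have hsplit₁ : ∑ x ∈ s, ψ (x * z) = ∑ x ∈ sP, ψ (x * z) + ∑ x ∈ sN, ψ (x * z) :=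
    (Finset.sum_filter_add_sum_filter_not s (fun x => x ∈ (P : Subgroup G)) _).symm
  have hsplit₂ : ∑ x ∈ s, ψ (x⁻¹ * z) = ∑ x ∈ sP, ψ (x⁻¹ * z) + ∑ x ∈ sN, ψ (x⁻¹ * z) :=
    (Finset.sum_filter_add_sum_filter_not s (fun x => x ∈ (P : Subgroup G)) _).symm
  rw [hsplit₁, hsplit₂, hP1, hP2, hsum₁, hsum₂] at hTeq
  have hfin : (dn : ℂ) - a = (Nat.card (P : Subgroup G) : ℂ) * (β₁ - β₂) := by
    linear_combination (-1 : ℂ) * hTeq
  have hPne : (Nat.card (P : Subgroup G) : ℂ) ≠ 0 := by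
    have : Nat.card (P : Subgroup G) ≠ 0 := Nat.card_pos.ne'
    exact_mod_cast this
  have hβ : IsIntegral ℤ (β₁ - β₂) := hβ₁.sub hβ₂
  have hq : β₁ - β₂ = (((((dn : ℤ) - n : ℤ) : ℚ) / (Nat.card (P : Subgroup G) : ℚ) : ℚ) : ℂ) := by
    push_cast
    rw [eq_div_iff hPne, ← han]
    linear_combination -hfin
  rw [hq] at hβ
  obtain ⟨m, hm⟩ := Cfsg.Agent.Lib.Helper3.exists_int_of_isIntegral_ratCast _ hβ
  refine ⟨n, (dn : ℤ), han, by rw [hd]; simp, ⟨m, ?_⟩⟩
  have hPneQ : (Nat.card (P : Subgroup G) : ℚ) ≠ 0 := by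
    have : Nat.card (P : Subgroup G) ≠ 0 := Nat.card_pos.ne'
    exact_mod_cast this
  have h5 : (((dn : ℤ) - n : ℤ) : ℚ) = (Nat.card (P : Subgroup G) : ℚ) * m := by
    rw [hm]
    field_simp
  exact_mod_cast h5

end

end Cfsg.Agent.Lib.Helper52
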