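/-
helper52: Peterfalvi sec.14, carrier lemma [XI], part 1: induction from a subgroup `L ≤ G` of
class functions supported on a subset `D ⊆ L` which is "TI with normaliser `L`"
(`g⁻¹ x g ∈ D` for some `x ∈ D` forces `g ∈ L`): value on `D`, isometry, support, orthogonality
for disjoint supports.  No normaliser bookkeeping: `L` is an arbitrary subgroup.
-/
import Mathlib
import Cfsg.Agent.Lib.Helper75.Clifford
import Cfsg.Agent.Lib.Helper75.IndNormal

set_option autoImplicit false
set_option linter.unusedSectionVars false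

namespace Cfsg.Agent.Lib.Helper52.PF14Xi

open Cfsg
open scoped ComplexConjugate

universe u

section Ind

variable {G : Type u} [Group G] [Fintype G] (L : Subgroup G) [Fintype L]

/-- **support**: if `α` vanishes off `D` then `Ind α` vanishes at every `g` no conjugate of
which lies in `D`. -/
theorem indFun_eq_zero_of_support (D : Set L) (α : L → ℂ) (hα : ∀ x : L, x ∉ D → α x = 0)
    (g : G) (hg : ∀ x : G, ∀ k : L, k ∈ D → x⁻¹ * g * x ≠ (k : G)) : indFun L α g = 0 := by
  unfold indFun
  rw [Finset.sum_eq_zero, mul_zero]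
  intro x _
  by_cases hmem : x⁻¹ * g * x ∈ L
  · rw [Cfsg.Agent.Lib.Helper75.extendByZero_of_mem L α hmem]
    apply hα
    intro hD
    exact hg x ⟨x⁻¹ * g * x, hmem⟩ hD rfl
  · exact Cfsg.Agent.Lib.Helper75.extendByZero_of_not_mem L α hmem

/-- **TI value**: on `D` the induced function agrees with the function. -/
theorem indFun_apply_of_TI (D : Set L)
    (hTI : ∀ g : G, ∀ x : L, x ∈ D → ∀ y : L, y ∈ D → g⁻¹ * (x : G) * g = (y : G) → g ∈ L)
    (α : L → ℂ) (hαcf : IsClassFunction L α) (hα : ∀ x : L, x ∉ D → α x = 0)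
    (x : L) (hx : x ∈ D) : indFun L α (x : G) = α x := by
  classical
  unfold indFun
  have key : ∀ g : G, extendByZero L α (g⁻¹ * (x : G) * g) = if g ∈ L then α x else 0 := by
    intro g
    by_cases hg : g ∈ L
    · rw [if_pos hg]
      have hmem : g⁻¹ * (x : G) * g ∈ L := L.mul_mem (L.mul_mem (L.inv_mem hg) x.2) hg
      rw [Cfsg.Agent.Lib.Helper75.extendByZero_of_mem L α hmem]
      have h1 := hαcf x (⟨g, hg⟩⁻¹ : L)
      rw [← h1]
      congr 1
      apply Subtype.ext
      simp
    · rw [if_neg hg]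
      by_cases hmem : g⁻¹ * (x : G) * g ∈ L
      · rw [Cfsg.Agent.Lib.Helper75.extendByZero_of_mem L α hmem]
        apply hα
        intro hD
        exact hg (hTI g x hx ⟨g⁻¹ * (x : G) * g, hmem⟩ hD rfl)
      · exact Cfsg.Agent.Lib.Helper75.extendByZero_of_not_mem L α hmem
  simp only [key]
  rw [Finset.sum_ite, Finset.sum_const_zero, add_zero, Finset.sum_const, nsmul_eq_mul]
  have hc : (Finset.univ.filter (· ∈ L)).card = Nat.card L :=
    (Nat.subtype_card _ (by simp)).symm
  rw [hc]
  have hL : (Nat.card L : ℂ) ≠ 0 := by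
    have : Nat.card L ≠ 0 := Nat.card_pos.ne'
    exact_mod_cast this
  field_simp

/-- **TI isometry**. -/
theorem classInner_indFun_indFun_of_TI (D : Set L)
    (hTI : ∀ g : G, ∀ x : L, x ∈ D → ∀ y : L, y ∈ D → g⁻¹ * (x : G) * g = (y : G) → g ∈ L)
    {α β : L → ℂ} (hα : ∀ x : L, x ∉ D → α x = 0)
    (hβcf : IsClassFunction L β) (hβ : ∀ x : L, x ∉ D → β x = 0) :
    classInner (indFun L α) (indFun L β) = classInner α β := by
  rw [Cfsg.Agent.Lib.Helper75.frobenius_reciprocity L α
    (Cfsg.Agent.Lib.Helper75.isClassFunction_indFun L β)]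
  unfold classInner
  congr 1
  apply Finset.sum_congr rfl
  intro x _
  by_cases hx : x ∈ D
  · show α x * conj (indFun L β (x : G)) = _
    rw [indFun_apply_of_TI L D hTI β hβcf hβ x hx]
  · rw [hα x hx, zero_mul, zero_mul]

/-- **disjoint supports**: `Ind α` is orthogonal to every class function vanishing on `D`. -/
theorem classInner_indFun_eq_zero_of_vanish (D : Set L) (α : L → ℂ)
    (hα : ∀ x : L, x ∉ D → α x = 0) (Y : G → ℂ) (hY : IsClassFunction G Y)
    (hYD : ∀ x : L, x ∈ D → Y (x : G) = 0) : classInner (indFun L α) Y = 0 := by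
  rw [Cfsg.Agent.Lib.Helper75.frobenius_reciprocity L α hY]
  unfold classInner
  rw [Finset.sum_eq_zero, mul_zero]
  intro x _
  by_cases hx : x ∈ D
  · show α x * conj (Y (x : G)) = 0
    rw [hYD x hx, map_zero, mul_zero]
  · rw [hα x hx, zero_mul]

end Ind

end Cfsg.Agent.Lib.Helper52.PF14Xi
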