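/-
helper52: Peterfalvi sec.14, carrier lemma [XI], part 2: the set `inducedIrrAbove K Q₀`
(`K, Q₀` normal in `L`, `Q₀ ≤ K`): basic facts on its members and on `ρ = Ind_K^L 1`.
-/
import Mathlib
import Cfsg.Agent.Lib.Helper52.PF14XiInd
import Cfsg.Agent.Lib.Helper51.PF14ALA
import Cfsg.Agent.Lib.Helper51.PFCycIndGen
import Cfsg.Agent.Lib.Helper74.PFTwelveB
import Cfsg.Agent.S0148

set_option autoImplicit false
set_option linter.unusedSectionVars false

namespace Cfsg.Agent.Lib.Helper52.PF14Xi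

open Cfsg
open scoped ComplexConjugate

universe u

section Mem

variable {L : Type u} [Group L] [Fintype L] (K Q₀ : Subgroup L) [hKn : K.Normal] [hQn : Q₀.Normal]

/-- `ρ = Ind_K^L 1`, the regular character of `L/K` -/
noncomputable def rho : L → ℂ := indFun K (fun _ : K => (1 : ℂ))

theorem rho_apply_mem {x : L} (hx : x ∈ K) : rho K x = (K.index : ℂ) := by
  unfold rho
  rw [Cfsg.Agent.Lib.Helper74.PF12.indFun_one_apply_mem K x hx, Cfsg.Agent.Lib.Helper75.indFun_one,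
    mul_one]

theorem rho_apply_not_mem {x : L} (hx : x ∉ K) : rho K x = 0 :=
  Cfsg.Agent.Lib.Helper51.PFCyc.indFun_vanish_off_normal K _ hx

theorem rho_isCharacter : IsCharacter L (rho K) := by
  have : Fintype K := Fintype.ofFinite K
  exact Cfsg.Agent.S0148.result K _
    (Cfsg.Agent.Lib.Helper26.IrrFacts.irr_isCharacter Cfsg.Agent.Lib.Helper78.isIrrCharacter_one)

theorem conjFun_rho : conjFun (rho K) = rho K := by
  unfold rho
  rw [Cfsg.Agent.Lib.Helper74.conjFun_indFun]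
  congr 1
  funext x
  simp [conjFun]

theorem classInner_rho_one : classInner (rho K) (fun _ : L => (1 : ℂ)) = 1 := by
  have : Fintype K := Fintype.ofFinite K
  unfold rho
  rw [Cfsg.Agent.Lib.Helper75.frobenius_reciprocity K _
    (Cfsg.Agent.Lib.Helper78.IsCharacter.isClassFunction
      (Cfsg.Agent.Lib.Helper26.IrrFacts.irr_isCharacter
        Cfsg.Agent.Lib.Helper78.isIrrCharacter_one))]
  exact Cfsg.Agent.Lib.Helper78.classInner_irr_self Cfsg.Agent.Lib.Helper78.isIrrCharacter_one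

theorem classInner_rho_rho : classInner (rho K) (rho K) = (K.index : ℂ) := by
  have : Fintype K := Fintype.ofFinite K
  have hcf : IsClassFunction L (rho K) :=
    Cfsg.Agent.Lib.Helper78.IsCharacter.isClassFunction (rho_isCharacter K)
  have e1 : classInner (rho K) (rho K) = classInner (indFun K (fun _ : K => (1 : ℂ))) (rho K) :=
    rfl
  rw [e1, Cfsg.Agent.Lib.Helper75.frobenius_reciprocity K _ hcf]
  unfold classInner
  have h1 : ∀ k : K, (1 : ℂ) * conj (rho K (k : L)) = (K.index : ℂ) := by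
    intro k
    rw [rho_apply_mem K k.2, one_mul, Complex.conj_natCast]
  rw [Finset.sum_congr rfl (fun k _ => h1 k), Finset.sum_const, Finset.card_univ, nsmul_eq_mul,
    ← Nat.card_eq_fintype_card]
  have hK : (Nat.card K : ℂ) ≠ 0 := by
    have : Nat.card K ≠ 0 := Nat.card_pos.ne'
    exact_mod_cast this
  field_simp

/-- the support `K ∖ Q₀` -/
def supp : Set L := {k | k ∈ K ∧ k ∉ Q₀}

theorem mem_supp {x : L} : x ∈ supp K Q₀ ↔ x ∈ K ∧ x ∉ Q₀ := Iff.rfl

theorem one_not_mem_supp : (1 : L) ∉ supp K Q₀ := fun h => h.2 Q₀.one_mem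

/-- structure of a member -/
theorem mem_iff {ψ : L → ℂ} : ψ ∈ inducedIrrAbove K Q₀ ↔
    ∃ θ : K → ℂ, IsIrrCharacter K θ ∧ θ ≠ (fun _ => 1) ∧
      (∀ a : K, (a : L) ∈ Q₀ → θ a = θ 1) ∧ ψ = indFun K θ := Iff.rfl

theorem mem_isCharacter {ψ : L → ℂ} (hψ : ψ ∈ inducedIrrAbove K Q₀) : IsCharacter L ψ := by
  have : Fintype K := Fintype.ofFinite K
  obtain ⟨θ, hθ, -, -, rfl⟩ := hψ
  exact Cfsg.Agent.S0148.result K θ (Cfsg.Agent.Lib.Helper26.IrrFacts.irr_isCharacter hθ)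

theorem mem_isClassFunction {ψ : L → ℂ} (hψ : ψ ∈ inducedIrrAbove K Q₀) : IsClassFunction L ψ :=
  Cfsg.Agent.Lib.Helper78.IsCharacter.isClassFunction (mem_isCharacter K Q₀ hψ)

theorem mem_vanish {ψ : L → ℂ} (hψ : ψ ∈ inducedIrrAbove K Q₀) {x : L} (hx : x ∉ K) :
    ψ x = 0 := by
  obtain ⟨θ, -, -, -, rfl⟩ := hψ
  exact Cfsg.Agent.Lib.Helper51.PFCyc.indFun_vanish_off_normal K θ hx

/-- a member is constant on `Q₀` -/
theorem mem_apply_Q (hQK : Q₀ ≤ K) {ψ : L → ℂ} (hψ : ψ ∈ inducedIrrAbove K Q₀) {x : L}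
    (hx : x ∈ Q₀) : ψ x = ψ 1 := by
  obtain ⟨θ, -, -, hQ, rfl⟩ := hψ
  unfold indFun
  congr 1
  apply Finset.sum_congr rfl
  intro y _
  have h1 : y⁻¹ * x * y ∈ Q₀ := by
    have := hQn.conj_mem x hx y⁻¹
    simpa using this
  have h2 : y⁻¹ * 1 * y ∈ K := by simp [K.one_mem]
  rw [Cfsg.Agent.Lib.Helper75.extendByZero_of_mem K θ (hQK h1),
    Cfsg.Agent.Lib.Helper75.extendByZero_of_mem K θ h2, hQ ⟨_, hQK h1⟩ h1]
  congr 1
  apply Subtype.ext
  simp

/-- the degree of a member is a positive multiple of `|L : K|` -/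
theorem mem_degree {ψ : L → ℂ} (hψ : ψ ∈ inducedIrrAbove K Q₀) :
    ∃ d : ℕ, 0 < d ∧ ψ 1 = (d : ℂ) * (K.index : ℂ) := by
  have : Fintype K := Fintype.ofFinite K
  obtain ⟨θ, hθ, -, -, rfl⟩ := hψ
  obtain ⟨d, hd, hd'⟩ := (Cfsg.Agent.Lib.Helper26.irrFacts K).deg_pos _ hθ
  refine ⟨d, hd, ?_⟩
  rw [Cfsg.Agent.Lib.Helper75.indFun_one, hd']
  ring

theorem mem_conj_mem {ψ : L → ℂ} (hψ : ψ ∈ inducedIrrAbove K Q₀) :
    conjFun ψ ∈ inducedIrrAbove K Q₀ := by
  obtain ⟨θ, h1, h2, h3, rfl⟩ := hψ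
  refine ⟨conjFun θ, Cfsg.Agent.Lib.Helper81.isIrrCharacter_conj h1, ?_, ?_,
    Cfsg.Agent.Lib.Helper74.conjFun_indFun K θ⟩
  · intro hc
    apply h2
    have := congrArg conjFun hc
    rw [Cfsg.Agent.Lib.Helper74.conjFun_conjFun] at this
    rw [this]
    funext x
    simp [conjFun]
  · intro a ha
    unfold conjFun
    rw [h3 a ha]

theorem conjFun_one_eq {ψ : L → ℂ} (hψ : ψ ∈ inducedIrrAbove K Q₀) : conjFun ψ 1 = ψ 1 := by
  obtain ⟨d, -, hd⟩ := mem_degree K Q₀ hψ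
  unfold conjFun
  rw [hd, map_mul, Complex.conj_natCast, Complex.conj_natCast]

/-- `∑_{k ∈ K} ψ k = 0` -/
theorem mem_sum_K [Fintype K] {ψ : L → ℂ} (hψ : ψ ∈ inducedIrrAbove K Q₀) :
    ∑ k : K, ψ k = 0 := by
  classical
  obtain ⟨θ, hθ, hθ1, -, rfl⟩ := hψ
  have h0 := Cfsg.Agent.Lib.Helper75.classInner_indFun_res_eq_zero K hθ
    (Cfsg.Agent.Lib.Helper78.isIrrCharacter_one (G := K)) ?_
  · unfold classInner at h0
    have hK : (Nat.card K : ℂ)⁻¹ ≠ 0 := by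
      apply inv_ne_zero
      have : Nat.card K ≠ 0 := Nat.card_pos.ne'
      exact_mod_cast this
    have h1 := (mul_eq_zero.mp h0).resolve_left hK
    refine Eq.trans ?_ h1
    apply Finset.sum_congr rfl
    intro k _
    rw [map_one, mul_one]
  · intro x hx
    apply hθ1
    have h2 := congrArg (Cfsg.Agent.Lib.Helper75.conjFun K x⁻¹) hx
    rw [Cfsg.Agent.Lib.Helper75.conjFun_inv_conjFun] at h2
    rw [h2]
    funext k
    rw [Cfsg.Agent.Lib.Helper75.conjFun_apply]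

end Mem

end Cfsg.Agent.Lib.Helper52.PF14Xi
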