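/-
helper52: Peterfalvi sec.14, carrier lemma [XI], part 3: the carrier
`Ξ = Ind_L^G(ρ - φ) + τ₁ φ` of a coherent class `(L, K, Q₀)` with TI support `K ∖ Q₀`
(`Q₀ = ⊥`: a Type I Frobenius class; `L = T`, `K = QV`, `Q₀ = Q`: the Type III pseudo-class).
All cross numbers are inner products; no constancy statements are needed.
-/
import Mathlib
import Cfsg.Agent.Lib.Helper52.PF14XiMem
import Cfsg.Agent.Lib.Helper74.PF127Cong

set_option autoImplicit false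
set_option linter.unusedSectionVars false

namespace Cfsg.Agent.Lib.Helper52.PF14Xi

open Cfsg
open Cfsg.Agent.Lib.Helper26 (classInner_add_left classInner_add_right classInner_sub_left
  classInner_sub_right classInner_zsmul_left classInner_zsmul_right classInner_neg_left
  classInner_neg_right subset_zspan zspan_sub zspan_zsmul isom_add isom_zsmul isom_inner isom_gen
  isom_sub isZClosed_zspan irrFacts)
open Cfsg.Agent.Lib.Helper25 (SIrr)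
open scoped ComplexConjugate

universe u

variable {G : Type u} [Group G] [Fintype G]

/-- hypotheses of the carrier lemma: `K, Q₀ ⊴ L ≤ G`, `Q₀ ≤ K`, every member of
`calL = inducedIrrAbove K Q₀` irreducible, `τ₁` a linear isometry on `ℤ[calL]` extending
induction on `ℤ[calL]⁰`, the support `K ∖ Q₀` TI with normaliser `L`, and `φ ∈ calL` of degree
`|L : K|`. -/
structure Carrier (L : Subgroup G) [Fintype L] (K Q₀ : Subgroup L)
    (τ₁ : (L → ℂ) → (G → ℂ)) (φ : L → ℂ) : Prop where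
  hKn : K.Normal
  hQn : Q₀.Normal
  hQK : Q₀ ≤ K
  hSirr : ∀ χ ∈ inducedIrrAbove K Q₀, IsIrrCharacter L χ
  hτ₁ : IsLinearIsometryOn (zspan (inducedIrrAbove K Q₀)) τ₁
  hext : ∀ α ∈ zspanOn (inducedIrrAbove K Q₀) {1}ᶜ, τ₁ α = indFun L α
  hTI : ∀ g : G, ∀ x : L, x ∈ supp K Q₀ → ∀ y : L, y ∈ supp K Q₀ →
    g⁻¹ * (x : G) * g = (y : G) → g ∈ L
  hφ : φ ∈ inducedIrrAbove K Q₀
  hφ1 : φ 1 = (K.index : ℂ)

/-- `A = Ind_L^G (ρ - φ)` -/
noncomputable def AA (L : Subgroup G) [Fintype L] (K : Subgroup L) (φ : L → ℂ) : G → ℂ :=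
  indFun L (rho K - φ)

/-- `Ξ = A + τ₁ φ` -/
noncomputable def Xi (L : Subgroup G) [Fintype L] (K : Subgroup L) (τ₁ : (L → ℂ) → (G → ℂ))
    (φ : L → ℂ) : G → ℂ :=
  AA L K φ + τ₁ φ

namespace Carrier

variable {L : Subgroup G} [Fintype L] {K Q₀ : Subgroup L} {τ₁ : (L → ℂ) → (G → ℂ)} {φ : L → ℂ}

section single

variable (C : Carrier L K Q₀ τ₁ φ)
include C

theorem alpha_vanish : ∀ x : L, x ∉ supp K Q₀ → (rho K - φ) x = 0 := by
  have := C.hKn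
  have := C.hQn
  intro x hx
  rw [Pi.sub_apply]
  by_cases hK : x ∈ K
  · have hQ : x ∈ Q₀ := by
      by_contra h
      exact hx ⟨hK, h⟩
    rw [rho_apply_mem K hK, mem_apply_Q K Q₀ C.hQK C.hφ hQ, C.hφ1, sub_self]
  · rw [rho_apply_not_mem K hK, mem_vanish K Q₀ C.hφ hK, sub_self]

theorem alpha_cf : IsClassFunction L (rho K - φ) := by
  have := C.hKn
  have := C.hQn
  exact Cfsg.Agent.Lib.Helper78.isClassFunction_sub
    (Cfsg.Agent.Lib.Helper78.IsCharacter.isClassFunction (rho_isCharacter K))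
    (mem_isClassFunction K Q₀ C.hφ)

/-- `ψ - d φ` vanishes off the support -/
theorem beta_vanish {ψ : L → ℂ} (hψ : ψ ∈ inducedIrrAbove K Q₀) (d : ℕ)
    (hd : ψ 1 = (d : ℂ) * (K.index : ℂ)) :
    ∀ x : L, x ∉ supp K Q₀ → (ψ - (d : ℤ) • φ) x = 0 := by
  have := C.hKn
  have := C.hQn
  intro x hx
  rw [Pi.sub_apply, Pi.smul_apply, zsmul_eq_mul]
  by_cases hK : x ∈ K
  · have hQ : x ∈ Q₀ := by
      by_contra h
      exact hx ⟨hK, h⟩
    rw [mem_apply_Q K Q₀ C.hQK hψ hQ, mem_apply_Q K Q₀ C.hQK C.hφ hQ, C.hφ1, hd]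
    push_cast
    ring
  · rw [mem_vanish K Q₀ hψ hK, mem_vanish K Q₀ C.hφ hK]
    ring

theorem beta_mem {ψ : L → ℂ} (hψ : ψ ∈ inducedIrrAbove K Q₀) (d : ℕ)
    (hd : ψ 1 = (d : ℂ) * (K.index : ℂ)) :
    (ψ - (d : ℤ) • φ) ∈ zspanOn (inducedIrrAbove K Q₀) {1}ᶜ := by
  have := C.hKn
  have := C.hQn
  refine ⟨zspan_sub (subset_zspan _ hψ) (zspan_zsmul _ (subset_zspan _ C.hφ)), ?_⟩
  intro x hx
  have hx1 : x = 1 := by simpa using hx
  rw [hx1]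
  exact C.beta_vanish hψ d hd 1 (one_not_mem_supp K Q₀)

theorem beta_cf {ψ : L → ℂ} (hψ : ψ ∈ inducedIrrAbove K Q₀) (d : ℕ) :
    IsClassFunction L (ψ - (d : ℤ) • φ) := by
  have := C.hKn
  have := C.hQn
  apply Cfsg.Agent.Lib.Helper78.isClassFunction_sub (mem_isClassFunction K Q₀ hψ)
  intro g h
  rw [Pi.smul_apply, Pi.smul_apply, mem_isClassFunction K Q₀ C.hφ g h]

/-- `τ₁ ψ = Ind (ψ - d φ) + d τ₁ φ` -/
theorem tau_decomp {ψ : L → ℂ} (hψ : ψ ∈ inducedIrrAbove K Q₀) (d : ℕ)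
    (hd : ψ 1 = (d : ℂ) * (K.index : ℂ)) :
    τ₁ ψ = indFun L (ψ - (d : ℤ) • φ) + (d : ℤ) • τ₁ φ := by
  have h1 : ψ = (ψ - (d : ℤ) • φ) + (d : ℤ) • φ := by abel
  have hφS := subset_zspan _ C.hφ
  conv_lhs => rw [h1]
  rw [isom_add C.hτ₁ (C.beta_mem hψ d hd).1 (zspan_zsmul _ hφS), isom_zsmul C.hτ₁ _ hφS,
    C.hext _ (C.beta_mem hψ d hd)]

/-- `ψ - ψ̄` vanishes off the support -/
theorem delta_vanish {ψ : L → ℂ} (hψ : ψ ∈ inducedIrrAbove K Q₀) :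
    ∀ x : L, x ∉ supp K Q₀ → (ψ - conjFun ψ) x = 0 := by
  have := C.hKn
  have := C.hQn
  intro x hx
  rw [Pi.sub_apply]
  by_cases hK : x ∈ K
  · have hQ : x ∈ Q₀ := by
      by_contra h
      exact hx ⟨hK, h⟩
    rw [mem_apply_Q K Q₀ C.hQK hψ hQ, mem_apply_Q K Q₀ C.hQK (mem_conj_mem K Q₀ hψ) hQ,
      conjFun_one_eq K Q₀ hψ, sub_self]
  · rw [mem_vanish K Q₀ hψ hK, mem_vanish K Q₀ (mem_conj_mem K Q₀ hψ) hK, sub_self]

theorem delta_mem {ψ : L → ℂ} (hψ : ψ ∈ inducedIrrAbove K Q₀) :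
    (ψ - conjFun ψ) ∈ zspanOn (inducedIrrAbove K Q₀) {1}ᶜ := by
  have := C.hKn
  have := C.hQn
  refine ⟨zspan_sub (subset_zspan _ hψ) (subset_zspan _ (mem_conj_mem K Q₀ hψ)), ?_⟩
  intro x hx
  have hx1 : x = 1 := by simpa using hx
  rw [hx1]
  exact C.delta_vanish hψ 1 (one_not_mem_supp K Q₀)

theorem delta_cf {ψ : L → ℂ} (hψ : ψ ∈ inducedIrrAbove K Q₀) :
    IsClassFunction L (ψ - conjFun ψ) := by
  have := C.hKn
  have := C.hQn
  exact Cfsg.Agent.Lib.Helper78.isClassFunction_sub (mem_isClassFunction K Q₀ hψ)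
    (mem_isClassFunction K Q₀ (mem_conj_mem K Q₀ hψ))

theorem oddL (hodd : Odd (Nat.card G)) : Odd (Nat.card L) :=
  Odd.of_dvd_nat hodd (Subgroup.card_subgroup_dvd_card L)

theorem conj_ne (hodd : Odd (Nat.card G)) {ψ : L → ℂ} (hψ : ψ ∈ inducedIrrAbove K Q₀) :
    conjFun ψ ≠ ψ := by
  have := C.hKn
  obtain ⟨θ, hθ, hθ1, -, rfl⟩ := hψ
  exact Cfsg.Agent.Lib.Helper51.PFCyc.indFun_conj_ne_self K (C.oddL hodd) hθ hθ1

theorem inner_conj (hodd : Odd (Nat.card G)) {ψ : L → ℂ} (hψ : ψ ∈ inducedIrrAbove K Q₀) :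
    classInner ψ (conjFun ψ) = 0 := by
  have := C.hKn
  have := C.hQn
  rw [(irrFacts L).orthonormal _ _ (C.hSirr ψ hψ) (C.hSirr _ (mem_conj_mem K Q₀ hψ)),
    if_neg (fun h => C.conj_ne hodd hψ h.symm)]

theorem sirr {ψ : L → ℂ} (hψ : ψ ∈ inducedIrrAbove K Q₀) : SIrr G (τ₁ ψ) := by
  have hS := subset_zspan _ hψ
  apply Cfsg.Agent.Lib.Helper25.sirr_of_norm_one (isom_gen C.hτ₁ hS)
  rw [isom_inner C.hτ₁ hS hS, (irrFacts L).orthonormal _ _ (C.hSirr ψ hψ) (C.hSirr ψ hψ),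
    if_pos rfl]

end single

end Carrier

end Cfsg.Agent.Lib.Helper52.PF14Xi
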