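/-
helper52: Peterfalvi sec.14, carrier lemma [XI], part 4: `τ₁` commutes with complex conjugation,
`Ξ` is a real generalized character with `⟨Ξ,1⟩ = 1`, `⟨Ξ, τ₁ ψ⟩ = d_ψ c`, `‖Ξ‖² = e + 2c`
(`c = ⟨A, τ₁ φ⟩ + 1`).
-/
import Mathlib
import Cfsg.Agent.Lib.Helper52.PF14XiCarrier

set_option autoImplicit false
set_option linter.unusedSectionVars false

namespace Cfsg.Agent.Lib.Helper52.PF14Xi

open Cfsg
open Cfsg.Agent.Lib.Helper26 (classInner_add_left classInner_add_right classInner_sub_left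
  classInner_sub_right classInner_zsmul_left classInner_zsmul_right classInner_neg_left
  classInner_neg_right subset_zspan zspan_sub zspan_zsmul isom_add isom_zsmul isom_inner isom_gen
  isom_sub isZClosed_zspan irrFacts)
open Cfsg.Agent.Lib.Helper25 (SIrr)
open scoped ComplexConjugate

universe u

variable {G : Type u} [Group G] [Fintype G]

section general

theorem extendByZero_conjFun' (H : Subgroup G) (θ : H → ℂ) (y : G) :
    extendByZero H (conjFun θ) y = conj (extendByZero H θ y) := by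
  by_cases hy : y ∈ H
  · rw [Cfsg.Agent.Lib.Helper75.extendByZero_of_mem H _ hy,
      Cfsg.Agent.Lib.Helper75.extendByZero_of_mem H _ hy]
    rfl
  · rw [Cfsg.Agent.Lib.Helper75.extendByZero_of_not_mem H _ hy,
      Cfsg.Agent.Lib.Helper75.extendByZero_of_not_mem H _ hy, map_zero]

theorem conjFun_indFun' (H : Subgroup G) (θ : H → ℂ) :
    conjFun (indFun H θ) = indFun H (conjFun θ) := by
  funext g
  unfold conjFun indFun
  rw [map_mul, map_inv₀, Complex.conj_natCast, map_sum]
  congr 1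
  apply Finset.sum_congr rfl
  intro x _
  exact (extendByZero_conjFun' H θ _).symm

theorem conjFun_sub {X : Type*} (a b : X → ℂ) : conjFun (a - b) = conjFun a - conjFun b := by
  funext x
  simp [conjFun]

theorem conjFun_add {X : Type*} (a b : X → ℂ) : conjFun (a + b) = conjFun a + conjFun b := by
  funext x
  simp [conjFun]

theorem conjFun_neg {X : Type*} (a : X → ℂ) : conjFun (-a) = -conjFun a := by
  funext x
  simp [conjFun]

theorem conjFun_conjFun' {X : Type*} (a : X → ℂ) : conjFun (conjFun a) = a := by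
  funext x
  simp [conjFun]

theorem classInner_conjFun_conjFun (a b : G → ℂ) :
    classInner (conjFun a) (conjFun b) = conj (classInner a b) := by
  unfold classInner conjFun
  rw [map_mul, map_inv₀, Complex.conj_natCast, map_sum]
  congr 1
  apply Finset.sum_congr rfl
  intro g _
  rw [map_mul]

theorem conjFun_sirr {e : G → ℂ} (h : SIrr G e) : SIrr G (conjFun e) := by
  rcases h with h | h
  · left
    exact Cfsg.Agent.Lib.Helper81.isIrrCharacter_conj h
  · right
    have := Cfsg.Agent.Lib.Helper81.isIrrCharacter_conj h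
    rw [← conjFun_neg]
    exact this

/-- a signed irreducible character is not the negative of its conjugate -/
theorem sirr_conj_ne_neg {e : G → ℂ} (h : SIrr G e) : conjFun e ≠ -e := by
  intro hc
  have h1 := congrFun hc 1
  rcases h with h | h
  · obtain ⟨n, hn, hn'⟩ := (irrFacts G).deg_pos _ h
    rw [Pi.neg_apply] at h1
    unfold conjFun at h1
    rw [hn', Complex.conj_natCast] at h1
    have h2 : ((n : ℂ)) = 0 := by linear_combination (1 / 2 : ℂ) * h1
    have : n = 0 := by exact_mod_cast h2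
    omega
  · obtain ⟨n, hn, hn'⟩ := (irrFacts G).deg_pos _ h
    rw [Pi.neg_apply] at hn'
    rw [Pi.neg_apply] at h1
    unfold conjFun at h1
    have h3 : e 1 = -(n : ℂ) := by linear_combination (-1 : ℂ) * hn'
    rw [h3, map_neg, Complex.conj_natCast] at h1
    have h2 : ((n : ℂ)) = 0 := by linear_combination (-1 / 2 : ℂ) * h1
    have : n = 0 := by exact_mod_cast h2
    omega

theorem sirr_one : SIrr G (fun _ : G => (1 : ℂ)) :=
  Or.inl Cfsg.Agent.Lib.Helper78.isIrrCharacter_one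

end general

namespace Carrier

variable {L : Subgroup G} [Fintype L] {K Q₀ : Subgroup L} {τ₁ : (L → ℂ) → (G → ℂ)} {φ : L → ℂ}

section single

variable (C : Carrier L K Q₀ τ₁ φ)
include C

/-- `τ₁ ψ - τ₁ ψ̄ = Ind (ψ - ψ̄)` -/
theorem tau_sub_conj {ψ : L → ℂ} (hψ : ψ ∈ inducedIrrAbove K Q₀) :
    τ₁ ψ - τ₁ (conjFun ψ) = indFun L (ψ - conjFun ψ) := by
  have := C.hKn
  have := C.hQn
  rw [← isom_sub (isZClosed_zspan _) C.hτ₁ (subset_zspan _ hψ)
    (subset_zspan _ (mem_conj_mem K Q₀ hψ)), C.hext _ (C.delta_mem hψ)]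

/-- **`τ₁` commutes with complex conjugation** -/
theorem conj_compat (hodd : Odd (Nat.card G)) {ψ : L → ℂ} (hψ : ψ ∈ inducedIrrAbove K Q₀) :
    τ₁ (conjFun ψ) = conjFun (τ₁ ψ) := by
  have := C.hKn
  have := C.hQn
  have hψ' := mem_conj_mem K Q₀ hψ
  have hχ : SIrr G (τ₁ ψ) := C.sirr hψ
  have hθ : SIrr G (τ₁ (conjFun ψ)) := C.sirr hψ'
  have h0 : classInner (τ₁ (conjFun ψ)) (τ₁ ψ) = 0 := by
    rw [isom_inner C.hτ₁ (subset_zspan _ hψ') (subset_zspan _ hψ),
      ← Cfsg.Agent.Lib.Helper26.classInner_conj_symm, C.inner_conj hodd hψ, map_zero]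
  have hD := C.tau_sub_conj hψ
  -- conj D = - D
  have hDc : conjFun (τ₁ ψ) - conjFun (τ₁ (conjFun ψ)) = τ₁ (conjFun ψ) - τ₁ ψ := by
    rw [← conjFun_sub, hD, conjFun_indFun', conjFun_sub, conjFun_conjFun',
      ← neg_sub (τ₁ ψ), hD, ← neg_sub ψ]
    have : -(ψ - conjFun ψ) = (-1 : ℂ) • (ψ - conjFun ψ) := by
      funext x; simp
    rw [this, Cfsg.Agent.Lib.Helper74.indFun_smul]
    funext x; simp
  -- pair with χ
  have hpair : classInner (conjFun (τ₁ (conjFun ψ))) (τ₁ ψ) =
      1 + classInner (conjFun (τ₁ ψ)) (τ₁ ψ) := by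
    have h1 : classInner (conjFun (τ₁ ψ) - conjFun (τ₁ (conjFun ψ))) (τ₁ ψ) =
        classInner (τ₁ (conjFun ψ) - τ₁ ψ) (τ₁ ψ) := by rw [hDc]
    rw [classInner_sub_left, classInner_sub_left, h0, hχ.norm] at h1
    linear_combination (-1 : ℂ) * h1
  have hcχ := conjFun_sirr hχ
  have hcθ := conjFun_sirr hθ
  rcases hcχ.inner_tri hχ with ⟨h1, -⟩ | ⟨-, h2⟩ | h3
  · -- ⟨conj χ, χ⟩ = 1: then ⟨conj θ, χ⟩ = 2
    rw [h1] at hpair
    rcases hcθ.inner_tri hχ with ⟨h4, -⟩ | ⟨h4, -⟩ | h4
    · rw [h4] at hpair; norm_num at hpair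
    · rw [h4] at hpair; norm_num at hpair
    · rw [h4] at hpair; norm_num at hpair
  · exact absurd h2 (sirr_conj_ne_neg hχ)
  · rw [h3, add_zero] at hpair
    rcases hcθ.inner_tri hχ with ⟨-, h5⟩ | ⟨h4, -⟩ | h4
    · have := congrArg conjFun h5
      rw [conjFun_conjFun'] at this
      exact this
    · rw [h4] at hpair; norm_num at hpair
    · rw [h4] at hpair; norm_num at hpair

/-- `τ₁ ψ` is orthogonal to the principal character -/
theorem tau_inner_one (hodd : Odd (Nat.card G)) {ψ : L → ℂ} (hψ : ψ ∈ inducedIrrAbove K Q₀) :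
    classInner (τ₁ ψ) (fun _ : G => (1 : ℂ)) = 0 := by
  have := C.hKn
  have := C.hQn
  have hψ' := mem_conj_mem K Q₀ hψ
  have hχ : SIrr G (τ₁ ψ) := C.sirr hψ
  have hne : conjFun (τ₁ ψ) ≠ τ₁ ψ := by
    intro hc
    rw [← C.conj_compat hodd hψ] at hc
    have h1 : classInner (τ₁ (conjFun ψ)) (τ₁ ψ) = 1 := by rw [hc]; exact hχ.norm
    rw [isom_inner C.hτ₁ (subset_zspan _ hψ') (subset_zspan _ hψ),
      ← Cfsg.Agent.Lib.Helper26.classInner_conj_symm, C.inner_conj hodd hψ, map_zero] at h1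
    exact zero_ne_one h1
  rcases hχ.inner_tri sirr_one with ⟨-, h⟩ | ⟨-, h⟩ | h
  · exfalso
    apply hne
    rw [h]
    funext x
    simp [conjFun]
  · exfalso
    apply hne
    rw [h]
    funext x
    simp [conjFun]
  · exact h

end single

end Carrier

end Cfsg.Agent.Lib.Helper52.PF14Xi
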