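/-
helper52: Peterfalvi sec.14, carrier lemma [XI], part 5: `Ξ` is a real generalized character with
`⟨Ξ,1⟩ = 1`, `⟨Ξ, τ₁ ψ⟩ = d_ψ c`, `‖Ξ‖² = e + 2c` (`c = ⟨A, τ₁ φ⟩ + 1`).
-/
import Mathlib
import Cfsg.Agent.Lib.Helper52.PF14XiMain

set_option autoImplicit false
set_option linter.unusedSectionVars false

namespace Cfsg.Agent.Lib.Helper52.PF14Xi

open Cfsg
open Cfsg.Agent.Lib.Helper26 (classInner_add_left classInner_add_right classInner_sub_left
  classInner_sub_right classInner_zsmul_left classInner_zsmul_right classInner_neg_left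
  classInner_neg_right subset_zspan zspan_sub zspan_zsmul isom_add isom_zsmul isom_inner isom_gen
  isom_sub isZClosed_zspan irrFacts)
open Cfsg.Agent.Lib.Helper25 (SIrr)
open scoped ComplexConjugate

universe u

section MemMore

variable {L : Type u} [Group L] [Fintype L] (K Q₀ : Subgroup L) [hKn : K.Normal] [hQn : Q₀.Normal]

/-- `⟨ρ, ψ⟩ = 0` -/
theorem classInner_rho_mem {ψ : L → ℂ} (hψ : ψ ∈ inducedIrrAbove K Q₀) :
    classInner (rho K) ψ = 0 := by
  have : Fintype K := Fintype.ofFinite K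
  have e1 : classInner (rho K) ψ = classInner (indFun K (fun _ : K => (1 : ℂ))) ψ := rfl
  rw [e1, Cfsg.Agent.Lib.Helper75.frobenius_reciprocity K _ (mem_isClassFunction K Q₀ hψ)]
  unfold classInner
  have h1 : ∑ k : K, (1 : ℂ) * conj (ψ (k : L)) = conj (∑ k : K, ψ (k : L)) := by
    rw [map_sum]
    apply Finset.sum_congr rfl
    intro k _
    rw [one_mul]
  rw [h1, mem_sum_K K Q₀ hψ, map_zero, mul_zero]

theorem classInner_mem_rho {ψ : L → ℂ} (hψ : ψ ∈ inducedIrrAbove K Q₀) :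
    classInner ψ (rho K) = 0 := by
  rw [← Cfsg.Agent.Lib.Helper26.classInner_conj_symm, classInner_rho_mem K Q₀ hψ, map_zero]

end MemMore

variable {G : Type u} [Group G] [Fintype G]

namespace Carrier

variable {L : Subgroup G} [Fintype L] {K Q₀ : Subgroup L} {τ₁ : (L → ℂ) → (G → ℂ)} {φ : L → ℂ}

section single

variable (C : Carrier L K Q₀ τ₁ φ)
include C

theorem mem_inner_one (hodd : Odd (Nat.card G)) {ψ : L → ℂ} (hψ : ψ ∈ inducedIrrAbove K Q₀) :
    classInner ψ (fun _ : L => (1 : ℂ)) = 0 := by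
  rw [(irrFacts L).orthonormal _ _ (C.hSirr ψ hψ) Cfsg.Agent.Lib.Helper78.isIrrCharacter_one,
    if_neg]
  intro h
  apply C.conj_ne hodd hψ
  rw [h]
  funext x
  simp [conjFun]

/-- `A` is a generalized character -/
theorem A_gen : IsGeneralizedCharacter G (AA L K φ) := by
  have := C.hKn
  have := C.hQn
  unfold AA
  rw [Cfsg.Agent.Lib.Helper74.PF127.indFun_sub]
  exact ⟨_, _, Cfsg.Agent.S0148.result L _ (rho_isCharacter K),
    Cfsg.Agent.S0148.result L _ (mem_isCharacter K Q₀ C.hφ), rfl⟩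

theorem X_gen : IsGeneralizedCharacter G (τ₁ φ) := isom_gen C.hτ₁ (subset_zspan _ C.hφ)

/-- **(a)** `Ξ` is a generalized character -/
theorem xi_gen : IsGeneralizedCharacter G (Xi L K τ₁ φ) :=
  (irrFacts G).gen_add C.A_gen C.X_gen

theorem xi_conj (hodd : Odd (Nat.card G)) : conjFun (Xi L K τ₁ φ) = Xi L K τ₁ φ := by
  have := C.hKn
  have := C.hQn
  unfold Xi AA
  rw [conjFun_add, conjFun_indFun', conjFun_sub, conjFun_rho, ← C.conj_compat hodd C.hφ]
  have h1 := C.tau_sub_conj C.hφ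
  have h2 : rho K - conjFun φ = (rho K - φ) + (φ - conjFun φ) := by abel
  rw [h2, Cfsg.Agent.Lib.Helper74.indFun_add, ← h1]
  abel

/-- **(b)** `Ξ` is real valued -/
theorem xi_real (hodd : Odd (Nat.card G)) : ∀ g : G, (Xi L K τ₁ φ g).im = 0 := by
  intro g
  have := congrFun (C.xi_conj hodd) g
  unfold conjFun at this
  exact Complex.conj_eq_iff_im.mp this

theorem A_inner_one (hodd : Odd (Nat.card G)) :
    classInner (AA L K φ) (fun _ : G => (1 : ℂ)) = 1 := by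
  have := C.hKn
  have := C.hQn
  unfold AA
  rw [Cfsg.Agent.Lib.Helper75.frobenius_reciprocity L _
    (Cfsg.Agent.Lib.Helper78.IsCharacter.isClassFunction
      (Cfsg.Agent.Lib.Helper26.IrrFacts.irr_isCharacter
        Cfsg.Agent.Lib.Helper78.isIrrCharacter_one))]
  rw [classInner_sub_left, classInner_rho_one, C.mem_inner_one hodd C.hφ, sub_zero]

/-- **(c)** `⟨Ξ, 1⟩ = 1` -/
theorem xi_inner_one (hodd : Odd (Nat.card G)) :
    classInner (Xi L K τ₁ φ) (fun _ : G => (1 : ℂ)) = 1 := by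
  unfold Xi
  rw [classInner_add_left, C.A_inner_one hodd, C.tau_inner_one hodd C.hφ, add_zero]

/-- **(e)** the support of `A` -/
theorem A_support (g : G) (hg : ∀ x : G, ∀ k : L, k ∈ supp K Q₀ → x⁻¹ * g * x ≠ (k : G)) :
    AA L K φ g = 0 :=
  indFun_eq_zero_of_support L (supp K Q₀) _ C.alpha_vanish g hg

theorem inner_phi_phi : classInner φ φ = 1 := by
  rw [(irrFacts L).orthonormal _ _ (C.hSirr φ C.hφ) (C.hSirr φ C.hφ), if_pos rfl]

/-- `‖A‖² = e + 1` -/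
theorem A_norm : classInner (AA L K φ) (AA L K φ) = (K.index : ℂ) + 1 := by
  have := C.hKn
  have := C.hQn
  unfold AA
  rw [classInner_indFun_indFun_of_TI L (supp K Q₀) C.hTI C.alpha_vanish C.alpha_cf C.alpha_vanish,
    classInner_sub_left, classInner_sub_right, classInner_sub_right, classInner_rho_rho,
    classInner_rho_mem K Q₀ C.hφ, classInner_mem_rho K Q₀ C.hφ, C.inner_phi_phi]
  ring

/-- `⟨A, Ind (ψ - d φ)⟩ = d - ⟨φ, ψ⟩` -/
theorem A_inner_ind {ψ : L → ℂ} (hψ : ψ ∈ inducedIrrAbove K Q₀) (d : ℕ)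
    (hd : ψ 1 = (d : ℂ) * (K.index : ℂ)) :
    classInner (AA L K φ) (indFun L (ψ - (d : ℤ) • φ)) = (d : ℂ) - classInner φ ψ := by
  have := C.hKn
  have := C.hQn
  unfold AA
  rw [classInner_indFun_indFun_of_TI L (supp K Q₀) C.hTI C.alpha_vanish (C.beta_cf hψ d)
    (C.beta_vanish hψ d hd),
    classInner_sub_left, classInner_sub_right, classInner_sub_right, classInner_zsmul_right,
    classInner_zsmul_right, classInner_rho_mem K Q₀ hψ, classInner_rho_mem K Q₀ C.hφ,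
    C.inner_phi_phi]
  push_cast
  ring

/-- `⟨A, τ₁ ψ⟩ = d (⟨A, τ₁ φ⟩ + 1) - ⟨φ, ψ⟩` -/
theorem A_inner_tau {ψ : L → ℂ} (hψ : ψ ∈ inducedIrrAbove K Q₀) (d : ℕ)
    (hd : ψ 1 = (d : ℂ) * (K.index : ℂ)) :
    classInner (AA L K φ) (τ₁ ψ) =
      (d : ℂ) * (classInner (AA L K φ) (τ₁ φ) + 1) - classInner φ ψ := by
  rw [C.tau_decomp hψ d hd, classInner_add_right, C.A_inner_ind hψ d hd, classInner_zsmul_right]
  push_cast
  ring

/-- **(f)** `⟨Ξ, τ₁ ψ⟩ = d_ψ c` with `c = ⟨A, τ₁ φ⟩ + 1` -/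
theorem xi_inner_tau {ψ : L → ℂ} (hψ : ψ ∈ inducedIrrAbove K Q₀) (d : ℕ)
    (hd : ψ 1 = (d : ℂ) * (K.index : ℂ)) :
    classInner (Xi L K τ₁ φ) (τ₁ ψ) = (d : ℂ) * (classInner (AA L K φ) (τ₁ φ) + 1) := by
  unfold Xi
  rw [classInner_add_left, C.A_inner_tau hψ d hd,
    isom_inner C.hτ₁ (subset_zspan _ C.hφ) (subset_zspan _ hψ)]
  ring

/-- **single-carrier summary**: an integer `c` with `⟨A, X⟩ = ⟨X, A⟩ = c - 1`,
`‖Ξ‖² = e + 2c`, `⟨Ξ, τ₁ ψ⟩ = d_ψ c`. -/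
theorem exists_c : ∃ c : ℤ,
    classInner (AA L K φ) (τ₁ φ) = ((c - 1 : ℤ) : ℂ) ∧
    classInner (τ₁ φ) (AA L K φ) = ((c - 1 : ℤ) : ℂ) ∧
    classInner (Xi L K τ₁ φ) (Xi L K τ₁ φ) = (((K.index : ℤ) + 2 * c : ℤ) : ℂ) ∧
    ∀ ψ ∈ inducedIrrAbove K Q₀, ∀ d : ℕ, ψ 1 = (d : ℂ) * (K.index : ℂ) →
      classInner (Xi L K τ₁ φ) (τ₁ ψ) = (((d : ℤ) * c : ℤ) : ℂ) := by
  obtain ⟨n, hn, hn'⟩ := Cfsg.Agent.Lib.Helper25.inner_int' C.A_gen C.X_gen
  refine ⟨n + 1, ?_, ?_, ?_, ?_⟩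
  · rw [hn]; push_cast; ring
  · rw [hn']; push_cast; ring
  · unfold Xi
    rw [classInner_add_left, classInner_add_right, classInner_add_right, C.A_norm, hn, hn',
      (C.sirr C.hφ).norm]
    push_cast
    ring
  · intro ψ hψ d hd
    rw [C.xi_inner_tau hψ d hd, hn]
    push_cast
    ring

end single

end Carrier

end Cfsg.Agent.Lib.Helper52.PF14Xi
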