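/-
helper52: Peterfalvi sec.14, carrier lemma [XI], part 6: two carriers with disjoint supports
(no element of `K₁ ∖ Q₁` conjugate to an element of `K₂ ∖ Q₂`): `A₁ ⟂ A₂`,
`τ₁(calL₁) ⟂ τ₂(calL₂)`, `⟨Ξ₁, τ₂ ψ⟩ = d_ψ ⟨A₁, τ₂ φ₂⟩`, `⟨Ξ₁,Ξ₂⟩ = ⟨A₁,X₂⟩ + ⟨X₁,A₂⟩`,
the tournament parity, and the norm bound [TOUR-COR-GEN].
-/
import Mathlib
import Cfsg.Agent.Lib.Helper52.PF14XiNorm
import Cfsg.Agent.Lib.Helper10.PF14Tour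

set_option autoImplicit false
set_option linter.unusedSectionVars false

namespace Cfsg.Agent.Lib.Helper52.PF14Xi

open Cfsg
open Cfsg.Agent.Lib.Helper26 (classInner_add_left classInner_add_right classInner_sub_left
  classInner_sub_right classInner_zsmul_left classInner_zsmul_right classInner_neg_left
  classInner_neg_right subset_zspan zspan_sub zspan_zsmul isom_add isom_zsmul isom_inner isom_gen
  isom_sub isZClosed_zspan irrFacts)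
open Cfsg.Agent.Lib.Helper25 (SIrr)
open scoped ComplexConjugate

universe u

variable {G : Type u} [Group G] [Fintype G]

/-- the supports of the two classes are not fused in `G` -/
def Disjoint' (L₁ : Subgroup G) (K₁ Q₁ : Subgroup L₁) (L₂ : Subgroup G) (K₂ Q₂ : Subgroup L₂) :
    Prop :=
  ∀ g : G, ∀ x : L₁, x ∈ supp K₁ Q₁ → ∀ y : L₂, y ∈ supp K₂ Q₂ → g⁻¹ * (x : G) * g ≠ (y : G)

theorem Disjoint'.symm {L₁ : Subgroup G} {K₁ Q₁ : Subgroup L₁} {L₂ : Subgroup G}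
    {K₂ Q₂ : Subgroup L₂} (h : Disjoint' L₁ K₁ Q₁ L₂ K₂ Q₂) : Disjoint' L₂ K₂ Q₂ L₁ K₁ Q₁ := by
  intro g y hy x hx hc
  apply h g⁻¹ x hx y hy
  rw [← hc]
  group

namespace Carrier

variable {L₁ : Subgroup G} [Fintype L₁] {K₁ Q₁ : Subgroup L₁} {τ₁ : (L₁ → ℂ) → (G → ℂ)}
  {φ₁ : L₁ → ℂ}
variable {L₂ : Subgroup G} [Fintype L₂] {K₂ Q₂ : Subgroup L₂} {τ₂ : (L₂ → ℂ) → (G → ℂ)}
  {φ₂ : L₂ → ℂ}

section single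

variable (C₁ : Carrier L₁ K₁ Q₁ τ₁ φ₁)
include C₁

/-- `‖Ind (ψ - ψ̄)‖² = 2` -/
theorem delta_norm (hodd : Odd (Nat.card G)) {ψ : L₁ → ℂ} (hψ : ψ ∈ inducedIrrAbove K₁ Q₁) :
    classInner (indFun L₁ (ψ - conjFun ψ)) (indFun L₁ (ψ - conjFun ψ)) = 2 := by
  have := C₁.hKn
  have := C₁.hQn
  have hψ' := mem_conj_mem K₁ Q₁ hψ
  rw [← C₁.hext _ (C₁.delta_mem hψ), isom_inner C₁.hτ₁ (C₁.delta_mem hψ).1 (C₁.delta_mem hψ).1,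
    classInner_sub_left, classInner_sub_right, classInner_sub_right, C₁.inner_conj hodd hψ,
    (irrFacts L₁).orthonormal _ _ (C₁.hSirr ψ hψ) (C₁.hSirr ψ hψ), if_pos rfl,
    (irrFacts L₁).orthonormal _ _ (C₁.hSirr _ hψ') (C₁.hSirr _ hψ'), if_pos rfl,
    ← Cfsg.Agent.Lib.Helper26.classInner_conj_symm ψ, C₁.inner_conj hodd hψ, map_zero]
  norm_num

end single

section cross

variable (C₁ : Carrier L₁ K₁ Q₁ τ₁ φ₁) (C₂ : Carrier L₂ K₂ Q₂ τ₂ φ₂)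
  (hdis : Disjoint' L₁ K₁ Q₁ L₂ K₂ Q₂)
include hdis

omit [Fintype L₁] in
/-- a function induced from `L₂` with support in `K₂ ∖ Q₂` vanishes on `K₁ ∖ Q₁` -/
theorem ind_vanish_on (α : L₂ → ℂ) (hα : ∀ x : L₂, x ∉ supp K₂ Q₂ → α x = 0) (x : L₁)
    (hx : x ∈ supp K₁ Q₁) : indFun L₂ α (x : G) = 0 :=
  indFun_eq_zero_of_support L₂ (supp K₂ Q₂) α hα (x : G) (fun g k hk => hdis g x hx k hk)

theorem cross_ind_ind (α₁ : L₁ → ℂ) (hα₁ : ∀ x : L₁, x ∉ supp K₁ Q₁ → α₁ x = 0)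
    (α₂ : L₂ → ℂ) (hα₂ : ∀ x : L₂, x ∉ supp K₂ Q₂ → α₂ x = 0) :
    classInner (indFun L₁ α₁) (indFun L₂ α₂) = 0 :=
  classInner_indFun_eq_zero_of_vanish L₁ (supp K₁ Q₁) α₁ hα₁ _
    (Cfsg.Agent.Lib.Helper75.isClassFunction_indFun L₂ α₂) (ind_vanish_on hdis α₂ hα₂)

include C₁ C₂

/-- `⟨A₁, A₂⟩ = 0` -/
theorem cross_AA : classInner (AA L₁ K₁ φ₁) (AA L₂ K₂ φ₂) = 0 :=
  cross_ind_ind hdis _ C₁.alpha_vanish _ C₂.alpha_vanish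

/-- `τ₁(calL₁) ⟂ τ₂(calL₂)` -/
theorem cross_tau_tau (hodd : Odd (Nat.card G)) {ψ₁ : L₁ → ℂ} (hψ₁ : ψ₁ ∈ inducedIrrAbove K₁ Q₁)
    {ψ₂ : L₂ → ℂ} (hψ₂ : ψ₂ ∈ inducedIrrAbove K₂ Q₂) : classInner (τ₁ ψ₁) (τ₂ ψ₂) = 0 := by
  have h0 : classInner (indFun L₁ (ψ₁ - conjFun ψ₁)) (indFun L₂ (ψ₂ - conjFun ψ₂)) = 0 :=
    cross_ind_ind hdis _ (C₁.delta_vanish hψ₁) _ (C₂.delta_vanish hψ₂)
  have h2 := C₁.delta_norm hodd hψ₁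
  have e1 := C₁.tau_sub_conj hψ₁
  have e2 := C₂.tau_sub_conj hψ₂
  rw [C₁.conj_compat hodd hψ₁] at e1
  rw [C₂.conj_compat hodd hψ₂] at e2
  rcases (C₁.sirr hψ₁).inner_tri (C₂.sirr hψ₂) with ⟨-, h⟩ | ⟨-, h⟩ | h
  · exfalso
    have e3 : indFun L₁ (ψ₁ - conjFun ψ₁) = indFun L₂ (ψ₂ - conjFun ψ₂) := by
      rw [← e1, ← e2, h]
    rw [e3] at h2
    rw [e3, h2] at h0
    norm_num at h0
  · exfalso
    have e3 : indFun L₁ (ψ₁ - conjFun ψ₁) = -indFun L₂ (ψ₂ - conjFun ψ₂) := by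
      rw [← e1, ← e2, h, conjFun_neg]
      abel
    have h3 : classInner (indFun L₁ (ψ₁ - conjFun ψ₁)) (indFun L₁ (ψ₁ - conjFun ψ₁)) = 0 := by
      conv_lhs => rw [e3]
      rw [classInner_neg_left, ← e3, ← Cfsg.Agent.Lib.Helper26.classInner_conj_symm, h0, map_zero,
        neg_zero]
    rw [h2] at h3
    norm_num at h3
  · exact h

/-- `⟨A₁, τ₂ ψ⟩ = d_ψ ⟨A₁, τ₂ φ₂⟩` -/
theorem cross_A_tau {ψ : L₂ → ℂ} (hψ : ψ ∈ inducedIrrAbove K₂ Q₂) (d : ℕ)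
    (hd : ψ 1 = (d : ℂ) * (K₂.index : ℂ)) :
    classInner (AA L₁ K₁ φ₁) (τ₂ ψ) = (d : ℂ) * classInner (AA L₁ K₁ φ₁) (τ₂ φ₂) := by
  rw [C₂.tau_decomp hψ d hd, classInner_add_right, classInner_zsmul_right]
  have h0 : classInner (AA L₁ K₁ φ₁) (indFun L₂ (ψ - (d : ℤ) • φ₂)) = 0 :=
    cross_ind_ind hdis _ C₁.alpha_vanish _ (C₂.beta_vanish hψ d hd)
  rw [h0]
  push_cast
  ring

/-- `⟨Ξ₁, τ₂ ψ⟩ = d_ψ ⟨A₁, τ₂ φ₂⟩` -/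
theorem cross_xi_tau (hodd : Odd (Nat.card G)) {ψ : L₂ → ℂ} (hψ : ψ ∈ inducedIrrAbove K₂ Q₂)
    (d : ℕ) (hd : ψ 1 = (d : ℂ) * (K₂.index : ℂ)) :
    classInner (Xi L₁ K₁ τ₁ φ₁) (τ₂ ψ) = (d : ℂ) * classInner (AA L₁ K₁ φ₁) (τ₂ φ₂) := by
  unfold Xi
  rw [classInner_add_left, cross_A_tau C₁ C₂ hdis hψ d hd,
    cross_tau_tau C₁ C₂ hdis hodd C₁.hφ hψ, add_zero]

/-- **tournament parity**: the two cross numbers `⟨A₁, X₂⟩`, `⟨A₂, X₁⟩` are integers with odd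
sum. -/
theorem tournament_odd (hodd : Odd (Nat.card G)) : ∃ c₂₁ c₁₂ : ℤ,
    classInner (AA L₁ K₁ φ₁) (τ₂ φ₂) = (c₂₁ : ℂ) ∧ classInner (AA L₂ K₂ φ₂) (τ₁ φ₁) = (c₁₂ : ℂ) ∧
    Odd (c₁₂ + c₂₁) := by
  obtain ⟨c₂₁, h21, -⟩ := Cfsg.Agent.Lib.Helper25.inner_int' C₁.A_gen C₂.X_gen
  obtain ⟨c₁₂, h12, h12'⟩ := Cfsg.Agent.Lib.Helper25.inner_int' C₂.A_gen C₁.X_gen
  refine ⟨c₂₁, c₁₂, h21, h12, ?_⟩
  exact Cfsg.Agent.Lib.Helper10.PF14Tour.tournament_split hodd C₁.xi_gen C₂.xi_gen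
    (C₁.xi_real hodd) (C₂.xi_real hodd) (C₁.xi_inner_one hodd) (C₂.xi_inner_one hodd)
    (cross_AA C₁ C₂ hdis) (cross_tau_tau C₁ C₂ hdis hodd C₁.hφ C₂.hφ) c₁₂ c₂₁ h21 h12'

end cross

end Carrier

end Cfsg.Agent.Lib.Helper52.PF14Xi
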