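/-
helper52: Peterfalvi sec.14, carrier lemma [XI], part 7 = [TOUR-COR-GEN]: if the exceptional
character `τ₂ φ₂` of the second class occurs in `A₁ = Ind(ρ₁ - φ₁)` then for every finite family
`F ⊆ calL₂`: `1 + ∑_{ψ ∈ F} d_ψ² ≤ e₁`; by the tournament parity one of the two classes
satisfies this for all families.
-/
import Mathlib
import Cfsg.Agent.Lib.Helper52.PF14XiCross

set_option autoImplicit false
set_option linter.unusedSectionVars false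

namespace Cfsg.Agent.Lib.Helper52.PF14Xi

open Cfsg
open Cfsg.Agent.Lib.Helper26 (classInner_add_left classInner_add_right classInner_sub_left
  classInner_sub_right classInner_zsmul_left classInner_zsmul_right classInner_neg_left
  classInner_neg_right subset_zspan zspan_sub zspan_zsmul isom_add isom_zsmul isom_inner isom_gen
  isom_sub isZClosed_zspan irrFacts)
open Cfsg.Agent.Lib.Helper25 (SIrr)
open scoped ComplexConjugate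

universe u

variable {G : Type u} [Group G] [Fintype G]

namespace Carrier

variable {L₁ : Subgroup G} [Fintype L₁] {K₁ Q₁ : Subgroup L₁} {τ₁ : (L₁ → ℂ) → (G → ℂ)}
  {φ₁ : L₁ → ℂ}
variable {L₂ : Subgroup G} [Fintype L₂] {K₂ Q₂ : Subgroup L₂} {τ₂ : (L₂ → ℂ) → (G → ℂ)}
  {φ₂ : L₂ → ℂ}

/-- **norm bound**: `⟨A₁, τ₂ φ₂⟩ ≠ 0` forces `1 + ∑_{ψ ∈ F} d_ψ² ≤ e₁` for every finite family
`F` of members of `calL₂`. -/
theorem bound (C₁ : Carrier L₁ K₁ Q₁ τ₁ φ₁) (C₂ : Carrier L₂ K₂ Q₂ τ₂ φ₂)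
    (hdis : Disjoint' L₁ K₁ Q₁ L₂ K₂ Q₂) (hodd : Odd (Nat.card G))
    (hne : classInner (AA L₁ K₁ φ₁) (τ₂ φ₂) ≠ 0)
    (F : Finset (L₂ → ℂ)) (hF : ∀ ψ ∈ F, ψ ∈ inducedIrrAbove K₂ Q₂) (d : (L₂ → ℂ) → ℕ)
    (hd : ∀ ψ ∈ F, ψ 1 = (d ψ : ℂ) * (K₂.index : ℂ)) :
    1 + ∑ ψ ∈ F, (d ψ) ^ 2 ≤ K₁.index := by
  classical
  have := C₁.hKn
  have := C₁.hQn
  obtain ⟨c, -, -, hN, hf⟩ := C₁.exists_c
  obtain ⟨c₂₁, h21, -⟩ := Cfsg.Agent.Lib.Helper25.inner_int' C₁.A_gen C₂.X_gen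
  have hc21 : c₂₁ ≠ 0 := by
    intro h
    apply hne
    rw [h21, h]
    simp
  have hφ' := mem_conj_mem K₁ Q₁ C₁.hφ
  let Y : (↥F ⊕ Bool) → G → ℂ := fun i =>
    match i with
    | Sum.inl ψ => τ₂ ψ.1
    | Sum.inr true => τ₁ φ₁
    | Sum.inr false => τ₁ (conjFun φ₁)
  let a : (↥F ⊕ Bool) → ℤ := fun i =>
    match i with
    | Sum.inl ψ => (d ψ.1 : ℤ) * c₂₁
    | Sum.inr _ => c
  have h10 : classInner (τ₁ φ₁) (τ₁ (conjFun φ₁)) = 0 := by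
    rw [isom_inner C₁.hτ₁ (subset_zspan _ C₁.hφ) (subset_zspan _ hφ'), C₁.inner_conj hodd C₁.hφ]
  have h01 : classInner (τ₁ (conjFun φ₁)) (τ₁ φ₁) = 0 := by
    rw [← Cfsg.Agent.Lib.Helper26.classInner_conj_symm, h10, map_zero]
  have hY : ∀ i j, classInner (Y i) (Y j) = if i = j then 1 else 0 := by
    rintro (ψ | b) (ψ' | b')
    · show classInner (τ₂ ψ.1) (τ₂ ψ'.1) = _
      rw [isom_inner C₂.hτ₁ (subset_zspan _ (hF _ ψ.2)) (subset_zspan _ (hF _ ψ'.2)),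
        (irrFacts L₂).orthonormal _ _ (C₂.hSirr _ (hF _ ψ.2)) (C₂.hSirr _ (hF _ ψ'.2))]
      by_cases h : ψ = ψ'
      · rw [if_pos (congrArg Subtype.val h), if_pos (congrArg Sum.inl h)]
      · rw [if_neg (fun hc => h (Subtype.ext hc)), if_neg (fun hc => h (Sum.inl.inj hc))]
    · rw [if_neg (by simp)]
      rw [← Cfsg.Agent.Lib.Helper26.classInner_conj_symm]
      cases b'
      · show conj (classInner (τ₁ (conjFun φ₁)) (τ₂ ψ.1)) = 0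
        rw [cross_tau_tau C₁ C₂ hdis hodd hφ' (hF _ ψ.2), map_zero]
      · show conj (classInner (τ₁ φ₁) (τ₂ ψ.1)) = 0
        rw [cross_tau_tau C₁ C₂ hdis hodd C₁.hφ (hF _ ψ.2), map_zero]
    · rw [if_neg (by simp)]
      cases b
      · show classInner (τ₁ (conjFun φ₁)) (τ₂ ψ'.1) = 0
        exact cross_tau_tau C₁ C₂ hdis hodd hφ' (hF _ ψ'.2)
      · show classInner (τ₁ φ₁) (τ₂ ψ'.1) = 0
        exact cross_tau_tau C₁ C₂ hdis hodd C₁.hφ (hF _ ψ'.2)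
    · cases b <;> cases b'
      · show classInner (τ₁ (conjFun φ₁)) (τ₁ (conjFun φ₁)) = _
        rw [if_pos rfl]
        exact (C₁.sirr hφ').norm
      · show classInner (τ₁ (conjFun φ₁)) (τ₁ φ₁) = _
        rw [if_neg (by simp), h01]
      · show classInner (τ₁ φ₁) (τ₁ (conjFun φ₁)) = _
        rw [if_neg (by simp), h10]
      · show classInner (τ₁ φ₁) (τ₁ φ₁) = _
        rw [if_pos rfl]
        exact (C₁.sirr C₁.hφ).norm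
  have hY1 : ∀ i, classInner (Y i) (fun _ : G => (1 : ℂ)) = 0 := by
    rintro (ψ | b)
    · exact C₂.tau_inner_one hodd (hF _ ψ.2)
    · cases b
      · exact C₁.tau_inner_one hodd hφ'
      · exact C₁.tau_inner_one hodd C₁.hφ
  have hc : ∀ i, classInner (Xi L₁ K₁ τ₁ φ₁) (Y i) = ((a i : ℤ) : ℂ) := by
    rintro (ψ | b)
    · show classInner (Xi L₁ K₁ τ₁ φ₁) (τ₂ ψ.1) = (((d ψ.1 : ℤ) * c₂₁ : ℤ) : ℂ)
      rw [cross_xi_tau C₁ C₂ hdis hodd (hF _ ψ.2) (d ψ.1) (hd _ ψ.2), h21]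
      push_cast
      ring
    · cases b
      · show classInner (Xi L₁ K₁ τ₁ φ₁) (τ₁ (conjFun φ₁)) = ((c : ℤ) : ℂ)
        rw [hf _ hφ' 1 (by rw [conjFun_one_eq K₁ Q₁ C₁.hφ, C₁.hφ1]; simp)]
        simp
      · show classInner (Xi L₁ K₁ τ₁ φ₁) (τ₁ φ₁) = ((c : ℤ) : ℂ)
        rw [hf _ C₁.hφ 1 (by rw [C₁.hφ1]; simp)]
        simp
  have key := Cfsg.Agent.Lib.Helper10.PF14Tour.norm_bound_gen Y hY hY1 (Xi L₁ K₁ τ₁ φ₁)
    ((K₁.index : ℤ) + 2 * c) hN (C₁.xi_inner_one hodd) a hc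
  rw [Fintype.sum_sum_type, Fintype.sum_bool] at key
  have e1 : ∑ ψ : ↥F, (a (Sum.inl ψ)) ^ 2 = c₂₁ ^ 2 * ∑ ψ ∈ F, ((d ψ : ℤ)) ^ 2 := by
    rw [← Finset.sum_coe_sort F (fun ψ => ((d ψ : ℤ)) ^ 2), Finset.mul_sum]
    apply Finset.sum_congr rfl
    intro ψ _
    show ((d ψ.1 : ℤ) * c₂₁) ^ 2 = _
    ring
  rw [e1] at key
  change 1 + (c₂₁ ^ 2 * ∑ ψ ∈ F, ((d ψ : ℤ)) ^ 2 + (c ^ 2 + c ^ 2)) ≤ (K₁.index : ℤ) + 2 * c at key
  have h1 : 1 ≤ c₂₁ ^ 2 := by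
    have : 0 < c₂₁ ^ 2 := by positivity
    omega
  have h2 : c ≤ c ^ 2 := Int.le_self_sq c
  have hS : (0 : ℤ) ≤ ∑ ψ ∈ F, ((d ψ : ℤ)) ^ 2 := Finset.sum_nonneg (fun ψ _ => sq_nonneg _)
  have hfin : (1 : ℤ) + ∑ ψ ∈ F, ((d ψ : ℤ)) ^ 2 ≤ (K₁.index : ℤ) := by
    nlinarith [mul_nonneg (sub_nonneg.mpr h1) hS]
  have : ((1 + ∑ ψ ∈ F, (d ψ) ^ 2 : ℕ) : ℤ) ≤ ((K₁.index : ℕ) : ℤ) := by
    push_cast
    exact hfin
  exact_mod_cast this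

/-- **[TOUR-COR-GEN]**: for two carriers with disjoint supports in a group of odd order, one of
the two classes bounds all families of the other: `1 + ∑_{ψ ∈ F} d_ψ² ≤ e`. -/
theorem tournament_bound (C₁ : Carrier L₁ K₁ Q₁ τ₁ φ₁) (C₂ : Carrier L₂ K₂ Q₂ τ₂ φ₂)
    (hdis : Disjoint' L₁ K₁ Q₁ L₂ K₂ Q₂) (hodd : Odd (Nat.card G)) :
    (∀ (F : Finset (L₂ → ℂ)) (d : (L₂ → ℂ) → ℕ), (∀ ψ ∈ F, ψ ∈ inducedIrrAbove K₂ Q₂) →
      (∀ ψ ∈ F, ψ 1 = (d ψ : ℂ) * (K₂.index : ℂ)) → 1 + ∑ ψ ∈ F, (d ψ) ^ 2 ≤ K₁.index) ∨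
    (∀ (F : Finset (L₁ → ℂ)) (d : (L₁ → ℂ) → ℕ), (∀ ψ ∈ F, ψ ∈ inducedIrrAbove K₁ Q₁) →
      (∀ ψ ∈ F, ψ 1 = (d ψ : ℂ) * (K₁.index : ℂ)) → 1 + ∑ ψ ∈ F, (d ψ) ^ 2 ≤ K₂.index) := by
  obtain ⟨c₂₁, c₁₂, h21, h12, hoddc⟩ := tournament_odd C₁ C₂ hdis hodd
  by_cases h : c₂₁ = 0
  · right
    have h12ne : classInner (AA L₂ K₂ φ₂) (τ₁ φ₁) ≠ 0 := by
      rw [h12]
      intro hc
      have : c₁₂ = 0 := by exact_mod_cast hc
      rw [this, h] at hoddc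
      simp at hoddc
    intro F d hF hd
    exact bound C₂ C₁ hdis.symm hodd h12ne F hF d hd
  · left
    have h21ne : classInner (AA L₁ K₁ φ₁) (τ₂ φ₂) ≠ 0 := by
      rw [h21]
      intro hc
      apply h
      exact_mod_cast hc
    intro F d hF hd
    exact bound C₁ C₂ hdis hodd h21ne F hF d hd

end Carrier

end Cfsg.Agent.Lib.Helper52.PF14Xi
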