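/-
helper52: Peterfalvi sec.14, carrier lemma [XI], part 8 = [XI-COUNT]: if every member of
`calL = inducedIrrAbove K Q₀` is irreducible then `calL` is the set of irreducible characters of
`L` with `Q₀` but not `K` in the kernel, and `∑_{ψ ∈ calL} ψ(1)² = |L:Q₀| - |L:K|`, i.e.
`e ∑ d_ψ² + 1 = |K : Q₀|`.
-/
import Mathlib
import Cfsg.Agent.Lib.Helper52.PF14XiNorm
import Cfsg.Agent.Lib.Helper79.Integrality

set_option autoImplicit false
set_option linter.unusedSectionVars false

namespace Cfsg.Agent.Lib.Helper52.PF14Xi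

open Cfsg
open Cfsg.Agent.Lib.Helper26 (irrFacts)
open scoped ComplexConjugate

universe u

section Ker

variable {L : Type u} [Group L] [Fintype L] (N : Subgroup L) [hN : N.Normal]

/-- if the principal character of `N` occurs in `ψ|_N` (`ψ` irreducible) then `ψ` is constant
on `N` -/
theorem res_const_of_inner_one_ne_zero [Fintype N] {ψ : L → ℂ} (hψ : IsIrrCharacter L ψ)
    (h : classInner (fun n : N => ψ n) (fun _ : N => (1 : ℂ)) ≠ 0) (n : N) : ψ n = ψ 1 := by
  classical
  have h1 := Cfsg.Agent.Lib.Helper75.clifford_finset N hψ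
    (Cfsg.Agent.Lib.Helper78.isIrrCharacter_one (G := N)) h
  have hφ : ∀ φ ∈ Cfsg.Agent.Lib.Helper75.conjOrbit (G := L) N (fun _ : N => (1 : ℂ)),
      ∀ x : N, (φ : N → ℂ) x = 1 := by
    intro φ hφ x
    obtain ⟨g, hg⟩ := (Cfsg.Agent.Lib.Helper75.mem_conjOrbit N).mp hφ
    rw [← hg]
    rfl
  have h2 : ∀ x : N, ψ x = classInner (fun n : N => ψ n) (fun _ : N => (1 : ℂ)) *
      ((Cfsg.Agent.Lib.Helper75.conjOrbit (G := L) N (fun _ : N => (1 : ℂ))).card : ℂ) := by
    intro x
    have h3 := congrFun h1 x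
    simp only [Pi.smul_apply, Finset.sum_apply, smul_eq_mul] at h3
    rw [h3, Finset.sum_congr rfl (fun φ hφ' => hφ φ hφ' x), Finset.sum_const, nsmul_eq_mul,
      mul_one]
  rw [h2 n]
  exact (h2 1).symm

/-- `⟨ρ_N, ψ⟩ = ψ(1)` if `N ≤ ker ψ` -/
theorem classInner_rho_irr_of_const {ψ : L → ℂ} (hψ : IsIrrCharacter L ψ)
    (h : ∀ n : N, ψ n = ψ 1) : classInner (rho N) ψ = ψ 1 := by
  have : Fintype N := Fintype.ofFinite N
  have e1 : classInner (rho N) ψ = classInner (indFun N (fun _ : N => (1 : ℂ))) ψ := rfl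
  rw [e1, Cfsg.Agent.Lib.Helper75.frobenius_reciprocity N _
    (Cfsg.Agent.Lib.Helper78.IsCharacter.isClassFunction
      (Cfsg.Agent.Lib.Helper26.IrrFacts.irr_isCharacter hψ))]
  obtain ⟨d, -, hd⟩ := (irrFacts L).deg_pos _ hψ
  unfold classInner
  have h1 : ∀ n : N, (1 : ℂ) * conj (ψ (n : L)) = (d : ℂ) := by
    intro n
    rw [h n, hd, one_mul, Complex.conj_natCast]
  rw [Finset.sum_congr rfl (fun n _ => h1 n), Finset.sum_const, Finset.card_univ, nsmul_eq_mul,
    ← Nat.card_eq_fintype_card, hd]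
  have hN0 : (Nat.card N : ℂ) ≠ 0 := by
    have : Nat.card N ≠ 0 := Nat.card_pos.ne'
    exact_mod_cast this
  field_simp

/-- `⟨ρ_N, ψ⟩ = 0` if `N ≰ ker ψ` -/
theorem classInner_rho_irr_of_not_const {ψ : L → ℂ} (hψ : IsIrrCharacter L ψ)
    (h : ¬ ∀ n : N, ψ n = ψ 1) : classInner (rho N) ψ = 0 := by
  have : Fintype N := Fintype.ofFinite N
  have e1 : classInner (rho N) ψ = classInner (indFun N (fun _ : N => (1 : ℂ))) ψ := rfl
  rw [e1, Cfsg.Agent.Lib.Helper75.frobenius_reciprocity N _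
    (Cfsg.Agent.Lib.Helper78.IsCharacter.isClassFunction
      (Cfsg.Agent.Lib.Helper26.IrrFacts.irr_isCharacter hψ))]
  by_contra hne
  apply h
  apply res_const_of_inner_one_ne_zero N hψ
  intro h0
  apply hne
  rw [← Cfsg.Agent.Lib.Helper26.classInner_conj_symm, h0, map_zero]

omit hN in
/-- the value at `1` of a class function, from its irreducible expansion -/
theorem apply_one_eq_sum {f : L → ℂ} (hf : IsClassFunction L f) :
    f 1 = ∑ ψ : IrrCharacter L, classInner f (ψ : L → ℂ) * (ψ : L → ℂ) 1 := by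
  have h := congrFun (Cfsg.Agent.Lib.Helper78.classFunction_eq_sum_irr hf) 1
  rw [Finset.sum_apply] at h
  exact h

end Ker

section Count

variable {L : Type u} [Group L] [Fintype L] (K Q₀ : Subgroup L) [hKn : K.Normal] [hQn : Q₀.Normal]

/-- a member of `calL` is not constant on `K` -/
theorem mem_not_const {ψ : L → ℂ} (hψ : ψ ∈ inducedIrrAbove K Q₀) : ¬ ∀ k : K, ψ k = ψ 1 := by
  have : Fintype K := Fintype.ofFinite K
  intro h
  have h1 := mem_sum_K K Q₀ hψ
  rw [Finset.sum_congr rfl (fun k _ => h k), Finset.sum_const, Finset.card_univ, nsmul_eq_mul] at h1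
  obtain ⟨d, hd, hd'⟩ := mem_degree K Q₀ hψ
  rw [hd'] at h1
  have h2 : Fintype.card K ≠ 0 := Fintype.card_ne_zero
  have h3 : K.index ≠ 0 := Subgroup.index_ne_zero_of_finite
  have h4 : ((Fintype.card K * (d * K.index) : ℕ) : ℂ) = 0 := by
    push_cast
    exact h1
  have h5 : Fintype.card K * (d * K.index) = 0 := by exact_mod_cast h4
  rcases Nat.mul_eq_zero.mp h5 with h6 | h6
  · exact h2 h6
  · rcases Nat.mul_eq_zero.mp h6 with h7 | h7
    · omega
    · exact h3 h7

/-- **completeness**: an irreducible character of `L` with `Q₀` but not `K` in its kernel is a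
member of `calL` (all of whose members are irreducible) -/
theorem mem_of_irr (hSirr : ∀ χ ∈ inducedIrrAbove K Q₀, IsIrrCharacter L χ) {ψ : L → ℂ}
    (hψ : IsIrrCharacter L ψ) (hQ : ∀ n : Q₀, ψ n = ψ 1) (hK : ¬ ∀ k : K, ψ k = ψ 1) :
    ψ ∈ inducedIrrAbove K Q₀ := by
  classical
  have : Fintype K := Fintype.ofFinite K
  have hψc := Cfsg.Agent.Lib.Helper26.IrrFacts.irr_isCharacter hψ
  have hres : IsCharacter K (fun k : K => ψ k) := Cfsg.Agent.Lib.Helper75.isCharacter_res K hψc
  -- a non-principal constituent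
  have hex : ∃ θ : IrrCharacter K, (θ : K → ℂ) ≠ (fun _ => 1) ∧
      classInner (fun k : K => ψ k) (θ : K → ℂ) ≠ 0 := by
    by_contra hno
    push Not at hno
    apply hK
    have hexp := Cfsg.Agent.Lib.Helper78.IsCharacter.eq_sum_irr hres
    have hval : ∀ x : K, ψ x = classInner (fun k : K => ψ k) (fun _ : K => (1 : ℂ)) := by
      intro x
      have h3 := congrFun hexp x
      rw [Finset.sum_apply] at h3
      rw [Finset.sum_eq_single (⟨fun _ => 1, Cfsg.Agent.Lib.Helper78.isIrrCharacter_one⟩ :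
        IrrCharacter K)] at h3
      · simpa using h3
      · intro φ _ hne
        have h4 : (φ : K → ℂ) ≠ fun _ => 1 := fun hc => hne (Subtype.ext hc)
        rw [hno φ h4, zero_smul]
        rfl
      · intro h; exact absurd (Finset.mem_univ _) h
    intro k
    rw [hval k]
    exact (hval 1).symm
  obtain ⟨θ, hθ1, hθne⟩ := hex
  -- θ is trivial on Q₀
  have hθQ : ∀ a : K, (a : L) ∈ Q₀ → (θ : K → ℂ) a = (θ : K → ℂ) 1 := by
    intro a ha
    have hcl := Cfsg.Agent.Lib.Helper75.clifford_finset K hψ θ.2 hθne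
    have ha' := congrFun hcl a
    have h1' := congrFun hcl 1
    simp only [Pi.smul_apply, Finset.sum_apply, smul_eq_mul] at ha' h1'
    have hψa : ψ (a : L) = ψ ((1 : K) : L) := hQ ⟨(a : L), ha⟩
    rw [hψa, h1'] at ha'
    have hsum := mul_left_cancel₀ hθne ha'
    -- real parts
    have hle : ∀ φ ∈ Cfsg.Agent.Lib.Helper75.conjOrbit (G := L) K (θ : K → ℂ),
        0 ≤ ((φ : K → ℂ) 1).re - ((φ : K → ℂ) a).re := by
      intro φ _
      have hφc := Cfsg.Agent.Lib.Helper26.IrrFacts.irr_isCharacter φ.2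
      have h2 := Cfsg.Agent.Lib.Helper79.isCharacter_norm_le hφc a
      rw [Cfsg.Agent.Lib.Helper78.IsCharacter.apply_one_eq_charDegree hφc, Complex.natCast_re]
      have := Complex.re_le_norm ((φ : K → ℂ) a)
      linarith
    have hzero : ∑ φ ∈ Cfsg.Agent.Lib.Helper75.conjOrbit (G := L) K (θ : K → ℂ),
        (((φ : K → ℂ) 1).re - ((φ : K → ℂ) a).re) = 0 := by
      have := congrArg Complex.re hsum
      rw [Complex.re_sum, Complex.re_sum] at this
      rw [Finset.sum_sub_distrib, this, sub_self]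
    have hθmem : θ ∈ Cfsg.Agent.Lib.Helper75.conjOrbit (G := L) K (θ : K → ℂ) :=
      (Cfsg.Agent.Lib.Helper75.mem_conjOrbit K).mpr ⟨1, Cfsg.Agent.Lib.Helper75.conjFun_one K _⟩
    have h0 := (Finset.sum_eq_zero_iff_of_nonneg hle).mp hzero θ hθmem
    have hθc := Cfsg.Agent.Lib.Helper26.IrrFacts.irr_isCharacter θ.2
    have h1 := Cfsg.Agent.Lib.Helper78.IsCharacter.apply_one_eq_charDegree hθc
    rw [h1, Complex.natCast_re] at h0
    rw [h1]
    apply Cfsg.Agent.Lib.Helper75.complex_eq_of_re_eq_of_norm_le (d := (charDegree (θ : K → ℂ) : ℝ))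
    · linarith
    · exact Cfsg.Agent.Lib.Helper79.isCharacter_norm_le hθc a
  have hmem : indFun K (θ : K → ℂ) ∈ inducedIrrAbove K Q₀ := ⟨θ, θ.2, hθ1, hθQ, rfl⟩
  have hirr := hSirr _ hmem
  have hinner : classInner (indFun K (θ : K → ℂ)) ψ ≠ 0 := by
    rw [Cfsg.Agent.Lib.Helper75.frobenius_reciprocity K _
      (Cfsg.Agent.Lib.Helper78.IsCharacter.isClassFunction hψc),
      ← Cfsg.Agent.Lib.Helper26.classInner_conj_symm]
    intro h0
    apply hθne
    have := congrArg (starRingEnd ℂ) h0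
    rwa [Complex.conj_conj, map_zero] at this
  have heq : indFun K (θ : K → ℂ) = ψ := by
    by_contra hne
    apply hinner
    rw [(irrFacts L).orthonormal _ _ hirr hψ, if_neg hne]
  rw [← heq]
  exact hmem

end Count

end Cfsg.Agent.Lib.Helper52.PF14Xi
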