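/-
helper52: Peterfalvi sec.14, carrier lemma [XI], part 9: the counting
`e ∑_{ψ ∈ calL} d_ψ² + 1 = |K : Q₀|` and the tournament bound in cardinality form
`|K₂:Q₂| + e₂ ≤ e₁ e₂ + 1  ∨  |K₁:Q₁| + e₁ ≤ e₁ e₂ + 1`.
-/
import Mathlib
import Cfsg.Agent.Lib.Helper52.PF14XiCount
import Cfsg.Agent.Lib.Helper52.PF14XiBound

set_option autoImplicit false
set_option linter.unusedSectionVars false

namespace Cfsg.Agent.Lib.Helper52.PF14Xi

open Cfsg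
open Cfsg.Agent.Lib.Helper26 (irrFacts classInner_sub_left)
open scoped ComplexConjugate

universe u

section Count

variable {L : Type u} [Group L] [Fintype L] (K Q₀ : Subgroup L) [hKn : K.Normal] [hQn : Q₀.Normal]

open Classical in
/-- `⟨ρ_{Q₀} - ρ_K, ψ⟩ ψ(1) = [ψ ∈ calL] ψ(1)²` for irreducible `ψ` -/
theorem inner_R_irr (hQK : Q₀ ≤ K) (hSirr : ∀ χ ∈ inducedIrrAbove K Q₀, IsIrrCharacter L χ)
    (ψ : IrrCharacter L) :
    classInner (rho Q₀ - rho K) (ψ : L → ℂ) * (ψ : L → ℂ) 1 =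
      if (ψ : L → ℂ) ∈ inducedIrrAbove K Q₀ then ((ψ : L → ℂ) 1) ^ 2 else 0 := by
  classical
  rw [classInner_sub_left]
  by_cases hKc : ∀ k : K, (ψ : L → ℂ) k = (ψ : L → ℂ) 1
  · have hQc : ∀ n : Q₀, (ψ : L → ℂ) n = (ψ : L → ℂ) 1 := fun n => hKc ⟨n, hQK n.2⟩
    rw [classInner_rho_irr_of_const Q₀ ψ.2 hQc, classInner_rho_irr_of_const K ψ.2 hKc, sub_self,
      zero_mul, if_neg (fun hm => mem_not_const K Q₀ hm hKc)]
  · by_cases hQc : ∀ n : Q₀, (ψ : L → ℂ) n = (ψ : L → ℂ) 1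
    · rw [classInner_rho_irr_of_const Q₀ ψ.2 hQc, classInner_rho_irr_of_not_const K ψ.2 hKc,
        sub_zero, if_pos (mem_of_irr K Q₀ hSirr ψ.2 hQc hKc)]
      ring
    · rw [classInner_rho_irr_of_not_const Q₀ ψ.2 hQc, classInner_rho_irr_of_not_const K ψ.2 hKc,
        sub_self, zero_mul, if_neg]
      intro hm
      exact hQc (fun n => mem_apply_Q K Q₀ hQK hm n.2)

open Classical in
/-- `|L : Q₀| - |L : K| = ∑_{ψ ∈ calL} ψ(1)²` -/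
theorem sum_sq_degree (hQK : Q₀ ≤ K) (hSirr : ∀ χ ∈ inducedIrrAbove K Q₀, IsIrrCharacter L χ) :
    (Q₀.index : ℂ) - (K.index : ℂ) =
      ∑ ψ ∈ (Finset.univ.filter
        (fun ψ : IrrCharacter L => (ψ : L → ℂ) ∈ inducedIrrAbove K Q₀)), ((ψ : L → ℂ) 1) ^ 2 := by
  classical
  have hcf : IsClassFunction L (rho Q₀ - rho K) :=
    Cfsg.Agent.Lib.Helper78.isClassFunction_sub
      (Cfsg.Agent.Lib.Helper78.IsCharacter.isClassFunction (rho_isCharacter Q₀))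
      (Cfsg.Agent.Lib.Helper78.IsCharacter.isClassFunction (rho_isCharacter K))
  have h1 := apply_one_eq_sum hcf
  rw [Pi.sub_apply, rho_apply_mem Q₀ Q₀.one_mem, rho_apply_mem K K.one_mem,
    Finset.sum_congr rfl (fun ψ _ => inner_R_irr K Q₀ hQK hSirr ψ)] at h1
  rw [h1, Finset.sum_filter]

/-- **[XI-COUNT]**: a finite family `F = calL` with degree multiplicities `d` such that
`e ∑_{ψ ∈ F} d_ψ² + 1 = |K : Q₀|`. -/
theorem exists_family (hQK : Q₀ ≤ K)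
    (hSirr : ∀ χ ∈ inducedIrrAbove K Q₀, IsIrrCharacter L χ) :
    ∃ (F : Finset (L → ℂ)) (d : (L → ℂ) → ℕ),
      (∀ ψ ∈ F, ψ ∈ inducedIrrAbove K Q₀) ∧ (∀ ψ ∈ F, ψ 1 = (d ψ : ℂ) * (K.index : ℂ)) ∧
      K.index * ∑ ψ ∈ F, (d ψ) ^ 2 + 1 = Q₀.relIndex K := by
  classical
  have he : 0 < K.index := Nat.pos_of_ne_zero Subgroup.index_ne_zero_of_finite
  let d : (L → ℂ) → ℕ := fun ψ => charDegree ψ / K.index
  have hd : ∀ ψ ∈ inducedIrrAbove K Q₀, ψ 1 = (d ψ : ℂ) * (K.index : ℂ) := by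
    intro ψ hψ
    obtain ⟨d', -, hd'⟩ := mem_degree K Q₀ hψ
    have h1 : ψ 1 = ((d' * K.index : ℕ) : ℂ) := by rw [hd']; push_cast; ring
    have h2 : charDegree ψ = d' * K.index := Cfsg.Agent.Lib.Helper80.charDegree_natCast h1
    have h3 : d ψ = d' := by
      show charDegree ψ / K.index = d'
      rw [h2, Nat.mul_div_cancel _ he]
    rw [h3, hd']
  let S := Finset.univ.filter (fun ψ : IrrCharacter L => (ψ : L → ℂ) ∈ inducedIrrAbove K Q₀)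
  refine ⟨S.image (fun ψ : IrrCharacter L => (ψ : L → ℂ)), d, ?_, ?_, ?_⟩
  · intro ψ hψ
    obtain ⟨χ, hχ, rfl⟩ := Finset.mem_image.mp hψ
    exact (Finset.mem_filter.mp hχ).2
  · intro ψ hψ
    obtain ⟨χ, hχ, rfl⟩ := Finset.mem_image.mp hψ
    exact hd _ (Finset.mem_filter.mp hχ).2
  · rw [Finset.sum_image (fun a _ b _ h => Subtype.ext h)]
    have h1 := sum_sq_degree K Q₀ hQK hSirr
    have h2 : ∑ ψ ∈ S, ((ψ : L → ℂ) 1) ^ 2 =
        (((K.index ^ 2 * ∑ ψ ∈ S, (d (ψ : L → ℂ)) ^ 2 : ℕ)) : ℂ) := by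
      push_cast
      rw [Finset.mul_sum]
      apply Finset.sum_congr rfl
      intro ψ hψ
      rw [hd _ (Finset.mem_filter.mp hψ).2]
      ring
    rw [h2] at h1
    have h3 : (Q₀.index : ℂ) = ((K.index + K.index ^ 2 * ∑ ψ ∈ S, (d (ψ : L → ℂ)) ^ 2 : ℕ) : ℂ) := by
      push_cast
      push_cast at h1
      linear_combination h1
    have h4 : Q₀.index = K.index + K.index ^ 2 * ∑ ψ ∈ S, (d (ψ : L → ℂ)) ^ 2 := by
      exact_mod_cast h3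
    have h5 := Subgroup.relIndex_mul_index hQK
    rw [h4] at h5
    have h6 : Q₀.relIndex K * K.index =
        (K.index * ∑ ψ ∈ S, (d (ψ : L → ℂ)) ^ 2 + 1) * K.index := by
      rw [h5]; ring
    exact (Nat.eq_of_mul_eq_mul_right he h6).symm

end Count

namespace Carrier

variable {G : Type u} [Group G] [Fintype G]
variable {L₁ : Subgroup G} [Fintype L₁] {K₁ Q₁ : Subgroup L₁} {τ₁ : (L₁ → ℂ) → (G → ℂ)}
  {φ₁ : L₁ → ℂ}
variable {L₂ : Subgroup G} [Fintype L₂] {K₂ Q₂ : Subgroup L₂} {τ₂ : (L₂ → ℂ) → (G → ℂ)}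
  {φ₂ : L₂ → ℂ}

/-- one direction of the tournament bound in cardinality form -/
theorem card_of_bound (C₂ : Carrier L₂ K₂ Q₂ τ₂ φ₂) (e₁ : ℕ)
    (h : ∀ (F : Finset (L₂ → ℂ)) (d : (L₂ → ℂ) → ℕ), (∀ ψ ∈ F, ψ ∈ inducedIrrAbove K₂ Q₂) →
      (∀ ψ ∈ F, ψ 1 = (d ψ : ℂ) * (K₂.index : ℂ)) → 1 + ∑ ψ ∈ F, (d ψ) ^ 2 ≤ e₁) :
    Q₂.relIndex K₂ + K₂.index ≤ e₁ * K₂.index + 1 := by
  have := C₂.hKn
  have := C₂.hQn
  obtain ⟨F, d, hF, hd, hcount⟩ := exists_family K₂ Q₂ C₂.hQK C₂.hSirr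
  have h1 := h F d hF hd
  have h2 := Nat.mul_le_mul_left K₂.index h1
  rw [← hcount]
  nlinarith

/-- **tournament bound, cardinality form**: for two carriers with disjoint supports in a group
of odd order, `|K₂:Q₂| + e₂ ≤ e₁ e₂ + 1` or `|K₁:Q₁| + e₁ ≤ e₁ e₂ + 1`
(i.e. `(|K₂:Q₂| - 1)/e₂ ≤ e₁ - 1` or `(|K₁:Q₁| - 1)/e₁ ≤ e₂ - 1`). -/
theorem tournament_card (C₁ : Carrier L₁ K₁ Q₁ τ₁ φ₁) (C₂ : Carrier L₂ K₂ Q₂ τ₂ φ₂)
    (hdis : Disjoint' L₁ K₁ Q₁ L₂ K₂ Q₂) (hodd : Odd (Nat.card G)) :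
    Q₂.relIndex K₂ + K₂.index ≤ K₁.index * K₂.index + 1 ∨
      Q₁.relIndex K₁ + K₁.index ≤ K₁.index * K₂.index + 1 := by
  rcases tournament_bound C₁ C₂ hdis hodd with h | h
  · left
    exact card_of_bound C₂ K₁.index h
  · right
    have := card_of_bound C₁ K₂.index h
    rw [mul_comm] at this
    exact this

end Carrier

end Cfsg.Agent.Lib.Helper52.PF14Xi
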