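/-
helper52: Peterfalvi sec.14, carrier lemma [XI], part 10: constructing a `Carrier` from a
coherence statement (`IsCoherent calL {1}ᶜ τ` with `τ = Ind` on `ℤ[calL]⁰`) and a linear character
of `K/Q₀`; existence of the latter when `K/Q₀` is nilpotent and nontrivial.
-/
import Mathlib
import Cfsg.Agent.Lib.Helper52.PF14XiCard
import Cfsg.Agent.Lib.Helper52.CohTILinear

set_option autoImplicit false
set_option linter.unusedSectionVars false

namespace Cfsg.Agent.Lib.Helper52.PF14Xi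

open Cfsg
open scoped ComplexConjugate

universe u

section Linear

variable {L : Type u} [Group L] [Fintype L] (K Q₀ : Subgroup L) [hQn : Q₀.Normal]

/-- a non-principal linear character of `K` trivial on `Q₀` exists when `K/Q₀` is nilpotent and
nontrivial -/
theorem exists_linear_above (hlt : Q₀ < K)
    (hnil : Group.IsNilpotent (K ⧸ Q₀.subgroupOf K)) :
    ∃ θ : K → ℂ, IsIrrCharacter K θ ∧ θ ≠ (fun _ => 1) ∧
      (∀ a : K, (a : L) ∈ Q₀ → θ a = θ 1) ∧ θ 1 = 1 := by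
  classical
  haveI : Nontrivial (K ⧸ Q₀.subgroupOf K) := by
    rw [QuotientGroup.nontrivial_iff]
    intro htop
    have h1 : K ≤ Q₀ := Subgroup.subgroupOf_eq_top.mp htop
    exact (not_le_of_gt hlt) h1
  obtain ⟨θ', hθ'1, hθ'ne⟩ := Cfsg.Agent.Lib.Helper52.exists_linear_ne_one (K ⧸ Q₀.subgroupOf K)
  obtain ⟨f, hf⟩ := Cfsg.Agent.Lib.Helper77.exists_monoidHom_of_degree_one
    (Cfsg.Agent.Lib.Helper26.IrrFacts.irr_isCharacter θ'.2) hθ'1
  let g : K →* ℂˣ := f.comp (QuotientGroup.mk' (Q₀.subgroupOf K))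
  refine ⟨fun k => ((g k : ℂˣ) : ℂ), Cfsg.Agent.Lib.Helper77.isIrrCharacter_of_monoidHom g, ?_, ?_,
    ?_⟩
  · intro hc
    apply hθ'ne
    funext x
    obtain ⟨k, rfl⟩ := QuotientGroup.mk'_surjective (Q₀.subgroupOf K) x
    rw [hf]
    exact congrFun hc k
  · intro a ha
    have h1 : QuotientGroup.mk' (Q₀.subgroupOf K) a = 1 := by
      rw [QuotientGroup.mk'_apply, QuotientGroup.eq_one_iff]
      exact Subgroup.mem_subgroupOf.mpr ha
    show ((g a : ℂˣ) : ℂ) = ((g 1 : ℂˣ) : ℂ)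
    have h2 : g a = 1 := by
      show f (QuotientGroup.mk' (Q₀.subgroupOf K) a) = 1
      rw [h1, map_one]
    rw [h2, map_one]
  · show ((g 1 : ℂˣ) : ℂ) = 1
    rw [map_one]
    rfl

end Linear

section Mk

variable {G : Type u} [Group G] [Fintype G]

/-- **constructor**: a `Carrier` from coherence of `calL` (for a map `τ` agreeing with induction
on `ℤ[calL]⁰`), the TI condition and a linear character of `K/Q₀`. -/
theorem Carrier.exists_of_coherent (L : Subgroup G) [Fintype L] (K Q₀ : Subgroup L)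
    [hKn : K.Normal] [hQn : Q₀.Normal] (hQK : Q₀ ≤ K)
    (hSirr : ∀ χ ∈ inducedIrrAbove K Q₀, IsIrrCharacter L χ)
    (τ : (L → ℂ) → (G → ℂ)) (hcoh : IsCoherent (inducedIrrAbove K Q₀) {1}ᶜ τ)
    (hτ : ∀ α ∈ zspanOn (inducedIrrAbove K Q₀) {1}ᶜ, τ α = indFun L α)
    (hTI : ∀ g : G, ∀ x : L, x ∈ supp K Q₀ → ∀ y : L, y ∈ supp K Q₀ →
      g⁻¹ * (x : G) * g = (y : G) → g ∈ L)
    (θ : K → ℂ) (hθ : IsIrrCharacter K θ) (hθ1 : θ ≠ fun _ => 1)
    (hθQ : ∀ a : K, (a : L) ∈ Q₀ → θ a = θ 1) (hθd : θ 1 = 1) :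
    ∃ τ₁ : (L → ℂ) → (G → ℂ), Carrier L K Q₀ τ₁ (indFun K θ) := by
  obtain ⟨-, τ₁, hτ₁, hext⟩ := hcoh
  refine ⟨τ₁, ⟨hKn, hQn, hQK, hSirr, hτ₁, ?_, hTI, ⟨θ, hθ, hθ1, hθQ, rfl⟩, ?_⟩⟩
  · intro α hα
    rw [hext α hα, hτ α hα]
  · rw [Cfsg.Agent.Lib.Helper75.indFun_one, hθd, mul_one]

/-- **constructor**, nilpotent quotient: the linear character is found automatically. -/
theorem Carrier.exists_of_coherent_nilpotent (L : Subgroup G) [Fintype L] (K Q₀ : Subgroup L)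
    [hKn : K.Normal] [hQn : Q₀.Normal] (hlt : Q₀ < K)
    (hnil : Group.IsNilpotent (K ⧸ Q₀.subgroupOf K))
    (hSirr : ∀ χ ∈ inducedIrrAbove K Q₀, IsIrrCharacter L χ)
    (τ : (L → ℂ) → (G → ℂ)) (hcoh : IsCoherent (inducedIrrAbove K Q₀) {1}ᶜ τ)
    (hτ : ∀ α ∈ zspanOn (inducedIrrAbove K Q₀) {1}ᶜ, τ α = indFun L α)
    (hTI : ∀ g : G, ∀ x : L, x ∈ supp K Q₀ → ∀ y : L, y ∈ supp K Q₀ →
      g⁻¹ * (x : G) * g = (y : G) → g ∈ L) :
    ∃ (τ₁ : (L → ℂ) → (G → ℂ)) (φ : L → ℂ), Carrier L K Q₀ τ₁ φ := by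
  obtain ⟨θ, hθ, hθ1, hθQ, hθd⟩ := exists_linear_above K Q₀ hlt hnil
  obtain ⟨τ₁, hC⟩ := Carrier.exists_of_coherent L K Q₀ hlt.le hSirr τ hcoh hτ hTI θ hθ hθ1 hθQ hθd
  exact ⟨τ₁, _, hC⟩

end Mk

end Cfsg.Agent.Lib.Helper52.PF14Xi
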