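/-
helper52: Peterfalvi sec.14, carrier lemma [XI], part 11: pairing the carrier with class functions
of `G` that are constant (resp. vanish) on the support `K ∖ Q₀`:
`⟨A, χ⟩ = conj c`, `⟨χ, A⟩ = c` if `χ = c` on the support; `⟨X, τ₁ ψ⟩ = d_ψ ⟨X, τ₁ φ⟩` if `X`
vanishes on the support.
-/
import Mathlib
import Cfsg.Agent.Lib.Helper52.PF14XiNorm

set_option autoImplicit false
set_option linter.unusedSectionVars false

namespace Cfsg.Agent.Lib.Helper52.PF14Xi

open Cfsg
open Cfsg.Agent.Lib.Helper26 (classInner_add_left classInner_add_right classInner_sub_left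
  classInner_sub_right classInner_zsmul_left classInner_zsmul_right classInner_neg_left
  classInner_neg_right subset_zspan irrFacts)
open scoped ComplexConjugate

universe u

variable {G : Type u} [Group G] [Fintype G]

namespace Carrier

variable {L : Subgroup G} [Fintype L] {K Q₀ : Subgroup L} {τ₁ : (L → ℂ) → (G → ℂ)} {φ : L → ℂ}

variable (C : Carrier L K Q₀ τ₁ φ)
include C

/-- **(d)** if the class function `χ` of `G` is constant `= c` on the support then
`⟨A, χ⟩ = conj c` -/
theorem A_inner_const (hodd : Odd (Nat.card G)) {χ : G → ℂ} (hχ : IsClassFunction G χ) (c : ℂ)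
    (hc : ∀ k : L, k ∈ supp K Q₀ → χ (k : G) = c) :
    classInner (AA L K φ) χ = conj c := by
  have := C.hKn
  have := C.hQn
  have h1 := C.A_inner_one hodd
  unfold AA at h1 ⊢
  rw [Cfsg.Agent.Lib.Helper75.frobenius_reciprocity L _ hχ]
  rw [Cfsg.Agent.Lib.Helper75.frobenius_reciprocity L _
    (Cfsg.Agent.Lib.Helper78.IsCharacter.isClassFunction
      (Cfsg.Agent.Lib.Helper26.IrrFacts.irr_isCharacter
        Cfsg.Agent.Lib.Helper78.isIrrCharacter_one))] at h1
  have h2 : classInner (rho K - φ) (fun l : L => χ (l : G)) =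
      conj c * classInner (rho K - φ) (fun _ : L => (1 : ℂ)) := by
    unfold classInner
    rw [mul_left_comm (conj c)]
    congr 1
    rw [Finset.mul_sum]
    apply Finset.sum_congr rfl
    intro x _
    by_cases hx : x ∈ supp K Q₀
    · show (rho K - φ) x * conj (χ (x : G)) = conj c * ((rho K - φ) x * conj (1 : ℂ))
      rw [hc x hx, map_one, mul_one, mul_comm]
    · rw [C.alpha_vanish x hx, zero_mul, zero_mul, mul_zero]
  rw [h2, h1, mul_one]

/-- **(d)**, other slot: `⟨χ, A⟩ = c` -/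
theorem inner_A_const (hodd : Odd (Nat.card G)) {χ : G → ℂ} (hχ : IsClassFunction G χ) (c : ℂ)
    (hc : ∀ k : L, k ∈ supp K Q₀ → χ (k : G) = c) :
    classInner χ (AA L K φ) = c := by
  rw [← Cfsg.Agent.Lib.Helper26.classInner_conj_symm, C.A_inner_const hodd hχ c hc,
    Complex.conj_conj]

/-- if the class function `X` of `G` vanishes on the support then `⟨A, X⟩ = 0` -/
theorem A_inner_vanish {X : G → ℂ} (hX : IsClassFunction G X)
    (h0 : ∀ k : L, k ∈ supp K Q₀ → X (k : G) = 0) : classInner (AA L K φ) X = 0 :=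
  classInner_indFun_eq_zero_of_vanish L (supp K Q₀) _ C.alpha_vanish X hX h0

/-- if the class function `X` of `G` vanishes on the support then
`⟨τ₁ ψ, X⟩ = d_ψ ⟨τ₁ φ, X⟩` -/
theorem tau_inner_vanish {X : G → ℂ} (hX : IsClassFunction G X)
    (h0 : ∀ k : L, k ∈ supp K Q₀ → X (k : G) = 0) {ψ : L → ℂ} (hψ : ψ ∈ inducedIrrAbove K Q₀)
    (d : ℕ) (hd : ψ 1 = (d : ℂ) * (K.index : ℂ)) :
    classInner (τ₁ ψ) X = (d : ℂ) * classInner (τ₁ φ) X := by
  rw [C.tau_decomp hψ d hd, classInner_add_left, classInner_zsmul_left,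
    classInner_indFun_eq_zero_of_vanish L (supp K Q₀) _ (C.beta_vanish hψ d hd) X hX h0]
  push_cast
  ring

/-- if the class function `X` of `G` vanishes on the support then
`⟨X, τ₁ ψ⟩ = d_ψ ⟨X, τ₁ φ⟩` -/
theorem inner_tau_vanish {X : G → ℂ} (hX : IsClassFunction G X)
    (h0 : ∀ k : L, k ∈ supp K Q₀ → X (k : G) = 0) {ψ : L → ℂ} (hψ : ψ ∈ inducedIrrAbove K Q₀)
    (d : ℕ) (hd : ψ 1 = (d : ℂ) * (K.index : ℂ)) :
    classInner X (τ₁ ψ) = (d : ℂ) * classInner X (τ₁ φ) := by
  rw [← Cfsg.Agent.Lib.Helper26.classInner_conj_symm, C.tau_inner_vanish hX h0 hψ d hd, map_mul,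
    Complex.conj_natCast, Cfsg.Agent.Lib.Helper26.classInner_conj_symm]

/-- a class function `Y` constant `= x` on the support pairs with `Ξ` as `x + ⟨Y, τ₁ φ⟩` -/
theorem inner_xi_const (hodd : Odd (Nat.card G)) {Y : G → ℂ} (hY : IsClassFunction G Y) (x : ℂ)
    (hx : ∀ k : L, k ∈ supp K Q₀ → Y (k : G) = x) :
    classInner Y (Xi L K τ₁ φ) = x + classInner Y (τ₁ φ) := by
  unfold Xi
  rw [classInner_add_right, C.inner_A_const hodd hY x hx]

end Carrier

end Cfsg.Agent.Lib.Helper52.PF14Xi
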