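/-
helper52: Peterfalvi sec.14, [PAR-CARRIER]: helper10's parity step (`PF14Par.par_odd`,
`par_bound`) instantiated on a carrier `(L, K, Q₀)`:
`X` a generalized character of `G` vanishing on the support, `⟨X,1⟩ = 1`, `‖X‖² = N + 2`;
`E` a generalized character, `= x` (an EVEN integer) on the support, `⟨E,1⟩ = 0`, `⟨E, τ₁ φ⟩ = 0`;
`X + E` real; an orthonormal family `Ef` orthogonal to `1` and to `τ₁(calL)` one of whose members
occurs in `X`.  Then `∑_{ψ ∈ F} d_ψ² ≤ N` for every finite `F ⊆ calL`, and `|K:Q₀| ≤ e N + 1`.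
-/
import Mathlib
import Cfsg.Agent.Lib.Helper52.PF14XiVal
import Cfsg.Agent.Lib.Helper52.PF14XiCard
import Cfsg.Agent.Lib.Helper10.PF14Par

set_option autoImplicit false
set_option linter.unusedSectionVars false

namespace Cfsg.Agent.Lib.Helper52.PF14Xi

open Cfsg
open Cfsg.Agent.Lib.Helper26 (classInner_add_left classInner_add_right subset_zspan isom_inner
  irrFacts)
open scoped ComplexConjugate

universe u

variable {G : Type u} [Group G] [Fintype G]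

namespace Carrier

variable {L : Subgroup G} [Fintype L] {K Q₀ : Subgroup L} {τ₁ : (L → ℂ) → (G → ℂ)} {φ : L → ℂ}

/-- **parity step on a carrier**: `x` even forces `μ = ⟨X, τ₁ φ⟩` odd. -/
theorem parity_odd (C : Carrier L K Q₀ τ₁ φ) (hodd : Odd (Nat.card G))
    {X E : G → ℂ} (hX : IsGeneralizedCharacter G X) (hE : IsGeneralizedCharacter G E)
    (hYr : ∀ g, ((X + E) g).im = 0)
    (hX1 : classInner X (fun _ : G => (1 : ℂ)) = 1) (hE1 : classInner E (fun _ : G => (1 : ℂ)) = 0)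
    (hXsupp : ∀ k : L, k ∈ supp K Q₀ → X (k : G) = 0)
    (x : ℤ) (hEx : ∀ k : L, k ∈ supp K Q₀ → E (k : G) = (x : ℂ)) (hxe : Even x)
    (hEτ : classInner E (τ₁ φ) = 0) :
    ∃ μ : ℤ, classInner X (τ₁ φ) = (μ : ℂ) ∧ Odd μ := by
  obtain ⟨μ, hμ, -⟩ := Cfsg.Agent.Lib.Helper25.inner_int' hX C.X_gen
  refine ⟨μ, hμ, ?_⟩
  have hXcf := Cfsg.Agent.Lib.Helper10.PF14Tour.isClassFunction_of_gen hX
  have hEcf := Cfsg.Agent.Lib.Helper10.PF14Tour.isClassFunction_of_gen hE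
  have hYA : classInner (X + E) (AA L K φ) = (x : ℂ) := by
    rw [classInner_add_left, C.inner_A_const hodd hEcf (x : ℂ) hEx,
      ← Cfsg.Agent.Lib.Helper26.classInner_conj_symm, C.A_inner_vanish hXcf hXsupp, map_zero,
      zero_add]
  exact Cfsg.Agent.Lib.Helper10.PF14Par.par_odd hodd ((irrFacts G).gen_add hX hE) C.xi_gen hYr
    (C.xi_real hodd) (by rw [classInner_add_left, hX1, hE1, add_zero]) (C.xi_inner_one hodd)
    x μ hYA hμ hEτ hxe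

/-- **parity bound on a carrier**, family form. -/
theorem parity_bound (C : Carrier L K Q₀ τ₁ φ) (hodd : Odd (Nat.card G))
    {X E : G → ℂ} (hX : IsGeneralizedCharacter G X) (hE : IsGeneralizedCharacter G E)
    (hYr : ∀ g, ((X + E) g).im = 0)
    (hX1 : classInner X (fun _ : G => (1 : ℂ)) = 1) (hE1 : classInner E (fun _ : G => (1 : ℂ)) = 0)
    (hXsupp : ∀ k : L, k ∈ supp K Q₀ → X (k : G) = 0)
    (x : ℤ) (hEx : ∀ k : L, k ∈ supp K Q₀ → E (k : G) = (x : ℂ)) (hxe : Even x)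
    (hEτ : classInner E (τ₁ φ) = 0)
    (N : ℤ) (hN : classInner X X = ((N + 2 : ℤ) : ℂ))
    {κ : Type*} [Fintype κ] [DecidableEq κ] (Ef : κ → G → ℂ)
    (hEf : ∀ a b, classInner (Ef a) (Ef b) = if a = b then 1 else 0)
    (hEf1 : ∀ a, classInner (Ef a) (fun _ : G => (1 : ℂ)) = 0)
    (hEfτ : ∀ a, ∀ ψ ∈ inducedIrrAbove K Q₀, classInner (Ef a) (τ₁ ψ) = 0)
    (c : κ → ℤ) (hc : ∀ a, classInner X (Ef a) = ((c a : ℤ) : ℂ)) (hcne : ∃ a, c a ≠ 0)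
    (F : Finset (L → ℂ)) (d : (L → ℂ) → ℕ) (hF : ∀ ψ ∈ F, ψ ∈ inducedIrrAbove K Q₀)
    (hd : ∀ ψ ∈ F, ψ 1 = (d ψ : ℂ) * (K.index : ℂ)) :
    ((∑ ψ ∈ F, (d ψ) ^ 2 : ℕ) : ℤ) ≤ N := by
  classical
  obtain ⟨μ, hμ, hμodd⟩ := C.parity_odd hodd hX hE hYr hX1 hE1 hXsupp x hEx hxe hEτ
  have hμ0 : μ ≠ 0 := by
    intro h
    rw [h] at hμodd
    simp at hμodd
  have hXcf := Cfsg.Agent.Lib.Helper10.PF14Tour.isClassFunction_of_gen hX
  have key := Cfsg.Agent.Lib.Helper10.PF14Par.par_bound (ι := ↥F) (κ := κ)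
    (fun ψ => τ₁ ψ.1) Ef ?_ hEf ?_ ?_ hEf1 X N hN hX1 c hc hcne (fun ψ => (d ψ.1 : ℤ)) μ ?_ hμ0
  · have e1 : ∑ ψ : ↥F, ((d ψ.1 : ℤ)) ^ 2 = ∑ ψ ∈ F, ((d ψ : ℤ)) ^ 2 :=
      Finset.sum_coe_sort F (fun ψ => ((d ψ : ℤ)) ^ 2)
    rw [e1] at key
    push_cast
    exact key
  · intro ψ ψ'
    show classInner (τ₁ ψ.1) (τ₁ ψ'.1) = _
    rw [isom_inner C.hτ₁ (subset_zspan _ (hF _ ψ.2)) (subset_zspan _ (hF _ ψ'.2)),
      (irrFacts L).orthonormal _ _ (C.hSirr _ (hF _ ψ.2)) (C.hSirr _ (hF _ ψ'.2))]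
    by_cases h : ψ = ψ'
    · rw [if_pos (congrArg Subtype.val h), if_pos h]
    · rw [if_neg (fun hc => h (Subtype.ext hc)), if_neg h]
  · intro a ψ
    exact hEfτ a _ (hF _ ψ.2)
  · intro ψ
    exact C.tau_inner_one hodd (hF _ ψ.2)
  · intro ψ
    show classInner X (τ₁ ψ.1) = _
    rw [C.inner_tau_vanish hXcf hXsupp (hF _ ψ.2) (d ψ.1) (hd _ ψ.2), hμ]
    push_cast
    ring

/-- **parity bound on a carrier**, cardinality form: `|K : Q₀| ≤ e N + 1`. -/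
theorem parity_card (C : Carrier L K Q₀ τ₁ φ) (hodd : Odd (Nat.card G))
    {X E : G → ℂ} (hX : IsGeneralizedCharacter G X) (hE : IsGeneralizedCharacter G E)
    (hYr : ∀ g, ((X + E) g).im = 0)
    (hX1 : classInner X (fun _ : G => (1 : ℂ)) = 1) (hE1 : classInner E (fun _ : G => (1 : ℂ)) = 0)
    (hXsupp : ∀ k : L, k ∈ supp K Q₀ → X (k : G) = 0)
    (x : ℤ) (hEx : ∀ k : L, k ∈ supp K Q₀ → E (k : G) = (x : ℂ)) (hxe : Even x)
    (hEτ : classInner E (τ₁ φ) = 0)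
    (N : ℤ) (hN : classInner X X = ((N + 2 : ℤ) : ℂ))
    {κ : Type*} [Fintype κ] [DecidableEq κ] (Ef : κ → G → ℂ)
    (hEf : ∀ a b, classInner (Ef a) (Ef b) = if a = b then 1 else 0)
    (hEf1 : ∀ a, classInner (Ef a) (fun _ : G => (1 : ℂ)) = 0)
    (hEfτ : ∀ a, ∀ ψ ∈ inducedIrrAbove K Q₀, classInner (Ef a) (τ₁ ψ) = 0)
    (c : κ → ℤ) (hc : ∀ a, classInner X (Ef a) = ((c a : ℤ) : ℂ)) (hcne : ∃ a, c a ≠ 0) :
    (Q₀.relIndex K : ℤ) ≤ (K.index : ℤ) * N + 1 := by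
  have := C.hKn
  have := C.hQn
  obtain ⟨F, d, hF, hd, hcount⟩ := exists_family K Q₀ C.hQK C.hSirr
  have h1 := C.parity_bound hodd hX hE hYr hX1 hE1 hXsupp x hEx hxe hEτ N hN Ef hEf hEf1 hEfτ c hc
    hcne F d hF hd
  have h2 : ((Q₀.relIndex K : ℕ) : ℤ) = (K.index : ℤ) * ((∑ ψ ∈ F, (d ψ) ^ 2 : ℕ) : ℤ) + 1 := by
    rw [← hcount]
    push_cast
    ring
  rw [h2]
  have h3 : (0 : ℤ) ≤ (K.index : ℤ) := Int.natCast_nonneg _
  nlinarith

end Carrier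

end Cfsg.Agent.Lib.Helper52.PF14Xi
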