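/-
helper52: Peterfalvi sec.14: a `Carrier` for a Frobenius class (helper34's `FrobClass L H`):
coherence from Sibley's theorem S1524, exactly as in S1526.
-/
import Mathlib
import Cfsg.Agent.Lib.Helper52.PF14XiMk
import Cfsg.Agent.Lib.Helper52.PF14XiPar
import Cfsg.Agent.Lib.Helper34.PF14EndFrob

set_option autoImplicit false
set_option linter.unusedSectionVars false

namespace Cfsg.Agent.Lib.Helper52.PF14Xi

open Cfsg Cfsg.Agent.Lib.Helper34.PF14End
open scoped ComplexConjugate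

universe u

variable {G : Type u} [Group G] [Fintype G]

/-- **a Frobenius class carries a `Carrier`** (with `Q₀ = ⊥`). -/
theorem Carrier.exists_of_frobClass (hodd : Odd (Nat.card G)) {L H : Subgroup G} [Fintype L]
    (c : FrobClass L H) :
    ∃ (τ₁ : (L → ℂ) → (G → ℂ)) (φ : L → ℂ), Carrier L (H.subgroupOf L) ⊥ τ₁ φ := by
  classical
  obtain ⟨hnil, W, hWL, hW1, hinf, hsup, hfpf⟩ :=
    Cfsg.Agent.Lib.Helper52.frobenius_kernel_setup H L c.lt c.ne_bot c.normal c.frob
  have hoddL : Odd (Nat.card L) := Odd.of_dvd_nat hodd (Subgroup.card_subgroup_dvd_card _)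
  have hcoh := Cfsg.Agent.S1524.result H L W hoddL c.lt.le hWL c.ne_bot hW1 hnil c.normal hinf hsup
    hfpf c.ti c.nor
  haveI hKn : (H.subgroupOf L).Normal :=
    Cfsg.Agent.Lib.Helper74.subgroupOf_normal_of_conj H L c.normal
  have hC := Cfsg.Agent.Lib.Helper74.frobK_centralizer_le H L W c.lt.le hWL c.normal hsup hfpf
  have hSirr : ∀ χ ∈ inducedIrrAbove (H.subgroupOf L) ⊥, IsIrrCharacter L χ :=
    fun χ hχ => Cfsg.Agent.Lib.Helper74.sibleyS_isIrrCharacter (H.subgroupOf L) hC hχ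
  have hlt : (⊥ : Subgroup L) < H.subgroupOf L :=
    bot_lt_iff_ne_bot.mpr (Cfsg.Agent.Lib.Helper74.subgroupOf_ne_bot H L c.lt.le c.ne_bot)
  haveI : Group.IsNilpotent ↥(H.subgroupOf L) :=
    Group.nilpotent_of_mulEquiv (Subgroup.subgroupOfEquivOfLe c.lt.le).symm
  have hnilq : Group.IsNilpotent
      (↥(H.subgroupOf L) ⧸ (⊥ : Subgroup L).subgroupOf (H.subgroupOf L)) :=
    Group.nilpotent_quotient_of_nilpotent _
  apply Carrier.exists_of_coherent_nilpotent L (H.subgroupOf L) ⊥ hlt hnilq hSirr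
    (fun α : L → ℂ => indFun L α) hcoh (fun α _ => rfl)
  -- the TI condition
  intro g x hx y hy hxy
  by_contra hgL
  have hg' : g⁻¹ ∉ Subgroup.normalizer (H : Set G) := by
    rw [c.nor]
    intro h
    apply hgL
    have := L.inv_mem h
    rwa [inv_inv] at this
  have hxH : (x : G) ∈ H := Subgroup.mem_subgroupOf.mp hx.1
  have hyH : (y : G) ∈ H := Subgroup.mem_subgroupOf.mp hy.1
  have h1 := c.ti g⁻¹ hg' (x : G) hxH (by rw [inv_inv, hxy]; exact hyH)
  apply hx.2
  rw [Subgroup.mem_bot]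
  exact Subtype.ext h1

end Cfsg.Agent.Lib.Helper52.PF14Xi
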