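/-
helper52: Peterfalvi sec.14, carrier lemma [XI], part 14: a signed irreducible character of `G`
that is CONSTANT on the support `K ∖ Q₀` of a carrier is orthogonal to `τ₁(calL)`.
(`⟨τ₁ ψ, E⟩ = d_ψ ⟨τ₁ φ, E⟩` for every `ψ ∈ calL`; `φ` and `conj φ` are two different members
of degree `|L:K|`, and a signed irreducible `E` cannot meet both `τ₁ φ` and `τ₁ (conj φ)`.)
So the hypotheses `hEτ`, `hEfτ` of `Carrier.parity_card` are automatic for the `η ω`.
-/
import Mathlib
import Cfsg.Agent.Lib.Helper52.PF14XiPar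

set_option autoImplicit false
set_option linter.unusedSectionVars false

namespace Cfsg.Agent.Lib.Helper52.PF14Xi

open Cfsg
open Cfsg.Agent.Lib.Helper26 (classInner_add_left classInner_add_right classInner_sub_left
  classInner_sub_right classInner_zsmul_left classInner_zsmul_right classInner_neg_left
  classInner_neg_right subset_zspan irrFacts isom_inner)
open Cfsg.Agent.Lib.Helper25 (SIrr)
open scoped ComplexConjugate

universe u

variable {G : Type u} [Group G] [Fintype G]

namespace Carrier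

variable {L : Subgroup G} [Fintype L] {K Q₀ : Subgroup L} {τ₁ : (L → ℂ) → (G → ℂ)} {φ : L → ℂ}

variable (C : Carrier L K Q₀ τ₁ φ)
include C

/-- if the class function `E` of `G` is constant on the support then
`⟨τ₁ ψ, E⟩ = d_ψ ⟨τ₁ φ, E⟩` -/
theorem tau_inner_const (hodd : Odd (Nat.card G)) {E : G → ℂ} (hE : IsClassFunction G E) (x : ℂ)
    (hx : ∀ k : L, k ∈ supp K Q₀ → E (k : G) = x) {ψ : L → ℂ} (hψ : ψ ∈ inducedIrrAbove K Q₀)
    (d : ℕ) (hd : ψ 1 = (d : ℂ) * (K.index : ℂ)) :
    classInner (τ₁ ψ) E = (d : ℂ) * classInner (τ₁ φ) E := by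
  have := C.hKn
  have := C.hQn
  have h0 : classInner (indFun L (ψ - (d : ℤ) • φ)) E = 0 := by
    rw [Cfsg.Agent.Lib.Helper75.frobenius_reciprocity L _ hE]
    have h2 : classInner (ψ - (d : ℤ) • φ) (fun l : L => E (l : G)) =
        conj x * classInner (ψ - (d : ℤ) • φ) (fun _ : L => (1 : ℂ)) := by
      unfold classInner
      rw [mul_left_comm (conj x)]
      congr 1
      rw [Finset.mul_sum]
      apply Finset.sum_congr rfl
      intro y _
      by_cases hy : y ∈ supp K Q₀
      · show (ψ - (d : ℤ) • φ) y * conj (E (y : G)) =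
          conj x * ((ψ - (d : ℤ) • φ) y * conj (1 : ℂ))
        rw [hx y hy, map_one, mul_one, mul_comm]
      · rw [C.beta_vanish hψ d hd y hy, zero_mul, zero_mul, mul_zero]
    rw [h2, classInner_sub_left, classInner_zsmul_left, C.mem_inner_one hodd hψ,
      C.mem_inner_one hodd C.hφ, mul_zero, sub_zero, mul_zero]
  rw [C.tau_decomp hψ d hd, classInner_add_left, classInner_zsmul_left, h0]
  push_cast
  ring

/-- **a signed irreducible character constant on the support is orthogonal to `τ₁(calL)`** -/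
theorem tau_inner_eq_zero_of_const (hodd : Odd (Nat.card G)) {E : G → ℂ} (hE : SIrr G E) (x : ℂ)
    (hx : ∀ k : L, k ∈ supp K Q₀ → E (k : G) = x) {ψ : L → ℂ} (hψ : ψ ∈ inducedIrrAbove K Q₀) :
    classInner (τ₁ ψ) E = 0 := by
  have := C.hKn
  have := C.hQn
  have hEcf := Cfsg.Agent.Lib.Helper10.PF14Tour.isClassFunction_of_gen hE.gen
  obtain ⟨d, -, hd⟩ := mem_degree K Q₀ hψ
  rw [C.tau_inner_const hodd hEcf x hx hψ d hd]
  have hφ' := mem_conj_mem K Q₀ C.hφ
  have h1 : classInner (τ₁ (conjFun φ)) E = classInner (τ₁ φ) E := by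
    rw [C.tau_inner_const hodd hEcf x hx hφ' 1 (by
      rw [conjFun_one_eq K Q₀ C.hφ, C.hφ1]; push_cast; ring)]
    push_cast
    ring
  have h2 : classInner (τ₁ φ) (τ₁ (conjFun φ)) = 0 := by
    rw [isom_inner C.hτ₁ (subset_zspan _ C.hφ) (subset_zspan _ hφ'), C.inner_conj hodd C.hφ]
  by_contra hne
  have hm : classInner (τ₁ φ) E ≠ 0 := fun h => hne (by rw [h, mul_zero])
  have hm' : classInner (τ₁ (conjFun φ)) E ≠ 0 := by rw [h1]; exact hm
  have ha : τ₁ φ = E ∨ τ₁ φ = -E := by
    rcases (C.sirr C.hφ).inner_tri hE with h | h | h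
    · exact Or.inl h.2
    · exact Or.inr h.2
    · exact absurd h hm
  have hb : τ₁ (conjFun φ) = E ∨ τ₁ (conjFun φ) = -E := by
    rcases (C.sirr hφ').inner_tri hE with h | h | h
    · exact Or.inl h.2
    · exact Or.inr h.2
    · exact absurd h hm'
  have hEn := hE.norm
  rcases ha with ha | ha <;> rcases hb with hb | hb <;> rw [ha, hb] at h2
  · rw [hEn] at h2; exact one_ne_zero h2
  · rw [classInner_neg_right, hEn] at h2; exact one_ne_zero (neg_eq_zero.mp h2)
  · rw [classInner_neg_left, hEn] at h2; exact one_ne_zero (neg_eq_zero.mp h2)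
  · rw [classInner_neg_left, classInner_neg_right, neg_neg, hEn] at h2; exact one_ne_zero h2

/-- other slot -/
theorem inner_tau_eq_zero_of_const (hodd : Odd (Nat.card G)) {E : G → ℂ} (hE : SIrr G E) (x : ℂ)
    (hx : ∀ k : L, k ∈ supp K Q₀ → E (k : G) = x) {ψ : L → ℂ} (hψ : ψ ∈ inducedIrrAbove K Q₀) :
    classInner E (τ₁ ψ) = 0 := by
  rw [← Cfsg.Agent.Lib.Helper26.classInner_conj_symm,
    C.tau_inner_eq_zero_of_const hodd hE x hx hψ, map_zero]

end Carrier

end Cfsg.Agent.Lib.Helper52.PF14Xi
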