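/-
helper52: Peterfalvi sec.14, [PAR-CARRIER] with the orthogonality hypotheses discharged
(`E`, `Ef a` signed irreducible and constant on the support: `PF14XiOrth`), and the same on a
Frobenius class (helper34's `FrobClass L H`), in `ℕ`:  `|H| - 1 ≤ |L:H| N`.
-/
import Mathlib
import Cfsg.Agent.Lib.Helper52.PF14XiOrth
import Cfsg.Agent.Lib.Helper52.PF14XiFrob

set_option autoImplicit false
set_option linter.unusedSectionVars false

namespace Cfsg.Agent.Lib.Helper52.PF14Xi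

open Cfsg Cfsg.Agent.Lib.Helper34.PF14End
open Cfsg.Agent.Lib.Helper25 (SIrr)
open scoped ComplexConjugate

universe u

variable {G : Type u} [Group G] [Fintype G]

/-- **parity bound on a carrier**, cardinality form, `E` and the `Ef a` signed irreducible
characters constant on the support (no orthogonality hypotheses). -/
theorem Carrier.parity_card_sirr {L : Subgroup G} [Fintype L] {K Q₀ : Subgroup L}
    {τ₁ : (L → ℂ) → (G → ℂ)} {φ : L → ℂ} (C : Carrier L K Q₀ τ₁ φ) (hodd : Odd (Nat.card G))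
    {X E : G → ℂ} (hX : IsGeneralizedCharacter G X) (hE : SIrr G E)
    (hYr : ∀ g, ((X + E) g).im = 0)
    (hX1 : classInner X (fun _ : G => (1 : ℂ)) = 1) (hE1 : classInner E (fun _ : G => (1 : ℂ)) = 0)
    (hXsupp : ∀ k : L, k ∈ supp K Q₀ → X (k : G) = 0)
    (x : ℤ) (hEx : ∀ k : L, k ∈ supp K Q₀ → E (k : G) = (x : ℂ)) (hxe : Even x)
    (N : ℤ) (hN : classInner X X = ((N + 2 : ℤ) : ℂ))
    {κ : Type*} [Fintype κ] [DecidableEq κ] (Ef : κ → G → ℂ) (hEfs : ∀ a, SIrr G (Ef a))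
    (hEf : ∀ a b, classInner (Ef a) (Ef b) = if a = b then 1 else 0)
    (hEf1 : ∀ a, classInner (Ef a) (fun _ : G => (1 : ℂ)) = 0)
    (xf : κ → ℂ) (hEfx : ∀ a, ∀ k : L, k ∈ supp K Q₀ → Ef a (k : G) = xf a)
    (c : κ → ℤ) (hc : ∀ a, classInner X (Ef a) = ((c a : ℤ) : ℂ)) (hcne : ∃ a, c a ≠ 0) :
    (Q₀.relIndex K : ℤ) ≤ (K.index : ℤ) * N + 1 :=
  C.parity_card hodd hX hE.gen hYr hX1 hE1 hXsupp x hEx hxe
    (C.inner_tau_eq_zero_of_const hodd hE (x : ℂ) hEx C.hφ) N hN Ef hEf hEf1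
    (fun a _ hψ => C.inner_tau_eq_zero_of_const hodd (hEfs a) (xf a) (hEfx a) hψ) c hc hcne

/-- **parity bound on a Frobenius class**, in `ℕ`. -/
theorem parity_card_frobClass (hodd : Odd (Nat.card G)) {L H : Subgroup G} (cl : FrobClass L H)
    {X E : G → ℂ} (hX : IsGeneralizedCharacter G X) (hE : SIrr G E)
    (hYr : ∀ g, ((X + E) g).im = 0)
    (hX1 : classInner X (fun _ : G => (1 : ℂ)) = 1) (hE1 : classInner E (fun _ : G => (1 : ℂ)) = 0)
    (hXsupp : ∀ k ∈ H, k ≠ 1 → X k = 0)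
    (x : ℤ) (hEx : ∀ k ∈ H, k ≠ 1 → E k = (x : ℂ)) (hxe : Even x)
    (N : ℕ) (hN : classInner X X = ((N : ℂ) + 2))
    {κ : Type*} [Fintype κ] [DecidableEq κ] (Ef : κ → G → ℂ) (hEfs : ∀ a, SIrr G (Ef a))
    (hEf : ∀ a b, classInner (Ef a) (Ef b) = if a = b then 1 else 0)
    (hEf1 : ∀ a, classInner (Ef a) (fun _ : G => (1 : ℂ)) = 0)
    (xf : κ → ℂ) (hEfx : ∀ a, ∀ k ∈ H, k ≠ 1 → Ef a k = xf a)
    (c : κ → ℤ) (hc : ∀ a, classInner X (Ef a) = ((c a : ℤ) : ℂ)) (hcne : ∃ a, c a ≠ 0) :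
    Nat.card H - 1 ≤ H.relIndex L * N := by
  classical
  haveI : Fintype L := Fintype.ofFinite L
  obtain ⟨τ₁, φ, C⟩ := Carrier.exists_of_frobClass hodd cl
  have hmem : ∀ k : L, k ∈ supp (H.subgroupOf L) ⊥ → (k : G) ∈ H ∧ (k : G) ≠ 1 := by
    intro k hk
    refine ⟨Subgroup.mem_subgroupOf.mp hk.1, ?_⟩
    intro h
    apply hk.2
    rw [Subgroup.mem_bot]
    exact Subtype.ext h
  have key := C.parity_card_sirr hodd hX hE hYr hX1 hE1
    (fun k hk => hXsupp _ (hmem k hk).1 (hmem k hk).2) x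
    (fun k hk => hEx _ (hmem k hk).1 (hmem k hk).2) hxe (N : ℤ)
    (by rw [hN]; push_cast; ring) Ef hEfs hEf hEf1 xf
    (fun a k hk => hEfx a _ (hmem k hk).1 (hmem k hk).2) c hc hcne
  have h1 : (⊥ : Subgroup L).relIndex (H.subgroupOf L) = Nat.card H := by
    rw [Subgroup.relIndex_bot_left]
    exact Nat.card_congr (Subgroup.subgroupOfEquivOfLe cl.lt.le).toEquiv
  have h2 : (H.subgroupOf L).index = H.relIndex L := rfl
  rw [h1, h2] at key
  have key' : Nat.card H ≤ H.relIndex L * N + 1 := by exact_mod_cast key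
  omega

end Cfsg.Agent.Lib.Helper52.PF14Xi
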