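/-
helper52: Peterfalvi sec.14: on a carrier with `Q₀ = ⊥` (in particular on a Frobenius class of
helper34) a signed irreducible character of `G` which is INTEGER valued on `K#` is constant on `K#`
(helper51's `orth_and_const_of_ind`), so it is a constant INTEGER there.  With this the parity bound
on a Frobenius class needs only integrality of `E` and of the `Ef a` on `H#`.
-/
import Mathlib
import Cfsg.Agent.Lib.Helper52.PF14XiParF
import Cfsg.Agent.Lib.Helper51.PF14ALA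

set_option autoImplicit false
set_option linter.unusedSectionVars false

namespace Cfsg.Agent.Lib.Helper52.PF14Xi

open Cfsg Cfsg.Agent.Lib.Helper34.PF14End
open Cfsg.Agent.Lib.Helper25 (SIrr)
open scoped ComplexConjugate

universe u

variable {G : Type u} [Group G] [Fintype G]

/-- on a carrier with `Q₀ = ⊥`: integer valued on `K#` implies constant on `K#` -/
theorem Carrier.const_of_int {L : Subgroup G} [Fintype L] {K : Subgroup L}
    {τ₁ : (L → ℂ) → (G → ℂ)} {φ : L → ℂ} (C : Carrier L K ⊥ τ₁ φ) (hodd : Odd (Nat.card G))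
    {η : G → ℂ} (hη : SIrr G η) (hZ : ∀ k : L, k ∈ K → k ≠ 1 → ∃ n : ℤ, η k = n) :
    ∃ x : ℤ, ∀ k : L, k ∈ K → k ≠ 1 → η k = (x : ℂ) := by
  classical
  haveI := C.hKn
  have h := (Cfsg.Agent.Lib.Helper51.PF14.orth_and_const_of_ind L K τ₁ (C.oddL hodd) C.hSirr
    C.hτ₁ C.hext η hη hZ).2
  by_cases hex : ∃ k : L, k ∈ K ∧ k ≠ 1
  · obtain ⟨k₀, hk₀, hk₀1⟩ := hex
    obtain ⟨x, hx⟩ := hZ k₀ hk₀ hk₀1
    refine ⟨x, fun k hk hk1 => ?_⟩
    rw [h k k₀ hk hk₀ hk1 hk₀1, hx]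
  · refine ⟨0, fun k hk hk1 => ?_⟩
    exact absurd ⟨k, hk, hk1⟩ hex

/-- **on a Frobenius class: integer valued on `H#` implies constant on `H#`** -/
theorem const_of_int_frobClass (hodd : Odd (Nat.card G)) {L H : Subgroup G} (cl : FrobClass L H)
    {η : G → ℂ} (hη : SIrr G η) (hZ : ∀ k ∈ H, k ≠ 1 → ∃ n : ℤ, η k = n) :
    ∃ x : ℤ, ∀ k ∈ H, k ≠ 1 → η k = (x : ℂ) := by
  classical
  haveI : Fintype L := Fintype.ofFinite L
  obtain ⟨τ₁, φ, C⟩ := Carrier.exists_of_frobClass hodd cl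
  obtain ⟨x, hx⟩ := C.const_of_int hodd hη (fun k hk hk1 =>
    hZ (k : G) (Subgroup.mem_subgroupOf.mp hk) (fun h => hk1 (Subtype.ext h)))
  refine ⟨x, fun k hk hk1 => ?_⟩
  have hkL : k ∈ L := cl.lt.le hk
  exact hx ⟨k, hkL⟩ (Subgroup.mem_subgroupOf.mpr hk) (fun h => hk1 (congrArg Subtype.val h))

/-- **parity bound on a Frobenius class**, in `ℕ`, with integrality only: `E` and the `Ef a`
signed irreducible and integer valued on `H#`; the value `x` of `E` at one `k₀ ∈ H#` even. -/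
theorem parity_card_frobClass_int (hodd : Odd (Nat.card G)) {L H : Subgroup G}
    (cl : FrobClass L H)
    {X E : G → ℂ} (hX : IsGeneralizedCharacter G X) (hE : SIrr G E)
    (hYr : ∀ g, ((X + E) g).im = 0)
    (hX1 : classInner X (fun _ : G => (1 : ℂ)) = 1) (hE1 : classInner E (fun _ : G => (1 : ℂ)) = 0)
    (hXsupp : ∀ k ∈ H, k ≠ 1 → X k = 0)
    (hEZ : ∀ k ∈ H, k ≠ 1 → ∃ n : ℤ, E k = n)
    (k₀ : G) (hk₀ : k₀ ∈ H) (hk₀1 : k₀ ≠ 1) (x : ℤ) (hEx : E k₀ = (x : ℂ)) (hxe : Even x)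
    (N : ℕ) (hN : classInner X X = ((N : ℂ) + 2))
    {κ : Type*} [Fintype κ] [DecidableEq κ] (Ef : κ → G → ℂ) (hEfs : ∀ a, SIrr G (Ef a))
    (hEf : ∀ a b, classInner (Ef a) (Ef b) = if a = b then 1 else 0)
    (hEf1 : ∀ a, classInner (Ef a) (fun _ : G => (1 : ℂ)) = 0)
    (hEfZ : ∀ a, ∀ k ∈ H, k ≠ 1 → ∃ n : ℤ, Ef a k = n)
    (c : κ → ℤ) (hc : ∀ a, classInner X (Ef a) = ((c a : ℤ) : ℂ)) (hcne : ∃ a, c a ≠ 0) :
    Nat.card H - 1 ≤ H.relIndex L * N := by
  classical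
  obtain ⟨x', hx'⟩ := const_of_int_frobClass hodd cl hE hEZ
  have hxx : x' = x := by
    have := hx' k₀ hk₀ hk₀1
    rw [hEx] at this
    exact_mod_cast this.symm
  subst hxx
  choose xf hxf using fun a => const_of_int_frobClass hodd cl (hEfs a) (hEfZ a)
  exact parity_card_frobClass hodd cl hX hE hYr hX1 hE1 hXsupp x' hx' hxe N hN Ef hEfs hEf hEf1
    (fun a => (xf a : ℂ)) hxf c hc hcne

end Cfsg.Agent.Lib.Helper52.PF14Xi
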