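/-
CN-groups (helper52): a subgroup of a CN-group acting without fixed points on a nontrivial abelian
normal subgroup of coprime order is nilpotent; the `p`-elements of a normal nilpotent subgroup.
-/
import Mathlib
import Cfsg.Agent.Lib.Helper52.CNFrob
import Cfsg.Agent.Lib.Helper52.NilpCrit
import Cfsg.Agent.S0092

set_option autoImplicit false

namespace Cfsg.Agent.Lib.Helper52

variable {G : Type*} [Group G]

/-- A subgroup `B` of a CN-group acting without fixed points on a nontrivial abelian normal subgroup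
`V` of order prime to `|B|` is nilpotent. -/
theorem isNilpotent_of_fpf [Finite G] (hCN : Cfsg.IsCNGroup G) (V : Subgroup G) [V.Normal]
    (hVab : IsMulCommutative V) (hV1 : V ≠ ⊥) (B : Subgroup G)
    (hcop : (Nat.card V).Coprime (Nat.card B))
    (hfpf : ∀ b ∈ B, b ≠ 1 → V ⊓ Subgroup.centralizer ({b} : Set G) = ⊥) :
    Group.IsNilpotent B := by
  apply isNilpotent_of_forall_normalizer_le_centralizer
  intro r hr Q hQ g hg hgr
  rw [Subgroup.mem_centralizer_iff]
  by_cases hQ1 : Q = ⊥
  · intro q hq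
    rw [hQ1, SetLike.mem_coe, Subgroup.mem_bot] at hq
    rw [hq, one_mul, mul_one]
  have hrB : r ∣ Nat.card B := by
    have h1 : r ∣ Nat.card Q := by
      obtain ⟨a, ha⟩ := IsPGroup.iff_card.mp hQ
      rw [ha]
      apply dvd_pow_self
      rintro rfl
      rw [pow_zero] at ha
      exact hQ1 (Subgroup.card_eq_one.mp ha)
    exact h1.trans (Subgroup.card_subgroup_dvd_card Q)
  have hVr : (Nat.card V).Coprime r := Nat.Coprime.coprime_dvd_right hrB hcop
  have hgN : (g : G) ∈ Subgroup.normalizer ((Q.map B.subtype : Subgroup G) : Set G) := by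
    have : (g : G) ∈ (Subgroup.normalizer (Q : Set B)).map B.subtype := ⟨g, hg, rfl⟩
    rw [Cfsg.Agent.S0092.map_normalizer_subtype] at this
    exact (Subgroup.mem_inf.mp this).2
  have hsupB : Q.map B.subtype ⊔ Subgroup.zpowers (g : G) ≤ B := by
    apply sup_le (Subgroup.map_subtype_le _)
    rw [Subgroup.zpowers_le]; exact g.2
  have hres := centralizes_of_fpf hCN V hVab hV1 r hVr (Q.map B.subtype) (hQ.map _) (g : G) hgN
    (by rw [Subgroup.orderOf_coe]; exact hgr)
    (fun e he he1 => hfpf e (hsupB he) he1)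
  intro q hq
  apply Subtype.ext
  exact Subgroup.mem_centralizer_iff.mp hres (q : G) ⟨q, hq, rfl⟩

/-- The `p`-elements of a normal nilpotent subgroup `N` with `p ∣ |N|` form a nontrivial normal
`p`-subgroup. -/
theorem exists_normal_pElements [Finite G] (N : Subgroup G) [hNn : N.Normal]
    (hN : Group.IsNilpotent N) (p : ℕ) [hp : Fact p.Prime] (hdvd : p ∣ Nat.card N) :
    ∃ P : Subgroup G, P.Normal ∧ P ≤ N ∧ IsPGroup p P ∧ P ≠ ⊥ ∧
      ∀ h ∈ N, ∀ k : ℕ, orderOf h = p ^ k → h ∈ P := by
  obtain ⟨P, hPN, hP, hPmem⟩ := exists_pSubgroup_of_nilpotent N hN p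
  refine ⟨P, ⟨?_⟩, hPN, hP, ?_, hPmem⟩
  · intro n hn g
    obtain ⟨k, hk⟩ := (IsPGroup.iff_orderOf.mp hP) ⟨n, hn⟩
    rw [Subgroup.orderOf_mk] at hk
    apply hPmem _ (hNn.conj_mem n (hPN hn) g) k
    rw [← hk]
    have := MulEquiv.orderOf_eq (MulAut.conj g) n
    simpa [MulAut.conj_apply] using this
  · obtain ⟨x, hx⟩ := exists_prime_orderOf_dvd_card' (G := N) p hdvd
    have hxP : (x : G) ∈ P := hPmem x x.2 1 (by rw [Subgroup.orderOf_coe, hx, pow_one])
    intro hbot
    rw [hbot, Subgroup.mem_bot] at hxP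
    have : orderOf (x : G) = 1 := by rw [hxP, orderOf_one]
    rw [Subgroup.orderOf_coe, hx] at this
    exact hp.out.one_lt.ne' this

end Cfsg.Agent.Lib.Helper52
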