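/-
helper52: Peterfalvi sec.14, module PF14-[MOM-ABS], arithmetic: the three moment inequalities force
`(x, y) ∈ {(1,0), (0,1), (0,0)}`.
-/
import Mathlib
import Cfsg.Agent.Lib.Helper16.PF13ArithNat

set_option autoImplicit false
set_option linter.unusedSectionVars false

namespace Cfsg.Agent.Lib.Helper52.PF14Mom

open Cfsg.Agent.Lib.Helper16.PF13

theorem int_of_sq_sub_lt {x : ℤ} (h : (x : ℝ) ^ 2 - (x : ℝ) < 2) : x = 0 ∨ x = 1 := by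
  have h' : x ^ 2 - x < 2 := by exact_mod_cast h
  rcases le_or_gt x (-1) with h1 | h1
  · nlinarith
  · rcases le_or_gt 2 x with h2 | h2
    · nlinarith
    · omega

theorem int_of_sq_add_lt {z : ℤ} (h : (z : ℝ) ^ 2 + (z : ℝ) < 2) : z = 0 ∨ z = -1 := by
  have h' : z ^ 2 + z < 2 := by exact_mod_cast h
  rcases le_or_gt z (-2) with h1 | h1
  · nlinarith
  · rcases le_or_gt 1 z with h2 | h2
    · nlinarith
    · omega

/-- `(u² + u)/(q (p X) m) ≤ a/(p q)` when `u ≤ m` and `u + 1 ≤ a X` -/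
theorem side_bound {p q u m X a : ℝ} (hp : 0 < p) (hq : 0 < q) (hX : 0 < X) (hu0 : 0 < u)
    (hum : u ≤ m) (hua : u + 1 ≤ a * X) :
    (u ^ 2 + u) / (q * (p * X) * m) ≤ a / (p * q) := by
  have hm : 0 < m := lt_of_lt_of_le hu0 hum
  rw [div_le_div_iff₀ (by positivity) (by positivity)]
  have h1 : u ^ 2 + u ≤ m * (a * X) := by nlinarith
  have h2 : 0 < p * q := by positivity
  nlinarith

/-- **[MOM], arithmetic**: the three moments force `(x,y) ∈ {(1,0),(0,1),(0,0)}`. -/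
theorem xy_of_moments {p q m m' u v h : ℕ} (hq3 : 3 ≤ q) (hp5 : 5 ≤ p) (hu0 : 0 < u) (hv0 : 0 < v)
    (hum : u ≤ m) (hvm : v ≤ m') (hu : u * (p - 1) ≤ p ^ q - 1) (hv : v * (q - 1) ≤ q ^ p - 1)
    (hh : 5 ≤ h) {r : ℝ} (hr : r = ((h : ℝ) - 1) / ((p : ℝ) * (q : ℝ) * (h : ℝ)))
    (x y z : ℤ) (hz : z = x + y - 1)
    (Mx : r * ((x : ℝ) ^ 2 - (x : ℝ)) ≤
      ((u : ℝ) ^ 2 + (u : ℝ)) / ((q : ℝ) * (p : ℝ) ^ q * (m : ℝ)))
    (My : r * ((y : ℝ) ^ 2 - (y : ℝ)) ≤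
      ((v : ℝ) ^ 2 + (v : ℝ)) / ((p : ℝ) * (q : ℝ) ^ p * (m' : ℝ)))
    (Mz : r * ((z : ℝ) ^ 2 + (z : ℝ)) ≤
      ((u : ℝ) ^ 2 + (u : ℝ)) / ((q : ℝ) * (p : ℝ) ^ q * (m : ℝ)) +
      ((v : ℝ) ^ 2 + (v : ℝ)) / ((p : ℝ) * (q : ℝ) ^ p * (m' : ℝ)) - 2 / ((p : ℝ) * (q : ℝ))) :
    (x = 1 ∧ y = 0) ∨ (x = 0 ∧ y = 1) ∨ (x = 0 ∧ y = 0) := by
  have hpR : (5 : ℝ) ≤ (p : ℝ) := by exact_mod_cast hp5
  have hqR : (3 : ℝ) ≤ (q : ℝ) := by exact_mod_cast hq3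
  have hhR : (5 : ℝ) ≤ (h : ℝ) := by exact_mod_cast hh
  have huR : (0 : ℝ) < (u : ℝ) := by exact_mod_cast hu0
  have hvR : (0 : ℝ) < (v : ℝ) := by exact_mod_cast hv0
  have humR : (u : ℝ) ≤ (m : ℝ) := by exact_mod_cast hum
  have hvmR : (v : ℝ) ≤ (m' : ℝ) := by exact_mod_cast hvm
  set X : ℝ := (p : ℝ) ^ (q - 1) with hX
  set Y : ℝ := (q : ℝ) ^ (p - 1) with hY
  have hpX : (p : ℝ) ^ q = (p : ℝ) * X := by
    rw [hX, ← pow_succ']; congr 1; omega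
  have hqY : (q : ℝ) ^ p = (q : ℝ) * Y := by
    rw [hY, ← pow_succ']; congr 1; omega
  have hX25 : (25 : ℝ) ≤ X := by
    have h1 : 5 ^ 2 ≤ p ^ (q - 1) :=
      le_trans (Nat.pow_le_pow_left hp5 2) (Nat.pow_le_pow_right (by omega) (by omega))
    have : ((5 ^ 2 : ℕ) : ℝ) ≤ ((p ^ (q - 1) : ℕ) : ℝ) := by exact_mod_cast h1
    push_cast at this
    rw [hX]; linarith
  have hY81 : (81 : ℝ) ≤ Y := by
    have h1 : 3 ^ 4 ≤ q ^ (p - 1) :=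
      le_trans (Nat.pow_le_pow_left hq3 4) (Nat.pow_le_pow_right (by omega) (by omega))
    have : ((3 ^ 4 : ℕ) : ℝ) ≤ ((q ^ (p - 1) : ℕ) : ℝ) := by exact_mod_cast h1
    push_cast at this
    rw [hY]; linarith
  have hu' := cast_geom (p := p) (q := q) (u := u) (by omega) (by omega) hu
  have hv' := cast_geom (p := q) (q := p) (u := v) (by omega) (by omega) hv
  rw [← hX] at hu'
  rw [← hY] at hv'
  -- `u + 1 ≤ (129/100) X`, `v + 1 ≤ (3/2 + 1/81) Y`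
  have hua : (u : ℝ) + 1 ≤ 129 / 100 * X := by
    have h1 : (u : ℝ) * ((p : ℝ) - 1) ≤ 5 / 4 * X * ((p : ℝ) - 1) := by nlinarith
    have h2 : (u : ℝ) ≤ 5 / 4 * X := le_of_mul_le_mul_right h1 (by linarith)
    linarith
  have hva : (v : ℝ) + 1 ≤ (3 / 2 + 1 / 81) * Y := by
    have h1 : (v : ℝ) * ((q : ℝ) - 1) ≤ 3 / 2 * Y * ((q : ℝ) - 1) := by nlinarith
    have h2 : (v : ℝ) ≤ 3 / 2 * Y := le_of_mul_le_mul_right h1 (by linarith)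
    linarith
  have hp0 : (0 : ℝ) < (p : ℝ) := by linarith
  have hq0 : (0 : ℝ) < (q : ℝ) := by linarith
  have hX0 : (0 : ℝ) < X := by linarith
  have hY0 : (0 : ℝ) < Y := by linarith
  have hUS := side_bound (p := (p : ℝ)) (q := (q : ℝ)) (u := (u : ℝ)) (m := (m : ℝ)) (X := X)
    (a := 129 / 100) hp0 hq0 hX0 huR humR hua
  have hUT := side_bound (p := (q : ℝ)) (q := (p : ℝ)) (u := (v : ℝ)) (m := (m' : ℝ)) (X := Y)
    (a := 3 / 2 + 1 / 81) hq0 hp0 hY0 hvR hvmR hva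
  rw [← hpX] at hUS
  rw [← hqY] at hUT
  have hpq0 : (0 : ℝ) < (p : ℝ) * (q : ℝ) := by positivity
  -- `r ≥ (4/5)/(pq)`
  have hr' : 4 / 5 / ((p : ℝ) * (q : ℝ)) ≤ r := by
    rw [hr, div_le_div_iff₀ hpq0 (by positivity)]
    nlinarith
  have hr0 : 0 < r := lt_of_lt_of_le (by positivity) hr'
  have e1 : (3 / 2 + 1 / 81 : ℝ) / ((q : ℝ) * (p : ℝ)) = (3 / 2 + 1 / 81) / ((p : ℝ) * (q : ℝ)) := by
    rw [mul_comm]
  rw [e1] at hUT
  set w : ℝ := 1 / ((p : ℝ) * (q : ℝ)) with hw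
  have hw0 : 0 < w := by positivity
  have f1 : (129 / 100 : ℝ) / ((p : ℝ) * (q : ℝ)) = 129 / 100 * w := by rw [hw]; ring
  have f2 : (3 / 2 + 1 / 81 : ℝ) / ((p : ℝ) * (q : ℝ)) = (3 / 2 + 1 / 81) * w := by rw [hw]; ring
  have f3 : (4 / 5 : ℝ) / ((p : ℝ) * (q : ℝ)) = 4 / 5 * w := by rw [hw]; ring
  have f4 : (2 : ℝ) / ((p : ℝ) * (q : ℝ)) = 2 * w := by rw [hw]; ring
  rw [f1] at hUS
  rw [f2] at hUT
  rw [f3] at hr'
  rw [f4] at Mz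
  -- x
  have hx : x = 0 ∨ x = 1 := by
    apply int_of_sq_sub_lt
    by_contra hcon
    rw [not_lt] at hcon
    have h1 : r * 2 ≤ r * ((x : ℝ) ^ 2 - (x : ℝ)) := mul_le_mul_of_nonneg_left hcon hr0.le
    nlinarith
  have hy : y = 0 ∨ y = 1 := by
    apply int_of_sq_sub_lt
    by_contra hcon
    rw [not_lt] at hcon
    have h1 : r * 2 ≤ r * ((y : ℝ) ^ 2 - (y : ℝ)) := mul_le_mul_of_nonneg_left hcon hr0.le
    nlinarith
  have hz' : z = 0 ∨ z = -1 := by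
    apply int_of_sq_add_lt
    by_contra hcon
    rw [not_lt] at hcon
    have h1 : r * 2 ≤ r * ((z : ℝ) ^ 2 + (z : ℝ)) := mul_le_mul_of_nonneg_left hcon hr0.le
    nlinarith
  rcases hx with hx | hx <;> rcases hy with hy | hy <;> rcases hz' with hz' | hz' <;>
    first
    | omega
    | (right; right; exact ⟨hx, hy⟩)
    | (right; left; exact ⟨hx, hy⟩)
    | (left; exact ⟨hx, hy⟩)

end Cfsg.Agent.Lib.Helper52.PF14Mom
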