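/-
helper52: Peterfalvi sec.14, module PF14-[MOM-ABS]: the three moment inequalities (Mx), (My), (Mz)
of notes/helper10/PF1314.md sec.7, abstractly, on top of helper16's `SideData` / `WData` /
`sum_pieces_le_one`, with a further TI piece `(L, AL)` on which the class function is a constant
integer.
-/
import Mathlib
import Cfsg.Agent.Lib.Helper16.PF13Top
import Cfsg.Agent.Lib.Helper52.PF14MomArith

set_option autoImplicit false
set_option linter.unusedSectionVars false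

namespace Cfsg.Agent.Lib.Helper52.PF14Mom

open Finset Cfsg.Agent.Lib.Helper16.PF13

variable {G : Type*} [Group G] [Fintype G]

/-- `SideData` for `-η`: the two alternatives of `decomp` swap. -/
theorem SideData.neg {S K P : Subgroup G} {A : Finset G} {η : G → ℂ} {p q m u : ℕ}
    (h : SideData S K P A η p q m u) : SideData S K P A (fun g => -η g) p q m u := by
  refine ⟨h.card_P, h.card_K, h.card_S, h.u_pos, h.u_le, h.hu, h.inv, h.ti, h.AK, h.one_not_mem,
    h.PA, h.coset, ?_⟩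
  obtain ⟨μ, F, n, h1, h2, h3, h4, h5, h6, h7, h8⟩ := h.decomp
  rcases h1 with h1 | h1
  · refine ⟨μ, fun g => F g - 1, n - 1, Or.inr ?_, h2, h3, h4, h5, h6, ?_, ?_⟩
    · intro a ha
      rw [h1 a ha]
      push_cast
      ring
    · intro a ha haP x hx
      show F (x * a) - 1 = F a - 1
      rw [h7 a ha haP x hx]
    · intro x hx hx1
      show F x - 1 = n - 1
      rw [h8 x hx hx1]
  · refine ⟨μ, fun g => F g + 1, n + 1, Or.inl ?_, h2, h3, h4, h5, h6, ?_, ?_⟩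
    · intro a ha
      rw [h1 a ha]
      push_cast
      ring
    · intro a ha haP x hx
      show F (x * a) + 1 = F a + 1
      rw [h7 a ha haP x hx]
    · intro x hx hx1
      show F x + 1 = n + 1
      rw [h8 x hx hx1]

/-- the `S`-piece in normalised form: `1/q - (u²+u)/(q p^q m) ≤ (1/|S|) ∑_A (‖η‖² + Re η)` -/
theorem side_piece {S K P : Subgroup G} {A : Finset G} {η : G → ℂ} {p q m u : ℕ}
    (hp : 0 < p) (hq : 0 < q) (hm : 0 < m) (h : SideData S K P A η p q m u) :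
    1 / (q : ℝ) - ((u : ℝ) ^ 2 + (u : ℝ)) / ((q : ℝ) * (p : ℝ) ^ q * (m : ℝ)) ≤
      1 / (Nat.card S : ℝ) * ∑ a ∈ A, (‖η a‖ ^ 2 + (η a).re) := by
  have h1 := h.piece_lb
  have hpR : (0 : ℝ) < (p : ℝ) := by exact_mod_cast hp
  have hqR : (0 : ℝ) < (q : ℝ) := by exact_mod_cast hq
  have hmR : (0 : ℝ) < (m : ℝ) := by exact_mod_cast hm
  have hK : (Nat.card K : ℝ) = (p : ℝ) ^ q * (m : ℝ) := by
    rw [h.card_K]; push_cast; ring
  have hS : (Nat.card S : ℝ) = (q : ℝ) * ((p : ℝ) ^ q * (m : ℝ)) := by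
    rw [h.card_S, h.card_K]; push_cast; ring
  have hpq : (0 : ℝ) < (p : ℝ) ^ q := pow_pos hpR _
  rw [hK] at h1
  rw [hS]
  generalize (∑ a ∈ A, (‖η a‖ ^ 2 + (η a).re)) = s at h1 ⊢
  generalize (p : ℝ) ^ q = X at h1 hpq ⊢
  have hpos : (0 : ℝ) < (q : ℝ) * (X * (m : ℝ)) := by positivity
  have e : 1 / (q : ℝ) - ((u : ℝ) ^ 2 + (u : ℝ)) / ((q : ℝ) * X * (m : ℝ)) =
      (X * (m : ℝ) - (u : ℝ) ^ 2 - (u : ℝ)) / ((q : ℝ) * (X * (m : ℝ))) := by
    field_simp
    ring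
  have e2 : 1 / ((q : ℝ) * (X * (m : ℝ))) * s = s / ((q : ℝ) * (X * (m : ℝ))) := by ring
  rw [e, e2]
  exact div_le_div_of_nonneg_right h1 hpos.le

/-- a piece on which `η` is a constant integer `z` -/
theorem const_piece (L : Subgroup G) (AL : Finset G) (η : G → ℂ) (z : ℤ)
    (hz : ∀ a ∈ AL, η a = (z : ℂ)) :
    1 / (Nat.card L : ℝ) * ∑ a ∈ AL, (‖η a‖ ^ 2 + (η a).re) =
      (AL.card : ℝ) / (Nat.card L : ℝ) * ((z : ℝ) ^ 2 + (z : ℝ)) := by
  have h1 : ∑ a ∈ AL, (‖η a‖ ^ 2 + (η a).re) = ∑ _a ∈ AL, ((z : ℝ) ^ 2 + (z : ℝ)) := by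
    apply Finset.sum_congr rfl
    intro a ha
    rw [hz a ha, Complex.norm_intCast, sq_abs, Complex.intCast_re]
  rw [h1, Finset.sum_const, nsmul_eq_mul]
  ring

/-- **(Mx)** (and (My) with the roles of the two sides exchanged): the moment inequality for a
class function `η` (`= η_{0j}`) of norm one, orthogonal to `1`, with `SideData` on `(S, AS)`,
`∑_{AW} (‖η‖² - Re η) = p (q - 1)` on the piece `(W, AW)`, constant `= x` on the piece `(L, AL)`
and integer valued off the three closures. -/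
theorem moment_side (S W L K P : Subgroup G) (AS AW AL : Finset G) (η : G → ℂ) {p q m u : ℕ}
    (hp : 0 < p) (hq : 0 < q) (hm : 0 < m)
    (hS : SideData S K P AS η p q m u)
    (hWcard : Nat.card W = p * q)
    (hWinv : ∀ s ∈ W, ∀ a ∈ AW, s * a * s⁻¹ ∈ AW)
    (hWti : ∀ g : G, ∀ a ∈ AW, g * a * g⁻¹ ∈ AW → g ∈ W)
    (hWsum : ∑ a ∈ AW, (‖η a‖ ^ 2 - (η a).re) = (p : ℝ) * ((q : ℝ) - 1))
    (hLinv : ∀ s ∈ L, ∀ a ∈ AL, s * a * s⁻¹ ∈ AL)
    (hLti : ∀ g : G, ∀ a ∈ AL, g * a * g⁻¹ ∈ AL → g ∈ L)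
    (x : ℤ) (hLx : ∀ a ∈ AL, η a = (x : ℂ))
    (hSW : Disjoint (conjClosure AS) (conjClosure AW))
    (hSL : Disjoint (conjClosure AS) (conjClosure AL))
    (hWL : Disjoint (conjClosure AW) (conjClosure AL))
    (hη : ∀ y g, η (y * g * y⁻¹) = η g)
    (hnorm : ∑ g : G, ‖η g‖ ^ 2 = (Nat.card G : ℝ)) (hsum : ∑ g : G, η g = 0)
    (hint : ∀ g : G, g ∉ conjClosure AS → g ∉ conjClosure AW → g ∉ conjClosure AL →
      ∃ n : ℤ, η g = (n : ℂ)) :
    (AL.card : ℝ) / (Nat.card L : ℝ) * ((x : ℝ) ^ 2 - (x : ℝ)) ≤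
      ((u : ℝ) ^ 2 + (u : ℝ)) / ((q : ℝ) * (p : ℝ) ^ q * (m : ℝ)) := by
  classical
  have key := sum_pieces_le_one (G := G) (ι := Fin 3) ![S, W, L] ![AS, AW, AL]
    (by
      intro i
      fin_cases i
      · exact hS.inv
      · exact hWinv
      · exact hLinv)
    (by
      intro i
      fin_cases i
      · exact hS.ti
      · exact hWti
      · exact hLti)
    (by
      intro i j hij
      fin_cases i <;> fin_cases j
      · exact absurd rfl hij
      · exact hSW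
      · exact hSL
      · exact hSW.symm
      · exact absurd rfl hij
      · exact hWL
      · exact hSL.symm
      · exact hWL.symm
      · exact absurd rfl hij)
    (fun g => -η g) (by intro y g; simp only [hη])
    (by simp only [norm_neg]; exact hnorm)
    (by rw [Finset.sum_neg_distrib, hsum, neg_zero])
    (by
      intro g hg
      obtain ⟨n, hn⟩ := hint g (hg 0) (hg 1) (hg 2)
      exact ⟨-n, by rw [hn]; push_cast; ring⟩)
  rw [Fin.sum_univ_three] at key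
  simp only [Matrix.cons_val_zero, Matrix.cons_val_one, Matrix.cons_val_two, Matrix.head_cons,
    Matrix.tail_cons] at key
  have hpR : (0 : ℝ) < (p : ℝ) := by exact_mod_cast hp
  have hqR : (0 : ℝ) < (q : ℝ) := by exact_mod_cast hq
  have h1 := side_piece hp hq hm (SideData.neg hS)
  have h2 : 1 / (Nat.card W : ℝ) * ∑ a ∈ AW, (‖-η a‖ ^ 2 + (-η a).re) = 1 - 1 / (q : ℝ) := by
    have e : ∑ a ∈ AW, (‖-η a‖ ^ 2 + (-η a).re) = ∑ a ∈ AW, (‖η a‖ ^ 2 - (η a).re) := by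
      apply Finset.sum_congr rfl
      intro a _
      rw [norm_neg, Complex.neg_re]
      ring
    rw [e, hWsum, hWcard]
    push_cast
    field_simp
  have h3 := const_piece L AL (fun g => -η g) (-x)
    (by intro a ha; show -η a = _; rw [hLx a ha]; push_cast; ring)
  have h4 : (((-x : ℤ) : ℝ)) ^ 2 + ((-x : ℤ) : ℝ) = (x : ℝ) ^ 2 - (x : ℝ) := by
    push_cast
    ring
  rw [h4] at h3
  rw [h2, h3] at key
  linarith

/-- **(Mz)**: the moment inequality for `η = η_{ij}` with `SideData` on both sides, `WData` on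
`Ŵ`, and constant `= z` on the further piece `(L, AL)`. -/
theorem moment_z (S T W L K K' P Q : Subgroup G) (AS AT AW AL : Finset G) (η : G → ℂ)
    {p q m m' u v : ℕ} (hp : 0 < p) (hq : 0 < q) (hm : 0 < m) (hm' : 0 < m')
    (hS : SideData S K P AS η p q m u) (hT : SideData T K' Q AT η q p m' v)
    (hW : WData W AW η p q)
    (hLinv : ∀ s ∈ L, ∀ a ∈ AL, s * a * s⁻¹ ∈ AL)
    (hLti : ∀ g : G, ∀ a ∈ AL, g * a * g⁻¹ ∈ AL → g ∈ L)
    (z : ℤ) (hLz : ∀ a ∈ AL, η a = (z : ℂ))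
    (hST : Disjoint (conjClosure AS) (conjClosure AT))
    (hSW : Disjoint (conjClosure AS) (conjClosure AW))
    (hTW : Disjoint (conjClosure AT) (conjClosure AW))
    (hSL : Disjoint (conjClosure AS) (conjClosure AL))
    (hTL : Disjoint (conjClosure AT) (conjClosure AL))
    (hWL : Disjoint (conjClosure AW) (conjClosure AL))
    (hη : ∀ y g, η (y * g * y⁻¹) = η g)
    (hnorm : ∑ g : G, ‖η g‖ ^ 2 = (Nat.card G : ℝ)) (hsum : ∑ g : G, η g = 0)
    (hint : ∀ g : G, g ∉ conjClosure AS → g ∉ conjClosure AT → g ∉ conjClosure AW →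
      g ∉ conjClosure AL → ∃ n : ℤ, η g = (n : ℂ)) :
    (AL.card : ℝ) / (Nat.card L : ℝ) * ((z : ℝ) ^ 2 + (z : ℝ)) ≤
      ((u : ℝ) ^ 2 + (u : ℝ)) / ((q : ℝ) * (p : ℝ) ^ q * (m : ℝ)) +
      ((v : ℝ) ^ 2 + (v : ℝ)) / ((p : ℝ) * (q : ℝ) ^ p * (m' : ℝ)) - 2 / ((p : ℝ) * (q : ℝ)) := by
  classical
  have key := sum_pieces_le_one (G := G) (ι := Fin 4) ![S, T, W, L] ![AS, AT, AW, AL]
    (by
      intro i
      fin_cases i
      · exact hS.inv
      · exact hT.inv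
      · exact hW.inv
      · exact hLinv)
    (by
      intro i
      fin_cases i
      · exact hS.ti
      · exact hT.ti
      · exact hW.ti
      · exact hLti)
    (by
      intro i j hij
      fin_cases i <;> fin_cases j
      · exact absurd rfl hij
      · exact hST
      · exact hSW
      · exact hSL
      · exact hST.symm
      · exact absurd rfl hij
      · exact hTW
      · exact hTL
      · exact hSW.symm
      · exact hTW.symm
      · exact absurd rfl hij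
      · exact hWL
      · exact hSL.symm
      · exact hTL.symm
      · exact hWL.symm
      · exact absurd rfl hij)
    η hη hnorm hsum
    (by
      intro g hg
      exact hint g (hg 0) (hg 1) (hg 2) (hg 3))
  rw [Fin.sum_univ_four] at key
  simp only [Matrix.cons_val_zero, Matrix.cons_val_one, Matrix.cons_val_two, Matrix.head_cons,
    Matrix.tail_cons, Matrix.cons_val_three] at key
  have hpR : (0 : ℝ) < (p : ℝ) := by exact_mod_cast hp
  have hqR : (0 : ℝ) < (q : ℝ) := by exact_mod_cast hq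
  have h1 := side_piece hp hq hm hS
  have h1' := side_piece hq hp hm' hT
  have h2 : 1 / (Nat.card W : ℝ) * ∑ a ∈ AW, (‖η a‖ ^ 2 + (η a).re) =
      1 - 1 / (p : ℝ) - 1 / (q : ℝ) + 2 / ((p : ℝ) * (q : ℝ)) := by
    rw [hW.sum_eq, hW.card_W]
    push_cast
    field_simp
    ring
  have h3 := const_piece L AL η z hLz
  rw [h2, h3] at key
  linarith

/-- **[MOM]**, abstract form: the three moments on the four pieces `(S, AS)`, `(T, AT)`, `(W, AW)`,
`(L, AL)` force the constant values `x`, `y` of `η₀₁`, `η₁₀` on `AL` (with `η₁₁ = x + y - 1`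
there) into `{(1,0), (0,1), (0,0)}`. -/
theorem xy_of_pieces (S T W L K K' P Q : Subgroup G) (AS AT AW AL : Finset G)
    (η01 η10 η11 : G → ℂ) {p q m m' u v h : ℕ}
    (hq3 : 3 ≤ q) (hp5 : 5 ≤ p)
    (hu : u * (p - 1) ≤ p ^ q - 1) (hv : v * (q - 1) ≤ q ^ p - 1) (hh : 5 ≤ h)
    (hALcard : AL.card = h - 1) (hLcard : Nat.card L = p * q * h)
    (hS01 : SideData S K P AS η01 p q m u) (hS11 : SideData S K P AS η11 p q m u)
    (hT10 : SideData T K' Q AT η10 q p m' v) (hT11 : SideData T K' Q AT η11 q p m' v)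
    (hW11 : WData W AW η11 p q)
    (hW01 : ∑ a ∈ AW, (‖η01 a‖ ^ 2 - (η01 a).re) = (p : ℝ) * ((q : ℝ) - 1))
    (hW10 : ∑ a ∈ AW, (‖η10 a‖ ^ 2 - (η10 a).re) = (q : ℝ) * ((p : ℝ) - 1))
    (hLinv : ∀ s ∈ L, ∀ a ∈ AL, s * a * s⁻¹ ∈ AL)
    (hLti : ∀ g : G, ∀ a ∈ AL, g * a * g⁻¹ ∈ AL → g ∈ L)
    (x y : ℤ) (hLx : ∀ a ∈ AL, η01 a = (x : ℂ)) (hLy : ∀ a ∈ AL, η10 a = (y : ℂ))
    (hLz : ∀ a ∈ AL, η11 a = ((x + y - 1 : ℤ) : ℂ))
    (hST : Disjoint (conjClosure AS) (conjClosure AT))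
    (hSW : Disjoint (conjClosure AS) (conjClosure AW))
    (hTW : Disjoint (conjClosure AT) (conjClosure AW))
    (hSL : Disjoint (conjClosure AS) (conjClosure AL))
    (hTL : Disjoint (conjClosure AT) (conjClosure AL))
    (hWL : Disjoint (conjClosure AW) (conjClosure AL))
    (hcf01 : ∀ y g, η01 (y * g * y⁻¹) = η01 g)
    (hnorm01 : ∑ g : G, ‖η01 g‖ ^ 2 = (Nat.card G : ℝ)) (hsum01 : ∑ g : G, η01 g = 0)
    (hcf10 : ∀ y g, η10 (y * g * y⁻¹) = η10 g)
    (hnorm10 : ∑ g : G, ‖η10 g‖ ^ 2 = (Nat.card G : ℝ)) (hsum10 : ∑ g : G, η10 g = 0)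
    (hcf11 : ∀ y g, η11 (y * g * y⁻¹) = η11 g)
    (hnorm11 : ∑ g : G, ‖η11 g‖ ^ 2 = (Nat.card G : ℝ)) (hsum11 : ∑ g : G, η11 g = 0)
    (hint01 : ∀ g : G, g ∉ conjClosure AS → g ∉ conjClosure AW → g ∉ conjClosure AL →
      ∃ n : ℤ, η01 g = (n : ℂ))
    (hint10 : ∀ g : G, g ∉ conjClosure AT → g ∉ conjClosure AW → g ∉ conjClosure AL →
      ∃ n : ℤ, η10 g = (n : ℂ))
    (hint11 : ∀ g : G, g ∉ conjClosure AS → g ∉ conjClosure AT → g ∉ conjClosure AW →
      g ∉ conjClosure AL → ∃ n : ℤ, η11 g = (n : ℂ)) :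
    (x = 1 ∧ y = 0) ∨ (x = 0 ∧ y = 1) ∨ (x = 0 ∧ y = 0) := by
  have hp : 0 < p := by omega
  have hq : 0 < q := by omega
  have hm : 0 < m := lt_of_lt_of_le hS01.u_pos hS01.u_le
  have hm' : 0 < m' := lt_of_lt_of_le hT10.u_pos hT10.u_le
  have Mx := moment_side S W L K P AS AW AL η01 hp hq hm hS01 hW11.card_W hW11.inv hW11.ti hW01
    hLinv hLti x hLx hSW hSL hWL hcf01 hnorm01 hsum01 hint01
  have My := moment_side T W L K' Q AT AW AL η10 hq hp hm' hT10
    (by rw [hW11.card_W, mul_comm]) hW11.inv hW11.ti hW10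
    hLinv hLti y hLy hTW hTL hWL hcf10 hnorm10 hsum10 hint10
  have Mz := moment_z S T W L K K' P Q AS AT AW AL η11 hp hq hm hm' hS11 hT11 hW11 hLinv hLti
    (x + y - 1) hLz hST hSW hTW hSL hTL hWL hcf11 hnorm11 hsum11 hint11
  have hr : (AL.card : ℝ) / (Nat.card L : ℝ) =
      ((h : ℝ) - 1) / ((p : ℝ) * (q : ℝ) * (h : ℝ)) := by
    rw [hALcard, hLcard, Nat.cast_sub (by omega)]
    push_cast
    ring
  exact xy_of_moments hq3 hp5 hS01.u_pos hT10.u_pos hS01.u_le hT10.u_le hu hv hh hr x y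
    (x + y - 1) rfl Mx My Mz

end Cfsg.Agent.Lib.Helper52.PF14Mom
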