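/-
helper52: Peterfalvi sec.14, module PF14-[MOM-ABS], general form: the `SideData` of the three
functions `η₀₁`, `η₁₀`, `η₁₁` may come with different degrees `u`, `v` (helper16's `sideData_of`
quantifies `u` existentially for each function).
-/
import Mathlib
import Cfsg.Agent.Lib.Helper52.PF14Mom

set_option autoImplicit false
set_option linter.unusedSectionVars false

namespace Cfsg.Agent.Lib.Helper52.PF14Mom

open Finset Cfsg.Agent.Lib.Helper16.PF13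

/-- `(u² + u)/(q p^q m) ≤ (129/100)/(p q)` for `5 ≤ p`, `3 ≤ q`, `u ≤ m`, `u (p-1) ≤ p^q - 1` -/
theorem side_bound_S {p q m u : ℕ} (hq3 : 3 ≤ q) (hp5 : 5 ≤ p) (hu0 : 0 < u) (hum : u ≤ m)
    (hu : u * (p - 1) ≤ p ^ q - 1) :
    ((u : ℝ) ^ 2 + (u : ℝ)) / ((q : ℝ) * (p : ℝ) ^ q * (m : ℝ)) ≤
      129 / 100 / ((p : ℝ) * (q : ℝ)) := by
  have hpR : (5 : ℝ) ≤ (p : ℝ) := by exact_mod_cast hp5
  have hqR : (3 : ℝ) ≤ (q : ℝ) := by exact_mod_cast hq3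
  have huR : (0 : ℝ) < (u : ℝ) := by exact_mod_cast hu0
  have humR : (u : ℝ) ≤ (m : ℝ) := by exact_mod_cast hum
  set X : ℝ := (p : ℝ) ^ (q - 1) with hX
  have hpX : (p : ℝ) ^ q = (p : ℝ) * X := by
    rw [hX, ← pow_succ']; congr 1; omega
  have hX25 : (25 : ℝ) ≤ X := by
    have h1 : 5 ^ 2 ≤ p ^ (q - 1) :=
      le_trans (Nat.pow_le_pow_left hp5 2) (Nat.pow_le_pow_right (by omega) (by omega))
    have : ((5 ^ 2 : ℕ) : ℝ) ≤ ((p ^ (q - 1) : ℕ) : ℝ) := by exact_mod_cast h1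
    push_cast at this
    rw [hX]; linarith
  have hu' := cast_geom (p := p) (q := q) (u := u) (by omega) (by omega) hu
  rw [← hX] at hu'
  have hua : (u : ℝ) + 1 ≤ 129 / 100 * X := by
    have h1 : (u : ℝ) * ((p : ℝ) - 1) ≤ 5 / 4 * X * ((p : ℝ) - 1) := by nlinarith
    have h2 : (u : ℝ) ≤ 5 / 4 * X := le_of_mul_le_mul_right h1 (by linarith)
    linarith
  rw [hpX]
  exact side_bound (by linarith) (by linarith) (by linarith) huR humR hua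

/-- `(v² + v)/(p q^p m') ≤ (3/2 + 1/81)/(p q)` for `3 ≤ q`, `5 ≤ p`, `v ≤ m'`,
`v (q-1) ≤ q^p - 1` -/
theorem side_bound_T {p q m' v : ℕ} (hq3 : 3 ≤ q) (hp5 : 5 ≤ p) (hv0 : 0 < v) (hvm : v ≤ m')
    (hv : v * (q - 1) ≤ q ^ p - 1) :
    ((v : ℝ) ^ 2 + (v : ℝ)) / ((p : ℝ) * (q : ℝ) ^ p * (m' : ℝ)) ≤
      (3 / 2 + 1 / 81) / ((p : ℝ) * (q : ℝ)) := by
  have hpR : (5 : ℝ) ≤ (p : ℝ) := by exact_mod_cast hp5
  have hqR : (3 : ℝ) ≤ (q : ℝ) := by exact_mod_cast hq3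
  have hvR : (0 : ℝ) < (v : ℝ) := by exact_mod_cast hv0
  have hvmR : (v : ℝ) ≤ (m' : ℝ) := by exact_mod_cast hvm
  set Y : ℝ := (q : ℝ) ^ (p - 1) with hY
  have hqY : (q : ℝ) ^ p = (q : ℝ) * Y := by
    rw [hY, ← pow_succ']; congr 1; omega
  have hY81 : (81 : ℝ) ≤ Y := by
    have h1 : 3 ^ 4 ≤ q ^ (p - 1) :=
      le_trans (Nat.pow_le_pow_left hq3 4) (Nat.pow_le_pow_right (by omega) (by omega))
    have : ((3 ^ 4 : ℕ) : ℝ) ≤ ((q ^ (p - 1) : ℕ) : ℝ) := by exact_mod_cast h1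
    push_cast at this
    rw [hY]; linarith
  have hv' := cast_geom (p := q) (q := p) (u := v) (by omega) (by omega) hv
  rw [← hY] at hv'
  have hva : (v : ℝ) + 1 ≤ (3 / 2 + 1 / 81) * Y := by
    have h1 : (v : ℝ) * ((q : ℝ) - 1) ≤ 3 / 2 * Y * ((q : ℝ) - 1) := by nlinarith
    have h2 : (v : ℝ) ≤ 3 / 2 * Y := le_of_mul_le_mul_right h1 (by linarith)
    linarith
  rw [hqY]
  have := side_bound (p := (q : ℝ)) (q := (p : ℝ)) (u := (v : ℝ)) (m := (m' : ℝ)) (X := Y)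
    (a := 3 / 2 + 1 / 81) (by linarith) (by linarith) (by linarith) hvR hvmR hva
  rwa [mul_comm (q : ℝ) (p : ℝ)] at this

/-- **[MOM], arithmetic**, general degrees. -/
theorem xy_of_moments' {p q h : ℕ} (hq3 : 3 ≤ q) (hp5 : 5 ≤ p) (hh : 5 ≤ h)
    {r a b a' b' : ℝ} (hr : r = ((h : ℝ) - 1) / ((p : ℝ) * (q : ℝ) * (h : ℝ)))
    (ha : a ≤ 129 / 100 / ((p : ℝ) * (q : ℝ))) (hb : b ≤ (3 / 2 + 1 / 81) / ((p : ℝ) * (q : ℝ)))
    (ha' : a' ≤ 129 / 100 / ((p : ℝ) * (q : ℝ)))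
    (hb' : b' ≤ (3 / 2 + 1 / 81) / ((p : ℝ) * (q : ℝ)))
    (x y z : ℤ) (hz : z = x + y - 1)
    (Mx : r * ((x : ℝ) ^ 2 - (x : ℝ)) ≤ a) (My : r * ((y : ℝ) ^ 2 - (y : ℝ)) ≤ b)
    (Mz : r * ((z : ℝ) ^ 2 + (z : ℝ)) ≤ a' + b' - 2 / ((p : ℝ) * (q : ℝ))) :
    (x = 1 ∧ y = 0) ∨ (x = 0 ∧ y = 1) ∨ (x = 0 ∧ y = 0) := by
  have hpR : (5 : ℝ) ≤ (p : ℝ) := by exact_mod_cast hp5
  have hqR : (3 : ℝ) ≤ (q : ℝ) := by exact_mod_cast hq3
  have hhR : (5 : ℝ) ≤ (h : ℝ) := by exact_mod_cast hh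
  have hpq0 : (0 : ℝ) < (p : ℝ) * (q : ℝ) := by positivity
  have hr' : 4 / 5 / ((p : ℝ) * (q : ℝ)) ≤ r := by
    rw [hr, div_le_div_iff₀ hpq0 (by positivity)]
    nlinarith
  have hr0 : 0 < r := lt_of_lt_of_le (by positivity) hr'
  set w : ℝ := 1 / ((p : ℝ) * (q : ℝ)) with hw
  have hw0 : 0 < w := by positivity
  have f1 : (129 / 100 : ℝ) / ((p : ℝ) * (q : ℝ)) = 129 / 100 * w := by rw [hw]; ring
  have f2 : (3 / 2 + 1 / 81 : ℝ) / ((p : ℝ) * (q : ℝ)) = (3 / 2 + 1 / 81) * w := by rw [hw]; ring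
  have f3 : (4 / 5 : ℝ) / ((p : ℝ) * (q : ℝ)) = 4 / 5 * w := by rw [hw]; ring
  have f4 : (2 : ℝ) / ((p : ℝ) * (q : ℝ)) = 2 * w := by rw [hw]; ring
  rw [f1] at ha ha'
  rw [f2] at hb hb'
  rw [f3] at hr'
  rw [f4] at Mz
  have hx : x = 0 ∨ x = 1 := by
    apply int_of_sq_sub_lt
    by_contra hcon
    rw [not_lt] at hcon
    have h1 : r * 2 ≤ r * ((x : ℝ) ^ 2 - (x : ℝ)) := mul_le_mul_of_nonneg_left hcon hr0.le
    nlinarith
  have hy : y = 0 ∨ y = 1 := by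
    apply int_of_sq_sub_lt
    by_contra hcon
    rw [not_lt] at hcon
    have h1 : r * 2 ≤ r * ((y : ℝ) ^ 2 - (y : ℝ)) := mul_le_mul_of_nonneg_left hcon hr0.le
    nlinarith
  have hz' : z = 0 ∨ z = -1 := by
    apply int_of_sq_add_lt
    by_contra hcon
    rw [not_lt] at hcon
    have h1 : r * 2 ≤ r * ((z : ℝ) ^ 2 + (z : ℝ)) := mul_le_mul_of_nonneg_left hcon hr0.le
    nlinarith
  rcases hx with hx | hx <;> rcases hy with hy | hy <;> rcases hz' with hz' | hz' <;>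
    first
    | omega
    | (right; right; exact ⟨hx, hy⟩)
    | (right; left; exact ⟨hx, hy⟩)
    | (left; exact ⟨hx, hy⟩)

variable {G : Type*} [Group G] [Fintype G]

/-- **[MOM]**, abstract form, general degrees: as `xy_of_pieces`, but the four `SideData` may have
their own degrees `u₁, u₂` (side `S`) and `v₁, v₂` (side `T`). -/
theorem xy_of_pieces' (S T W L K K' P Q : Subgroup G) (AS AT AW AL : Finset G)
    (η01 η10 η11 : G → ℂ) {p q m m' u₁ u₂ v₁ v₂ h : ℕ}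
    (hq3 : 3 ≤ q) (hp5 : 5 ≤ p)
    (hu₁ : u₁ * (p - 1) ≤ p ^ q - 1) (hu₂ : u₂ * (p - 1) ≤ p ^ q - 1)
    (hv₁ : v₁ * (q - 1) ≤ q ^ p - 1) (hv₂ : v₂ * (q - 1) ≤ q ^ p - 1) (hh : 5 ≤ h)
    (hALcard : AL.card = h - 1) (hLcard : Nat.card L = p * q * h)
    (hS01 : SideData S K P AS η01 p q m u₁) (hS11 : SideData S K P AS η11 p q m u₂)
    (hT10 : SideData T K' Q AT η10 q p m' v₁) (hT11 : SideData T K' Q AT η11 q p m' v₂)
    (hW11 : WData W AW η11 p q)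
    (hW01 : ∑ a ∈ AW, (‖η01 a‖ ^ 2 - (η01 a).re) = (p : ℝ) * ((q : ℝ) - 1))
    (hW10 : ∑ a ∈ AW, (‖η10 a‖ ^ 2 - (η10 a).re) = (q : ℝ) * ((p : ℝ) - 1))
    (hLinv : ∀ s ∈ L, ∀ a ∈ AL, s * a * s⁻¹ ∈ AL)
    (hLti : ∀ g : G, ∀ a ∈ AL, g * a * g⁻¹ ∈ AL → g ∈ L)
    (x y : ℤ) (hLx : ∀ a ∈ AL, η01 a = (x : ℂ)) (hLy : ∀ a ∈ AL, η10 a = (y : ℂ))
    (hLz : ∀ a ∈ AL, η11 a = ((x + y - 1 : ℤ) : ℂ))
    (hST : Disjoint (conjClosure AS) (conjClosure AT))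
    (hSW : Disjoint (conjClosure AS) (conjClosure AW))
    (hTW : Disjoint (conjClosure AT) (conjClosure AW))
    (hSL : Disjoint (conjClosure AS) (conjClosure AL))
    (hTL : Disjoint (conjClosure AT) (conjClosure AL))
    (hWL : Disjoint (conjClosure AW) (conjClosure AL))
    (hcf01 : ∀ y g, η01 (y * g * y⁻¹) = η01 g)
    (hnorm01 : ∑ g : G, ‖η01 g‖ ^ 2 = (Nat.card G : ℝ)) (hsum01 : ∑ g : G, η01 g = 0)
    (hcf10 : ∀ y g, η10 (y * g * y⁻¹) = η10 g)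
    (hnorm10 : ∑ g : G, ‖η10 g‖ ^ 2 = (Nat.card G : ℝ)) (hsum10 : ∑ g : G, η10 g = 0)
    (hcf11 : ∀ y g, η11 (y * g * y⁻¹) = η11 g)
    (hnorm11 : ∑ g : G, ‖η11 g‖ ^ 2 = (Nat.card G : ℝ)) (hsum11 : ∑ g : G, η11 g = 0)
    (hint01 : ∀ g : G, g ∉ conjClosure AS → g ∉ conjClosure AW → g ∉ conjClosure AL →
      ∃ n : ℤ, η01 g = (n : ℂ))
    (hint10 : ∀ g : G, g ∉ conjClosure AT → g ∉ conjClosure AW → g ∉ conjClosure AL →
      ∃ n : ℤ, η10 g = (n : ℂ))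
    (hint11 : ∀ g : G, g ∉ conjClosure AS → g ∉ conjClosure AT → g ∉ conjClosure AW →
      g ∉ conjClosure AL → ∃ n : ℤ, η11 g = (n : ℂ)) :
    (x = 1 ∧ y = 0) ∨ (x = 0 ∧ y = 1) ∨ (x = 0 ∧ y = 0) := by
  have hp : 0 < p := by omega
  have hq : 0 < q := by omega
  have hm : 0 < m := lt_of_lt_of_le hS01.u_pos hS01.u_le
  have hm' : 0 < m' := lt_of_lt_of_le hT10.u_pos hT10.u_le
  have Mx := moment_side S W L K P AS AW AL η01 hp hq hm hS01 hW11.card_W hW11.inv hW11.ti hW01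
    hLinv hLti x hLx hSW hSL hWL hcf01 hnorm01 hsum01 hint01
  have My := moment_side T W L K' Q AT AW AL η10 hq hp hm' hT10
    (by rw [hW11.card_W, mul_comm]) hW11.inv hW11.ti hW10
    hLinv hLti y hLy hTW hTL hWL hcf10 hnorm10 hsum10 hint10
  have Mz := moment_z S T W L K K' P Q AS AT AW AL η11 hp hq hm hm' hS11 hT11 hW11 hLinv hLti
    (x + y - 1) hLz hST hSW hTW hSL hTL hWL hcf11 hnorm11 hsum11 hint11
  have hr : (AL.card : ℝ) / (Nat.card L : ℝ) =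
      ((h : ℝ) - 1) / ((p : ℝ) * (q : ℝ) * (h : ℝ)) := by
    rw [hALcard, hLcard, Nat.cast_sub (by omega)]
    push_cast
    ring
  exact xy_of_moments' hq3 hp5 hh hr
    (side_bound_S hq3 hp5 hS01.u_pos hS01.u_le hu₁) (side_bound_T hq3 hp5 hT10.u_pos hT10.u_le hv₁)
    (side_bound_S hq3 hp5 hS11.u_pos hS11.u_le hu₂) (side_bound_T hq3 hp5 hT11.u_pos hT11.u_le hv₂)
    x y (x + y - 1) rfl Mx My Mz

end Cfsg.Agent.Lib.Helper52.PF14Mom
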