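/-
helper52: Peterfalvi sec.14, module PF14-[MOM], concrete pieces for the cyclic TI family `η`:
* the `Ŵ`-sums of `η ψ` (`ψ` trivial on `W₁`) and `η φ` (`φ` trivial on `W₂`);
* the rectangle rule `η (φ ψ) = η φ + η ψ - 1` off the conjugates of `Ŵ`.
-/
import Mathlib
import Cfsg.Agent.Lib.Helper11.PF13WD
import Cfsg.Agent.Lib.Helper52.PF14XiInd

set_option autoImplicit false
set_option linter.unusedSectionVars false

namespace Cfsg.Agent.Lib.Helper52.PF14Mom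

open Cfsg Cfsg.Agent.Lib.Helper24.PFCyc Cfsg.Agent.Lib.Helper4.PF Cfsg.Agent.Lib.Helper16.PF13
  Cfsg.Agent.Lib.Helper11.PF13

universe u

variable {G : Type u} [Group G] [Fintype G]

/-- `∑_{Ŵ} (‖η ψ‖² - Re η ψ) = |W₂| (|W₁| - 1)` for `ψ ≠ 1` trivial on `W₁` -/
theorem whatSum_psi {W₁ W₂ : Subgroup G} (hW : IsSelfNormalizingCyclic W₁ W₂)
    {η : WChar W₁ W₂ → (G → ℂ)} (hη : IsCyclicTIFamily W₁ W₂ η) (ψ : WChar W₁ W₂)
    (hψ : TrivOn W₁ ψ) (hψ1 : ψ ≠ 1) :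
    ∑ a ∈ WHat W₁ W₂, (‖η ψ a‖ ^ 2 - (η ψ a).re) =
      (Nat.card W₂ : ℝ) * ((Nat.card W₁ : ℝ) - 1) := by
  classical
  have hcomm := hW.2.2.2.1
  have hdec : ∀ w ∈ W₁ ⊔ W₂, ∃ a ∈ W₁, ∃ b ∈ W₂, w = a * b := fun w hw =>
    mem_sup_of_comm' hcomm hw
  have hdec' : ∀ w ∈ W₁ ⊔ W₂, ∃ b ∈ W₂, ∃ a ∈ W₁, w = b * a := by
    intro w hw
    obtain ⟨a, ha, b, hb, rfl⟩ := hdec w hw
    exact ⟨b, hb, a, ha, hcomm a ha b hb⟩
  have hval : ∀ w ∈ WHat W₁ W₂, η ψ w = extW ψ w := by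
    intro w hw
    obtain ⟨hwW, h1, h2⟩ := mem_WHat.1 hw
    have := hη.eq_on ψ ⟨w, hwW⟩ h1 h2
    rw [this, extW_of_mem ψ hwW]
  have hnorm : ∀ w ∈ WHat W₁ W₂, ‖η ψ w‖ = 1 := by
    intro w hw
    obtain ⟨hwW, h1, h2⟩ := mem_WHat.1 hw
    have := hη.eq_on ψ ⟨w, hwW⟩ h1 h2
    rw [this]
    exact norm_char_eq_one ψ ⟨w, hwW⟩
  have hsum : ∑ w ∈ WHat W₁ W₂, η ψ w = -((Nat.card W₁ : ℂ) - 1) := by
    rw [Finset.sum_congr rfl hval, sum_WHat hW]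
    have h2 : ∀ a ∈ nonOne W₁, ∀ b ∈ nonOne W₂, extW ψ (a * b) = extW ψ b := by
      intro a ha b hb
      exact extW_mul_of_trivOn' le_sup_left le_sup_right ψ hψ (mem_nonOne.1 ha).1
        (mem_nonOne.1 hb).1
    rw [Finset.sum_congr rfl (fun a ha => Finset.sum_congr rfl (fun b hb => h2 a ha b hb))]
    rw [Finset.sum_const, sum_nonOne_extW le_sup_right le_sup_left hdec' ψ hψ hψ1, card_nonOne,
      nsmul_eq_mul, Nat.cast_sub Nat.card_pos]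
    push_cast
    ring
  have hcard : ((WHat W₁ W₂).card : ℂ) = ((nonOne W₁).card : ℂ) * ((nonOne W₂).card : ℂ) := by
    have := sum_WHat hW (fun _ => (1 : ℂ))
    simpa [Finset.sum_const] using this
  have hcardN : (WHat W₁ W₂).card = (Nat.card W₁ - 1) * (Nat.card W₂ - 1) := by
    have : ((WHat W₁ W₂).card : ℂ) = (((nonOne W₁).card * (nonOne W₂).card : ℕ) : ℂ) := by
      rw [hcard, Nat.cast_mul]
    rw [Nat.cast_inj.1 this, card_nonOne, card_nonOne]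
  have h1 : ∑ a ∈ WHat W₁ W₂, (‖η ψ a‖ ^ 2 - (η ψ a).re) =
      ((WHat W₁ W₂).card : ℝ) - (∑ a ∈ WHat W₁ W₂, η ψ a).re := by
    rw [Complex.re_sum, Finset.sum_sub_distrib]
    congr 1
    rw [Finset.sum_congr rfl (fun a ha => by rw [hnorm a ha, one_pow]), Finset.sum_const,
      nsmul_eq_mul, mul_one]
  rw [h1, hsum, hcardN, Nat.cast_mul, Nat.cast_sub Nat.card_pos, Nat.cast_sub Nat.card_pos]
  simp only [Nat.cast_one, Complex.neg_re, Complex.sub_re, Complex.natCast_re, Complex.one_re]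
  ring

/-- `∑_{Ŵ} (‖η φ‖² - Re η φ) = |W₁| (|W₂| - 1)` for `φ ≠ 1` trivial on `W₂` -/
theorem whatSum_phi {W₁ W₂ : Subgroup G} (hW : IsSelfNormalizingCyclic W₁ W₂)
    {η : WChar W₁ W₂ → (G → ℂ)} (hη : IsCyclicTIFamily W₁ W₂ η) (φ : WChar W₁ W₂)
    (hφ : TrivOn W₂ φ) (hφ1 : φ ≠ 1) :
    ∑ a ∈ WHat W₁ W₂, (‖η φ a‖ ^ 2 - (η φ a).re) =
      (Nat.card W₁ : ℝ) * ((Nat.card W₂ : ℝ) - 1) := by
  classical
  have hcomm := hW.2.2.2.1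
  have hdec : ∀ w ∈ W₁ ⊔ W₂, ∃ a ∈ W₁, ∃ b ∈ W₂, w = a * b := fun w hw =>
    mem_sup_of_comm' hcomm hw
  have hval : ∀ w ∈ WHat W₁ W₂, η φ w = extW φ w := by
    intro w hw
    obtain ⟨hwW, h1, h2⟩ := mem_WHat.1 hw
    have := hη.eq_on φ ⟨w, hwW⟩ h1 h2
    rw [this, extW_of_mem φ hwW]
  have hnorm : ∀ w ∈ WHat W₁ W₂, ‖η φ w‖ = 1 := by
    intro w hw
    obtain ⟨hwW, h1, h2⟩ := mem_WHat.1 hw
    have := hη.eq_on φ ⟨w, hwW⟩ h1 h2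
    rw [this]
    exact norm_char_eq_one φ ⟨w, hwW⟩
  have hsum : ∑ w ∈ WHat W₁ W₂, η φ w = -((Nat.card W₂ : ℂ) - 1) := by
    rw [Finset.sum_congr rfl hval, sum_WHat hW]
    have h2 : ∀ a ∈ nonOne W₁, ∀ b ∈ nonOne W₂, extW φ (a * b) = extW φ a := by
      intro a ha b hb
      exact extW_mul_of_trivOn le_sup_left le_sup_right φ hφ (mem_nonOne.1 ha).1
        (mem_nonOne.1 hb).1
    rw [Finset.sum_congr rfl (fun a ha => Finset.sum_congr rfl (fun b hb => h2 a ha b hb))]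
    simp only [Finset.sum_const, nsmul_eq_mul]
    rw [← Finset.mul_sum, sum_nonOne_extW le_sup_left le_sup_right hdec φ hφ hφ1, card_nonOne,
      Nat.cast_sub Nat.card_pos]
    push_cast
    ring
  have hcard : ((WHat W₁ W₂).card : ℂ) = ((nonOne W₁).card : ℂ) * ((nonOne W₂).card : ℂ) := by
    have := sum_WHat hW (fun _ => (1 : ℂ))
    simpa [Finset.sum_const] using this
  have hcardN : (WHat W₁ W₂).card = (Nat.card W₁ - 1) * (Nat.card W₂ - 1) := by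
    have : ((WHat W₁ W₂).card : ℂ) = (((nonOne W₁).card * (nonOne W₂).card : ℕ) : ℂ) := by
      rw [hcard, Nat.cast_mul]
    rw [Nat.cast_inj.1 this, card_nonOne, card_nonOne]
  have h1 : ∑ a ∈ WHat W₁ W₂, (‖η φ a‖ ^ 2 - (η φ a).re) =
      ((WHat W₁ W₂).card : ℝ) - (∑ a ∈ WHat W₁ W₂, η φ a).re := by
    rw [Complex.re_sum, Finset.sum_sub_distrib]
    congr 1
    rw [Finset.sum_congr rfl (fun a ha => by rw [hnorm a ha, one_pow]), Finset.sum_const,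
      nsmul_eq_mul, mul_one]
  rw [h1, hsum, hcardN, Nat.cast_mul, Nat.cast_sub Nat.card_pos, Nat.cast_sub Nat.card_pos]
  simp only [Nat.cast_one, Complex.neg_re, Complex.sub_re, Complex.natCast_re, Complex.one_re]
  ring

/-- **rectangle rule**: off the conjugates of `Ŵ`, `η (φ ψ) = η φ + η ψ - 1`. -/
theorem rect_off_WHat {W₁ W₂ : Subgroup G} [Fintype ↥(W₁ ⊔ W₂)]
    {η : WChar W₁ W₂ → (G → ℂ)} (hη : IsCyclicTIFamily W₁ W₂ η) (φ ψ : WChar W₁ W₂)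
    (hφ : TrivOn W₂ φ) (hψ : TrivOn W₁ ψ) (hφ1 : φ ≠ 1) (hψ1 : ψ ≠ 1) (g : G)
    (hg : ∀ x : G, x⁻¹ * g * x ∈ W₁ ⊔ W₂ → x⁻¹ * g * x ∈ W₁ ∨ x⁻¹ * g * x ∈ W₂) :
    η (φ * ψ) g = η φ g + η ψ g - 1 := by
  have h1 := congrFun (hη.induced_eq φ ψ hφ1 hψ1 hφ hψ) g
  have h2 := Cfsg.Agent.Lib.Helper52.PF14Xi.indFun_eq_zero_of_support (W₁ ⊔ W₂)
    {w : ↥(W₁ ⊔ W₂) | (w : G) ∉ W₁ ∧ (w : G) ∉ W₂}
    (fun w => 1 - ((φ w : ℂˣ) : ℂ) - ((ψ w : ℂˣ) : ℂ) + ((φ w : ℂˣ) : ℂ) * ((ψ w : ℂˣ) : ℂ))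
    (by
      intro w hw
      have hw' : (w : G) ∈ W₁ ∨ (w : G) ∈ W₂ := by
        by_contra hcon
        push Not at hcon
        exact hw hcon
      rcases hw' with h | h
      · show 1 - ((φ w : ℂˣ) : ℂ) - ((ψ w : ℂˣ) : ℂ) + ((φ w : ℂˣ) : ℂ) * ((ψ w : ℂˣ) : ℂ) = 0
        rw [hψ w h]
        simp
      · show 1 - ((φ w : ℂˣ) : ℂ) - ((ψ w : ℂˣ) : ℂ) + ((φ w : ℂˣ) : ℂ) * ((ψ w : ℂˣ) : ℂ) = 0
        rw [hφ w h]
        simp)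
    g
    (by
      intro x k hk hxk
      have hmem : x⁻¹ * g * x ∈ W₁ ⊔ W₂ := by rw [hxk]; exact k.2
      rcases hg x hmem with h | h
      · rw [hxk] at h; exact hk.1 h
      · rw [hxk] at h; exact hk.2 h)
  have h3 : (1 : ℂ) - η φ g - η ψ g + η (φ * ψ) g = 0 := by
    rw [← h2]
    exact h1.symm
  linear_combination h3

end Cfsg.Agent.Lib.Helper52.PF14Mom
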