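/-
helper52: Peterfalvi sec.14, module PF14-[MOM], concrete form: `(x, y) ∈ {(1,0),(0,1),(0,0)}` for
the constant values `x`, `y` of `η ψ`, `η φ` on `H#`, `(L, H)` a Frobenius class (helper34's
`FrobClass`) with `|L : H| = p q` and `|H|` prime to `p q`, from the `SideData` of both sides of
the pair for `η ψ`, `η φ`, `η (φ ψ)`.
-/
import Mathlib
import Cfsg.Agent.Lib.Helper52.PF14MomGen
import Cfsg.Agent.Lib.Helper52.PF14MomW
import Cfsg.Agent.Lib.Helper34.PF14EndFrob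
import Cfsg.Agent.Lib.Helper16.PF13Spine
import Cfsg.Agent.Lib.Helper13.PF13R
import Cfsg.Agent.Lib.Helper13.PF13DisjST
import Cfsg.Agent.Lib.Helper13.PF13DisjSW
import Cfsg.Agent.Lib.Helper13.PF13Eta
import Cfsg.Agent.Lib.Helper13.PF13Int
import Cfsg.Agent.Lib.Helper60.PFTenTSwap
import Cfsg.Agent.S1508

set_option autoImplicit false
set_option linter.unusedSectionVars false

namespace Cfsg.Agent.Lib.Helper52.PF14Mom

open Cfsg Cfsg.Agent.Lib.Helper24.PFCyc Cfsg.Agent.Lib.Helper4.PF Cfsg.Agent.Lib.Helper16.PF13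
  Cfsg.Agent.Lib.Helper11.PF13 Cfsg.Agent.Lib.Helper34.PF14End

universe u

variable {G : Type u} [Group G] [Fintype G]

/-- the piece `(L, H#)` of a Frobenius class is invariant under `L` -/
theorem frob_piece_inv {L H : Subgroup G} (c : FrobClass L H) :
    ∀ s ∈ L, ∀ a ∈ nonOne H, s * a * s⁻¹ ∈ nonOne H := by
  intro s hs a ha
  rw [mem_nonOne] at ha ⊢
  refine ⟨c.normal s hs a ha.1, ?_⟩
  intro h
  apply ha.2
  have : a = s⁻¹ * (s * a * s⁻¹) * s := by group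
  rw [this, h]
  group

/-- the piece `(L, H#)` of a Frobenius class is TI with normaliser `L` -/
theorem frob_piece_ti {L H : Subgroup G} (c : FrobClass L H) :
    ∀ g : G, ∀ a ∈ nonOne H, g * a * g⁻¹ ∈ nonOne H → g ∈ L := by
  intro g a ha hga
  rw [mem_nonOne] at ha hga
  by_contra hg
  have hg' : g ∉ Subgroup.normalizer (H : Set G) := by rw [c.nor]; exact hg
  exact ha.2 (c.ti g hg' a ha.1 hga.1)

/-- **disjointness**: if every `a ∈ A` commutes with some `x ≠ 1`, `x ^ n = 1`, `n` prime to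
`|H|`, then no conjugate of `a` lies in `H#`. -/
theorem disjoint_frob {L H : Subgroup G} (c : FrobClass L H) (A : Finset G) (n : ℕ)
    (hcop : (Nat.card H).Coprime n)
    (hA : ∀ a ∈ A, ∃ x : G, x ≠ 1 ∧ x ^ n = 1 ∧ a * x = x * a) :
    Disjoint (conjClosure A) (conjClosure (nonOne H)) := by
  rw [Set.disjoint_left]
  rintro g ⟨y, a, ha, hgy⟩ ⟨z, k, hk, hgz⟩
  rw [mem_nonOne] at hk
  obtain ⟨x, hx1, hxn, hax⟩ := hA a ha
  -- `k = t a t⁻¹` with `t = z⁻¹ y`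
  set t := z⁻¹ * y with ht
  have hkt : k = t * a * t⁻¹ := by
    have : y * a * y⁻¹ = z * k * z⁻¹ := hgy.symm.trans hgz
    calc k = z⁻¹ * (z * k * z⁻¹) * z := by group
      _ = z⁻¹ * (y * a * y⁻¹) * z := by rw [this]
      _ = t * a * t⁻¹ := by rw [ht]; group
  set x' := t * x * t⁻¹ with hx'
  have hx'1 : x' ≠ 1 := by
    intro h
    apply hx1
    have : x = t⁻¹ * x' * t := by rw [hx']; group
    rw [this, h]
    group
  have hx'n : x' ^ n = 1 := by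
    have : x' ^ n = t * x ^ n * t⁻¹ := by
      rw [hx']
      exact conj_pow
    rw [this, hxn]
    group
  have hcomm : x' * k = k * x' := by
    rw [hkt, hx']
    have e1 : t * x * t⁻¹ * (t * a * t⁻¹) = t * (x * a) * t⁻¹ := by group
    have e2 : t * a * t⁻¹ * (t * x * t⁻¹) = t * (a * x) * t⁻¹ := by group
    rw [e1, e2, hax]
  have hx'H : x' ∈ H := by
    apply c.cent k hk.1 hk.2
    rw [Subgroup.mem_centralizer_singleton_iff]
    exact hcomm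
  have h1 : orderOf x' ∣ Nat.card H := Subgroup.orderOf_dvd_natCard H hx'H
  have h2 : orderOf x' ∣ n := orderOf_dvd_of_pow_eq_one hx'n
  have h3 : orderOf x' = 1 := Nat.eq_one_of_dvd_coprimes hcop h1 h2
  exact hx'1 (orderOf_eq_one_iff.mp h3)

omit [Fintype G] in
/-- a character of `W` trivial on `X` has order dividing `|Y|` when `W = X Y` -/
theorem orderOf_dvd_of_trivOn [Finite G] {W₁ W₂ X Y : Subgroup G} (hY : Y ≤ W₁ ⊔ W₂)
    (hdec : ∀ w ∈ W₁ ⊔ W₂, ∃ a ∈ X, ∃ b ∈ Y, w = a * b ∧ a * b = b * a)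
    (ω : WChar W₁ W₂) (hω : TrivOn X ω) : orderOf ω ∣ Nat.card Y := by
  rw [orderOf_dvd_iff_pow_eq_one]
  ext w
  rw [MonoidHom.pow_apply, ← map_pow, MonoidHom.one_apply]
  obtain ⟨a, ha, b, hb, hw, hc⟩ := hdec w.1 w.2
  have h1 : ((w ^ Nat.card Y : ↥(W₁ ⊔ W₂)) : G) ∈ X := by
    rw [Subgroup.coe_pow, hw, (show Commute a b from hc).mul_pow]
    have : b ^ Nat.card Y = 1 :=
      orderOf_dvd_iff_pow_eq_one.mp (Subgroup.orderOf_dvd_natCard Y hb)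
    rw [this, mul_one]
    exact X.pow_mem ha _
  rw [hω _ h1]

/-- **[MOM], concrete form** -/
theorem xy_of_frobClass {S T K K' P Q U V W₁ W₂ L H : Subgroup G} {AS AT : Finset G}
    {p q m m' u₁ u₂ v₁ v₂ : ℕ}
    (hS : SideGrp S K P U W₁ W₂ AS p q) (hT : SideGrp T K' Q V W₂ W₁ AT q p)
    (hW : IsSelfNormalizingCyclic W₁ W₂) (hoddG : Odd (Nat.card G))
    {η : WChar W₁ W₂ → (G → ℂ)} (hη : IsCyclicTIFamily W₁ W₂ η) (φ ψ : WChar W₁ W₂)
    (hφ : TrivOn W₂ φ) (hψ : TrivOn W₁ ψ) (hφ1 : φ ≠ 1) (hψ1 : ψ ≠ 1) (hqp : q < p)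
    (hS01 : SideData S K P AS (η ψ) p q m u₁) (hS11 : SideData S K P AS (η (φ * ψ)) p q m u₂)
    (hT10 : SideData T K' Q AT (η φ) q p m' v₁) (hT11 : SideData T K' Q AT (η (φ * ψ)) q p m' v₂)
    (hu₁ : u₁ * (p - 1) ≤ p ^ q - 1) (hu₂ : u₂ * (p - 1) ≤ p ^ q - 1)
    (hv₁ : v₁ * (q - 1) ≤ q ^ p - 1) (hv₂ : v₂ * (q - 1) ≤ q ^ p - 1)
    (hIIS : ∀ a ∈ AS, ∃ x ∈ P, x ≠ 1 ∧ a * x = x * a)
    (hIIT : ∀ b ∈ AT, ∃ y ∈ Q, y ≠ 1 ∧ b * y = y * b)
    (c : FrobClass L H) (he : H.relIndex L = p * q) (hcop : (Nat.card H).Coprime (p * q))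
    (hh : 5 ≤ Nat.card H)
    (x y : ℤ) (hx : ∀ k ∈ H, k ≠ 1 → η ψ k = (x : ℂ)) (hy : ∀ k ∈ H, k ≠ 1 → η φ k = (y : ℂ)) :
    (x = 1 ∧ y = 0) ∨ (x = 0 ∧ y = 1) ∨ (x = 0 ∧ y = 0) := by
  classical
  have hcomm := hW.2.2.2.1
  have hcyc := hW.2.2.2.2.1
  have hω1 : φ * ψ ≠ 1 := mul_ne_one_of_trivOn hφ hψ hφ1
  obtain ⟨hcf11, hnorm11, hsum11⟩ := Cfsg.Agent.Lib.Helper13.PF13.eta_basic hη (φ * ψ) hω1
  obtain ⟨hcf01, hnorm01, hsum01⟩ := Cfsg.Agent.Lib.Helper13.PF13.eta_basic hη ψ hψ1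
  obtain ⟨hcf10, hnorm10, hsum10⟩ := Cfsg.Agent.Lib.Helper13.PF13.eta_basic hη φ hφ1
  have hWd : WData (W₁ ⊔ W₂) (WHat W₁ W₂) (η (φ * ψ)) p q := by
    have := wData_of_family hW hη φ ψ hφ hψ hφ1 hψ1
    rwa [hS.card_W₂, hS.card_W₁] at this
  have hoddW : Odd (Nat.card ↥(W₁ ⊔ W₂)) :=
    Odd.of_dvd_nat hoddG (Subgroup.card_subgroup_dvd_card _)
  have hW01 : ∑ a ∈ WHat W₁ W₂, (‖η ψ a‖ ^ 2 - (η ψ a).re) = (p : ℝ) * ((q : ℝ) - 1) := by
    rw [whatSum_psi hW hη ψ hψ hψ1, hS.card_W₂, hS.card_W₁]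
  have hW10 : ∑ a ∈ WHat W₁ W₂, (‖η φ a‖ ^ 2 - (η φ a).re) = (q : ℝ) * ((p : ℝ) - 1) := by
    rw [whatSum_phi hW hη φ hφ hφ1, hS.card_W₂, hS.card_W₁]
  have hp5 : 5 ≤ p := by
    have h3 := hS.hq3
    have hp := hS.hp
    rcases Nat.lt_or_ge p 5 with h | h
    · exfalso
      have h4 : p = 4 := by omega
      rw [h4] at hp
      exact absurd hp (by decide)
    · exact h
  -- disjointness
  have hST := Cfsg.Agent.Lib.Helper13.PF13.disjoint_ST hS hT (Or.inl hIIS)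
  have hSW := Cfsg.Agent.Lib.Helper13.PF13.disjoint_SW hS hW
  have hTW : Disjoint (conjClosure AT) (conjClosure (WHat W₁ W₂)) := by
    have := Cfsg.Agent.Lib.Helper13.PF13.disjoint_SW hT
      (Cfsg.Agent.Lib.Helper60.PFTenT.isSelfNormalizingCyclic_swap hW)
    rwa [Cfsg.Agent.Lib.Helper13.PF13.WHat_comm] at this
  have hcopp : (Nat.card H).Coprime p := Nat.Coprime.coprime_mul_right_right hcop
  have hcopq : (Nat.card H).Coprime q := Nat.Coprime.coprime_mul_left_right hcop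
  have hSL : Disjoint (conjClosure AS) (conjClosure (nonOne H)) := by
    apply disjoint_frob c AS (p ^ q) (Nat.Coprime.pow_right _ hcopp)
    intro a ha
    obtain ⟨z, hz, hz1, hza⟩ := hIIS a ha
    refine ⟨z, hz1, ?_, hza⟩
    have := pow_card_eq_one' (x := (⟨z, hz⟩ : ↥P))
    rw [hS.card_P] at this
    exact congrArg Subtype.val this
  have hTL : Disjoint (conjClosure AT) (conjClosure (nonOne H)) := by
    apply disjoint_frob c AT (q ^ p) (Nat.Coprime.pow_right _ hcopq)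
    intro a ha
    obtain ⟨z, hz, hz1, hza⟩ := hIIT a ha
    refine ⟨z, hz1, ?_, hza⟩
    have := pow_card_eq_one' (x := (⟨z, hz⟩ : ↥Q))
    rw [hT.card_P] at this
    exact congrArg Subtype.val this
  have hWL : Disjoint (conjClosure (WHat W₁ W₂)) (conjClosure (nonOne H)) := by
    apply disjoint_frob c (WHat W₁ W₂) p hcopp
    intro a ha
    have haW := (mem_WHat.1 ha).1
    obtain ⟨z, hz⟩ := (Subgroup.ne_bot_iff_exists_ne_one).mp hW.2.1
    have hzW : (z : G) ∈ W₁ ⊔ W₂ := Subgroup.mem_sup_right z.2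
    refine ⟨(z : G), fun h => hz (Subtype.ext h), ?_, ?_⟩
    · have := pow_card_eq_one' (x := z)
      rw [hS.card_W₂] at this
      exact congrArg Subtype.val this
    · have hc : (⟨a, haW⟩ : ↥(W₁ ⊔ W₂)) * ⟨(z : G), hzW⟩ = ⟨(z : G), hzW⟩ * ⟨a, haW⟩ := by
        obtain ⟨g, hg⟩ := hcyc.exists_generator
        obtain ⟨i, hi⟩ := Subgroup.mem_zpowers_iff.mp (hg ⟨a, haW⟩)
        obtain ⟨j, hj⟩ := Subgroup.mem_zpowers_iff.mp (hg ⟨(z : G), hzW⟩)
        rw [← hi, ← hj, ← zpow_add, ← zpow_add, add_comm]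
      exact congrArg Subtype.val hc
  -- the values on `H#`
  have hLx : ∀ a ∈ nonOne H, η ψ a = (x : ℂ) := fun a ha =>
    hx a (mem_nonOne.1 ha).1 (mem_nonOne.1 ha).2
  have hLy : ∀ a ∈ nonOne H, η φ a = (y : ℂ) := fun a ha =>
    hy a (mem_nonOne.1 ha).1 (mem_nonOne.1 ha).2
  have hLz : ∀ a ∈ nonOne H, η (φ * ψ) a = ((x + y - 1 : ℤ) : ℂ) := by
    intro a ha
    haveI : Fintype ↥(W₁ ⊔ W₂) := Fintype.ofFinite _
    rw [rect_off_WHat hη φ ψ hφ hψ hφ1 hψ1 a ?_, hLx a ha, hLy a ha]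
    · push_cast
      ring
    · intro t ht
      by_contra hcon
      push Not at hcon
      have h1 : t⁻¹ * a * t ∈ WHat W₁ W₂ := mem_WHat.2 ⟨ht, hcon.1, hcon.2⟩
      have h2 : a ∈ conjClosure (WHat W₁ W₂) := ⟨t, t⁻¹ * a * t, h1, by group⟩
      have h3 : a ∈ conjClosure (nonOne H) := ⟨1, a, ha, by group⟩
      exact (Set.disjoint_left.mp hWL) h2 h3
  -- integrality
  have hdec : ∀ w ∈ W₁ ⊔ W₂, ∃ a ∈ W₁, ∃ b ∈ W₂, w = a * b ∧ a * b = b * a := by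
    intro w hw
    obtain ⟨a, ha, b, hb, rfl⟩ := mem_sup_of_comm' hcomm hw
    exact ⟨a, ha, b, hb, rfl, hcomm a ha b hb⟩
  have hdec' : ∀ w ∈ W₁ ⊔ W₂, ∃ b ∈ W₂, ∃ a ∈ W₁, w = b * a ∧ b * a = a * b := by
    intro w hw
    obtain ⟨a, ha, b, hb, rfl⟩ := mem_sup_of_comm' hcomm hw
    exact ⟨b, hb, a, ha, hcomm a ha b hb, (hcomm a ha b hb).symm⟩
  have hint01 : ∀ g : G, g ∉ conjClosure AS → g ∉ conjClosure (WHat W₁ W₂) →
      g ∉ conjClosure (nonOne H) → ∃ n : ℤ, η ψ g = (n : ℂ) := by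
    intro g h1 h3 _
    apply Cfsg.Agent.S1508.result W₁ W₂ hW hoddW η hη ψ g
    have hnd := Cfsg.Agent.Lib.Helper13.PF13.not_dvd_orderOf_of_not_mem hS g h1 h3
    have hord : orderOf ψ ∣ p := by
      have := orderOf_dvd_of_trivOn (X := W₁) (Y := W₂) le_sup_right hdec ψ hψ
      rwa [hS.card_W₂] at this
    exact Nat.Coprime.coprime_dvd_right hord
      ((Nat.Prime.coprime_iff_not_dvd hS.hp).mpr hnd).symm
  have hint10 : ∀ g : G, g ∉ conjClosure AT → g ∉ conjClosure (WHat W₁ W₂) →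
      g ∉ conjClosure (nonOne H) → ∃ n : ℤ, η φ g = (n : ℂ) := by
    intro g h2 h3 _
    apply Cfsg.Agent.S1508.result W₁ W₂ hW hoddW η hη φ g
    have hnd := Cfsg.Agent.Lib.Helper13.PF13.not_dvd_orderOf_of_not_mem hT g h2
      (by rw [Cfsg.Agent.Lib.Helper13.PF13.WHat_comm]; exact h3)
    have hord : orderOf φ ∣ q := by
      have := orderOf_dvd_of_trivOn (X := W₂) (Y := W₁) le_sup_left hdec' φ hφ
      rwa [hS.card_W₁] at this
    exact Nat.Coprime.coprime_dvd_right hord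
      ((Nat.Prime.coprime_iff_not_dvd hS.hq).mpr hnd).symm
  have hint11 : ∀ g : G, g ∉ conjClosure AS → g ∉ conjClosure AT →
      g ∉ conjClosure (WHat W₁ W₂) → g ∉ conjClosure (nonOne H) →
      ∃ n : ℤ, η (φ * ψ) g = (n : ℂ) := by
    intro g h1 h2 h3 _
    apply Cfsg.Agent.Lib.Helper13.PF13.eta_int_of_coprime hW hoddW hη
    rw [hS.card_W₂, hS.card_W₁]
    exact Cfsg.Agent.Lib.Helper13.PF13.regular_of_not_mem hS hT g h1 h2 h3
  -- cardinalities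
  have hLcard : Nat.card L = p * q * Nat.card H := by
    have h1 := Subgroup.card_mul_index (H.subgroupOf L)
    have h2 : Nat.card ↥(H.subgroupOf L) = Nat.card H :=
      Nat.card_congr (Subgroup.subgroupOfEquivOfLe c.lt.le).toEquiv
    have h3 : (H.subgroupOf L).index = p * q := he
    rw [h2, h3] at h1
    rw [← h1]
    ring
  exact xy_of_pieces' S T (W₁ ⊔ W₂) L K K' P Q AS AT (WHat W₁ W₂) (nonOne H) (η ψ) (η φ)
    (η (φ * ψ)) hS.hq3 hp5 hu₁ hu₂ hv₁ hv₂ hh (card_nonOne H) hLcard hS01 hS11 hT10 hT11 hWd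
    hW01 hW10 (frob_piece_inv c) (frob_piece_ti c) x y hLx hLy hLz hST hSW hTW hSL hTL hWL
    hcf01 hnorm01 hsum01 hcf10 hnorm10 hsum10 hcf11 hnorm11 hsum11 hint01 hint10 hint11

end Cfsg.Agent.Lib.Helper52.PF14Mom
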