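import Mathlib
import Cfsg.Agent.S0851
import Cfsg.Agent.Lib.Helper74.TIFNInt
import Cfsg.Agent.Lib.Helper74.TaketaAux

/-!
# Abelian T.I. subgroups with Frobenius normalizer: basic character computations

`K ≤ G` abelian, `N = N_G(K)`, `K < N`, `K` a TI-subgroup containing the centralizers of its
non-identity elements.  We compute with the relevant characters of `N` (irreducible, not trivial on
`K`): they have degree `e = |N : K|`, vanish off `K`, and there are `(|K| - 1)/e` of them.
-/

set_option autoImplicit false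
set_option linter.unusedSectionVars false
set_option linter.style.haveILetI false

namespace Cfsg.Agent.Lib.Helper52

open Cfsg Cfsg.Agent.Lib.Helper74 Cfsg.Agent.Lib.Helper78 Cfsg.Agent.Lib.Helper75
open scoped ComplexConjugate

universe u

section TIFN

variable {G : Type u} [Group G] [Fintype G] (K : Subgroup G)

local notation "NK" => Subgroup.normalizer (K : Set G)

/-- the relevant characters of `N_G(K)`, as a subtype of the irreducible characters (this is the
type appearing in S0851) -/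
abbrev RelChar : Type u :=
  {χ : Cfsg.IrrCharacter (Subgroup.normalizer (K : Set G)) //
    ∃ k : Subgroup.normalizer (K : Set G), (k : G) ∈ K ∧
      (χ : ↥(Subgroup.normalizer (K : Set G)) → ℂ) k ≠
        (χ : ↥(Subgroup.normalizer (K : Set G)) → ℂ) 1}

variable {K}

theorem RelChar.mem_tifnS (χ : RelChar K) : (χ.1 : ↥NK → ℂ) ∈ tifnS K := ⟨χ.1.2, χ.2⟩

variable [Fintype ↥(Subgroup.normalizer (K : Set G))]

/-- relevant characters have degree `e` (for abelian `K`) -/
theorem relChar_apply_one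
    (hC : ∀ k ∈ K, k ≠ 1 → Subgroup.centralizer ({k} : Set G) ≤ K)
    (hab : ∀ a ∈ K, ∀ b ∈ K, a * b = b * a) (χ : RelChar K) :
    (χ.1 : ↥NK → ℂ) 1 = ((K.subgroupOf NK).index : ℂ) := by
  classical
  haveI : Fintype ↥(K.subgroupOf NK) := Fintype.ofFinite _
  haveI : IsMulCommutative ↥(K.subgroupOf NK) := by
    refine ⟨⟨fun a b => ?_⟩⟩
    apply Subtype.ext
    apply Subtype.ext
    exact hab _ (Subgroup.mem_subgroupOf.mp a.2) _ (Subgroup.mem_subgroupOf.mp b.2)
  obtain ⟨φ, hφ, h⟩ := tifnS_exists_eq_indFun hC χ.mem_tifnS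
  rw [h, indFun_one, IsIrrCharacter.map_one_of_comm hφ, mul_one]

theorem relChar_vanish
    (hC : ∀ k ∈ K, k ≠ 1 → Subgroup.centralizer ({k} : Set G) ≤ K) (χ : RelChar K)
    (x : ↥NK) (hx : (x : G) ∉ K) : (χ.1 : ↥NK → ℂ) x = 0 :=
  tifnS_vanish hC χ.mem_tifnS x hx

/-- a relevant character is orthogonal to the principal character -/
theorem relChar_classInner_one (χ : RelChar K) :
    classInner (χ.1 : ↥NK → ℂ) (fun _ => (1 : ℂ)) = 0 :=
  tifnS_classInner_one χ.mem_tifnS

variable (K) in
/-- the character of `N` induced from the principal character of `K` -/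
noncomputable def rhoK : ↥NK → ℂ := indFun (K.subgroupOf NK) (fun _ => (1 : ℂ))

theorem rhoK_apply_mem (x : ↥NK) (hx : (x : G) ∈ K) :
    rhoK K x = ((K.subgroupOf NK).index : ℂ) := by
  unfold rhoK
  rw [indFun_eq_of_mem_normal (K.subgroupOf NK) (fun _ => (1 : ℂ)) (K.subgroupOf NK) le_rfl
    (fun _ _ => rfl) (Subgroup.mem_subgroupOf.mpr hx), indFun_one, mul_one]

theorem rhoK_apply_not_mem (x : ↥NK) (hx : (x : G) ∉ K) : rhoK K x = 0 := by
  unfold rhoK
  apply indFun_of_forall_not_mem_conj
  intro y hy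
  rw [Subgroup.Normal.conj_smul_eq_self] at hy
  exact hx (Subgroup.mem_subgroupOf.mp hy)

theorem rhoK_isCharacter : IsCharacter ↥NK (rhoK K) :=
  Cfsg.Agent.S0148.result _ _ (IsIrrCharacter.isCharacter isIrrCharacter_one)

theorem rhoK_isClassFunction : IsClassFunction ↥NK (rhoK K) :=
  isClassFunction_indFun _ _

/-- inner product of `ρ` with a class function which is constant on `K` -/
theorem classInner_rhoK_of_const {θ : ↥NK → ℂ} (hθ : IsClassFunction ↥NK θ) {c : ℂ}
    (hc : ∀ x : ↥NK, (x : G) ∈ K → θ x = c) : classInner (rhoK K) θ = conj c := by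
  classical
  haveI : Fintype ↥(K.subgroupOf NK) := Fintype.ofFinite _
  unfold rhoK
  rw [frobenius_reciprocity _ _ hθ]
  have h : (fun h : ↥(K.subgroupOf NK) => θ h) = c • (fun _ => (1 : ℂ)) := by
    funext h
    simp [hc (h : ↥NK) (Subgroup.mem_subgroupOf.mp h.2)]
  rw [h, classInner_smul_right]
  have := classInner_one_one (G := ↥(K.subgroupOf NK))
  have h1 : (1 : ↥(K.subgroupOf NK) → ℂ) = fun _ => 1 := rfl
  rw [h1] at this
  rw [this, mul_one]

theorem classInner_rhoK_one : classInner (rhoK K) (fun _ : ↥NK => (1 : ℂ)) = 1 := by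
  have := classInner_rhoK_of_const (K := K) (θ := fun _ => (1 : ℂ)) (c := 1)
    (fun _ _ => rfl) (fun _ _ => rfl)
  simpa using this

theorem classInner_rhoK_rhoK :
    classInner (rhoK K) (rhoK K) = ((K.subgroupOf NK).index : ℂ) := by
  have := classInner_rhoK_of_const (K := K) rhoK_isClassFunction
    (c := ((K.subgroupOf NK).index : ℂ)) (fun x hx => rhoK_apply_mem x hx)
  simpa using this

/-- `ρ` is orthogonal to the relevant characters -/
theorem classInner_rhoK_relChar
    (hC : ∀ k ∈ K, k ≠ 1 → Subgroup.centralizer ({k} : Set G) ≤ K) (χ : RelChar K) :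
    classInner (rhoK K) (χ.1 : ↥NK → ℂ) = 0 := by
  classical
  haveI : Fintype ↥(K.subgroupOf NK) := Fintype.ofFinite _
  obtain ⟨φ, hφ, h⟩ := tifnS_exists_eq_indFun hC χ.mem_tifnS
  have hφ1 : φ ≠ fun _ => 1 := by
    intro h1
    obtain ⟨k, hk, hne⟩ := χ.2
    apply hne
    have hr1 := rhoK_apply_mem (K := K) k hk
    have hr2 := rhoK_apply_mem (K := K) (1 : ↥NK) K.one_mem
    have : (χ.1 : ↥NK → ℂ) = rhoK K := by rw [h, h1]; rfl
    rw [this, hr1, hr2]
  rw [h]
  unfold rhoK
  rw [← classInner_conj_symm]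
  rw [classInner_indFun_indFun_eq_zero (K.subgroupOf NK) isIrrCharacter_one hφ, map_zero]
  intro g hg
  apply hφ1
  rw [← hg]
  funext n
  rfl

/-- the relevance predicate on irreducible characters of `N` -/
def IsRel (K : Subgroup G) (θ : IrrCharacter ↥(Subgroup.normalizer (K : Set G))) : Prop :=
  ∃ k : Subgroup.normalizer (K : Set G), (k : G) ∈ K ∧
      (θ : ↥(Subgroup.normalizer (K : Set G)) → ℂ) k ≠
        (θ : ↥(Subgroup.normalizer (K : Set G)) → ℂ) 1

theorem card_normalizer_eq : Nat.card ↥NK = Nat.card K * (K.subgroupOf NK).index := by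
  rw [← Subgroup.card_mul_index (K.subgroupOf NK)]
  congr 1
  exact (Nat.card_congr (Subgroup.subgroupOfEquivOfLe Subgroup.le_normalizer).toEquiv)

theorem card_relChar_mul_index
    (hC : ∀ k ∈ K, k ≠ 1 → Subgroup.centralizer ({k} : Set G) ≤ K)
    (hab : ∀ a ∈ K, ∀ b ∈ K, a * b = b * a) :
    Nat.card (RelChar K) * (K.subgroupOf NK).index + 1 = Nat.card K := by
  classical
  set e : ℕ := (K.subgroupOf NK).index with he
  have he0 : e ≠ 0 := Subgroup.index_ne_zero_of_finite
  -- Parseval for `ρ`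
  have hP := classInner_eq_sum_mul_conj (rhoK K) (rhoK_isClassFunction (K := K))
  rw [classInner_rhoK_rhoK] at hP
  have hterm : ∀ θ : IrrCharacter ↥NK,
      classInner (rhoK K) (θ : ↥NK → ℂ) * conj (classInner (rhoK K) (θ : ↥NK → ℂ)) =
        if IsRel K θ then 0 else ((θ : ↥NK → ℂ) 1) ^ 2 := by
    intro θ
    by_cases hθ : IsRel K θ
    · rw [if_pos hθ, classInner_rhoK_relChar hC ⟨θ, hθ⟩, zero_mul]
    · rw [if_neg hθ]
      have hconst : ∀ x : ↥NK, (x : G) ∈ K → (θ : ↥NK → ℂ) x = (θ : ↥NK → ℂ) 1 := by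
        intro x hx
        by_contra hne
        exact hθ ⟨x, hx, hne⟩
      rw [classInner_rhoK_of_const (isClassFunction_irr θ) hconst, Complex.conj_conj,
        IsCharacter.apply_one_eq_charDegree (IsIrrCharacter.isCharacter θ.2), Complex.conj_natCast]
      ring
  rw [Finset.sum_congr rfl fun θ _ => hterm θ] at hP
  have hsum := sum_irr_apply_one_sq (G := ↥NK)
  have hsplit : ∀ θ : IrrCharacter ↥NK, ((θ : ↥NK → ℂ) 1) ^ 2 =
      (if IsRel K θ then (e : ℂ) ^ 2 else 0) + (if IsRel K θ then 0 else ((θ : ↥NK → ℂ) 1) ^ 2) := by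
    intro θ
    by_cases hθ : IsRel K θ
    · rw [if_pos hθ, if_pos hθ, add_zero, relChar_apply_one hC hab ⟨θ, hθ⟩]
    · rw [if_neg hθ, if_neg hθ, zero_add]
  rw [Finset.sum_congr rfl fun θ _ => hsplit θ, Finset.sum_add_distrib, ← hP,
    ← Finset.sum_filter, Finset.sum_const, nsmul_eq_mul] at hsum
  have hcard : (Finset.univ.filter fun θ : IrrCharacter ↥NK => IsRel K θ).card =
      Nat.card (RelChar K) := by
    rw [Nat.card_eq_fintype_card, Fintype.card_subtype]
    apply Finset.card_bij (fun a _ => a)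
    · intro a ha
      simpa [IsRel] using ha
    · intro a _ b _ h
      exact h
    · intro b hb
      exact ⟨b, by simpa [IsRel] using hb, rfl⟩
  rw [hcard, card_normalizer_eq (K := K), ← he] at hsum
  push_cast at hsum
  have h2 : ((Nat.card (RelChar K) * e + 1) * e : ℕ) = Nat.card K * e := by
    have : (((Nat.card (RelChar K) * e + 1) * e : ℕ) : ℂ) = ((Nat.card K * e : ℕ) : ℂ) := by
      push_cast
      linear_combination hsum
    exact_mod_cast this
  exact Nat.eq_of_mul_eq_mul_right (Nat.pos_of_ne_zero he0) h2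

end TIFN

end Cfsg.Agent.Lib.Helper52
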