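import Cfsg.Agent.Lib.Helper52.AschOC3
import Cfsg.Agent.Lib.Helper19.AschOSelfAdj

/-!
# Project ASCHO (helper5), module [C3] (helper52), EXACT sheet statement

`geoO_of_normalized_field` : ASCHO-[SELFADJ] (helper19) plugged into `geoO_of_normalized_field_of`.
-/

set_option autoImplicit false

namespace Cfsg.Agent.Lib.Helper5.AschO

open Cfsg Cfsg.Geo Cfsg.Agent.Lib.Helper99.Asch
open scoped MatrixGroups Matrix Kronecker

variable {n : ℕ} {F : Type*} [Field F] [Fintype F]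

/-- ASCHO-[C3] -/
theorem geoO_of_normalized_field {Q : (Fin n → F) → F} {H : Subgroup (GL (Fin n) F)} (hS : OSetup Q H)
    (N : Subgroup (GL (Fin n) F)) (hnrm : Nrm H N) (hNle : N ≤ H ⊔ scalars (Fin n) F)
    (hinv : ∀ x ∈ commutantCenter N, x ≠ 0 → ∃ y ∈ commutantCenter N, x * y = 1)
    (hbig : ∃ x ∈ commutantCenter N, ∀ c : F, x ≠ c • (1 : Matrix (Fin n) (Fin n) F)) :
    GeoO Q H :=
  Cfsg.Agent.Lib.Helper52.AschOC3.geoO_of_normalized_field_of hS N hnrm hNle hinv hbig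
    (commutantCenter_selfAdjoint hS N hNle hinv)

end Cfsg.Agent.Lib.Helper5.AschO
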