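import Mathlib
import Cfsg.Prelude.Def_GeometricClasses
import Cfsg.Agent.Lib.Helper99.AschDefs
import Cfsg.Agent.Lib.Helper5.AschODefs

/-!
# Project ASCHO (helper5), module [C1] (helper52): a reducible group of isometries lies in the
stabiliser of a totally singular or of a non-degenerate subspace
-/

set_option autoImplicit false

namespace Cfsg.Agent.Lib.Helper52.AschOC1

open Cfsg Cfsg.Geo Cfsg.Agent.Lib.Helper99.Asch Cfsg.Agent.Lib.Helper5.AschO
open scoped MatrixGroups Matrix Kronecker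

variable {n : ℕ} {F : Type*} [Field F] [Fintype F]

theorem two_ne_zero_of_odd_card (h : Odd (Fintype.card F)) : (2 : F) ≠ 0 := by
  intro h2
  haveI : CharP F 2 := CharTwo.of_one_ne_zero_of_two_eq_zero one_ne_zero h2
  have h3 : ringChar F = 2 := ringChar.eq F 2
  have h4 := FiniteField.even_card_of_char_two h3
  rcases h with ⟨k, hk⟩
  omega

/-- a subgroup leaving a subspace invariant lies in its stabiliser -/
theorem le_subspaceStabilizer (H : Subgroup (GL (Fin n) F)) (W : Submodule F (Fin n → F))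
    (key : ∀ g ∈ H, ∀ v ∈ W, (g : Matrix (Fin n) (Fin n) F) *ᵥ v ∈ W) :
    H ≤ subspaceStabilizer W := by
  intro g hg
  show g ∈ stabilizing (glToMat (Fin n) F) (W : Set (Fin n → F))
  intro v
  constructor
  · intro hv
    exact key g hg v hv
  · intro hv
    have h4 := key g⁻¹ (H.inv_mem hg) _ hv
    have h5 : ((g⁻¹ : GL (Fin n) F) : Matrix (Fin n) (Fin n) F) *ᵥ
        ((glToMat (Fin n) F) g *ᵥ v) = v := by
      rw [Matrix.mulVec_mulVec]
      have : ((g⁻¹ : GL (Fin n) F) : Matrix (Fin n) (Fin n) F) * (glToMat (Fin n) F) g = 1 := by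
        show ((g⁻¹ : GL (Fin n) F) : Matrix (Fin n) (Fin n) F) * (g : Matrix (Fin n) (Fin n) F) = 1
        rw [← Units.val_mul, inv_mul_cancel, Units.val_one]
      rw [this, Matrix.one_mulVec]
    rw [h5] at h4
    exact h4

end Cfsg.Agent.Lib.Helper52.AschOC1

namespace Cfsg.Agent.Lib.Helper5.AschO

open Cfsg Cfsg.Geo Cfsg.Agent.Lib.Helper99.Asch Cfsg.Agent.Lib.Helper52.AschOC1
open scoped MatrixGroups Matrix Kronecker

variable {n : ℕ} {F : Type*} [Field F] [Fintype F]

/-- ASCHO-[C1] -/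
theorem geoO_of_not_irreducible {Q : (Fin n → F) → F} {H : Subgroup (GL (Fin n) F)}
    (hS : OSetup Q H) (h : ¬ ActsIrreducibly (matrixSet H)) : GeoO Q H := by
  classical
  unfold ActsIrreducibly at h
  push_neg at h
  obtain ⟨W, hW, hbot, htop⟩ := h
  have h2 : (2 : F) ≠ 0 := two_ne_zero_of_odd_card hS.odd_card
  have hbil := hS.nondeg.polar_bilinear
  have key : ∀ g ∈ H, ∀ v ∈ W, (g : Matrix (Fin n) (Fin n) F) *ᵥ v ∈ W := by
    intro g hg v hv
    have h1 := hW (g : Matrix (Fin n) (Fin n) F) ⟨g, hg, rfl⟩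
    have h2 : Matrix.toLin' (g : Matrix (Fin n) (Fin n) F) v ∈
        W.map (Matrix.toLin' (g : Matrix (Fin n) (Fin n) F)) := Submodule.mem_map_of_mem hv
    have h3 := h1 h2
    simpa [Matrix.toLin'_apply] using h3
  have hiso : ∀ g ∈ H, ∀ u, Q ((g : Matrix (Fin n) (Fin n) F) *ᵥ u) = Q u := by
    intro g hg u
    exact hS.le hg u u
  have hpol : ∀ g ∈ H, ∀ u v, QuadraticMap.polar Q ((g : Matrix (Fin n) (Fin n) F) *ᵥ u)
      ((g : Matrix (Fin n) (Fin n) F) *ᵥ v) = QuadraticMap.polar Q u v := by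
    intro g hg u v
    unfold QuadraticMap.polar
    rw [← Matrix.mulVec_add, hiso g hg, hiso g hg, hiso g hg]
  let Wp : Submodule F (Fin n → F) :=
    { carrier := {v | ∀ w ∈ W, QuadraticMap.polar Q v w = 0}
      add_mem' := by
        intro a b ha hb w hw
        rw [hbil.add_left, ha w hw, hb w hw, add_zero]
      zero_mem' := by
        intro w hw
        have := hbil.smul_left 0 0 w
        simpa using this
      smul_mem' := by
        intro c v hv w hw
        rw [hbil.smul_left, hv w hw, mul_zero] }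
  have hWp_mem : ∀ v, v ∈ Wp ↔ ∀ w ∈ W, QuadraticMap.polar Q v w = 0 := fun v => Iff.rfl
  have hWp : ∀ g ∈ H, ∀ v ∈ Wp, (g : Matrix (Fin n) (Fin n) F) *ᵥ v ∈ Wp := by
    intro g hg v hv
    rw [hWp_mem]
    intro w hw
    have h1 : (g : Matrix (Fin n) (Fin n) F) *ᵥ
        (((g⁻¹ : GL (Fin n) F) : Matrix (Fin n) (Fin n) F) *ᵥ w) = w := by
      rw [Matrix.mulVec_mulVec, ← Units.val_mul, mul_inv_cancel, Units.val_one, Matrix.one_mulVec]
    calc QuadraticMap.polar Q ((g : Matrix (Fin n) (Fin n) F) *ᵥ v) w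
        = QuadraticMap.polar Q ((g : Matrix (Fin n) (Fin n) F) *ᵥ v)
            ((g : Matrix (Fin n) (Fin n) F) *ᵥ
              (((g⁻¹ : GL (Fin n) F) : Matrix (Fin n) (Fin n) F) *ᵥ w)) := by rw [h1]
      _ = QuadraticMap.polar Q v (((g⁻¹ : GL (Fin n) F) : Matrix (Fin n) (Fin n) F) *ᵥ w) :=
          hpol g hg _ _
      _ = 0 := (hWp_mem v).1 hv _ (key g⁻¹ (H.inv_mem hg) w hw)
  by_cases hR : W ⊓ Wp = ⊥
  · -- `W` is non-degenerate
    refine GeoO.of_1b hS.le W hbot htop ?_ (le_subspaceStabilizer H W key)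
    intro w hw hw0
    have hnot : w ∉ Wp := by
      intro hwp
      have : w ∈ W ⊓ Wp := ⟨hw, hwp⟩
      rw [hR] at this
      exact hw0 ((Submodule.mem_bot F).1 this)
    rw [hWp_mem] at hnot
    push_neg at hnot
    obtain ⟨x, hx, hxw⟩ := hnot
    refine ⟨⟨x, hx, ?_⟩, ⟨x, hx, hxw⟩⟩
    rw [QuadraticMap.polar_comm]
    exact hxw
  · -- the radical of `W` is totally singular
    refine GeoO.of_1a hS.le (W ⊓ Wp) hR ?_ (le_subspaceStabilizer H (W ⊓ Wp) ?_)
    · intro v hv
      have h0 : QuadraticMap.polar Q v v = 0 := (hWp_mem v).1 hv.2 v hv.1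
      have h1 : QuadraticMap.polar Q v v = 2 * Q v := by
        unfold QuadraticMap.polar
        rw [← two_smul F v, hS.nondeg.smul]
        ring
      rw [h1] at h0
      exact (mul_eq_zero.1 h0).resolve_left h2
    · intro g hg v hv
      exact ⟨key g hg v hv.1, hWp g hg v hv.2⟩

end Cfsg.Agent.Lib.Helper5.AschO
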