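import Cfsg.Agent.Lib.Helper92.BPTheta
import Cfsg.Agent.Lib.Helper51.BPEv
import Cfsg.Agent.Lib.Helper16.Osima
import Cfsg.Agent.Lib.Helper78.SMTBlockPart

/-!
# PROJECT BP (helper92), module BP-[L4-BRIDGE] (helper52)

`blockPart_eq_ev`: the Prelude `blockPart f ϑ` of a class function is evaluation at the block
idempotent: `blockPart f ϑ s = ev ϑ (ẽ_f · s)`.
-/

set_option autoImplicit false

namespace Cfsg.Agent.Lib.Helper52.BP

open Cfsg Cfsg.Agent.Lib.Helper16 Cfsg.Agent.Lib.Helper92.BP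

section L4
variable {p : ℕ} [Fact p.Prime] {M : Ideal AlgInt} [hMp : M.IsPrime]

/-- the complex value of `toLocal M z` for `z` in the local ring -/
theorem coe_toLocal {z : ℂ} (hz : MemLocalRing M z) : ((toLocal M z : localSubring M) : ℂ) = z := by
  unfold toLocal
  rw [dif_pos (show z ∈ localSubring M from hz)]

theorem algebraMap_toLocal {z : ℂ} (hz : MemLocalRing M z) :
    algebraMap (localSubring M) ℂ (toLocal M z) = z :=
  coe_toLocal hz

/-- `blockIdemR` as a finite sum -/
theorem blockIdemR_eq_sum {H : Type*} [Group H] [Fintype H] (f : Set (IrrCharacter H)) :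
    blockIdemR M f =
      ∑ h : H, toLocal M (blockCoeff f h) • MonoidAlgebra.of (localSubring M) H h := by
  unfold blockIdemR
  exact finsum_eq_sum_of_fintype _

/-- `ev ϑ (ẽ_f · s) = Σ_h e_f(h) ϑ(h s)` when the coefficients of `ẽ_f` are local integers -/
theorem ev_blockIdemR_mul_of {H : Type*} [Group H] [Fintype H] (f : Set (IrrCharacter H))
    (hf : ∀ h : H, MemLocalRing M (blockCoeff f h)) (ϑ : H → ℂ) (s : H) :
    ev ϑ (blockIdemR M f * MonoidAlgebra.of (localSubring M) H s) =
      ∑ h : H, blockCoeff f h * ϑ (h * s) := by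
  rw [blockIdemR_eq_sum, Finset.sum_mul, Cfsg.Agent.Lib.Helper51.BP.ev_sum]
  refine Finset.sum_congr rfl fun h _ => ?_
  rw [smul_mul_assoc, Cfsg.Agent.Lib.Helper51.BP.ev_smul, ← map_mul,
    Cfsg.Agent.Lib.Helper51.BP.ev_of, algebraMap_toLocal (hf h)]

/-- BP-[L4-BRIDGE] : the Prelude `blockPart` is evaluation at the block idempotent -/
theorem blockPart_eq_ev {H : Type*} [Group H] [Finite H] (hM : IsPModular p M)
    {f : Set (IrrCharacter H)} (hf : IsPBlock M f) {ϑ : H → ℂ} (hϑ : IsClassFunction H ϑ)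
    (s : H) :
    blockPart f ϑ s =
      ev ϑ (blockIdemR M f * MonoidAlgebra.of (localSubring M) H s) := by
  classical
  haveI := Fintype.ofFinite H
  rw [ev_blockIdemR_mul_of f (fun h => blockCoeff_memLocalRing hf h) ϑ s]
  exact Cfsg.Agent.Lib.Helper78.blockPart_eq_sum_blockCoeff f hϑ s

end L4

end Cfsg.Agent.Lib.Helper52.BP
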