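import Cfsg.Agent.Lib.Helper92.BPTheta
import Cfsg.Agent.Lib.Helper51.BPEv
import Cfsg.Agent.Lib.Helper16.Osima
import Cfsg.Agent.Lib.Helper77.BPBlockD1
import Cfsg.Agent.Lib.Helper79.Integrality

/-!
# PROJECT BP (helper92), module BP-[L4-E-EPS] (helper52)

For a finite group `L` of order prime to `p` and `ζ ∈ Irr(L)`, the central idempotent
`ε_ζ = (ζ(1)/|L|) Σ_s conj ζ(s) s` has coefficients in `Rm = localSubring M`:
* `blockIdemR_singleton_idem`: `blockIdemR M {ζ}` is an idempotent of `Rm[L]`;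
* `ev_blockIdemR_singleton`: `ev ϑ (blockIdemR M {ζ}) = ζ(1) (ϑ, ζ)_L`.
-/

set_option autoImplicit false

namespace Cfsg.Agent.Lib.Helper52.BP

open Cfsg Cfsg.Agent.Lib.Helper16 Cfsg.Agent.Lib.Helper92.BP
open scoped ComplexConjugate

section L4
variable {p : ℕ} [Fact p.Prime] {M : Ideal AlgInt} [hMp : M.IsPrime]

open scoped Classical in
/-- If `p ∤ |L|`, every sum of central idempotents of `L` has locally integral coefficients. -/
theorem blockCoeff_memLocalRing_of_not_dvd_card (hM : IsPModular p M) {L : Type*} [Group L]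
    [Fintype L] (hL : ¬ p ∣ Nat.card L) (U : Set (IrrCharacter L)) (n : L) :
    MemLocalRing M (blockCoeff U n) := by
  rw [blockCoeff_eq_sum]
  apply memLocalRing_mul (memLocalRing_inv_natCast hM hL)
  apply memLocalRing_sum
  intro θ _
  apply memLocalRing_mul
  · exact memLocalRing_of_isIntegral hMp.ne_top (Cfsg.Agent.Lib.Helper79.isIntegral_irr θ 1)
  · apply memLocalRing_of_isIntegral hMp.ne_top
    have := Cfsg.Agent.Lib.Helper79.isIntegral_irr θ n
    exact this.map (starRingEnd ℂ : ℂ →+* ℂ).toIntAlgHom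

/-- `blockIdemR M U` is an idempotent as soon as its coefficients are local integers -/
theorem blockIdemR_idem_of_memLocalRing {L : Type*} [Group L] [Fintype L]
    (U : Set (IrrCharacter L)) (hU : ∀ g : L, MemLocalRing M (blockCoeff U g)) :
    blockIdemR M U * blockIdemR M U = blockIdemR M U := by
  have hbc : Cfsg.Agent.Lib.Helper77.GrpRed.bc ℂ (blockIdemR M U) =
      Cfsg.Agent.Lib.Helper77.idemOf U := by
    ext g
    rw [Cfsg.Agent.Lib.Helper77.GrpRed.coeff_bc, Cfsg.Agent.Lib.Helper77.BP.coeff_blockIdemR,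
      Cfsg.Agent.Lib.Helper77.coeff_idemOf, Cfsg.Agent.Lib.Helper77.BlockRed.algebraMap_complex_apply,
      Cfsg.Agent.Lib.Helper77.BP.toLocal_val (hU g)]
  apply Cfsg.Agent.Lib.Helper77.GrpRed.bc_injective ℂ
    Cfsg.Agent.Lib.Helper77.BlockRed.algebraMap_complex_injective
  rw [map_mul, hbc, Cfsg.Agent.Lib.Helper77.BlockDimC.idemOf_mul_self]

/-- BP-[L4-E-EPS] : the central idempotent of `ζ ∈ Irr(L)` lies in `Rm[L]` when `p ∤ |L|` -/
theorem blockIdemR_singleton_idem (hM : IsPModular p M) {L : Type*} [Group L] [Finite L]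
    (hL : ¬ p ∣ Nat.card L) (ζ : IrrCharacter L) :
    IsIdempotentElem (blockIdemR M ({ζ} : Set (IrrCharacter L))) := by
  classical
  haveI := Fintype.ofFinite L
  exact blockIdemR_idem_of_memLocalRing _
    (fun g => blockCoeff_memLocalRing_of_not_dvd_card hM hL _ g)

theorem ev_blockIdemR_singleton (hM : IsPModular p M) {L : Type*} [Group L] [Fintype L]
    (hL : ¬ p ∣ Nat.card L) (ζ : IrrCharacter L) {ϑ : L → ℂ} (hϑ : IsClassFunction L ϑ) :
    ev ϑ (blockIdemR M ({ζ} : Set (IrrCharacter L))) =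
      (charDegree (ζ : L → ℂ) : ℂ) * classInner ϑ (ζ : L → ℂ) := by
  classical
  rw [Cfsg.Agent.Lib.Helper51.BP.ev_eq_sum]
  have hcoef : ∀ g : L, algebraMap (localSubring M) ℂ
      ((blockIdemR M ({ζ} : Set (IrrCharacter L))).coeff g) =
      (Nat.card L : ℂ)⁻¹ * ((ζ : L → ℂ) 1 * conj ((ζ : L → ℂ) g)) := by
    intro g
    rw [Cfsg.Agent.Lib.Helper77.BP.coeff_blockIdemR,
      Cfsg.Agent.Lib.Helper77.BlockRed.algebraMap_complex_apply,
      Cfsg.Agent.Lib.Helper77.BP.toLocal_val (blockCoeff_memLocalRing_of_not_dvd_card hM hL _ g)]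
    unfold blockCoeff
    rw [finsum_mem_singleton]
  simp_rw [hcoef]
  unfold classInner
  rw [← Cfsg.Agent.Lib.Helper79.irr_apply_one_eq_charDegree ζ, Finset.mul_sum, Finset.mul_sum]
  refine Finset.sum_congr rfl fun g _ => ?_
  ring

end L4

end Cfsg.Agent.Lib.Helper52.BP
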