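import Cfsg.Agent.Lib.Helper92.BPBlock

/-!
# PROJECT BP (helper92), module BP-[D0] (helper52)

`charP_residueField`: the residue field of `localSubring M` has characteristic `p` when `M` is
`p`-modular (`p ∈ M`).
-/

set_option autoImplicit false

namespace Cfsg.Agent.Lib.Helper52.BP

open Cfsg Cfsg.Agent.Lib.Helper16 Cfsg.Agent.Lib.Helper92.BP

section Blocks
variable {p : ℕ} [Fact p.Prime] {M : Ideal AlgInt} [hMp : M.IsPrime]

/-- BP-[D0] : the residue field of `localSubring M` has characteristic `p` -/
theorem charP_residueField (hM : IsPModular p M) :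
    CharP (IsLocalRing.ResidueField (localSubring M)) p := by
  rw [CharP.charP_iff_prime_eq_zero (Fact.out : p.Prime)]
  have h1 : ((p : localSubring M)) ∈ IsLocalRing.maximalIdeal (localSubring M) := by
    rw [maximalIdeal_localSubring, mem_localIdeal]
    have := memLocalIdeal_p hM
    simpa using this
  have h2 : IsLocalRing.residue (localSubring M) (p : localSubring M) = 0 :=
    (IsLocalRing.residue_eq_zero_iff _).mpr h1
  rw [← h2, map_natCast]

end Blocks

end Cfsg.Agent.Lib.Helper52.BP
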