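import Cfsg.Agent.Lib.Helper92.BPGAlg
import Cfsg.Agent.Lib.Helper80.BPCrt
import Cfsg.Agent.Lib.Helper11.BPLocalMain
import Cfsg.Agent.Lib.Helper23.BPFixedFin
import Cfsg.Agent.Lib.Helper23.BPBrMul
import Cfsg.Agent.Lib.Helper40.BPBr1
import Cfsg.Agent.Lib.Helper40.BPConj
import Cfsg.Agent.Lib.Helper44.BPBr5

/-!
# PROJECT BP (helper92), module BP-[U-PRIMBR] (helper52)

`br_prim_of_fixed`: the Brauer image `Br_Q(i)` of a primitive idempotent `i` of `A^P` (`Q ⊴ P`) is
primitive among the `P`-fixed idempotents of `k[C_G(Q)]`.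

Lift `y₁ = Br_Q(a)`, `a ∈ A^P` (BR5), replace `a` by `i a i`; `i a i` or `i - i a i` is a corner
unit of the local corner `i A^P i`; apply `Br_Q` (a ring homomorphism on `A^P ⊆ A^Q`).
-/

set_option autoImplicit false

namespace Cfsg.Agent.Lib.Helper52.BP

open Cfsg.Agent.Lib.Helper92.BP

section Abstract
variable {R : Type*} [CommRing R] [IsDomain R] [IsLocalRing R] {G : Type*} [Group G]

/-- BP-[U-PRIMBR] : the Brauer image of a primitive idempotent of `A^P` is primitive among the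
`P`-fixed idempotents of `k[C_G(Q)]` (`Q ⊴ P`) -/
theorem br_prim_of_fixed [Finite G] (hR : MonicSplits R) {p : ℕ} [Fact p.Prime]
    [CharP (IsLocalRing.ResidueField R) p] {Q P : Subgroup G} (hP : IsPGroup p P) (hQP : Q ≤ P)
    (hPN : P ≤ Subgroup.normalizer (Q : Set G)) {i : MonoidAlgebra R G}
    (hi : IsPrimIn R (fixedAlg R P) i)
    (y₁ y₂ : MonoidAlgebra (IsLocalRing.ResidueField R) (Subgroup.centralizer (Q : Set G)))
    (h₁ : IsIdempotentElem y₁) (h₂ : IsIdempotentElem y₂) (h12 : y₁ * y₂ = 0) (h21 : y₂ * y₁ = 0)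
    (hsum : y₁ + y₂ = br R Q i)
    (hfix : ∀ u ∈ P, ∀ z z' : Subgroup.centralizer (Q : Set G),
      (z' : G) = u * (z : G) * u⁻¹ → y₁.coeff z' = y₁.coeff z) :
    y₁ = 0 ∨ y₂ = 0 := by
  classical
  obtain ⟨hiP, hprim⟩ := hi
  haveI : Module.Finite R (fixedAlg R P) := Cfsg.Agent.Lib.Helper23.BP.finite_fixedAlg P
  have hn : (Q.subgroupOf P).Normal :=
    (Subgroup.normal_subgroupOf_iff_le_normalizer hQP).mpr hPN
  have hQ : IsPGroup p Q := hP.to_le hQP
  have hPQ : fixedAlg R P ≤ fixedAlg R Q := Cfsg.Agent.Lib.Helper40.BP.fixedAlg_anti hQP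
  have hmul : ∀ {x y : MonoidAlgebra R G}, x ∈ fixedAlg R P → y ∈ fixedAlg R P →
      br R Q (x * y) = br R Q x * br R Q y := fun hx hy =>
    Cfsg.Agent.Lib.Helper23.BP.br_mul (R := R) hQ (hPQ hx) (hPQ hy)
  obtain ⟨a, haP, hbra⟩ := Cfsg.Agent.Lib.Helper44.BP.exists_br_eq (R := R) hQP hn y₁ hfix
  have h11 : y₁ * y₁ = y₁ := h₁
  have h22 : y₂ * y₂ = y₂ := h₂
  have ha'P : i * a * i ∈ fixedAlg R P := mul_mem (mul_mem hiP haP) hiP
  have hbra' : br R Q (i * a * i) = y₁ := by
    rw [hmul (mul_mem hiP haP) hiP, hmul hiP haP, hbra, ← hsum]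
    calc (y₁ + y₂) * y₁ * (y₁ + y₂) = (y₁ * y₁ + y₂ * y₁) * (y₁ + y₂) := by rw [add_mul]
      _ = y₁ * (y₁ + y₂) := by rw [h21, add_zero, h11]
      _ = y₁ := by rw [mul_add, h11, h12, add_zero]
  have hii : i * i = i := congrArg Subtype.val hprim.1
  have hcorner : InCorner (⟨i, hiP⟩ : fixedAlg R P) ⟨i * a * i, ha'P⟩ := by
    constructor
    · apply Subtype.ext
      show i * (i * a * i) = i * a * i
      rw [← mul_assoc, ← mul_assoc, hii]
    · apply Subtype.ext
      show i * a * i * i = i * a * i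
      rw [mul_assoc, hii]
  rcases Cfsg.Agent.Lib.Helper11.BP.cornerUnit_or_of_crt
    (fun he x hx => Cfsg.Agent.Lib.Helper80.BP.corner_crt hR he x hx) hprim _ hcorner with hu | hu
  · -- `i a i` is a corner unit: `y₂ = 0`
    right
    obtain ⟨-, c, -, hc, -⟩ := hu
    have hc' : i * a * i * (c : MonoidAlgebra R G) = i := congrArg Subtype.val hc
    have hbr : y₁ * br R Q (c : MonoidAlgebra R G) = y₁ + y₂ := by
      rw [← hbra', ← hmul ha'P c.2, hc', hbra', hsum]
    have := congrArg (fun t => y₂ * t) hbr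
    simp only [← mul_assoc, h21, zero_mul, mul_add, h22, zero_add] at this
    exact this.symm
  · -- `i - i a i` is a corner unit: `y₁ = 0`
    left
    obtain ⟨-, c, -, hc, -⟩ := hu
    have hc' : (i - i * a * i) * (c : MonoidAlgebra R G) = i := congrArg Subtype.val hc
    have hsubP : i - i * a * i ∈ fixedAlg R P := sub_mem hiP ha'P
    have hbrsub : br R Q (i - i * a * i) = y₂ := by
      have h3 := Cfsg.Agent.Lib.Helper40.BP.br_add (R := R) Q (i - i * a * i) (i * a * i)
      rw [sub_add_cancel, hbra', ← hsum] at h3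
      have h4 : y₂ + y₁ = br R Q (i - i * a * i) + y₁ := by rw [← h3, add_comm]
      exact (add_right_cancel h4).symm
    have hbr : y₂ * br R Q (c : MonoidAlgebra R G) = y₁ + y₂ := by
      rw [← hbrsub, ← hmul hsubP c.2, hc', hbrsub, hsum]
    have := congrArg (fun t => y₁ * t) hbr
    simp only [← mul_assoc, h12, zero_mul, mul_add, h11, add_zero] at this
    exact this.symm

end Abstract

end Cfsg.Agent.Lib.Helper52.BP
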