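import Cfsg.Agent.Lib.Helper52.BPClaimLocal
import Cfsg.Agent.Lib.Helper33.BPD4Final
import Cfsg.Agent.Lib.Helper74.BPPurityFinal
import Cfsg.Agent.Lib.Helper33.BPThetaQ

/-!
# PROJECT BP (helper92), module BP-[L4-C3] (helper52), EXACT form

`claimFor_local` : `ClaimFor M μ χ Q c` for a local primitive idempotent `c` of `A^Q`, with
BP-[D4] (helper33 `exists_block_of_localPrim`), BP-[U] (helper74 `purity`) and BP-[L4-TH]
(helper33 `thetaQ_of_mul_blockIdem`) plugged into `claimFor_local_of`.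
-/

set_option autoImplicit false

namespace Cfsg.Agent.Lib.Helper52.BP

open Cfsg Cfsg.Agent.Lib.Helper16 Cfsg.Agent.Lib.Helper92.BP

variable {G : Type*} [Group G] [Finite G] {p : ℕ} [Fact p.Prime] {M : Ideal AlgInt}
  [hMp : M.IsPrime]

/-- BP-[L4-C3] : CLAIM for local primitive idempotents -/
theorem claimFor_local (hM : IsPModular p M) {μ : LocSys G} (hμ : IsLocalSystem p M μ)
    {χ : G → ℂ} (hχ : IsCharacter G χ) {Q : Subgroup G} (hQ : IsPGroup p Q)
    {c : MonoidAlgebra (localSubring M) G} (hc : IsLocalPrim (localSubring M) Q c) :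
    ClaimFor M μ χ Q c :=
  claimFor_local_of hM hμ hχ hQ hc
    (Cfsg.Agent.Lib.Helper33.BP.exists_block_of_localPrim hM hQ hc)
    (fun _ _ _ hPe hle hie => Cfsg.Agent.Lib.Helper74.BP.purity hM hPe hle hc hie)
    (fun _ _ _ hf _ ha => Cfsg.Agent.Lib.Helper33.BP.thetaQ_of_mul_blockIdem hM μ χ hf ha)

end Cfsg.Agent.Lib.Helper52.BP
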