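import Mathlib
import Cfsg.Agent.Lib.Helper94.OmegaSwap

/-!
# Orthogonal sums of subspaces of a quadratic space (helper52, project ASCHOE)

Abstract lemmas (for `QuadData B Q` of helper94):
* `finrank_biSup_of_orth` : dimensions add in sums of subspaces of pairwise orthogonal non-degenerate spaces;
* `quad_zero_biSup_of_orth` : sums of totally singular subspaces of pairwise orthogonal spaces are t.s.;
* `exists_ts_pair` : two orthogonal isometric non-degenerate spaces of even dimension `m` contain a totally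
  singular `m`-space in their sum.
-/

set_option autoImplicit false

namespace Cfsg.Agent.Lib.Helper52.OeSum

open Module Cfsg.Agent.Lib.Helper94
open LinearMap (BilinForm)

variable {K V : Type*} [Field K] [AddCommGroup V] [Module K V]

/-- the vectors orthogonal to `v` (on the left). -/
def orthTo (B : BilinForm K V) (v : V) : Submodule K V := LinearMap.ker (B.flip v)

lemma mem_orthTo (B : BilinForm K V) (v u : V) : u ∈ orthTo B v ↔ B u v = 0 := by
  simp [orthTo, LinearMap.mem_ker]

variable {B : BilinForm K V} {Q : V → K} {ι : Type*} [DecidableEq ι]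

lemma biSup_orth (W : ι → Submodule K V)
    (horth : ∀ i j, i ≠ j → ∀ u ∈ W i, ∀ v ∈ W j, B u v = 0) (s : Finset ι) (a : ι) (ha : a ∉ s) :
    ∀ u ∈ ⨆ i ∈ s, W i, ∀ v ∈ W a, B u v = 0 := by
  intro u hu v hv
  have : (⨆ i ∈ s, W i) ≤ orthTo B v := by
    refine iSup₂_le (fun i hi x hx => ?_)
    rw [mem_orthTo]
    exact horth i a (fun h => ha (h ▸ hi)) x hx v hv
  exact (mem_orthTo B v u).1 (this hu)

lemma biSup_inf_eq_bot (hQ : QuadData B Q) (W : ι → Submodule K V)
    (horth : ∀ i j, i ≠ j → ∀ u ∈ W i, ∀ v ∈ W j, B u v = 0)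
    (hnd : ∀ i, ∀ v ∈ W i, (∀ w ∈ W i, B v w = 0) → v = 0) (s : Finset ι) (a : ι) (ha : a ∉ s) :
    W a ⊓ (⨆ i ∈ s, W i) = ⊥ := by
  rw [eq_bot_iff]
  intro v hv
  rw [Submodule.mem_bot]
  apply hnd a v hv.1
  intro w hw
  exact biSup_orth W horth s a ha v hv.2 w hw

theorem finrank_biSup_of_orth [FiniteDimensional K V] (hQ : QuadData B Q) (W : ι → Submodule K V)
    (horth : ∀ i j, i ≠ j → ∀ u ∈ W i, ∀ v ∈ W j, B u v = 0)
    (hnd : ∀ i, ∀ v ∈ W i, (∀ w ∈ W i, B v w = 0) → v = 0)
    (X : ι → Submodule K V) (hX : ∀ i, X i ≤ W i) (s : Finset ι) :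
    finrank K (⨆ i ∈ s, X i : Submodule K V) = ∑ i ∈ s, finrank K (X i) := by
  induction s using Finset.induction_on with
  | empty => simp
  | insert a s ha ih =>
    rw [Finset.iSup_insert, Finset.sum_insert ha, ← ih]
    have h0 : X a ⊓ (⨆ i ∈ s, X i) = ⊥ := by
      rw [eq_bot_iff, ← biSup_inf_eq_bot hQ W horth hnd s a ha]
      exact inf_le_inf (hX a) (iSup₂_mono (fun i _ => hX i))
    have := Submodule.finrank_sup_add_finrank_inf_eq (X a) (⨆ i ∈ s, X i)
    rw [h0, finrank_bot, add_zero] at this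
    exact this

theorem quad_zero_biSup_of_orth (hQ : QuadData B Q) (W : ι → Submodule K V)
    (horth : ∀ i j, i ≠ j → ∀ u ∈ W i, ∀ v ∈ W j, B u v = 0)
    (U : ι → Submodule K V) (hU : ∀ i, U i ≤ W i) (hts : ∀ i, ∀ u ∈ U i, Q u = 0) (s : Finset ι) :
    ∀ u ∈ (⨆ i ∈ s, U i : Submodule K V), Q u = 0 := by
  induction s using Finset.induction_on with
  | empty =>
    intro u hu
    simp only [Finset.notMem_empty, iSup_false, iSup_bot, Submodule.mem_bot] at hu
    rw [hu]; exact hQ.zero
  | insert a s ha ih =>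
    intro u hu
    rw [Finset.iSup_insert, Submodule.mem_sup] at hu
    obtain ⟨x, hx, y, hy, rfl⟩ := hu
    rw [hQ.polar, hts a x hx, ih y hy, hQ.symm,
      biSup_orth W horth s a ha y ((iSup₂_mono (fun i _ => hU i)) hy) x (hU a hx)]
    ring

/-- two orthogonal isometric non-degenerate spaces of even dimension: a totally singular subspace of the
sum with the dimension of one summand. -/
theorem exists_ts_pair [Finite K] [FiniteDimensional K V] (hQ : QuadData B Q) (W W' : Submodule K V)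
    (horth : ∀ w ∈ W, ∀ u ∈ W', B w u = 0)
    (hW : ∀ p ∈ W, (∀ p' ∈ W, B p p' = 0) → p = 0) (hev : Even (finrank K W))
    (ψ : W →ₗ[K] W') (hψ : ∀ w : W, Q ((ψ w : W') : V) = Q (w : V)) :
    ∃ S : Submodule K V, S ≤ W ⊔ W' ∧ (∀ s ∈ S, Q s = 0) ∧ finrank K S = finrank K W := by
  classical
  obtain ⟨A, hA⟩ : ∃ A : W →ₗ[K] W, ∀ x : W, Q ((A x : W) : V) = -Q (x : V) := by
    by_cases h2 : (2 : K) = 0
    · refine ⟨LinearMap.id, fun x => ?_⟩
      have : Q (x : V) + Q (x : V) = 0 := by
        have h := hQ.self (x : V)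
        rw [h2, zero_mul] at h
        have h' := hQ.polar (x : V) (x : V)
        rw [h, add_zero, ← two_smul K (x : V), hQ.smul, h2] at h'
        rw [← h']; ring
      rw [LinearMap.id_apply]
      exact eq_neg_of_add_eq_zero_left this
    · have hQW : QuadData (B.restrict W) (fun w : W => Q (w : V)) :=
        ⟨fun c v => by simpa using hQ.smul c (v : V), fun u v => by simpa using hQ.polar (u : V) (v : V)⟩
      obtain ⟨A, hA⟩ := hQW.exists_anti_isometry (fun x hx => by
        apply Subtype.ext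
        apply hW x x.2
        intro p' hp'
        exact hx ⟨p', hp'⟩) h2 hev
      exact ⟨A, hA⟩
  obtain ⟨Φ, hΦ⟩ : ∃ Φ : W →ₗ[K] V,
      Φ = W.subtype + W'.subtype.comp (ψ.comp A) := ⟨_, rfl⟩
  have hΦa : ∀ w : W, Φ w = (w : V) + ((ψ (A w) : W') : V) := by
    intro w
    rw [hΦ]
    rfl
  refine ⟨LinearMap.range Φ, ?_, ?_, ?_⟩
  · rintro s ⟨w, rfl⟩
    rw [hΦa]
    exact Submodule.add_mem_sup w.2 (ψ (A w)).2
  · rintro s ⟨w, rfl⟩
    rw [hΦa, hQ.polar, hψ, hA, horth _ w.2 _ (ψ (A w)).2]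
    ring
  · apply LinearMap.finrank_range_of_inj
    intro w w' hww'
    have h0 : Φ (w - w') = 0 := by rw [map_sub, hww', sub_self]
    rw [hΦa] at h0
    have h1 : ((w - w' : W) : V) = -((ψ (A (w - w')) : W') : V) :=
      eq_neg_of_add_eq_zero_left h0
    have h3 : ((w - w' : W) : V) ∈ W' := by
      rw [h1]
      exact W'.neg_mem (ψ (A (w - w'))).2
    have h4 : ((w - w' : W) : V) = 0 := by
      apply hW _ (w - w').2
      intro p' hp'
      rw [hQ.symm]
      exact horth p' hp' _ h3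
    have h5 : w - w' = 0 := Subtype.ext h4
    exact sub_eq_zero.1 h5

end Cfsg.Agent.Lib.Helper52.OeSum
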