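import Mathlib
import Cfsg.Prelude.Def_GeometricClasses
import Cfsg.Agent.Lib.Helper94.OrthBridge
import Cfsg.Agent.Lib.Helper52.OeSumKit

/-!
# ASCHOE-[T-EVEN] (helper52)

An orthogonal sum of an even number of pairwise isometric non-degenerate spaces of even dimension is of
plus type.
-/

set_option autoImplicit false

namespace Cfsg.Agent.Lib.Helper52.OeSum

open Cfsg Cfsg.Geo Module Cfsg.Agent.Lib.Helper94
open scoped Matrix

variable {n : ℕ} {F : Type*} [Field F]

/-- weak form of non-degeneracy on a subspace. -/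
lemma weak_nd {Q : (Fin n → F) → F} (hQ : IsNondegenerateQuadraticForm Q)
    {W : Submodule F (Fin n → F)} (hW : IsNondegenerateOn (QuadraticMap.polar Q) W) :
    ∀ v ∈ W, (∀ w ∈ W, polarBilin hQ v w = 0) → v = 0 := by
  intro v hv h
  by_contra h0
  obtain ⟨x, hx, hx0⟩ := (hW v hv h0).2
  exact hx0 (h x hx)

/-- the sum of two orthogonal non-degenerate subspaces is non-degenerate (weak form). -/
lemma weak_nd_sup {Q : (Fin n → F) → F} (hQ : IsNondegenerateQuadraticForm Q)
    {W W' : Submodule F (Fin n → F)}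
    (hW : ∀ v ∈ W, (∀ w ∈ W, polarBilin hQ v w = 0) → v = 0)
    (hW' : ∀ v ∈ W', (∀ w ∈ W', polarBilin hQ v w = 0) → v = 0)
    (horth : ∀ u ∈ W, ∀ v ∈ W', polarBilin hQ u v = 0) :
    ∀ v ∈ W ⊔ W', (∀ w ∈ W ⊔ W', polarBilin hQ v w = 0) → v = 0 := by
  have hD := quadData_polarBilin hQ
  intro v hv h
  obtain ⟨x, hx, y, hy, rfl⟩ := Submodule.mem_sup.1 hv
  have hx0 : x = 0 := by
    apply hW x hx
    intro w hw
    have := h w (Submodule.mem_sup_left hw)
    rw [map_add, LinearMap.add_apply, hD.symm y w, horth w hw y hy, add_zero] at this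
    exact this
  have hy0 : y = 0 := by
    apply hW' y hy
    intro w hw
    have := h w (Submodule.mem_sup_right hw)
    rw [map_add, LinearMap.add_apply, horth x hx w hw, zero_add] at this
    exact this
  rw [hx0, hy0, add_zero]

end Cfsg.Agent.Lib.Helper52.OeSum

namespace Cfsg.Agent.Lib.Helper55.Oe

open Cfsg Cfsg.Geo Module Cfsg.Agent.Lib.Helper94 Cfsg.Agent.Lib.Helper52.OeSum
open scoped Matrix

variable {n : ℕ} {F : Type*} [Field F] [Fintype F]

/-- ASCHOE-[T-EVEN] -/
theorem isPlusTypeOn_iSup_of_even {Q : (Fin n → F) → F} (hQ : IsNondegenerateQuadraticForm Q)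
    {t : ℕ} (m : ℕ) (D : Fin t → Submodule F (Fin n → F))
    (hfr : ∀ i, Module.finrank F (D i) = m)
    (hnd : ∀ i, IsNondegenerateOn (QuadraticMap.polar Q) (D i))
    (horth : ∀ i j, i ≠ j → AreOrthogonalFor (QuadraticMap.polar Q) (D i) (D j))
    (hiso : ∀ i j, AreIsometricFor Q (D i) (D j)) (ht : Even t) (hm : Even m) :
    IsPlusTypeOn Q (iSup D) := by
  classical
  obtain ⟨s, rfl⟩ := ht
  have hD := quadData_polarBilin hQ
  set B := polarBilin hQ with hB
  have horthB : ∀ i j, i ≠ j → ∀ u ∈ D i, ∀ v ∈ D j, B u v = 0 := fun i j hij u hu v hv =>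
    horth i j hij u hu v hv
  have hndB : ∀ i, ∀ v ∈ D i, (∀ w ∈ D i, B v w = 0) → v = 0 := fun i => weak_nd hQ (hnd i)
  let a : Fin s → Fin (s + s) := fun j => ⟨2 * j.1, by have := j.2; omega⟩
  let b : Fin s → Fin (s + s) := fun j => ⟨2 * j.1 + 1, by have := j.2; omega⟩
  have hab : ∀ j, a j ≠ b j := by
    intro j h
    have := congrArg Fin.val h
    simp only [a, b] at this
    omega
  have haa : ∀ j j', j ≠ j' → a j ≠ a j' := by
    intro j j' hj h
    have := congrArg Fin.val h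
    simp only [a] at this
    exact hj (Fin.ext (by omega))
  have hbb : ∀ j j', j ≠ j' → b j ≠ b j' := by
    intro j j' hj h
    have := congrArg Fin.val h
    simp only [b] at this
    exact hj (Fin.ext (by omega))
  have hab' : ∀ j j', a j ≠ b j' := by
    intro j j' h
    have := congrArg Fin.val h
    simp only [a, b] at this
    omega
  set W : Fin s → Submodule F (Fin n → F) := fun j => D (a j) ⊔ D (b j) with hW
  have hWnd : ∀ j, ∀ v ∈ W j, (∀ w ∈ W j, B v w = 0) → v = 0 := fun j =>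
    weak_nd_sup hQ (hndB (a j)) (hndB (b j)) (horthB _ _ (hab j))
  have hWorth : ∀ j j', j ≠ j' → ∀ u ∈ W j, ∀ v ∈ W j', B u v = 0 := by
    intro j j' hj u hu v hv
    obtain ⟨x, hx, y, hy, rfl⟩ := Submodule.mem_sup.1 hu
    obtain ⟨x', hx', y', hy', rfl⟩ := Submodule.mem_sup.1 hv
    rw [map_add, map_add, LinearMap.add_apply, LinearMap.add_apply,
      horthB _ _ (haa j j' hj) x hx x' hx', horthB _ _ (hab' j j') x hx y' hy',
      horthB _ _ (fun h => hab' j' j h.symm) y hy x' hx', horthB _ _ (hbb j j' hj) y hy y' hy']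
    simp
  have hpair : ∀ j, ∃ S : Submodule F (Fin n → F), S ≤ W j ∧ (∀ x ∈ S, Q x = 0) ∧
      finrank F S = m := by
    intro j
    obtain ⟨e, he⟩ := hiso (a j) (b j)
    obtain ⟨S, h1, h2, h3⟩ := exists_ts_pair hD (D (a j)) (D (b j)) (horthB _ _ (hab j))
      (hndB (a j)) (by rw [hfr]; exact hm) e.toLinearMap (fun w => he w)
    exact ⟨S, h1, h2, by rw [h3, hfr]⟩
  choose S hSle hSts hSfr using hpair
  have hWle : ∀ j, W j ≤ iSup D := fun j => sup_le (le_iSup D (a j)) (le_iSup D (b j))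
  refine ⟨⨆ j ∈ (Finset.univ : Finset (Fin s)), S j, ?_, ?_, ?_⟩
  · exact iSup₂_le (fun j _ => (hSle j).trans (hWle j))
  · exact quad_zero_biSup_of_orth hD W hWorth S hSle hSts Finset.univ
  · rw [finrank_biSup_of_orth hD W hWorth hWnd S hSle Finset.univ]
    have h1 : iSup D = ⨆ i ∈ (Finset.univ : Finset (Fin (s + s))), D i := by simp
    rw [h1, finrank_biSup_of_orth hD D horthB hndB D (fun i => le_rfl) Finset.univ]
    simp only [hSfr, hfr, Finset.sum_const, Finset.card_univ, Fintype.card_fin, smul_eq_mul]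
    ring

end Cfsg.Agent.Lib.Helper55.Oe
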