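import Mathlib
import Cfsg.Agent.Lib.Helper85.SqfDefs

/-!
# Project SQF (helper85, S4130), module SQF-[INH] = [REL] + [INH-N] + [INH-S] (helper52)

* `relIndex_dvd_index_of_normal_right`: `H.relIndex N ∣ H.index` for `N` normal;
* `SqF.of_normal`: `SqF` passes to normal subgroups;
* `SqF.of_surjective`: `SqF` passes to surjective images.
-/

set_option autoImplicit false

namespace Cfsg.Agent.Lib.Helper52.Sqf

open Cfsg Cfsg.Agent.Lib.Helper85.Sqf

section
variable {G : Type*} [Group G]

/-- `|HN : H| = |N : H ∩ N|` for `N` normal -/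
theorem relIndex_sup_eq_of_normal (H N : Subgroup G) [N.Normal] :
    H.relIndex (N ⊔ H) = H.relIndex N := by
  have hle : N ≤ N ⊔ H := le_sup_left
  symm
  unfold Subgroup.relIndex Subgroup.index
  refine Nat.card_congr (Equiv.ofBijective (Subgroup.quotientSubgroupOfEmbeddingOfLE H hle)
    ⟨(Subgroup.quotientSubgroupOfEmbeddingOfLE H hle).injective, ?_⟩)
  intro y
  induction y using QuotientGroup.induction_on with
  | H x =>
    have hx : (x : G) ∈ ((N ⊔ H : Subgroup G) : Set G) := x.2
    rw [Subgroup.normal_mul] at hx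
    obtain ⟨n, hn, h, hh, hnh⟩ := hx
    refine ⟨QuotientGroup.mk ⟨n, hn⟩, ?_⟩
    rw [Subgroup.quotientSubgroupOfEmbeddingOfLE_apply_mk]
    rw [QuotientGroup.eq]
    rw [Subgroup.mem_subgroupOf]
    have : (((Subgroup.inclusion hle ⟨n, hn⟩)⁻¹ * x : ↥(N ⊔ H)) : G) = h := by
      rw [Subgroup.coe_mul, Subgroup.coe_inv, Subgroup.coe_inclusion]
      show n⁻¹ * (x : G) = h
      rw [← hnh]
      simp
    rw [this]
    exact hh

/-- [REL] -/
theorem relIndex_dvd_index_of_normal_right (H N : Subgroup G) [N.Normal] :
    H.relIndex N ∣ H.index := by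
  rw [← relIndex_sup_eq_of_normal H N]
  exact Subgroup.relIndex_dvd_index_of_le le_sup_right

/-- [INH-N] -/
theorem SqF.of_normal (h : SqF G) (N : Subgroup G) [N.Normal] : SqF ↥N := by
  intro x
  have h1 : Subgroup.centralizer ({x} : Set ↥N) =
      (Subgroup.centralizer ({(x : G)} : Set G)).subgroupOf N := by
    ext y
    rw [Subgroup.mem_subgroupOf, Subgroup.mem_centralizer_singleton_iff,
      Subgroup.mem_centralizer_singleton_iff]
    constructor
    · intro hy
      have := congrArg Subtype.val hy
      simpa using this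
    · intro hy
      apply Subtype.ext
      simpa using hy
  rw [h1]
  exact Squarefree.squarefree_of_dvd
    (relIndex_dvd_index_of_normal_right (Subgroup.centralizer ({(x : G)} : Set G)) N) (h (x : G))

/-- [INH-S] -/
theorem SqF.of_surjective [Finite G] {H : Type*} [Group H] (h : SqF G) (f : G →* H)
    (hf : Function.Surjective f) : SqF H := by
  intro y
  obtain ⟨x, rfl⟩ := hf y
  have hle : Subgroup.centralizer ({x} : Set G) ≤
      (Subgroup.centralizer ({f x} : Set H)).comap f := by
    intro g hg
    rw [Subgroup.mem_comap, Subgroup.mem_centralizer_singleton_iff]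
    rw [Subgroup.mem_centralizer_singleton_iff] at hg
    rw [← map_mul, ← map_mul, hg]
  have h2 := Subgroup.index_dvd_of_le hle
  rw [Subgroup.index_comap_of_surjective _ hf] at h2
  exact Squarefree.squarefree_of_dvd h2 (h x)

end

end Cfsg.Agent.Lib.Helper52.Sqf
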