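/-
helper52: Peterfalvi sec.14: in the sec.14 context (`U` semiregular on `P = S_F` and
`|U| (p - 1) = p^q - 1`, the output of sec.13) there is NO axis, so `calZ S` is coherent
(helper16's `calZ_coherent_of_slack`, vacuously) and helper16's `SideData` is available for
EVERY `η (φ ψ)` with `ψ ≠ 1` (`φ = 1` allowed: helper47's `orth_of_coherent_gen`), without the
tight case of (9.11).
-/
import Mathlib
import Cfsg.Agent.Lib.Helper16.PF13Orth
import Cfsg.Agent.Lib.Helper47.PF13OrthGen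
import Cfsg.Agent.Lib.Helper34.PF14EndMain

set_option autoImplicit false
set_option linter.unusedSectionVars false

namespace Cfsg.Agent.Lib.Helper52.PF14Side

open Cfsg Cfsg.Agent.Lib.Helper24.PFCyc Cfsg.Agent.Lib.Helper4.PF Cfsg.Agent.Lib.Helper16.PF13
  Cfsg.Agent.Lib.Helper58.PF9

universe u

variable {G : Type u} [Group G] [Fintype G] {S W₁ U W₂ : Subgroup G} [Fintype S]
  {mu : WChar W₁ W₂ → (↥S → ℂ)} {dl : WChar W₁ W₂ → ℂ} {η : WChar W₁ W₂ → (G → ℂ)}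

/-- no axis when `U` is semiregular on `P` and `|U| (p - 1) = p^q - 1` -/
theorem no_axis_of_free (h : PSide S W₁ U W₂ mu dl η)
    (hfree : ∀ z ∈ U, z ≠ 1 → ∀ x ∈ fittingHallOf S, z * x = x * z → x = 1)
    (hUn : Nat.card U * (Nat.card W₂ - 1) = Nat.card W₂ ^ Nat.card W₁ - 1)
    (H₁ : Subgroup ↥S) :
    ¬ IsAxis (PS S) (U.subgroupOf S) (W₁.subgroupOf S) ⊥ H₁ (Nat.card W₂) := by
  intro hax
  have hUS : U ≤ S := h.hP.U_compl.2.1.trans h.hP.W₁_compl.1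
  have hcardH : Nat.card H₁ = Nat.card W₂ := by
    have := hax.relIndex
    rwa [Subgroup.relIndex_bot_left] at this
  have hdvd := Cfsg.Agent.Lib.Helper34.PF14End.card_dvd_card_sub_one_of_fpf
    (G := ↥S) (H := H₁) (W := U.subgroupOf S)
    (by
      intro w hw x hx
      have hN := hax.U_norm hw
      exact (Subgroup.mem_normalizer_iff.mp hN x).mp hx)
    (by
      intro w hw hw1 x hx hwx
      have hxP : (x : G) ∈ fittingHallOf S := Subgroup.mem_subgroupOf.mp (hax.le_H hx)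
      have hwU : (w : G) ∈ U := Subgroup.mem_subgroupOf.mp hw
      have h1 := hfree (w : G) hwU (fun hc => hw1 (Subtype.ext hc)) (x : G) hxP
        (congrArg Subtype.val hwx)
      exact Subtype.ext h1)
  have hcardU : Nat.card ↥(U.subgroupOf S) = Nat.card U :=
    Nat.card_congr (Subgroup.subgroupOfEquivOfLe hUS).toEquiv
  rw [hcardU, hcardH] at hdvd
  have hp2 : 2 ≤ Nat.card W₂ := h.hp.two_le
  have hq2 : 2 ≤ Nat.card W₁ := h.hq.two_le
  have hle : Nat.card U ≤ Nat.card W₂ - 1 := Nat.le_of_dvd (by omega) hdvd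
  have hpow : Nat.card W₂ ^ 2 ≤ Nat.card W₂ ^ Nat.card W₁ :=
    Nat.pow_le_pow_right (by omega) hq2
  have h1 : Nat.card U * (Nat.card W₂ - 1) ≤ (Nat.card W₂ - 1) * (Nat.card W₂ - 1) :=
    Nat.mul_le_mul_right _ hle
  generalize Nat.card W₂ = p at *
  generalize Nat.card U = n at *
  generalize p ^ Nat.card W₁ = X at *
  obtain ⟨k, rfl⟩ : ∃ k, p = k + 2 := ⟨p - 2, by omega⟩
  have h2 : (k + 2) ^ 2 = (k + 1) * (k + 1) + 2 * k + 3 := by ring
  have h3 : k + 2 - 1 = k + 1 := by omega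
  rw [h3] at h1 hUn
  omega

/-- **coherence of `calZ S` in the sec.14 context** -/
theorem calZ_coherent_of_free (h : PSide S W₁ U W₂ mu dl η)
    (hfree : ∀ z ∈ U, z ≠ 1 → ∀ x ∈ fittingHallOf S, z * x = x * z → x = 1)
    (hUn : Nat.card U * (Nat.card W₂ - 1) = Nat.card W₂ ^ Nat.card W₁ - 1) :
    IsCoherent (calZ S) ({1}ᶜ : Set ↥S) (tauM S) :=
  calZ_coherent_of_slack h (fun H₁ hax => absurd hax (no_axis_of_free h hfree hUn H₁))

/-- **`SideData` for every `η (φ ψ)`, `ψ ≠ 1`, `φ = 1` allowed, in the sec.14 context** -/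
theorem sideData_of_free (h : PSide S W₁ U W₂ mu dl η)
    (hfree : ∀ z ∈ U, z ≠ 1 → ∀ x ∈ fittingHallOf S, z * x = x * z → x = 1)
    (hUn : Nat.card U * (Nat.card W₂ - 1) = Nat.card W₂ ^ Nat.card W₁ - 1)
    (φ ψ : WChar W₁ W₂) (hφ : TrivOn W₂ φ) (hψ : TrivOn W₁ ψ) (hψ1 : ψ ≠ 1) :
    ∃ u : ℕ, SideData S ⁅S, S⁆ (fittingHallOf S) (AFin S) (η (φ * ψ)) (Nat.card W₂) (Nat.card W₁)
        (Nat.card U) u ∧ SideNum (fittingHallOf S) U (Nat.card W₂) (Nat.card W₁) u := by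
  have hcoh := calZ_coherent_of_free h hfree hUn
  obtain ⟨ε, ψ', hε, hψ', hψ'1, horth⟩ :=
    Cfsg.Agent.Lib.Helper47.PF13.orth_of_coherent_gen h hcoh φ ψ hφ hψ hψ1
  have hω1 : φ * ψ ≠ 1 := by
    intro h1
    apply hψ1
    have h2 : ψ = φ⁻¹ := eq_inv_of_mul_eq_one_right (a := φ) (b := ψ) h1
    apply Cfsg.Agent.Lib.Helper25.PFCyc.eq_one_of_trivOn hψ
    rw [h2]
    exact hφ.inv
  obtain ⟨u, h1, -⟩ := sideData_of_aux h (Cfsg.Agent.Lib.Helper44.PF13.sideGrp_of h) (φ * ψ) hω1 ε ψ'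
    hε hψ' hψ'1 horth (Cfsg.Agent.Lib.Helper26.PF13.mu_local h ψ' hψ' hψ'1)
    (fun z hz => Cfsg.Agent.Lib.Helper44.PF13.mu_int_of_coprime h ψ' hψ' z hz)
  exact ⟨u, h1⟩

end Cfsg.Agent.Lib.Helper52.PF14Side
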