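/-
helper52: Peterfalvi sec.14, module PF14-[MOM], pair form: in the sec.14 context of BOTH sides
(`PSide` for `S` and for `T` (swapped), `U`, `V` semiregular of the extremal orders), for a
Frobenius class `(L, H)` with `|L : H| = p q`, `|H|` prime to `p q`:
the constant values `x`, `y` of `η ψ`, `η φ` on `H#` satisfy `(x,y) ∈ {(1,0),(0,1),(0,0)}`.
No `[ORTH-TIGHT]` needed (`PF14SideFree`).
-/
import Mathlib
import Cfsg.Agent.Lib.Helper52.PF14MomL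
import Cfsg.Agent.Lib.Helper52.PF14SideFree

set_option autoImplicit false
set_option linter.unusedSectionVars false

namespace Cfsg.Agent.Lib.Helper52.PF14Mom

open Cfsg Cfsg.Agent.Lib.Helper24.PFCyc Cfsg.Agent.Lib.Helper4.PF Cfsg.Agent.Lib.Helper16.PF13
  Cfsg.Agent.Lib.Helper34.PF14End Cfsg.Agent.Lib.Helper60.PFTenT Cfsg.Agent.Lib.Helper52.PF14Side

universe u

variable {G : Type u} [Group G] [Fintype G]

/-- **[MOM], pair form** -/
theorem xy_of_psides {S T W₁ W₂ U V L H : Subgroup G} [Fintype S] [Fintype T]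
    {mu : WChar W₁ W₂ → (↥S → ℂ)} {dl : WChar W₁ W₂ → ℂ} {η : WChar W₁ W₂ → (G → ℂ)}
    {mu' : WChar W₂ W₁ → (↥T → ℂ)} {dl' : WChar W₂ W₁ → ℂ}
    (hPS : PSide S W₁ U W₂ mu dl η) (hPT : PSide T W₂ V W₁ mu' dl' (etaSwap η))
    (hfreeS : ∀ z ∈ U, z ≠ 1 → ∀ x ∈ fittingHallOf S, z * x = x * z → x = 1)
    (hUn : Nat.card U * (Nat.card W₂ - 1) = Nat.card W₂ ^ Nat.card W₁ - 1)
    (hfreeT : ∀ z ∈ V, z ≠ 1 → ∀ x ∈ fittingHallOf T, z * x = x * z → x = 1)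
    (hVn : Nat.card V * (Nat.card W₁ - 1) = Nat.card W₁ ^ Nat.card W₂ - 1)
    (hqp : Nat.card W₁ < Nat.card W₂)
    (hIIS : ∀ a ∈ AFin S, ∃ x ∈ fittingHallOf S, x ≠ 1 ∧ a * x = x * a)
    (hIIT : ∀ b ∈ AFin T, ∃ y ∈ fittingHallOf T, y ≠ 1 ∧ b * y = y * b)
    (φ ψ : WChar W₁ W₂) (hφ : TrivOn W₂ φ) (hψ : TrivOn W₁ ψ) (hφ1 : φ ≠ 1) (hψ1 : ψ ≠ 1)
    (c : FrobClass L H) (he : H.relIndex L = Nat.card W₂ * Nat.card W₁)
    (hcop : (Nat.card H).Coprime (Nat.card W₂ * Nat.card W₁)) (hh : 5 ≤ Nat.card H)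
    (x y : ℤ) (hx : ∀ k ∈ H, k ≠ 1 → η ψ k = (x : ℂ)) (hy : ∀ k ∈ H, k ≠ 1 → η φ k = (y : ℂ)) :
    (x = 1 ∧ y = 0) ∨ (x = 0 ∧ y = 1) ∨ (x = 0 ∧ y = 0) := by
  classical
  have hW : IsSelfNormalizingCyclic W₁ W₂ := hPS.hP.selfNormalizing
  have hGS := Cfsg.Agent.Lib.Helper44.PF13.sideGrp_of hPS
  have hGT := Cfsg.Agent.Lib.Helper44.PF13.sideGrp_of hPT
  -- the `T`-side characters
  set φT : WChar W₂ W₁ := (swapChar W₁ W₂).symm φ with hφTdef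
  set ψT : WChar W₂ W₁ := (swapChar W₁ W₂).symm ψ with hψTdef
  have hφT : TrivOn W₂ φT := by
    have : TrivOn W₂ (swapChar W₁ W₂ φT) := by rw [hφTdef, MulEquiv.apply_symm_apply]; exact hφ
    exact trivOn_swapChar.mp this
  have hψT : TrivOn W₁ ψT := by
    have : TrivOn W₁ (swapChar W₁ W₂ ψT) := by rw [hψTdef, MulEquiv.apply_symm_apply]; exact hψ
    exact trivOn_swapChar.mp this
  have hφT1 : φT ≠ 1 := by
    intro h1
    apply hφ1
    have := congrArg (swapChar W₁ W₂) h1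
    rwa [hφTdef, MulEquiv.apply_symm_apply, map_one] at this
  -- the four `SideData`
  obtain ⟨u₁, hS01, hSn1⟩ := sideData_of_free hPS hfreeS hUn 1 ψ (trivOn_one W₂) hψ hψ1
  obtain ⟨u₂, hS11, hSn2⟩ := sideData_of_free hPS hfreeS hUn φ ψ hφ hψ hψ1
  obtain ⟨v₁, hT10, hTn1⟩ := sideData_of_free hPT hfreeT hVn 1 φT (trivOn_one W₁) hφT hφT1
  obtain ⟨v₂, hT11, hTn2⟩ := sideData_of_free hPT hfreeT hVn ψT φT hψT hφT hφT1
  have e0 : η (1 * ψ) = η ψ := by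
    congr 1
    exact one_mul ψ
  have e0' : etaSwap η (1 * φT) = etaSwap η φT := by
    congr 1
    exact one_mul φT
  rw [e0] at hS01
  rw [e0'] at hT10
  have e1 : etaSwap η φT = η φ := by
    unfold etaSwap
    rw [hφTdef, MulEquiv.apply_symm_apply]
  have e2 : etaSwap η (ψT * φT) = η (φ * ψ) := by
    unfold etaSwap
    rw [map_mul, hφTdef, hψTdef, MulEquiv.apply_symm_apply, MulEquiv.apply_symm_apply]
    congr 1
    exact mul_comm ψ φ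
  rw [e1] at hT10
  rw [e2] at hT11
  exact xy_of_frobClass hGS hGT hW hPS.hodd hPS.hη φ ψ hφ hψ hφ1 hψ1 hqp hS01 hS11 hT10 hT11
    hSn1.hu hSn2.hu hTn1.hu hTn2.hu hIIS hIIT c he hcop hh x y hx hy

end Cfsg.Agent.Lib.Helper52.PF14Mom
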