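/-
helper52: Peterfalvi sec.14, module PF14-[HCHAR-GLUE]: the input `hchar` of helper26's
`stmt1544Core_of_sec14_final` (`Lib/Helper26/PF14CoreC.lean`), from

* the pair form of [MOM] (`PF14MomPair.xy_of_psides`),
* helper10's `hpx_of_side` (parity bound of one side on a Frobenius class), for BOTH sides,
* helper51's `piS_values`, `mu_frob`, helper49's `beta_local`, `mu_apply_eq_zero`,
* the statement of PF14-[BETA-G] (`xbeta_facts`, helper14) for all sides: `XbetaStmt G`.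
-/
import Mathlib
import Cfsg.Agent.Lib.Helper52.PF14MomPair
import Cfsg.Agent.Lib.Helper10.PF14Char
import Cfsg.Agent.Lib.Helper49.PF14BetaS
import Cfsg.Agent.Lib.Helper51.PF14MuFrob
import Cfsg.Agent.Lib.Helper51.PF14Pi
import Cfsg.Agent.Lib.Helper26.PF14CoreC
import Cfsg.Agent.Lib.Helper16.PF13Final
import Cfsg.Agent.Lib.Helper24.PFTenFinal

set_option autoImplicit false
set_option linter.unusedSectionVars false
set_option linter.unusedVariables false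

namespace Cfsg.Agent.Lib.Helper52.PF14HChar

open Cfsg Cfsg.Agent.Lib.Helper24.PFCyc Cfsg.Agent.Lib.Helper4.PF Cfsg.Agent.Lib.Helper16.PF13
  Cfsg.Agent.Lib.Helper34.PF14End Cfsg.Agent.Lib.Helper60.PFTenT Cfsg.Agent.Lib.Helper10.PF14
  Cfsg.Agent.Lib.Helper26.PF14Core

universe u

section defs

variable (G : Type u) [Group G] [Fintype G]

open Classical in
/-- the statement of PF14-[BETA-G] (`xbeta_facts` of helper10's sheet `PF14_MODULES.md`),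
quantified over all sides -/
def XbetaStmt : Prop :=
  ∀ (S W₁ U W₂ : Subgroup G) [Fintype S] (mu : WChar W₁ W₂ → (↥S → ℂ)) (dl : WChar W₁ W₂ → ℂ)
    (η : WChar W₁ W₂ → (G → ℂ)), PSide S W₁ U W₂ mu dl η →
    (∀ ψ ψ' : WChar W₁ W₂, TrivOn W₁ ψ → TrivOn W₁ ψ' → ψ ≠ 1 → ψ' ≠ 1 → ψ ≠ ψ' →
      tauM S (mu ψ - mu ψ') = dl ψ • (η ψ - η ψ')) →
    ∀ ψ : WChar W₁ W₂, TrivOn W₁ ψ → ψ ≠ 1 → dl ψ = 1 →
    IsGeneralizedCharacter ↥S (betaS S mu ψ) →
    (∀ s : ↥S, (s : G) ∉ litA0 S → betaS S mu ψ s = 0) →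
    classInner (betaS S mu ψ) (fun _ => (1 : ℂ)) = 1 →
    conjFun (betaS S mu ψ) = betaS S mu ψ⁻¹ →
    (∀ (s : ↥S) (hs : (s : G) ∈ W₁ ⊔ W₂), (s : G) ∉ W₁ → (s : G) ∉ W₂ →
      betaS S mu ψ s = 1 - ((ψ ⟨(s : G), hs⟩ : ℂˣ) : ℂ)) →
    IsGeneralizedCharacter G (XbetaS S mu ψ) ∧
    classInner (XbetaS S mu ψ) (XbetaS S mu ψ) = classInner (betaS S mu ψ) (betaS S mu ψ) ∧
    classInner (XbetaS S mu ψ) (fun _ => (1 : ℂ)) = 1 ∧
    (∀ g : G, (∀ x : G, x * g * x⁻¹ ∉ litA0 S) → XbetaS S mu ψ g = 0) ∧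
    (∀ g : G, ((XbetaS S mu ψ + η ψ) g).im = 0) ∧
    (∀ φ ψ' : WChar W₁ W₂, TrivOn W₂ φ → TrivOn W₁ ψ' → φ ≠ 1 → ψ' ≠ 1 →
      classInner (XbetaS S mu ψ) (η (φ * ψ')) = classInner (XbetaS S mu ψ) (η φ) +
        classInner (XbetaS S mu ψ) (η ψ') + (if ψ' = ψ then 1 else 0))

end defs

section fin

variable {G : Type u} [Group G] [Fintype G]

section side

variable {S W₁ U W₂ : Subgroup G} [Fintype S]
  {mu : WChar W₁ W₂ → (↥S → ℂ)} {dl : WChar W₁ W₂ → ℂ} {η : WChar W₁ W₂ → (G → ℂ)}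

/-- `τ(μ_ψ - μ_ψ') = δ_ψ (η_ψ - η_ψ')` (first component of helper60's `dade_mu_sub`) -/
theorem musub_single (h : PSide S W₁ U W₂ mu dl η) :
    ∀ ψ ψ' : WChar W₁ W₂, TrivOn W₁ ψ → TrivOn W₁ ψ' → ψ ≠ 1 → ψ' ≠ 1 → ψ ≠ ψ' →
      tauM S (mu ψ - mu ψ') = dl ψ • (η ψ - η ψ') := by
  classical
  intro ψ ψ' hψ hψ' hψ1 hψ'1 hne
  have hoddS : Odd (Nat.card S) :=
    Odd.of_dvd_nat h.hodd (Subgroup.card_subgroup_dvd_card S)
  obtain ⟨hdl, hdeg⟩ :=
    Cfsg.Agent.Lib.Helper9.PFCyc.mu_const h.hP hoddS h.md h.hp ψ ψ' hψ hψ' hψ1 hψ'1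
  have hsupp : ∀ x : ↥S, (x : G) ∈ ⁅S, S⁆ → (x : G) ∉ litA0 S → x ≠ 1 →
      ∀ φ : WChar W₁ W₂, TrivOn W₂ φ → mu (φ * ψ) x = mu (φ * ψ') x := by
    intro x hxK hxA0 hx1 φ hφ
    have hxA : (x : G) ∉ litA S := fun hx => hxA0 (Or.inl hx)
    rw [Cfsg.Agent.Lib.Helper49.PF13.mu_apply_eq_zero h (φ * ψ)
        (Cfsg.Agent.Lib.Helper49.PF13.exists_W₂_ne_one ψ hψ hψ1 φ hφ) x hxK hx1 hxA,
      Cfsg.Agent.Lib.Helper49.PF13.mu_apply_eq_zero h (φ * ψ')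
        (Cfsg.Agent.Lib.Helper49.PF13.exists_W₂_ne_one ψ' hψ' hψ'1 φ hφ) x hxK hx1 hxA]
  exact (Cfsg.Agent.Lib.Helper60.PFCycB.dade_mu_sub h.hP h.hD h.md hoddS η h.hη ψ ψ'
    hψ hψ' hψ1 hψ'1 hne hdl hdeg hsupp).1

/-- `A(S) ⊆ P` when every element of `A(S)` commutes with a non-identity element of `P`
(Type II) and `U` is semiregular on `P` -/
theorem litA_mem_P (h : PSide S W₁ U W₂ mu dl η)
    (hfree : ∀ z ∈ U, z ≠ 1 → ∀ x ∈ fittingHallOf S, z * x = x * z → x = 1)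
    (hII : ∀ a ∈ litA S, ∃ x ∈ fittingHallOf S, x ≠ 1 ∧ a * x = x * a) :
    ∀ a ∈ litA S, a ∈ fittingHallOf S := by
  intro a ha
  have g := Cfsg.Agent.Lib.Helper44.PF13.sideGrp_of h
  obtain ⟨x₀, hx₀, z, hz, rfl⟩ := g.PU_mul a (h.hA_sub a ha).1
  obtain ⟨x, hx, hx1, hax⟩ := hII _ ha
  by_cases hz1 : z = 1
  · rw [hz1, mul_one]
    exact hx₀
  · exfalso
    apply hx1
    apply hfree z hz hz1 x hx
    have e1 : x₀ * z * x = x₀ * x * z := by
      rw [hax, ← mul_assoc, h.hPcomm x hx x₀ hx₀]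
    have e2 : x₀ * (z * x) = x₀ * (x * z) := by
      rw [← mul_assoc, ← mul_assoc]; exact e1
    exact mul_left_cancel e2

open Classical in
/-- the conclusions of [BETA-G] for one side in the sec.14 context, with the norm -/
theorem xbeta_of (h : PSide S W₁ U W₂ mu dl η) (hXb : XbetaStmt G)
    (hfree : ∀ z ∈ U, z ≠ 1 → ∀ x ∈ fittingHallOf S, z * x = x * z → x = 1)
    (ψ : WChar W₁ W₂) (hψ : TrivOn W₁ ψ) (hψ1 : ψ ≠ 1) :
    ∃ N : ℕ, N * Nat.card W₁ + 1 = Nat.card U ∧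
      classInner (betaS S mu ψ) (betaS S mu ψ) = (N : ℂ) + 2 ∧
      (IsGeneralizedCharacter G (XbetaS S mu ψ) ∧
      classInner (XbetaS S mu ψ) (XbetaS S mu ψ) = classInner (betaS S mu ψ) (betaS S mu ψ) ∧
      classInner (XbetaS S mu ψ) (fun _ => (1 : ℂ)) = 1 ∧
      (∀ g : G, (∀ x : G, x * g * x⁻¹ ∉ litA0 S) → XbetaS S mu ψ g = 0) ∧
      (∀ g : G, ((XbetaS S mu ψ + η ψ) g).im = 0) ∧
      (∀ φ ψ' : WChar W₁ W₂, TrivOn W₂ φ → TrivOn W₁ ψ' → φ ≠ 1 → ψ' ≠ 1 →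
        classInner (XbetaS S mu ψ) (η (φ * ψ')) = classInner (XbetaS S mu ψ) (η φ) +
          classInner (XbetaS S mu ψ) (η ψ') + (if ψ' = ψ then 1 else 0))) := by
  have hπ := Cfsg.Agent.Lib.Helper51.PF14.piS_values h
  have hμ := Cfsg.Agent.Lib.Helper51.PF14.mu_frob h hfree ψ hψ hψ1
  obtain ⟨hβ, hβs, ⟨N, hNq, hN⟩, hβ1, hβc, hβW⟩ :=
    Cfsg.Agent.Lib.Helper49.PF14.beta_local h hπ ψ hψ hψ1 hμ
  refine ⟨N, hNq, hN, ?_⟩
  exact hXb S W₁ U W₂ mu dl η h (musub_single h) ψ hψ hψ1 hμ.2.1 hβ hβs hβ1 hβc hβW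

open Classical in
/-- **the parity bound of one side** on a Frobenius class `(L, H)`, `|L : H| = p q`, in the sec.14
context (Type II, `U` semiregular), from `XbetaStmt G` -/
theorem hpx_side (h : PSide S W₁ U W₂ mu dl η) (hXb : XbetaStmt G)
    (hfree : ∀ z ∈ U, z ≠ 1 → ∀ x ∈ fittingHallOf S, z * x = x * z → x = 1)
    (hII : ∀ a ∈ litA S, ∃ x ∈ fittingHallOf S, x ≠ 1 ∧ a * x = x * a)
    {L H : Subgroup G} (cl : FrobClass L H)
    (he : H.relIndex L = Nat.card W₂ * Nat.card W₁)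
    (ψ : WChar W₁ W₂) (hψ : TrivOn W₁ ψ) (hψ1 : ψ ≠ 1)
    (k₀ : G) (hk₀ : k₀ ∈ H) (hk₀1 : k₀ ≠ 1) (x : ℤ) (hx : η ψ k₀ = (x : ℂ)) (hxe : Even x) :
    Nat.card H - 1 ≤ Nat.card W₂ * (Nat.card U - 1) := by
  obtain ⟨N, hNq, hN, hX⟩ := xbeta_of h hXb hfree ψ hψ hψ1
  exact hpx_of_side h (litA_mem_P h hfree hII) cl he ψ hψ hψ1 N hNq hN hX k₀ hk₀ hk₀1 x hx hxe

end side

section main

/-- **PF14-[HCHAR-GLUE]**: the input `hchar` of helper26's `stmt1544Core_of_sec14_final`, from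
`Stmt1543 G` and the statement of PF14-[BETA-G]. -/
theorem hchar_of (hG : IsMinSimpleOddOrder G) (h1543 : Stmt1543 G) (hXb : XbetaStmt G)
    {S T W₁ W₂ U V : Subgroup G} (o : Sec13Out S T W₁ W₂ U V) (hTII : IsOfTypeII T)
    (L : Subgroup G) (hL : IsCoatom L) (hNU : Subgroup.normalizer (U : Set G) ≤ L)
    (c : FrobClass L (fittingHallOf L)) (hUH : U ≤ fittingHallOf L)
    (he : (fittingHallOf L).relIndex L = Nat.card W₂ * Nat.card W₁) :
    ∃ x y : ℤ, ((x = 1 ∧ y = 0) ∨ (x = 0 ∧ y = 1) ∨ (x = 0 ∧ y = 0)) ∧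
      (Even x → Nat.card (fittingHallOf L) - 1 ≤ Nat.card W₂ * (Nat.card U - 1)) ∧
      (Even y → Nat.card (fittingHallOf L) - 1 ≤ Nat.card W₁ * (Nat.card V - 1)) := by
  classical
  have bg := Cfsg.Agent.Lib.Helper24.BGBook.bookBGData hG
  have pf8 := Cfsg.Agent.Lib.Helper24.PFCyc.bookPF8Data hG
  have ph := o.pair
  have hodd : Odd (Nat.card G) := hG.1
  have hW : IsSelfNormalizingCyclic W₁ W₂ := ph.hSP.selfNormalizing
  have hoddW : Odd (Nat.card ↥(W₁ ⊔ W₂)) :=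
    Odd.of_dvd_nat hodd (Subgroup.card_subgroup_dvd_card _)
  let _ : Fintype ↥S := Fintype.ofFinite _
  let _ : Fintype ↥T := Fintype.ofFinite _
  obtain ⟨η, hη⟩ := Cfsg.Agent.S1502.result W₁ W₂ hW hoddW
  obtain ⟨mu, dl, hPS⟩ := Cfsg.Agent.Lib.Helper54.PF13PSide.exists_pside hG bg pf8 h1543 ph hη
  obtain ⟨mu', dl', hPT⟩ := Cfsg.Agent.Lib.Helper54.PF13PSide.exists_pside hG bg pf8 h1543 ph.symm
    (isCyclicTIFamily_swap hη)
  -- the characters `φ`, `ψ`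
  obtain ⟨φ, hφ, hφ1⟩ := exists_trivOn_ne_one hW hPS.hq.two_le
  obtain ⟨ψT, hψT, hψT1⟩ := exists_trivOn_ne_one (isSelfNormalizingCyclic_swap hW) hPS.hp.two_le
  set ψ : WChar W₁ W₂ := swapChar W₁ W₂ ψT with hψdef
  have hψ : TrivOn W₁ ψ := trivOn_swapChar.mpr hψT
  have hψ1 : ψ ≠ 1 := by
    intro h1
    apply hψT1
    apply (swapChar W₁ W₂).injective
    rw [map_one]
    exact h1
  set φT : WChar W₂ W₁ := (swapChar W₁ W₂).symm φ with hφTdef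
  have hφT : TrivOn W₂ φT := by
    have : TrivOn W₂ (swapChar W₁ W₂ φT) := by rw [hφTdef, MulEquiv.apply_symm_apply]; exact hφ
    exact trivOn_swapChar.mp this
  have hφT1 : φT ≠ 1 := by
    intro h1
    apply hφ1
    have := congrArg (swapChar W₁ W₂) h1
    rwa [hφTdef, MulEquiv.apply_symm_apply, map_one] at this
  have e1 : etaSwap η φT = η φ := by
    unfold etaSwap
    rw [hφTdef, MulEquiv.apply_symm_apply]
  -- the Type II condition on both sides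
  have hsolvS : Group.IsSolvable ↥⁅S, S⁆ :=
    Cfsg.Agent.Lib.Helper26.PFBook.isSolvable_of_isCoatom hG ph.hS
      (Cfsg.Agent.Lib.Helper26.PFEight.commutator_self_le S)
  have hsolvT : Group.IsSolvable ↥⁅T, T⁆ :=
    Cfsg.Agent.Lib.Helper26.PFBook.isSolvable_of_isCoatom hG ph.hT
      (Cfsg.Agent.Lib.Helper26.PFEight.commutator_self_le T)
  have hIIS := Cfsg.Agent.Lib.Helper54.PF13PSide.litA_typeII hsolvS ph.hSP o.hSII
  have hIIT := Cfsg.Agent.Lib.Helper54.PF13PSide.litA_typeII hsolvT ph.hTP hTII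
  -- the numerics of the Frobenius class
  have hdvd : Nat.card W₂ * Nat.card W₁ ∣ Nat.card (fittingHallOf L) - 1 := by
    rw [← he]; exact c.relIndex_dvd
  obtain ⟨k₀, hk₀U, hk₀1⟩ : ∃ k ∈ U, k ≠ 1 := by
    by_contra hcon
    push Not at hcon
    exact hPS.hU1 ((Subgroup.eq_bot_iff_forall U).mpr hcon)
  have hk₀ : k₀ ∈ fittingHallOf L := hUH hk₀U
  have hHgt : 1 < Nat.card (fittingHallOf L) := by
    rw [Subgroup.one_lt_card_iff_ne_bot]
    exact c.ne_bot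
  have hh : 5 ≤ Nat.card (fittingHallOf L) := by
    have h1 : Nat.card W₂ * Nat.card W₁ ≤ Nat.card (fittingHallOf L) - 1 :=
      Nat.le_of_dvd (by omega) hdvd
    have h2 := hPS.hp.two_le
    have h3 := hPS.hq.two_le
    have h4 : 2 * 2 ≤ Nat.card W₂ * Nat.card W₁ := Nat.mul_le_mul h2 h3
    omega
  have hcop : (Nat.card (fittingHallOf L)).Coprime (Nat.card W₂ * Nat.card W₁) := by
    have h3 : (Nat.card (fittingHallOf L)).Coprime (Nat.card (fittingHallOf L) - 1) := by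
      have : Nat.card (fittingHallOf L) = (Nat.card (fittingHallOf L) - 1) + 1 := by omega
      rw [this, Nat.add_sub_cancel]
      exact (Nat.coprime_self_add_left.mpr (Nat.coprime_one_left _))
    exact Nat.Coprime.coprime_dvd_right hdvd h3
  have hcopk : ∀ k ∈ fittingHallOf L, (orderOf k).Coprime (Nat.card W₂ * Nat.card W₁) :=
    fun k hk => orderOf_coprime_of_frobClass c he k hk
  have hint : ∀ (ω : WChar W₁ W₂) (k : G), k ∈ fittingHallOf L → ∃ n : ℤ, η ω k = (n : ℂ) :=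
    fun ω k hk => eta_int_on hW hodd hη ω k (hcopk k hk)
  obtain ⟨x, hx⟩ := Cfsg.Agent.Lib.Helper52.PF14Xi.const_of_int_frobClass hodd c
    (hη.irr_or_neg ψ) (fun k hk _ => hint ψ k hk)
  obtain ⟨y, hy⟩ := Cfsg.Agent.Lib.Helper52.PF14Xi.const_of_int_frobClass hodd c
    (hη.irr_or_neg φ) (fun k hk _ => hint φ k hk)
  refine ⟨x, y, ?_, ?_, ?_⟩
  · exact Cfsg.Agent.Lib.Helper52.PF14Mom.xy_of_psides hPS hPT o.hUreg o.hUn o.hVreg o.hVn o.hqp
      (fun a ha => hIIS a (mem_AFin.mp ha)) (fun b hb => hIIT b (mem_AFin.mp hb))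
      φ ψ hφ hψ hφ1 hψ1 c he hcop hh x y hx hy
  · intro hxe
    exact hpx_side hPS hXb o.hUreg hIIS c he ψ hψ hψ1 k₀ hk₀ hk₀1 x (hx k₀ hk₀ hk₀1) hxe
  · intro hye
    have he' : (fittingHallOf L).relIndex L = Nat.card W₁ * Nat.card W₂ := by
      rw [he, mul_comm]
    exact hpx_side hPT hXb o.hVreg hIIT c he' φT hφT hφT1 k₀ hk₀ hk₀1 y
      (by rw [e1]; exact hy k₀ hk₀ hk₀1) hye

end main

end fin

section final

variable {G : Type u} [Group G] [Finite G]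

/-- `hchar` in the exact shape of helper26's `stmt1544Core_of_sec14_final`, for `[Finite G]` -/
theorem hchar_of_finite (hG : IsMinSimpleOddOrder G) (h1543 : Stmt1543 G)
    (hXb : ∀ inst : Fintype G, @XbetaStmt G _ inst)
    {S T W₁ W₂ U V : Subgroup G} (o : Sec13Out S T W₁ W₂ U V) (hTII : IsOfTypeII T)
    (L : Subgroup G) (hL : IsCoatom L) (hNU : Subgroup.normalizer (U : Set G) ≤ L)
    (c : FrobClass L (fittingHallOf L)) (hUH : U ≤ fittingHallOf L)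
    (he : (fittingHallOf L).relIndex L = Nat.card W₂ * Nat.card W₁) :
    ∃ x y : ℤ, ((x = 1 ∧ y = 0) ∨ (x = 0 ∧ y = 1) ∨ (x = 0 ∧ y = 0)) ∧
      (Even x → Nat.card (fittingHallOf L) - 1 ≤ Nat.card W₂ * (Nat.card U - 1)) ∧
      (Even y → Nat.card (fittingHallOf L) - 1 ≤ Nat.card W₁ * (Nat.card V - 1)) := by
  classical
  let inst : Fintype G := Fintype.ofFinite G
  exact hchar_of hG h1543 (hXb inst) o hTII L hL hNU c hUH he

/-- **`Stmt1544Core G`** from the named outputs of sec.10-13, `hna` (sec.14 (a)) and the statement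
of PF14-[BETA-G]: `hchar` is discharged. -/
theorem stmt1544Core_of_xbeta (hG : IsMinSimpleOddOrder G) (h1543 : Stmt1543 G)
    (h1547 : Stmt1547 G)
    (h127 : ∀ L : Subgroup G, IsCoatom L → LitTypeI L → IsFrobWithFittingHall L)
    (hcard : ∀ {S T W₁ W₂ U V : Subgroup G}, PairHyp S T W₁ W₂ U V → Nat.card W₁ < Nat.card W₂ →
      Nat.card U * (Nat.card W₂ - 1) = Nat.card W₂ ^ Nat.card W₁ - 1 ∧
        Nat.card V * (Nat.card W₁ - 1) = Nat.card W₁ ^ Nat.card W₂ - 1)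
    (hna : ∀ {S T W₁ W₂ U V : Subgroup G}, Sec13Out S T W₁ W₂ U V →
      ∀ L : Subgroup G, IsCoatom L → Subgroup.normalizer (U : Set G) ≤ L →
        ¬ (fittingHallOf L ⊓ W₁ = ⊥ ∧ fittingHallOf L ⊔ W₁ = L))
    (hXb : ∀ inst : Fintype G, @XbetaStmt G _ inst) :
    Cfsg.Agent.Lib.Helper54.PF14Field.Stmt1544Core G :=
  stmt1544Core_of_sec14_final hG h1543 h1547 h127 hcard hna
    (fun o hTII L hL hNU c hUH he => hchar_of_finite hG h1543 hXb o hTII L hL hNU c hUH he)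

end final

end Cfsg.Agent.Lib.Helper52.PF14HChar
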