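/-
helper52: Peterfalvi sec.14: `hchar` of helper26's `stmt1544Core_of_sec14_final` UNCONDITIONALLY
(from `IsMinSimpleOddOrder G` and `Stmt1543 G`): `XbetaStmt G` is helper23's `xbeta_facts`
(PF14-[BETA-G]).  Hence `Stmt1544Core G` from the outputs of sec.10-13 and `hna` (sec.14 (a)).
-/
import Mathlib
import Cfsg.Agent.Lib.Helper52.PF14HChar
import Cfsg.Agent.Lib.Helper23.PF14BetaG

set_option autoImplicit false
set_option linter.unusedSectionVars false
set_option linter.unusedVariables false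

namespace Cfsg.Agent.Lib.Helper52.PF14HChar

open Cfsg Cfsg.Agent.Lib.Helper24.PFCyc Cfsg.Agent.Lib.Helper4.PF Cfsg.Agent.Lib.Helper16.PF13
  Cfsg.Agent.Lib.Helper34.PF14End Cfsg.Agent.Lib.Helper60.PFTenT Cfsg.Agent.Lib.Helper10.PF14
  Cfsg.Agent.Lib.Helper26.PF14Core

universe u

/-- PF14-[BETA-G] for all sides (helper23's `xbeta_facts`) -/
theorem xbetaStmt (G : Type u) [Group G] [Fintype G] : XbetaStmt G :=
  fun S W₁ U W₂ _ mu dl η h hmusub ψ hψ hψ1 hdl hβ hβs hβ1 hβc hβW =>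
    Cfsg.Agent.Lib.Helper23.PF14.xbeta_facts h hmusub ψ hψ hψ1 hdl hβ hβs hβ1 hβc hβW

variable {G : Type u} [Group G] [Finite G]

/-- **`hchar`**, in the exact shape of helper26's `stmt1544Core_of_sec14_final`, from
`IsMinSimpleOddOrder G` and `Stmt1543 G` alone. -/
theorem hchar_final (hG : IsMinSimpleOddOrder G) (h1543 : Stmt1543 G)
    {S T W₁ W₂ U V : Subgroup G} (o : Sec13Out S T W₁ W₂ U V) (hTII : IsOfTypeII T)
    (L : Subgroup G) (hL : IsCoatom L) (hNU : Subgroup.normalizer (U : Set G) ≤ L)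
    (c : FrobClass L (fittingHallOf L)) (hUH : U ≤ fittingHallOf L)
    (he : (fittingHallOf L).relIndex L = Nat.card W₂ * Nat.card W₁) :
    ∃ x y : ℤ, ((x = 1 ∧ y = 0) ∨ (x = 0 ∧ y = 1) ∨ (x = 0 ∧ y = 0)) ∧
      (Even x → Nat.card (fittingHallOf L) - 1 ≤ Nat.card W₂ * (Nat.card U - 1)) ∧
      (Even y → Nat.card (fittingHallOf L) - 1 ≤ Nat.card W₁ * (Nat.card V - 1)) :=
  hchar_of_finite hG h1543 (fun inst => @xbetaStmt G _ inst) o hTII L hL hNU c hUH he

/-- **`Stmt1544Core G`** from the named outputs of sec.10-13 and `hna` (sec.14 (a)). -/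
theorem stmt1544Core_of_hna (hG : IsMinSimpleOddOrder G) (h1543 : Stmt1543 G)
    (h1547 : Stmt1547 G)
    (h127 : ∀ L : Subgroup G, IsCoatom L → LitTypeI L → IsFrobWithFittingHall L)
    (hcard : ∀ {S T W₁ W₂ U V : Subgroup G}, PairHyp S T W₁ W₂ U V → Nat.card W₁ < Nat.card W₂ →
      Nat.card U * (Nat.card W₂ - 1) = Nat.card W₂ ^ Nat.card W₁ - 1 ∧
        Nat.card V * (Nat.card W₁ - 1) = Nat.card W₁ ^ Nat.card W₂ - 1)
    (hna : ∀ {S T W₁ W₂ U V : Subgroup G}, Sec13Out S T W₁ W₂ U V →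
      ∀ L : Subgroup G, IsCoatom L → Subgroup.normalizer (U : Set G) ≤ L →
        ¬ (fittingHallOf L ⊓ W₁ = ⊥ ∧ fittingHallOf L ⊔ W₁ = L)) :
    Cfsg.Agent.Lib.Helper54.PF14Field.Stmt1544Core G :=
  stmt1544Core_of_sec14_final hG h1543 h1547 h127 hcard hna
    (fun o hTII L hL hNU c hUH he => hchar_final hG h1543 o hTII L hL hNU c hUH he)

end Cfsg.Agent.Lib.Helper52.PF14HChar
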