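/-
helper52: Peterfalvi sec.14, case (a) excluded, the character-theoretic input `hparA` of helper34's
`hna_of_par` (module PF14-[HPARA]):

for a maximal subgroup `L ⊇ N_G(U)` which is a Frobenius class `(L, L_F)` with `U ≤ L_F` and
`|L : L_F| = q`, one has `|L_F| ≤ |U|`.

* `hpx_of_side_gen`        : helper10's `hpx_of_side` for a general index `e`;
* `not_dvd_card_of_nilpotent` : a nilpotent subgroup containing `U` has order prime to `p`;
* `exists_eta_zero`        : some `η ψ`, `ψ ≠ 1` trivial on `W₁`, vanishes on `H#` (bridge Bessel of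
  helper34 for the `p` members `η ψ'`, `q + 1 < p`);
* `hparA_of`, `hna_final`, `stmt1544Core_final`.
-/
import Mathlib
import Cfsg.Agent.Lib.Helper52.PF14HCharFinal
import Cfsg.Agent.Lib.Helper34.PF14HnaGlue
import Cfsg.Agent.Lib.Helper34.PF14HnaBessel
import Cfsg.Agent.Lib.Helper65.NilpBasic
import Cfsg.Agent.Lib.Helper26.BGTypesB
import Cfsg.Agent.Lib.Helper1.PFElevenGalB
import Cfsg.Agent.Lib.Helper25.DadeExp6

set_option autoImplicit false
set_option linter.unusedSectionVars false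
set_option linter.unusedVariables false

namespace Cfsg.Agent.Lib.Helper52.PF14HParA

open Cfsg Cfsg.Agent.Lib.Helper24.PFCyc Cfsg.Agent.Lib.Helper4.PF Cfsg.Agent.Lib.Helper16.PF13
  Cfsg.Agent.Lib.Helper34.PF14End Cfsg.Agent.Lib.Helper60.PFTenT Cfsg.Agent.Lib.Helper10.PF14
  Cfsg.Agent.Lib.Helper26.PF14Core Cfsg.Agent.Lib.Helper52.PF14HChar

universe u

section fin

variable {G : Type u} [Group G] [Fintype G]

section side

variable {S W₁ U W₂ : Subgroup G} [Fintype S]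
  {mu : WChar W₁ W₂ → (↥S → ℂ)} {dl : WChar W₁ W₂ → ℂ} {η : WChar W₁ W₂ → (G → ℂ)}

open Classical in
/-- helper10's `hpx_of_side` for a general index `e = |L : H|`, the orders of the elements of `H`
being prime to `p q` -/
theorem hpx_of_side_gen (h : PSide S W₁ U W₂ mu dl η)
    (hA : ∀ a ∈ litA S, a ∈ fittingHallOf S)
    {L H : Subgroup G} (cl : FrobClass L H) {e : ℕ}
    (he : H.relIndex L = e)
    (hcop : ∀ k ∈ H, (orderOf k).Coprime (Nat.card W₂ * Nat.card W₁))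
    (ψ : WChar W₁ W₂) (hψ : TrivOn W₁ ψ) (hψ1 : ψ ≠ 1)
    (N : ℕ)
    (hN : classInner (betaS S mu ψ) (betaS S mu ψ) = (N : ℂ) + 2)
    (hX : IsGeneralizedCharacter G (XbetaS S mu ψ) ∧
      classInner (XbetaS S mu ψ) (XbetaS S mu ψ) = classInner (betaS S mu ψ) (betaS S mu ψ) ∧
      classInner (XbetaS S mu ψ) (fun _ => (1 : ℂ)) = 1 ∧
      (∀ g : G, (∀ x : G, x * g * x⁻¹ ∉ litA0 S) → XbetaS S mu ψ g = 0) ∧
      (∀ g : G, ((XbetaS S mu ψ + η ψ) g).im = 0) ∧
      (∀ φ ψ' : WChar W₁ W₂, TrivOn W₂ φ → TrivOn W₁ ψ' → φ ≠ 1 → ψ' ≠ 1 →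
        classInner (XbetaS S mu ψ) (η (φ * ψ')) = classInner (XbetaS S mu ψ) (η φ) +
          classInner (XbetaS S mu ψ) (η ψ') + (if ψ' = ψ then 1 else 0)))
    (k₀ : G) (hk₀ : k₀ ∈ H) (hk₀1 : k₀ ≠ 1) (x : ℤ) (hx : η ψ k₀ = (x : ℂ)) (hxe : Even x) :
    Nat.card H - 1 ≤ e * N := by
  obtain ⟨hXgen, hXnorm, hX1, hXsupp, hXreal, hXrect⟩ := hX
  have hW := h.hP.selfNormalizing
  obtain ⟨φ, hφ, hφ1⟩ := exists_phi' hW h.hq
  have hsirr : ∀ ω, Cfsg.Agent.Lib.Helper25.SIrr G (η ω) := fun ω => h.hη.irr_or_neg ω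
  have hint : ∀ ω : WChar W₁ W₂, ∀ k ∈ H, k ≠ 1 → ∃ n : ℤ, η ω k = (n : ℂ) :=
    fun ω k hk _ => eta_int_on hW h.hodd h.hη ω k (hcop k hk)
  have hdisj : ∀ k ∈ H, k ≠ 1 → ∀ y : G, y * k * y⁻¹ ∉ litA0 S := by
    intro k hk hk1 y hy
    have h1 := dvd_orderOf_of_mem_litA0 h.hp h.hPexp (fun a ha => ⟨hA a ha, (h.hA_sub a ha).2⟩)
      _ hy
    have hord : orderOf (y * k * y⁻¹) = orderOf k :=
      orderOf_injective (MulAut.conj y).toMonoidHom (MulAut.conj y).injective k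
    rw [hord] at h1
    have h2 := hcop k hk
    have h3 : (orderOf k).Coprime (Nat.card W₂) := Nat.Coprime.coprime_mul_right_right h2
    have h4 : Nat.card W₂ = 1 := Nat.Coprime.eq_one_of_dvd h3.symm h1
    exact h.hp.one_lt.ne' h4
  have hone : η 1 = fun _ => (1 : ℂ) := h.hη.map_one
  have hne1 : ∀ ω : WChar W₁ W₂, ω ≠ 1 → classInner (η ω) (fun _ : G => (1 : ℂ)) = 0 := by
    intro ω hω
    rw [← hone, h.hη.orthonormal ω 1, if_neg hω]
  have hφψ1 : φ * ψ ≠ 1 := mul_ne_of_trivOn' (ψ' := 1) hφ hψ (trivOn_one W₁) hφ1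
  have hφψφ : φ * ψ ≠ φ := by
    intro hc
    apply hψ1
    ext w
    have h2 := congrArg (fun f : WChar W₁ W₂ => f w) hc
    simp only [MonoidHom.mul_apply] at h2
    have h3 : ψ w = 1 := by
      have h4 : φ w * ψ w = φ w * 1 := by rw [mul_one]; exact h2
      exact mul_left_cancel h4
    rw [h3]
    rfl
  have hφψψ : φ * ψ ≠ ψ := mul_ne_of_trivOn' hφ hψ hψ hφ1
  have hφψ' : φ ≠ ψ := by
    intro hc
    apply hφ1
    apply Cfsg.Agent.Lib.Helper25.PFCyc.eq_one_of_trivOn _ hφ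
    rw [hc]
    exact hψ
  obtain ⟨c0, hc0, -⟩ := Cfsg.Agent.Lib.Helper25.inner_int' hXgen (hsirr (φ * ψ)).gen
  obtain ⟨c1, hc1, -⟩ := Cfsg.Agent.Lib.Helper25.inner_int' hXgen (hsirr φ).gen
  obtain ⟨c2, hc2, -⟩ := Cfsg.Agent.Lib.Helper25.inner_int' hXgen (hsirr ψ).gen
  have hrect : c0 = c1 + c2 + 1 := by
    have := hXrect φ ψ hφ hψ hφ1 hψ1
    rw [hc0, hc1, hc2, if_pos rfl] at this
    exact_mod_cast this
  have key := Cfsg.Agent.Lib.Helper52.PF14Xi.parity_card_frobClass_int h.hodd cl hXgen (hsirr ψ)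
    hXreal hX1 (hne1 ψ hψ1)
    (fun k hk hk1 => hXsupp k (hdisj k hk hk1))
    (hint ψ) k₀ hk₀ hk₀1 x hx hxe N (by rw [hXnorm, hN])
    (κ := Fin 3) ![η (φ * ψ), η φ, η ψ]
    (by
      intro a
      fin_cases a <;>
        simp only [Matrix.cons_val_zero, Matrix.cons_val_one, Matrix.cons_val_two,
          Matrix.head_cons, Matrix.tail_cons, Fin.zero_eta, Fin.mk_one, Fin.reduceFinMk]
      · exact hsirr _
      · exact hsirr _
      · exact hsirr _)
    (by
      intro a b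
      fin_cases a <;> fin_cases b <;>
        simp only [Matrix.cons_val_zero, Matrix.cons_val_one, Matrix.cons_val_two,
          Matrix.head_cons, Matrix.tail_cons, Fin.zero_eta, Fin.mk_one, Fin.reduceFinMk] <;>
        rw [h.hη.orthonormal]
      · simp
      · rw [if_neg hφψφ]; simp
      · rw [if_neg hφψψ]; simp
      · rw [if_neg (Ne.symm hφψφ)]; simp
      · simp
      · rw [if_neg hφψ']; simp
      · rw [if_neg (Ne.symm hφψψ)]; simp
      · rw [if_neg (Ne.symm hφψ')]; simp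
      · simp)
    (by
      intro a
      fin_cases a <;>
        simp only [Matrix.cons_val_zero, Matrix.cons_val_one, Matrix.cons_val_two,
          Matrix.head_cons, Matrix.tail_cons, Fin.zero_eta, Fin.mk_one, Fin.reduceFinMk]
      · exact hne1 _ hφψ1
      · exact hne1 _ hφ1
      · exact hne1 _ hψ1)
    (by
      intro a
      fin_cases a <;>
        simp only [Matrix.cons_val_zero, Matrix.cons_val_one, Matrix.cons_val_two,
          Matrix.head_cons, Matrix.tail_cons, Fin.zero_eta, Fin.mk_one, Fin.reduceFinMk]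
      · exact hint _
      · exact hint _
      · exact hint _)
    ![c0, c1, c2]
    (by
      intro a
      fin_cases a <;>
        simp only [Matrix.cons_val_zero, Matrix.cons_val_one, Matrix.cons_val_two,
          Matrix.head_cons, Matrix.tail_cons, Fin.zero_eta, Fin.mk_one, Fin.reduceFinMk]
      · exact hc0
      · exact hc1
      · exact hc2)
    (Cfsg.Agent.Lib.Helper10.PF14Par.exists_ne_zero_of_rect _ (by simpa using hrect))
  rw [he] at key
  exact key

/-- **a nilpotent subgroup containing `U` has order prime to `p`** (sec.14 context: `U` semiregular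
on `P`) -/
theorem not_dvd_card_of_nilpotent (h : PSide S W₁ U W₂ mu dl η)
    (hfree : ∀ z ∈ U, z ≠ 1 → ∀ x ∈ fittingHallOf S, z * x = x * z → x = 1)
    {H : Subgroup G} (hnil : Group.IsNilpotent ↥H) (hUH : U ≤ H) :
    ¬ Nat.card W₂ ∣ Nat.card H := by
  intro hdvd
  have g := Cfsg.Agent.Lib.Helper44.PF13.sideGrp_of h
  have hW := h.hP.selfNormalizing
  haveI : Fact (Nat.card W₂).Prime := ⟨h.hp⟩
  -- an element `k` of order `p` in `H`
  obtain ⟨k, hk⟩ := exists_prime_orderOf_dvd_card' (G := ↥H) (Nat.card W₂) hdvd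
  -- an element `u ≠ 1` of `U`
  obtain ⟨u, huU, hu1⟩ : ∃ u ∈ U, u ≠ 1 := by
    by_contra hcon
    push Not at hcon
    exact h.hU1 ((Subgroup.eq_bot_iff_forall U).mpr hcon)
  have hcopPU : (Nat.card W₂).Coprime (Nat.card U) := by
    have h1 := g.coprime_PU
    rw [g.card_P, ← g.card_W₂] at h1
    exact Nat.Coprime.coprime_dvd_left (dvd_pow_self _ h.hq.ne_zero) h1
  have hordu : orderOf u ∣ Nat.card U := Subgroup.orderOf_dvd_natCard U huU
  have hcopu : (orderOf u).Coprime (Nat.card W₂) :=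
    Nat.Coprime.coprime_dvd_left hordu hcopPU.symm
  have hcopuq : (orderOf u).Coprime (Nat.card W₁) := by
    have h1 : (Nat.card U).Coprime (Nat.card W₁) := by
      have h2 := g.coprime_Kq
      rw [← g.card_W₁] at h2
      exact Nat.Coprime.coprime_dvd_left (Subgroup.card_dvd_of_le g.U_le) h2
    exact Nat.Coprime.coprime_dvd_left hordu h1
  -- `u` commutes with `k`
  have hcomm : Commute (⟨u, hUH huU⟩ : ↥H) k := by
    apply Cfsg.Agent.Lib.Helper65.commute_of_coprime_orderOf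
    rw [hk]
    have : orderOf (⟨u, hUH huU⟩ : ↥H) = orderOf u := by
      rw [← Subgroup.orderOf_coe]
    rw [this]
    exact hcopu
  have hcomm' : u * (k : G) = (k : G) * u := congrArg Subtype.val hcomm.eq
  have hkord : orderOf (k : G) = Nat.card W₂ := by rw [Subgroup.orderOf_coe]; exact hk
  -- conjugate `k` into `P`
  obtain ⟨t, ht⟩ := h.hsylow (k : G) hkord
  set y := t * (k : G) * t⁻¹ with hy
  set s := t * u * t⁻¹ with hs
  have hy1 : y ≠ 1 := by
    intro hc
    have : (k : G) = 1 := by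
      have := congrArg (fun z => t⁻¹ * z * t) hc
      simp only [hy] at this
      simpa [mul_assoc] using this
    rw [this, orderOf_one] at hkord
    exact h.hp.one_lt.ne hkord
  have hsy : s * y = y * s := by
    simp only [hs, hy]
    have e1 : t * u * t⁻¹ * (t * (k : G) * t⁻¹) = t * (u * (k : G)) * t⁻¹ := by group
    have e2 : t * (k : G) * t⁻¹ * (t * u * t⁻¹) = t * ((k : G) * u) * t⁻¹ := by group
    rw [e1, e2, hcomm']
  have hs1 : s ≠ 1 := by
    intro hc
    apply hu1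
    have := congrArg (fun z => t⁻¹ * z * t) hc
    simp only [hs] at this
    simpa [mul_assoc] using this
  have hsord : orderOf s = orderOf u :=
    orderOf_injective (MulAut.conj t).toMonoidHom (MulAut.conj t).injective u
  -- `y ∈ A(S)`, so `s ∈ S`
  have hyK : y ∈ ⁅S, S⁆ := g.P_le ht
  have hyA : y ∈ litA S := h.hA_mem y hyK hy1 ⟨y, ht, hy1, rfl⟩
  have hyA0 : y ∈ litA0 S := Or.inl hyA
  have hsS : s ∈ S := by
    apply h.hTI s y hyA0 hy1
    have : s * y * s⁻¹ = y := by rw [hsy, mul_assoc, mul_inv_cancel, mul_one]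
    rw [this]
    exact hyA0
  -- `s ∈ S'`
  have hsK : s ∈ ⁅S, S⁆ := by
    by_contra hsK
    obtain ⟨x, hxS, hxW, -⟩ := g.cover s hsS hsK
    have hord : orderOf (x * s * x⁻¹) = orderOf s :=
      orderOf_injective (MulAut.conj x).toMonoidHom (MulAut.conj x).injective s
    have h1 : orderOf (x * s * x⁻¹) ∣ Nat.card ↥(W₁ ⊔ W₂) := Subgroup.orderOf_dvd_natCard _ hxW
    rw [Cfsg.Agent.Lib.Helper51.PFCyc.card_W hW, hord, hsord] at h1
    have h2 : (orderOf u).Coprime (Nat.card W₁ * Nat.card W₂) :=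
      Nat.Coprime.mul_right hcopuq hcopu
    have h3 : orderOf u = 1 := Nat.Coprime.eq_one_of_dvd h2 h1
    exact hu1 (orderOf_eq_one_iff.mp h3)
  -- `s ∈ P`
  obtain ⟨x₀, hx₀, z₀, hz₀, hsx⟩ := g.PU_mul s hsK
  have hz₀1 : z₀ = 1 := by
    by_contra hz₀1
    apply hy1
    apply hfree z₀ hz₀ hz₀1 y ht
    have e1 : x₀ * z₀ * y = x₀ * y * z₀ := by
      rw [← hsx, hsy, hsx, ← mul_assoc, h.hPcomm y ht x₀ hx₀]
    have e2 : x₀ * (z₀ * y) = x₀ * (y * z₀) := by
      rw [← mul_assoc x₀ z₀ y, ← mul_assoc x₀ y z₀]; exact e1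
    exact mul_left_cancel e2
  rw [hz₀1, mul_one] at hsx
  have hsP : s ∈ fittingHallOf S := hsx ▸ hx₀
  have h4 : orderOf s ∣ Nat.card W₂ := orderOf_dvd_of_pow_eq_one (h.hPexp s hsP)
  rw [hsord] at h4
  have h5 : orderOf u = 1 := Nat.Coprime.eq_one_of_dvd hcopu h4
  exact hu1 (orderOf_eq_one_iff.mp h5)

omit [Fintype S] in
/-- **bridge Bessel for the `p` characters `η ψ'`, `ψ'` trivial on `W₁`**: on a Frobenius class
`(L, H)` of index `e` with `e + 1 < p`, the elements of `H` of order prime to `p q`, some `η ψ`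
with `ψ ≠ 1` trivial on `W₁` vanishes on `H#`. -/
theorem exists_eta_zero (hW : IsSelfNormalizingCyclic W₁ W₂) (hodd : Odd (Nat.card G))
    (hη : IsCyclicTIFamily W₁ W₂ η)
    {L H : Subgroup G} (cl : FrobClass L H) (he : H.relIndex L + 1 < Nat.card W₂)
    (hcop : ∀ k ∈ H, (orderOf k).Coprime (Nat.card W₂ * Nat.card W₁)) :
    ∃ ψ : WChar W₁ W₂, TrivOn W₁ ψ ∧ ψ ≠ 1 ∧ ∀ k ∈ H, k ≠ 1 → η ψ k = 0 := by
  classical
  have hsirr : ∀ ω, Cfsg.Agent.Lib.Helper25.SIrr G (η ω) := fun ω => hη.irr_or_neg ω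
  have hint : ∀ ω : WChar W₁ W₂, ∀ k ∈ H, k ≠ 1 → ∃ n : ℤ, η ω k = (n : ℂ) :=
    fun ω k hk _ => eta_int_on hW hodd hη ω k (hcop k hk)
  choose x hx using fun ω : WChar W₁ W₂ =>
    Cfsg.Agent.Lib.Helper52.PF14Xi.const_of_int_frobClass hodd cl (hsirr ω) (hint ω)
  obtain ⟨a, ha⟩ := cl.exists_zero_of_bridge hodd
    (α := {ω : WChar W₁ W₂ // ω ∈ trivSet W₁ W₂ W₁})
    (fun a => η a.1)
    (fun a => Cfsg.Agent.Lib.Helper25.dgen_isClassFunction (hsirr a.1).gen)
    (fun a b => by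
      rw [hη.orthonormal a.1 b.1]
      by_cases hab : a = b
      · rw [if_pos hab, if_pos (congrArg Subtype.val hab)]
      · rw [if_neg hab, if_neg (fun h => hab (Subtype.ext h))])
    (fun a => x a.1) (fun a => hx a.1)
    (by
      rw [Fintype.card_coe, Cfsg.Agent.Lib.Helper1.PF11GalB.card_trivSet_W₁ hW]
      exact he)
  refine ⟨a.1, mem_trivSet.mp a.2, ?_, ?_⟩
  · intro h1
    -- `η 1 = 1` is not `0` on `H#`
    obtain ⟨k, hk, hk1⟩ : ∃ k ∈ H, k ≠ 1 := by
      by_contra hcon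
      push Not at hcon
      exact cl.ne_bot ((Subgroup.eq_bot_iff_forall H).mpr hcon)
    have h2 := hx a.1 k hk hk1
    rw [ha, h1, hη.map_one] at h2
    simp at h2
  · intro k hk hk1
    rw [hx a.1 k hk hk1, ha]
    simp

end side

section main

/-- **PF14-[HPARA]**: the input `hparA` of helper34's `hna_of_par`. -/
theorem hparA_of (hG : IsMinSimpleOddOrder G) (h1543 : Stmt1543 G)
    {S T W₁ W₂ U V : Subgroup G} (o : Sec13Out S T W₁ W₂ U V)
    (L : Subgroup G) (hL : IsCoatom L) (hNU : Subgroup.normalizer (U : Set G) ≤ L)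
    (c : FrobClass L (fittingHallOf L)) (hUH : U ≤ fittingHallOf L)
    (he : (fittingHallOf L).relIndex L = Nat.card W₁) :
    Nat.card (fittingHallOf L) ≤ Nat.card U := by
  classical
  have bg := Cfsg.Agent.Lib.Helper24.BGBook.bookBGData hG
  have pf8 := Cfsg.Agent.Lib.Helper24.PFCyc.bookPF8Data hG
  have ph := o.pair
  have hodd : Odd (Nat.card G) := hG.1
  have hW : IsSelfNormalizingCyclic W₁ W₂ := ph.hSP.selfNormalizing
  have hoddW : Odd (Nat.card ↥(W₁ ⊔ W₂)) :=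
    Odd.of_dvd_nat hodd (Subgroup.card_subgroup_dvd_card _)
  let _ : Fintype ↥S := Fintype.ofFinite _
  obtain ⟨η, hη⟩ := Cfsg.Agent.S1502.result W₁ W₂ hW hoddW
  obtain ⟨mu, dl, hPS⟩ := Cfsg.Agent.Lib.Helper54.PF13PSide.exists_pside hG bg pf8 h1543 ph hη
  have hsolvS : Group.IsSolvable ↥⁅S, S⁆ :=
    Cfsg.Agent.Lib.Helper26.PFBook.isSolvable_of_isCoatom hG ph.hS
      (Cfsg.Agent.Lib.Helper26.PFEight.commutator_self_le S)
  have hIIS := Cfsg.Agent.Lib.Helper54.PF13PSide.litA_typeII hsolvS ph.hSP o.hSII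
  -- the orders of the elements of `L_F` are prime to `p q`
  have hnil : Group.IsNilpotent ↥(fittingHallOf L) :=
    Cfsg.Agent.Lib.Helper26.BGTypes.isNilpotent_fittingHallOf L
  have hp' : ¬ Nat.card W₂ ∣ Nat.card (fittingHallOf L) :=
    not_dvd_card_of_nilpotent hPS o.hUreg hnil hUH
  have hdvd : Nat.card W₁ ∣ Nat.card (fittingHallOf L) - 1 := by
    rw [← he]; exact c.relIndex_dvd
  have hHpos : 0 < Nat.card (fittingHallOf L) := Nat.card_pos
  have hq' : ¬ Nat.card W₁ ∣ Nat.card (fittingHallOf L) := by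
    intro h1
    have h2 : Nat.card W₁ ∣ 1 := by
      have h3 : Nat.card (fittingHallOf L) = (Nat.card (fittingHallOf L) - 1) + 1 := by omega
      rw [h3] at h1
      exact (Nat.dvd_add_right hdvd).mp h1
    exact hPS.hq.one_lt.ne' (Nat.dvd_one.mp h2)
  have hcop : ∀ k ∈ fittingHallOf L, (orderOf k).Coprime (Nat.card W₂ * Nat.card W₁) := by
    intro k hk
    have h1 : orderOf k ∣ Nat.card (fittingHallOf L) := Subgroup.orderOf_dvd_natCard _ hk
    apply Nat.Coprime.mul_right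
    · exact (Nat.Coprime.symm ((Nat.Prime.coprime_iff_not_dvd hPS.hp).mpr
        (fun h2 => hp' (h2.trans h1))))
    · exact (Nat.Coprime.symm ((Nat.Prime.coprime_iff_not_dvd hPS.hq).mpr
        (fun h2 => hq' (h2.trans h1))))
  -- `q + 1 < p`
  have hlt : (fittingHallOf L).relIndex L + 1 < Nat.card W₂ := by
    rw [he]
    have h1 : Odd (Nat.card W₁) := Odd.of_dvd_nat hodd (Subgroup.card_subgroup_dvd_card _)
    have h2 : Odd (Nat.card W₂) := Odd.of_dvd_nat hodd (Subgroup.card_subgroup_dvd_card _)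
    obtain ⟨a, ha⟩ := h1
    obtain ⟨b, hb⟩ := h2
    have := o.hqp
    omega
  obtain ⟨ψ, hψ, hψ1, hzero⟩ := exists_eta_zero hW hodd hη c hlt hcop
  obtain ⟨k₀, hk₀U, hk₀1⟩ : ∃ k ∈ U, k ≠ 1 := by
    by_contra hcon
    push Not at hcon
    exact hPS.hU1 ((Subgroup.eq_bot_iff_forall U).mpr hcon)
  have hk₀ : k₀ ∈ fittingHallOf L := hUH hk₀U
  obtain ⟨N, hNq, hN, hX⟩ := xbeta_of hPS (xbetaStmt G) o.hUreg ψ hψ hψ1
  have key := hpx_of_side_gen hPS (litA_mem_P hPS o.hUreg hIIS) c he hcop ψ hψ hψ1 N hN hX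
    k₀ hk₀ hk₀1 0 (by rw [hzero k₀ hk₀ hk₀1]; simp) (by simp)
  -- `|H| - 1 ≤ q N = |U| - 1`
  have h3 : Nat.card W₁ * N + 1 = Nat.card U := by rw [mul_comm]; exact hNq
  omega

end main

end fin

section final

variable {G : Type u} [Group G] [Finite G]

/-- **`hna`** (sec.14 (a) excluded), in the exact shape of helper26's
`stmt1544Core_of_sec14_final`. -/
theorem hna_final (hG : IsMinSimpleOddOrder G) (h1543 : Stmt1543 G) (h1547 : Stmt1547 G)
    (h127 : ∀ L : Subgroup G, IsCoatom L → LitTypeI L → IsFrobWithFittingHall L)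
    {S T W₁ W₂ U V : Subgroup G} (o : Sec13Out S T W₁ W₂ U V) :
    ∀ L : Subgroup G, IsCoatom L → Subgroup.normalizer (U : Set G) ≤ L →
      ¬ (fittingHallOf L ⊓ W₁ = ⊥ ∧ fittingHallOf L ⊔ W₁ = L) := by
  classical
  let inst : Fintype G := Fintype.ofFinite G
  exact hna_of_par hG h1543 h1547 h127 o
    (fun L hL hNU c hUH he => hparA_of hG h1543 o L hL hNU c hUH he)

/-- **`Stmt1544Core G`** from the named outputs of sec.10-13: `hna` and `hchar` are discharged. -/
theorem stmt1544Core_final (hG : IsMinSimpleOddOrder G) (h1543 : Stmt1543 G)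
    (h1547 : Stmt1547 G)
    (h127 : ∀ L : Subgroup G, IsCoatom L → LitTypeI L → IsFrobWithFittingHall L)
    (hcard : ∀ {S T W₁ W₂ U V : Subgroup G}, PairHyp S T W₁ W₂ U V → Nat.card W₁ < Nat.card W₂ →
      Nat.card U * (Nat.card W₂ - 1) = Nat.card W₂ ^ Nat.card W₁ - 1 ∧
        Nat.card V * (Nat.card W₁ - 1) = Nat.card W₁ ^ Nat.card W₂ - 1) :
    Cfsg.Agent.Lib.Helper54.PF14Field.Stmt1544Core G :=
  stmt1544Core_of_hna hG h1543 h1547 h127 hcard
    (fun o => hna_final hG h1543 h1547 h127 o)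

end final

end Cfsg.Agent.Lib.Helper52.PF14HParA
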