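/-
helper52: the closed outputs of Peterfalvi sec.10-14 for a minimal simple group of odd order
(glue text of helper4's `PFOddOrderGlue`, delegated): not all maximal subgroups are of Type I and
`Stmt1544Core G`; hence the Odd Order Theorem.
-/
import Mathlib
import Cfsg.Agent.Lib.Helper52.PF14HParA
import Cfsg.Agent.Lib.Helper74.PFElevenDichFinal
import Cfsg.Agent.Lib.Helper74.PFNoTypeV
import Cfsg.Agent.Lib.Helper74.PFElevenFinalA74
import Cfsg.Agent.Lib.Helper26.PF13Book1543
import Cfsg.Agent.Lib.Helper16.PF13FinAPI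
import Cfsg.Agent.Lib.Helper64.PFTwelveX1
import Cfsg.Agent.Lib.Helper26.BGRows
import Cfsg.Agent.Lib.Helper54.PF14Field

set_option autoImplicit false
set_option linter.unusedSectionVars false
set_option linter.unusedVariables false

namespace Cfsg.Agent.Lib.Helper52.PF14OddOrder

open Cfsg Cfsg.Agent.Lib.Helper4.PF Cfsg.Agent.Lib.Helper64.PF11

universe u

variable {G : Type u} [Group G] [Finite G]

/-- **the closed outputs of sec.10-14**: not all maximal subgroups are of (book) Type I, and the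
group-theoretic core of S1544. -/
theorem closed_core (hG : IsMinSimpleOddOrder G) :
    (¬ ∀ M : Subgroup G, IsCoatom M → LitTypeI M) ∧
      Cfsg.Agent.Lib.Helper54.PF14Field.Stmt1544Core G := by
  classical
  letI : Fintype G := Fintype.ofFinite G
  have bg := Cfsg.Agent.Lib.Helper24.BGBook.bookBGData hG
  have pf8 := Cfsg.Agent.Lib.Helper26.PFBook.bookPF8Data_of hG bg
  have hnoV := Cfsg.Agent.Lib.Helper74.PF10.no_typeV_book hG
  have hnoIV : ∀ {M T W₁ W₂ U V : Subgroup G}, PairHyp M T W₁ W₂ U V → ¬ IsOfTypeIV M :=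
    fun ph => Cfsg.Agent.Lib.Helper74.PF11F.no_typeIV hG bg pf8 ph
  have hlt : ∀ {M T W₁ W₂ U V : Subgroup G}, PairHyp M T W₁ W₂ U V → IsOfTypeIII M →
      Nat.card W₂ < Nat.card W₁ :=
    fun ph h => Cfsg.Agent.Lib.Helper74.PF11F.typeIII_lt hG bg pf8 ph h
  have hstr : ∀ {M T W₁ W₂ U V : Subgroup G}, PairHyp M T W₁ W₂ U V → IsOfTypeIII M →
      Struct34 M W₁ U W₂ :=
    fun ph h => Cfsg.Agent.Lib.Helper74.PF11F.struct34_of_pair hG bg pf8 ph (Or.inl h)
  have h127 := Cfsg.Agent.Lib.Helper74.PF127.h127_of_pair hG bg hnoIV hlt hstr hnoV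
  have h1543 : Stmt1543 G :=
    Cfsg.Agent.Lib.Helper26.PF13Book.stmt1543_of_book_all hG hnoV hnoIV hlt
      (fun ph h => ⟨(hstr ph h).hHel, (hstr ph h).hHcard⟩) h127
  have h1547 := Cfsg.Agent.Lib.Helper16.PF13.stmt1547_fin hG h1543
  refine ⟨?_, ?_⟩
  · intro hall
    obtain ⟨M, hM, hMI⟩ := Cfsg.Agent.Lib.Helper64.PF12.not_all_litTypeI hG bg pf8
      (Cfsg.Agent.Lib.Helper26.BGRows.kappa_eq_empty hG)
      (Cfsg.Agent.Lib.Helper26.BGRows.sigmaCore_eq hG) h127
    exact hMI (hall M hM)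
  · exact Cfsg.Agent.Lib.Helper52.PF14HParA.stmt1544Core_final hG h1543 h1547 h127
      (Cfsg.Agent.Lib.Helper16.PF13.hcard_of_1543 hG h1543)

/-- **S1544** (Peterfalvi sec.13-14: the final configuration). -/
theorem stmt1544 (hG : IsMinSimpleOddOrder G) : Stmt1544 G :=
  Cfsg.Agent.Lib.Helper54.PF14Field.stmt1544_of_core (closed_core hG).2

/-- **The Odd Order Theorem** (Feit-Thompson). -/
theorem odd_order (K : Type u) [Group K] [Finite K] (hK : Odd (Nat.card K)) :
    Group.IsSolvable K :=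
  Cfsg.Agent.Lib.Helper54.PF14Field.odd_order_of_core
    (fun H _ _ hH => closed_core hH) K hK

end Cfsg.Agent.Lib.Helper52.PF14OddOrder
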