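import Mathlib
import Cfsg.Agent.Lib.Helper43.SUMD.Basic
import Cfsg.Agent.Lib.Helper95.SumdRWt
import Cfsg.Agent.Lib.Helper95.SumdRChar
import Cfsg.Agent.Lib.Helper95.SumdUZ
import Cfsg.Agent.Lib.Helper94.SumdUTor
import Cfsg.Agent.Lib.Helper39.SumdAlpha

/-!
# Project SUMD (helper43), module [T-BASE4] (helper52)

`base4`: for `n ≥ 4`, orthogonal hyperbolic pairs `(v,w)`, `(v',w')` and a representation `ρ` of `SU_n(q)` on
which `Z_v` acts non-trivially, `dim C_V(Z_v) ≥ q - 1`.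

`Z_{v'}` commutes with `Z_v`, so acts on `U = C_V(Z_v)`; the torus elements `g` (`g v = σβ v`, `g v' = β v'`)
normalise `Z_v` (so preserve `U`) and fuse all non-identity elements of `Z_{v'}`; the relative weight-space
formula and `alpha` give `dim U ≥ q - 1`.
-/

set_option autoImplicit false

namespace Cfsg.Agent.Lib.Helper43.SUMD

open Matrix Module Cfsg.Agent.S0837 Cfsg.Agent.S0781 Cfsg.Agent.S2644 Cfsg.Agent.Lib.Helper37

namespace Base4

section rep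
variable {G : Type*} [Group G] {V : Type*} [AddCommGroup V] [Module ℂ V]

/-- an element commuting with `H` preserves `C_V(H)` -/
theorem fixedSp_invariant_of_commute (ρ : Representation ℂ G V) (H : Subgroup G) (g : G)
    (hg : ∀ h ∈ H, h * g = g * h) : ∀ u ∈ fixedSp ρ H, ρ g u ∈ fixedSp ρ H := by
  intro u hu h hh
  calc ρ h (ρ g u) = ρ (h * g) u := by rw [map_mul]; rfl
    _ = ρ (g * h) u := by rw [hg h hh]
    _ = ρ g (ρ h u) := by rw [map_mul]; rfl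
    _ = ρ g u := by rw [hu h hh]

/-- an element normalising `H` preserves `C_V(H)`, and so does its inverse -/
theorem fixedSp_invariant_of_map_eq (ρ : Representation ℂ G V) (H : Subgroup G) (g : G)
    (hg : H.map (MulAut.conj g).toMonoidHom = H) :
    (∀ u ∈ fixedSp ρ H, ρ g u ∈ fixedSp ρ H) ∧ (∀ u ∈ fixedSp ρ H, ρ g⁻¹ u ∈ fixedSp ρ H) := by
  constructor
  · intro u hu
    have := map_mem_fixedSp_conj ρ H g hu
    rwa [hg] at this
  · intro u hu
    have h1 : u ∈ (fixedSp ρ H).map (ρ g) := by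
      rw [← fixedSp_conj, hg]; exact hu
    obtain ⟨u₀, hu₀, rfl⟩ := h1
    have h2 : ρ g⁻¹ (ρ g u₀) = u₀ := by
      rw [← Module.End.mul_apply, ← map_mul, inv_mul_cancel, map_one]; rfl
    rw [h2]; exact hu₀

end rep

section U
variable {F : Type*} [Field F] [Fintype F] (σ : F →+* F) {n : ℕ}

/-- transvections with orthogonal centres commute -/
theorem tv_comm_of_orth (v v' : Fin n → F) (c c' : F) (h1 : hf σ v v' = 0)
    (h2 : hf σ v' v = 0) : tv σ v c * tv σ v' c' = tv σ v' c' * tv σ v c := by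
  apply Matrix.toLin'.injective
  apply LinearMap.ext
  intro x
  rw [Matrix.toLin'_apply, Matrix.toLin'_apply, ← mulVec_mulVec, ← mulVec_mulVec]
  simp only [tv_mulVec, hf_add_left, hf_smul_left, h1, h2]
  module

theorem Zsub_congr {v v₁ : Fin n → F} (hv : hf σ v v = 0) (hv₁ : hf σ v₁ v₁ = 0) (e : v = v₁) :
    Zsub σ v hv = Zsub σ v₁ hv₁ := by
  subst e; rfl

/-- elements of `Z_v` and `Z_{v'}` commute when `v ⟂ v'` -/
theorem Zsub_commute (v v' : Fin n → F) (hv : hf σ v v = 0) (hv' : hf σ v' v' = 0)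
    (h1 : hf σ v v' = 0) (h2 : hf σ v' v = 0) {z z' : ↥(SUg σ n)} (hz : z ∈ Zsub σ v hv)
    (hz' : z' ∈ Zsub σ v' hv') : z * z' = z' * z := by
  obtain ⟨c, _, hc⟩ := hz
  obtain ⟨c', _, hc'⟩ := hz'
  apply smat_injective
  rw [smat_mul, smat_mul, hc, hc', tv_comm_of_orth σ v v' c c' h1 h2]

/-- an element of `SU_n` with eigenvector `v` normalises `Z_v` -/
theorem Zsub_map_conj_of_smul (hσ2 : ∀ a, σ (σ a) = a) (v : Fin n → F) (hv : hf σ v v = 0)
    (g : ↥(SUg σ n)) (a : F) (ha : a ≠ 0) (hg : smat g *ᵥ v = a • v) :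
    (Zsub σ v hv).map (MulAut.conj g).toMonoidHom = Zsub σ v hv := by
  rw [Zsub_map_conj σ hσ2 v hv g,
    Zsub_congr σ _ (by rw [hf_smul_left, hf_smul_right, hv, mul_zero, mul_zero]) hg]
  exact Zsub_smul σ hσ2 v hv a ha

/-- conjugating a transvection by an element with eigenvector its centre -/
theorem smat_conj_tv (hσ2 : ∀ a, σ (σ a) = a) (v' : Fin n → F) (g : ↥(SUg σ n)) (β : F)
    (hg : smat g *ᵥ v' = β • v') (z : ↥(SUg σ n)) (c : F) (hz : smat z = tv σ v' c) :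
    smat (g * z * g⁻¹) = tv σ v' (c * (β * σ β)) := by
  rw [smat_mul, smat_mul, hz, tv_conj σ (smat g) (smat_preserves g) v' c, hg,
    tv_smul_center σ hσ2, Matrix.mul_assoc, smat_mul_inv, Matrix.mul_one]

theorem tv_zero_coeff (v : Fin n → F) : tv σ v 0 = 1 := by
  show sieg σ v 0 0 = 1
  rw [sieg_zero]

end U

end Base4

section T
variable {F : Type*} [Field F] [Fintype F] (σ : F →+* F) {n : ℕ}
variable {V : Type*} [AddCommGroup V] [Module ℂ V] [FiniteDimensional ℂ V]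

open Base4 in
/-- **[T-BASE4]** `dim C_V(Z_v) ≥ q - 1` in dimension `≥ 4` -/
theorem base4 {q : ℕ} (hF : Fintype.card F = q ^ 2) (hσq : ∀ x, σ x = x ^ q)
    (hσ : σ ≠ RingHom.id F) (hσ2 : ∀ a, σ (σ a) = a) (hn : 4 ≤ n) {v w v' w' : Fin n → F}
    (h : HP σ v w) (h' : HP σ v' w') (h1 : hf σ v' v = 0) (h2 : hf σ v' w = 0)
    (h3 : hf σ w' v = 0) (h4 : hf σ w' w = 0) (ρ : Representation ℂ ↥(SUg σ n) V)
    (hnt : fixedSp ρ (Zsub σ v h.uu) ≠ ⊤) :
    q - 1 ≤ finrank ℂ (fixedSp ρ (Zsub σ v h.uu)) := by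
  classical
  have hv'0 : v' ≠ 0 := by
    rintro rfl
    have := h'.vu
    rw [hf_zero_right] at this
    exact zero_ne_one this
  have hvv' : hf σ v v' = 0 := by rw [hf_symm σ hσ2, h1, map_zero]
  have hα := alpha σ hσ hσ2 (by omega) h v' hv'0 h'.uu h1 h2 ρ hnt
  -- `Z_{v'}` preserves `U`
  have hZU : ∀ z ∈ Zsub σ v' h'.uu, ∀ u ∈ fixedSp ρ (Zsub σ v h.uu),
      ρ z u ∈ fixedSp ρ (Zsub σ v h.uu) := by
    intro z hz
    exact fixedSp_invariant_of_commute ρ _ z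
      (fun z₀ hz₀ => Zsub_commute σ v v' h.uu h'.uu hvv' h1 hz₀ hz)
  -- fusion of the non-identity elements of `Z_{v'}` by elements preserving `U`
  have hconj : ∀ z ∈ Zsub σ v' h'.uu, ∀ z' ∈ Zsub σ v' h'.uu, z ≠ 1 → z' ≠ 1 →
      ∃ g : ↥(SUg σ n), g * z * g⁻¹ = z' ∧
        (∀ u ∈ fixedSp ρ (Zsub σ v h.uu), ρ g u ∈ fixedSp ρ (Zsub σ v h.uu)) ∧
        (∀ u ∈ fixedSp ρ (Zsub σ v h.uu), ρ g⁻¹ u ∈ fixedSp ρ (Zsub σ v h.uu)) := by
    rintro z ⟨c, hc, hz⟩ z' ⟨c', hc', hz'⟩ hz1 hz'1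
    have hc0 : c ≠ 0 := by
      rintro rfl
      apply hz1
      apply smat_injective
      rw [hz, tv_zero_coeff, smat_one]
    have hc'0 : c' ≠ 0 := by
      rintro rfl
      apply hz'1
      apply smat_injective
      rw [hz', tv_zero_coeff, smat_one]
    have hσc : σ c = -c := by linear_combination hc
    have hσc' : σ c' = -c' := by linear_combination hc'
    have ha : σ (c' / c) = c' / c := by
      rw [map_div₀, hσc, hσc', neg_div_neg_eq]
    obtain ⟨β, hβ⟩ := Cfsg.Agent.Lib.Helper36.exists_mul_map_eq σ hσ hσ2 (c' / c) ha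
    have hβ0 : β ≠ 0 := by
      rintro rfl
      rw [zero_mul] at hβ
      exact div_ne_zero hc'0 hc0 hβ.symm
    obtain ⟨g, hgv, hgv'⟩ := exists_torus σ hσ2 h h' h1 h2 h3 h4 β hβ0
    have hσβ0 : σ β ≠ 0 := (map_ne_zero σ).mpr hβ0
    have hnorm := Zsub_map_conj_of_smul σ hσ2 v h.uu g (σ β) hσβ0 hgv
    obtain ⟨hg1, hg2⟩ := fixedSp_invariant_of_map_eq ρ _ g hnorm
    refine ⟨g, ?_, hg1, hg2⟩
    apply smat_injective
    rw [smat_conj_tv σ hσ2 v' g β hgv' z c hz, hz', hβ, mul_div_cancel₀ _ hc0]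
  -- `Z_{v'} ≠ ⊥`
  have hZne : Zsub σ v' h'.uu ≠ ⊥ := by
    intro hbot
    apply hα
    intro u _ z hz
    rw [hbot, Subgroup.mem_bot] at hz
    rw [hz, map_one]; rfl
  obtain ⟨χ, hχ⟩ := exists_char_ne_one (Zsub σ v' h'.uu) (Zsub_comm σ v' h'.uu) hZne
  have key := finrank_eq_fixedSp_add_wtSp_rel ρ (fixedSp ρ (Zsub σ v h.uu)) (Zsub σ v' h'.uu)
    hZU hconj χ hχ
  rw [card_Zsub σ hF hσq hσ2 v' hv'0 h'.uu] at key
  have hm : finrank ℂ ↥(fixedSp ρ (Zsub σ v h.uu) ⊓ wtSp ρ (Zsub σ v' h'.uu) χ) ≠ 0 := by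
    intro h0
    rw [h0, mul_zero, add_zero] at key
    apply hα
    have := Submodule.eq_of_le_of_finrank_eq
      (inf_le_left : fixedSp ρ (Zsub σ v h.uu) ⊓ fixedSp ρ (Zsub σ v' h'.uu) ≤
        fixedSp ρ (Zsub σ v h.uu)) key.symm
    rw [← this]
    exact inf_le_right
  have h1m : 1 ≤ finrank ℂ ↥(fixedSp ρ (Zsub σ v h.uu) ⊓ wtSp ρ (Zsub σ v' h'.uu) χ) :=
    Nat.one_le_iff_ne_zero.mpr hm
  calc q - 1 = (q - 1) * 1 := (mul_one _).symm
    _ ≤ (q - 1) * finrank ℂ ↥(fixedSp ρ (Zsub σ v h.uu) ⊓ wtSp ρ (Zsub σ v' h'.uu) χ) :=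
        Nat.mul_le_mul_left _ h1m
    _ ≤ finrank ℂ (fixedSp ρ (Zsub σ v h.uu)) := by rw [key]; exact Nat.le_add_left _ _

end T

end Cfsg.Agent.Lib.Helper43.SUMD
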