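import Mathlib
import Cfsg.Agent.Lib.Helper22.S1936Defs
import Cfsg.Agent.Lib.Helper25.S1936Theta
import Cfsg.Agent.Lib.Helper39.S1936Loc

/-!
# S1936 SIGF-[BAL] (sheet B4): balance for commuting involutions; SIGF-[FUN]: `θ` is a solvable
`Ω₁(T)`-signalizer functor.  Exact skeleton statements (`notes/helper22_S1936_modules.lean.txt`).
-/

set_option autoImplicit false
universe u
open Cfsg.Agent.Lib.Helper22.S1936

namespace Cfsg.Agent.Lib.Helper52.S1936

variable {G : Type u} [Group G] [Finite G] {p : ℕ} [Fact p.Prime]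

/-- In a `MinCE` the centralizer of a nontrivial element is a proper subgroup. -/
theorem centralizer_ne_top_of_minCE (hG : MinCE p G) {b : G} (hb : b ≠ 1) :
    Subgroup.centralizer ({b} : Set G) ≠ ⊤ := by
  intro htop
  have hbz : b ∈ Subgroup.center G := by
    rw [Subgroup.mem_center_iff]
    intro g
    have hg : g ∈ Subgroup.centralizer ({b} : Set G) := by rw [htop]; trivial
    have := Subgroup.mem_centralizer_iff.mp hg b rfl
    exact this.symm
  haveI := hG.simple
  rcases (Subgroup.center G).normal_of_characteristic.eq_bot_or_eq_top with h | h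
  · rw [h, Subgroup.mem_bot] at hbz
    exact hb hbz
  · apply hG.nonsolv
    have hc : ∀ x y : G, x * y = y * x := by
      intro x y
      have hy : y ∈ Subgroup.center G := by rw [h]; trivial
      exact (Subgroup.mem_center_iff.mp hy) x
    exact isSolvable_of_comm hc

theorem minCE_hab (hG : MinCE p G) :
    ∀ L : Subgroup G, (Nat.card L).Coprime p → IsMulCommutative L :=
  fun L hL => (hG.hp L hL).1

/-- SIGF-[BAL] (B4): balance for commuting involutions. -/
theorem theta_balance (hG : MinCE p G) {a b : G} (ha : orderOf a = 2) (hb : orderOf b = 2)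
    (hab : a * b = b * a) :
    theta p a ⊓ Subgroup.centralizer ({b} : Set G) ≤ theta p b := by
  have hpp : p.Prime := Fact.out
  have hb1 : b ≠ 1 := by
    intro h; rw [h, orderOf_one] at hb; omega
  set Hs : Subgroup G := Subgroup.centralizer ({b} : Set G) with hHs
  have hHtop : Hs ≠ ⊤ := centralizer_ne_top_of_minCE hG hb1
  haveI : Group.IsSolvable Hs := hG.proper Hs hHtop
  have haH : a ∈ Hs := by
    rw [hHs, Subgroup.mem_centralizer_iff]
    intro y hy
    rw [Set.mem_singleton_iff] at hy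
    subst hy
    exact hab.symm
  have hVH : Subgroup.zpowers a ≤ Hs := by
    rw [Subgroup.zpowers_le]; exact haH
  have hVc : (Nat.card (Subgroup.zpowers a)).Coprime p := by
    rw [Nat.card_zpowers, ha]
    have h5 := hG.hp5
    rw [Nat.coprime_comm, Nat.Prime.coprime_iff_not_dvd hpp]
    intro h2
    have := Nat.le_of_dvd (by norm_num) h2
    omega
  obtain ⟨K, hK, hVK⟩ :=
    Cfsg.Agent.Lib.Helper39.S1936Loc.exists_isHallComplIn_ge p Hs (Subgroup.zpowers a) hVH hVc
  have haK : a ∈ K := hVK (Subgroup.mem_zpowers a)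
  have hKcomm : IsMulCommutative K := minCE_hab hG K hK.2.1
  have hKa : K ≤ Subgroup.centralizer ({a} : Set G) := by
    intro k hk
    rw [Subgroup.mem_centralizer_iff]
    intro y hy
    rw [Set.mem_singleton_iff] at hy
    subst hy
    have h2 : (⟨y, haK⟩ : K) * ⟨k, hk⟩ = ⟨k, hk⟩ * ⟨y, haK⟩ := mul_comm' _ _
    exact congrArg Subtype.val h2
  have hX : IsPGroup p ↥(theta p a ⊓ Hs) :=
    (Cfsg.Agent.Lib.Helper25.S1936.theta_isPGroup (p := p) a).to_le inf_le_left
  have hKX : K ≤ Subgroup.normalizer ((theta p a ⊓ Hs : Subgroup G) : Set G) := by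
    intro k hk
    have h1 : k ∈ Subgroup.normalizer ((theta p a : Subgroup G) : Set G) :=
      Cfsg.Agent.Lib.Helper25.S1936.centralizer_le_normalizer_theta (p := p) a (hKa hk)
    have h2 : k ∈ Hs := hK.1 hk
    rw [Subgroup.mem_normalizer_iff] at h1 ⊢
    intro x
    rw [Subgroup.mem_inf, Subgroup.mem_inf, ← h1 x]
    constructor
    · rintro ⟨hx1, hx2⟩
      exact ⟨hx1, Hs.mul_mem (Hs.mul_mem h2 hx2) (Hs.inv_mem h2)⟩
    · rintro ⟨hx1, hx2⟩
      refine ⟨hx1, ?_⟩
      have : x = k⁻¹ * (k * x * k⁻¹) * k := by group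
      rw [this]
      exact Hs.mul_mem (Hs.mul_mem (Hs.inv_mem h2) hx2) h2
  exact Cfsg.Agent.Lib.Helper39.S1936Loc.A4_rel p (minCE_hab hG) Hs hK inf_le_right hX hKX

end Cfsg.Agent.Lib.Helper52.S1936
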