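import Mathlib
import Cfsg.Prelude.Def_Amalgam
import Cfsg.Agent.Lib.Helper68.AmalBDefs
import Cfsg.Agent.Lib.Helper68.AmalBTools

/-!
# S2751 GSB-[BE-ARC1] `arcTrans_one` (hedge by helper52; exact stub statement of
`Lib/Helper68/AmalBStubs.lean.txt`, name suffixed `_h52` to stay fresh)
-/

set_option autoImplicit false

namespace Cfsg.Agent.Lib.Helper68.AmalB

open Cfsg Cfsg.Agent.Lib.Helper12.Amal Cfsg.Agent.Lib.Helper68.AmalD Cfsg.Agent.Lib.Helper68.AmalW

variable {G : Type*} [Group G] {P₁ P₂ : Subgroup G}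

/-- **[BE-ARC1]** `G` is transitive on the `1`-arcs with last vertex of a given type -/
theorem arcTrans_one_h52 (hB : BaseB P₁ P₂) (ty : Prop) : ArcTrans P₁ P₂ 1 ty := by
  intro p q hp hq hpt hqt
  have hp01 : (cosetGraph P₁ P₂).Adj (p 0) (p 1) := hp.1 0 (by norm_num)
  have hq01 : (cosetGraph P₁ P₂).Adj (q 0) (q 1) := hq.1 0 (by norm_num)
  obtain ⟨g, hg | hg⟩ := hB.W.edge_trans (p 0) (p 1) (q 0) (q 1) hp01 hq01
  · refine ⟨g, fun i hi => ?_⟩
    interval_cases i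
    · exact hg.1
    · exact hg.2
  · exfalso
    have h1 : IsB (q 0) ↔ ty := by
      rw [← hg.2, IsB_smul hB.W]; exact hpt
    have h2 : IsB (q 0) ↔ ¬ IsB (q 1) := hB.adj_type _ _ hq01
    rw [hqt] at h2
    rw [h1] at h2
    by_cases h : ty
    · exact (h2.mp h) h
    · exact h (h2.mpr h)

end Cfsg.Agent.Lib.Helper68.AmalB
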