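import Mathlib
import Cfsg.Prelude.Def_Amalgam
import Cfsg.Agent.Lib.Helper68.AmalBDefs
import Cfsg.Agent.Lib.Helper68.AmalBTools
import Cfsg.Agent.Lib.Helper19.AmalBP2b
import Cfsg.Agent.Lib.Helper9.PGroupLemmas

/-!
# S2751 GSB-[FIX] `eq_bot_of_centralized` (hedge by helper52; exact stub statement of
`Lib/Helper68/AmalBStubs.lean.txt`, names suffixed `_h52` to stay fresh).  Contains its own copy of
`Za_fix_le` (P2c) so that it only depends on P2a/P2b.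
-/

set_option autoImplicit false

namespace Cfsg.Agent.Lib.Helper68.AmalB

open Cfsg Cfsg.Agent.Lib.Helper12.Amal Cfsg.Agent.Lib.Helper68.AmalD Cfsg.Agent.Lib.Helper68.AmalW

variable {G : Type*} [Group G] {P₁ P₂ : Subgroup G}

/-- `C_{Z_x}(t) ≤ Z_y` for `t ∈ T_xy ∖ Q_x` (copy of P2c `Za_fix_le`, without `IsB y`) -/
theorem Za_fix_le_h52 (hW : BaseW P₁ P₂) {x y : CosetVertex P₁ P₂}
    (hxy : (cosetGraph P₁ P₂).Adj x y) {t z : G} (ht : t ∈ Gv x ⊓ Gv y)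
    (htQ : t ∉ Qv x) (hz : z ∈ Zv x) (hc : t * z = z * t) : z ∈ Zv y := by
  have hzT : z ∈ Zv x ⊓ Subgroup.centralizer ((Gv x ⊓ Gv y : Subgroup G) : Set G) := by
    refine ⟨hz, ?_⟩
    show z ∈ Subgroup.centralizer ((Gv x ⊓ Gv y : Subgroup G) : Set G)
    rw [Subgroup.mem_centralizer_iff]
    intro s hs
    by_cases hsQ : s ∈ Qv x
    · exact Q_comm_Z hW hsQ hz
    · have hq : t⁻¹ * s ∈ Qv x := hW.mul_mem_Q x y hxy t s ht htQ hs hsQ
      have h1 : (t⁻¹ * s) * z = z * (t⁻¹ * s) := Q_comm_Z hW hq hz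
      have h2 : s = t * (t⁻¹ * s) := by group
      rw [h2, mul_assoc, h1, ← mul_assoc, hc, mul_assoc]
  have h3 := hW.Z_cent_T x y hxy hzT
  rw [← hW.Z_inf x y hxy] at h3
  exact h3.2

/-- **[B-FIX]** -/
theorem eq_bot_of_centralized_h52 (hB : BaseB P₁ P₂) {x y₁ y₂ : CosetVertex P₁ P₂} (hx : ¬ IsB x)
    (h₁ : (cosetGraph P₁ P₂).Adj x y₁) (h₂ : (cosetGraph P₁ P₂).Adj x y₂) (hne : y₁ ≠ y₂)
    {N : Subgroup G} (hN : N ≤ Qv x)
    (hnorm : Gv x ⊓ Gv y₁ ≤ Subgroup.normalizer (N : Set G))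
    {t : G} (ht : t ∈ Gv x ⊓ Gv y₂) (htQ : t ∉ Qv x) (hc : ∀ n ∈ N, t * n = n * t) : N = ⊥ := by
  have hW := hB.W
  by_contra hNbot
  haveI := hW.fin x
  set T : Subgroup G := Gv x ⊓ Gv y₁ with hT
  haveI : Finite ↥T := Finite.of_injective _ (Subgroup.inclusion_injective inf_le_left)
  have hT2 : IsPGroup 2 ↥T := hW.T_two x y₁ h₁
  have hNT : N ≤ T := hN.trans (Q_le_T hW h₁)
  haveI : Fact (Nat.Prime 2) := ⟨Nat.prime_two⟩
  haveI hnormal : (N.subgroupOf T).Normal := by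
    constructor
    intro n hn g
    rw [Subgroup.mem_subgroupOf] at hn ⊢
    have hg := hnorm g.2
    rw [Subgroup.mem_normalizer_iff] at hg
    have := (hg (n : G)).mp hn
    simpa using this
  have hne' : N.subgroupOf T ≠ ⊥ := by
    intro h
    apply hNbot
    rw [Subgroup.subgroupOf_eq_bot] at h
    rw [eq_bot_iff]
    intro n hn
    have : n ∈ N ⊓ T := ⟨hn, hNT hn⟩
    have hd : Disjoint N T := h
    rw [disjoint_iff] at hd
    rw [hd] at this
    exact this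
  obtain ⟨z, hzN, hz1, hzc⟩ :=
    Cfsg.Agent.Lib.Helper9.exists_ne_one_mem_center_of_normal hT2 (N.subgroupOf T) hne'
  -- the subgroup `C = N ⊓ T ⊓ C(T)` is a nontrivial 2-group
  set C : Subgroup G := N ⊓ (T ⊓ Subgroup.centralizer (T : Set G)) with hC
  have hzC : (z : G) ∈ C := by
    refine ⟨hzN, z.2, ?_⟩
    show (z : G) ∈ Subgroup.centralizer (T : Set G)
    rw [Subgroup.mem_centralizer_iff]
    intro s hs
    have := (Subgroup.mem_center_iff.mp hzc) ⟨s, hs⟩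
    exact congrArg Subtype.val this
  have hCT : C ≤ T := inf_le_right.trans inf_le_left
  haveI : Finite ↥C := Finite.of_injective _ (Subgroup.inclusion_injective hCT)
  have hC2 : IsPGroup 2 ↥C := hT2.to_le hCT
  have hCnt : Nontrivial ↥C := by
    refine ⟨⟨⟨z, hzC⟩, 1, ?_⟩⟩
    intro h
    apply hz1
    have := congrArg Subtype.val h
    exact Subtype.ext this
  obtain ⟨k, hk0, hk⟩ := hC2.nontrivial_iff_card.mp hCnt
  have h2dvd : 2 ∣ Nat.card ↥C := by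
    rw [hk]; exact dvd_pow_self 2 (ne_of_gt hk0)
  obtain ⟨u, hu⟩ := exists_prime_orderOf_dvd_card' 2 h2dvd
  have hu1 : (u : G) ≠ 1 := by
    intro h
    have : u = 1 := Subtype.ext h
    rw [this, orderOf_one] at hu
    norm_num at hu
  have husq : (u : G) ^ 2 = 1 := by
    have : u ^ 2 = 1 := by rw [← hu]; exact pow_orderOf_eq_one u
    exact congrArg Subtype.val this
  have huN : (u : G) ∈ N := u.2.1
  have huZT : (u : G) ∈ ZT T := Subgroup.subset_closure ⟨u.2.2, husq⟩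
  rw [hT, ← hW.Z_inf x y₁ h₁] at huZT
  have hy₂ : IsB y₂ := isB_of_adj_of_not hB h₂ hx
  have hu2 : (u : G) ∈ Zv y₂ := Za_fix_le_h52 hW h₂ ht htQ huZT.1 (hc _ huN)
  have hbot := Za_inf hB hx h₁ h₂ hne
  have : (u : G) ∈ Zv y₁ ⊓ Zv y₂ := ⟨huZT.2, hu2⟩
  rw [hbot] at this
  exact hu1 this

end Cfsg.Agent.Lib.Helper68.AmalB
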