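import Mathlib
import Cfsg.Prelude.Def_GeometricClasses
import Cfsg.Agent.Lib.Helper99.AschDefs
import Cfsg.Agent.Lib.Helper99.AschUtil3
import Cfsg.Agent.Lib.Helper39.AschC3
import Cfsg.Agent.Lib.Helper5.AschODefs

/-!
# Project ASCHO (helper5), module [C3] (helper52), `_of` form

`geoO_of_normalized_field_of` : the statement of ASCHO-[C3] with the conclusion of ASCHO-[SELFADJ]
(`IsSelfAdjointFor (polar Q) (commutantCenter N)`) as an extra hypothesis.
-/

set_option autoImplicit false

namespace Cfsg.Agent.Lib.Helper52.AschOC3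

open Cfsg Cfsg.Geo Cfsg.Agent.Lib.Helper99.Asch Cfsg.Agent.Lib.Helper5.AschO Module
open scoped MatrixGroups Matrix Kronecker

variable {n : ℕ} {F : Type*} [Field F] [Fintype F]

/-- nondegeneracy: the right argument is determined by the functional -/
theorem eq_of_polar_eq {Q : (Fin n → F) → F} (hQ : IsNondegenerateQuadraticForm Q)
    {w w' : Fin n → F}
    (h : ∀ u, QuadraticMap.polar Q u w = QuadraticMap.polar Q u w') : w = w' := by
  by_contra hne
  have hne' : w - w' ≠ 0 := sub_ne_zero.mpr hne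
  obtain ⟨⟨x, hx⟩, _⟩ := hQ.nondegenerate (w - w') hne'
  apply hx
  have h1 := hQ.polar_bilinear.add_right x (w - w') w'
  rw [sub_add_cancel, h x] at h1
  have h2 : QuadraticMap.polar Q x (w - w') + QuadraticMap.polar Q x w' =
      0 + QuadraticMap.polar Q x w' := by rw [zero_add]; exact h1.symm
  exact add_right_cancel h2

/-- elements of `H ⊔ scalars` are similarities with a square multiplier -/
theorem exists_sq_similarity {Q : (Fin n → F) → F} {H : Subgroup (GL (Fin n) F)} (hS : OSetup Q H)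
    {x : GL (Fin n) F} (hx : x ∈ H ⊔ scalars (Fin n) F) :
    ∃ z : F, z ≠ 0 ∧ ∀ u v, QuadraticMap.polar Q ((x : Matrix (Fin n) (Fin n) F) *ᵥ u)
      ((x : Matrix (Fin n) (Fin n) F) *ᵥ v) = z ^ 2 * QuadraticMap.polar Q u v := by
  have hmem : x ∈ ((H ⊔ scalars (Fin n) F : Subgroup (GL (Fin n) F)) : Set (GL (Fin n) F)) := hx
  rw [Subgroup.mul_normal] at hmem
  obtain ⟨h, hh, ζ, hζ, rfl⟩ := Set.mem_mul.1 hmem
  obtain ⟨c, hc⟩ := (mem_scalars_iff ζ).1 hζ
  refine ⟨(c : F), c.ne_zero, ?_⟩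
  intro u v
  have hiso : ∀ u, Q ((h : Matrix (Fin n) (Fin n) F) *ᵥ u) = Q u := fun u => hS.le hh u u
  have hpol : ∀ u v, QuadraticMap.polar Q ((h : Matrix (Fin n) (Fin n) F) *ᵥ u)
      ((h : Matrix (Fin n) (Fin n) F) *ᵥ v) = QuadraticMap.polar Q u v := by
    intro u v
    unfold QuadraticMap.polar
    rw [← Matrix.mulVec_add, hiso, hiso, hiso]
  have hxu : ∀ u, ((h * ζ : GL (Fin n) F) : Matrix (Fin n) (Fin n) F) *ᵥ u =
      (h : Matrix (Fin n) (Fin n) F) *ᵥ ((c : F) • u) := by
    intro u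
    rw [Units.val_mul, hc, Matrix.mul_smul, Matrix.mul_one, Matrix.smul_mulVec,
      Matrix.mulVec_smul]
  rw [hxu, hxu, hpol, hS.nondeg.polar_bilinear.smul_left, hS.nondeg.polar_bilinear.smul_right]
  ring

/-- ASCHO-[C3] with the conclusion of ASCHO-[SELFADJ] as a hypothesis -/
theorem geoO_of_normalized_field_of {Q : (Fin n → F) → F} {H : Subgroup (GL (Fin n) F)}
    (hS : OSetup Q H)
    (N : Subgroup (GL (Fin n) F)) (hnrm : Nrm H N) (hNle : N ≤ H ⊔ scalars (Fin n) F)
    (hinv : ∀ x ∈ commutantCenter N, x ≠ 0 → ∃ y ∈ commutantCenter N, x * y = 1)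
    (hbig : ∃ x ∈ commutantCenter N, ∀ c : F, x ≠ c • (1 : Matrix (Fin n) (Fin n) F))
    (hSA : IsSelfAdjointFor (QuadraticMap.polar Q) (commutantCenter N)) :
    GeoO Q H := by
  classical
  have hcomm : ∀ x ∈ commutantCenter N, ∀ y ∈ commutantCenter N, x * y = y * x := by
    intro a ha b hb
    have hb' : b ∈ Subalgebra.centralizer F (commutant N : Set (Matrix (Fin n) (Fin n) F)) := hb.2
    have ha' : a ∈ commutant N := ha.1
    exact (Subalgebra.mem_centralizer_iff F).mp hb' a ha'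
  have hnorm := Cfsg.Agent.Lib.Helper99.AschUtil.normalizes_commutantCenter H N hnrm
  have hn0 : 0 < n := by have := hS.three_le; omega
  generalize hK : commutantCenter N = K at hinv hbig hSA hcomm hnorm
  -- the matrix ring is nontrivial
  have hnt : Nontrivial (Matrix (Fin n) (Fin n) F) := by
    by_contra hnt
    rw [not_nontrivial_iff_subsingleton] at hnt
    obtain ⟨x, -, hx⟩ := hbig
    exact hx 0 (Subsingleton.elim _ _)
  -- `K` is a field
  have hKfield : IsField K := by
    refine ⟨⟨0, 1, ?_⟩, ?_, ?_⟩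
    · intro h01
      have := congrArg (Subtype.val) h01
      exact zero_ne_one this
    · intro x y
      exact Subtype.ext (hcomm x x.2 y y.2)
    · intro a ha
      have ha' : (a : Matrix (Fin n) (Fin n) F) ≠ 0 := fun h0 => ha (Subtype.ext h0)
      obtain ⟨y, hyK, hy⟩ := hinv a a.2 ha'
      exact ⟨⟨y, hyK⟩, Subtype.ext hy⟩
  haveI : Nontrivial K := ⟨⟨0, 1, fun h01 => zero_ne_one (congrArg Subtype.val h01)⟩⟩
  -- the degree
  have hs1 : finrank F K ≠ 1 := by
    intro h1
    rw [Subalgebra.finrank_eq_one_iff] at h1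
    obtain ⟨x, hxK, hx⟩ := hbig
    rw [h1, Algebra.mem_bot] at hxK
    obtain ⟨c, rfl⟩ := hxK
    exact hx c (by rw [Algebra.algebraMap_eq_smul_one])
  have hspos : 0 < finrank F K := Module.finrank_pos
  -- left inverses, no zero divisors
  have hinv' : ∀ x ∈ K, x ≠ 0 → ∃ y ∈ K, y * x = 1 := by
    intro x hx h0
    obtain ⟨y, hy, hxy⟩ := hinv x hx h0
    exact ⟨y, hy, by rw [hcomm y hy x hx]; exact hxy⟩
  have hnzd : ∀ a ∈ K, ∀ b ∈ K, a * b = 0 → a = 0 ∨ b = 0 := by
    intro a ha b _ hab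
    by_cases ha0 : a = 0
    · exact Or.inl ha0
    · right
      obtain ⟨y, _, hya⟩ := hinv' a ha ha0
      calc b = (y * a) * b := by rw [hya, one_mul]
        _ = y * (a * b) := by rw [mul_assoc]
        _ = 0 := by rw [hab, mul_zero]
  -- the evaluation map at a non-zero vector
  let i₀ : Fin n := ⟨0, hn0⟩
  let v₀ : Fin n → F := Pi.single i₀ 1
  have hv₀ : v₀ ≠ 0 := by
    intro h
    have := congrFun h i₀
    simp [v₀] at this
  let φ : K →ₗ[F] (Fin n → F) :=
    { toFun := fun k => (k : Matrix (Fin n) (Fin n) F) *ᵥ v₀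
      map_add' := by intro a b; simp [Matrix.add_mulVec]
      map_smul' := by intro c a; simp [Matrix.smul_mulVec] }
  have hφ : ∀ k : K, φ k = (k : Matrix (Fin n) (Fin n) F) *ᵥ v₀ := fun k => rfl
  have hφinj : Function.Injective φ := by
    rw [← LinearMap.ker_eq_bot, LinearMap.ker_eq_bot']
    intro k hk
    by_contra hk0
    have hk0' : (k : Matrix (Fin n) (Fin n) F) ≠ 0 := fun h => hk0 (Subtype.ext h)
    obtain ⟨y, _, hyk⟩ := hinv' k k.2 hk0'
    apply hv₀
    calc v₀ = (y * (k : Matrix (Fin n) (Fin n) F)) *ᵥ v₀ := by rw [hyk, Matrix.one_mulVec]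
      _ = y *ᵥ ((k : Matrix (Fin n) (Fin n) F) *ᵥ v₀) := by rw [Matrix.mulVec_mulVec]
      _ = 0 := by rw [← hφ, hk, Matrix.mulVec_zero]
  have hsle : finrank F K ≤ n := by
    have := LinearMap.finrank_le_finrank_of_injective hφinj
    rwa [Module.finrank_fin_fun] at this
  -- the degree is not `n`
  have hsn : finrank F K ≠ n := by
    intro hsn
    have hφsurj : Function.Surjective φ :=
      (LinearMap.injective_iff_surjective_of_finrank_eq_finrank
        (by rw [hsn, Module.finrank_fin_fun])).1 hφinj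
    -- the centralizer of `K` is `K`
    have hcent : ∀ c : Matrix (Fin n) (Fin n) F, (∀ k ∈ K, c * k = k * c) → c ∈ K := by
      intro c hc
      obtain ⟨k₀, hk₀⟩ := hφsurj (c *ᵥ v₀)
      have : c = (k₀ : Matrix (Fin n) (Fin n) F) := by
        apply Matrix.mulVec_injective
        funext v
        obtain ⟨k, rfl⟩ := hφsurj v
        rw [hφ, Matrix.mulVec_mulVec, hc k k.2, ← Matrix.mulVec_mulVec, ← hk₀, hφ,
          Matrix.mulVec_mulVec, Matrix.mulVec_mulVec, hcomm k k.2 k₀ k₀.2]
      rw [this]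
      exact k₀.2
    -- `N ⊆ K`
    have hNK : ∀ x ∈ N, (x : Matrix (Fin n) (Fin n) F) ∈ K := by
      intro x hx
      apply hcent
      intro k hk
      rw [← hK] at hk
      have hk1 : k ∈ commutant N := hk.1
      unfold commutant at hk1
      rw [Subalgebra.mem_centralizer_iff] at hk1
      exact hk1 _ ⟨x, hx, rfl⟩
    -- every element of `N` is scalar
    have hNsc : N ≤ scalars (Fin n) F := by
      intro x hx
      obtain ⟨z, hz0, hz⟩ := exists_sq_similarity hS (hNle hx)
      have hxK := hNK x hx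
      have hxx : (x : Matrix (Fin n) (Fin n) F) * (x : Matrix (Fin n) (Fin n) F) =
          (z ^ 2) • (1 : Matrix (Fin n) (Fin n) F) := by
        apply Matrix.mulVec_injective
        funext v
        apply eq_of_polar_eq hS.nondeg
        intro u
        rw [← Matrix.mulVec_mulVec, ← hSA _ hxK, hz, Matrix.smul_mulVec, Matrix.one_mulVec,
          hS.nondeg.polar_bilinear.smul_right]
      have hcz : Commute (x : Matrix (Fin n) (Fin n) F) (z • (1 : Matrix (Fin n) (Fin n) F)) :=
        (Commute.one_right _).smul_right z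
      have hfac : ((x : Matrix (Fin n) (Fin n) F) - z • (1 : Matrix (Fin n) (Fin n) F)) *
          ((x : Matrix (Fin n) (Fin n) F) + z • (1 : Matrix (Fin n) (Fin n) F)) = 0 := by
        rw [← hcz.mul_self_sub_mul_self_eq', hxx, Matrix.smul_mul, Matrix.one_mul, smul_smul,
          ← pow_two, sub_self]
      have hz1 : z • (1 : Matrix (Fin n) (Fin n) F) ∈ K := K.smul_mem K.one_mem z
      rw [mem_scalars_iff]
      rcases hnzd _ (K.sub_mem hxK hz1) _ (K.add_mem hxK hz1) hfac with h1 | h1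
      · exact ⟨Units.mk0 z hz0, by rw [Units.val_mk0]; exact sub_eq_zero.1 h1⟩
      · exact ⟨Units.mk0 (-z) (neg_ne_zero.2 hz0), by
          rw [Units.val_mk0, neg_smul]; exact eq_neg_of_add_eq_zero_left h1⟩
    -- contradiction with `hbig`
    obtain ⟨x₀, hx₀K, hx₀⟩ := hbig
    have hall : ∀ m : Matrix (Fin n) (Fin n) F, m ∈ commutant N := by
      intro m
      unfold commutant
      rw [Subalgebra.mem_centralizer_iff]
      rintro _ ⟨g, hg, rfl⟩
      obtain ⟨c, hc⟩ := (mem_scalars_iff g).1 (hNsc hg)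
      show (g : Matrix (Fin n) (Fin n) F) * m = m * (g : Matrix (Fin n) (Fin n) F)
      rw [hc, Matrix.smul_mul, Matrix.mul_smul, Matrix.one_mul, Matrix.mul_one]
    rw [← hK] at hx₀K
    have hx₀c : x₀ ∈ Subalgebra.centralizer F (commutant N : Set (Matrix (Fin n) (Fin n) F)) :=
      hx₀K.2
    rw [Subalgebra.mem_centralizer_iff] at hx₀c
    have hsc : x₀ ∈ Set.range (Matrix.scalar (Fin n)) := by
      apply Matrix.mem_range_scalar_of_commute_single
      intro i j _
      exact hx₀c _ (hall _)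
    obtain ⟨c, hc⟩ := hsc
    apply hx₀ c
    rw [← hc]
    simp [Matrix.smul_one_eq_diagonal]
  -- a prime divisor of the degree
  obtain ⟨r, hrp, hrs⟩ := Nat.exists_prime_and_dvd hs1
  have hrn : r < n := lt_of_le_of_lt (Nat.le_of_dvd hspos hrs) (lt_of_le_of_ne hsle hsn)
  obtain ⟨E, hEmem, hEr⟩ :=
    Cfsg.Agent.Lib.Helper39.AschC3.exists_fixed_subalgebra_of_isField hKfield r hrs
  set M : ℕ := Fintype.card F ^ r with hM
  set Kr : Subalgebra F (Matrix (Fin n) (Fin n) F) := E.map K.val with hKr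
  have hKrmem : ∀ y, y ∈ Kr ↔ y ∈ K ∧ y ^ M = y := by
    intro y
    rw [hKr, Subalgebra.mem_map]
    constructor
    · rintro ⟨x, hxE, rfl⟩
      refine ⟨x.2, ?_⟩
      have := (hEmem x).mp hxE
      have h2 := congrArg (Subtype.val) this
      simpa using h2
    · rintro ⟨hyK, hy⟩
      refine ⟨⟨y, hyK⟩, ?_, rfl⟩
      rw [hEmem]
      exact Subtype.ext (by simpa using hy)
  have hfield : IsFieldSubalgebra r Kr := by
    refine ⟨?_, ?_, ?_⟩
    · intro x hx y hy
      exact hcomm x ((hKrmem x).mp hx).1 y ((hKrmem y).mp hy).1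
    · intro x hx hx0
      obtain ⟨hxK, hxN⟩ := (hKrmem x).mp hx
      obtain ⟨y, hyK, hxy⟩ := hinv x hxK hx0
      refine ⟨y, (hKrmem y).mpr ⟨hyK, ?_⟩, hxy⟩
      have hc : Commute x y := hcomm x hxK y hyK
      have h1 : x * y ^ M = 1 := by
        have := hc.mul_pow M
        rw [hxy, one_pow, hxN] at this
        exact this.symm
      have hyx : y * x = 1 := by rw [← hc.eq]; exact hxy
      calc y ^ M = (y * x) * y ^ M := by rw [hyx, one_mul]
        _ = y * (x * y ^ M) := by rw [mul_assoc]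
        _ = y := by rw [h1, mul_one]
    · have e : E ≃ₐ[F] Kr := E.equivMapOfInjective K.val Subtype.val_injective
      rw [← hEr]
      exact (e.toLinearEquiv.finrank_eq).symm
  have hKrSA : IsSelfAdjointFor (QuadraticMap.polar Q) Kr := by
    intro k hk u v
    exact hSA k ((hKrmem k).mp hk).1 u v
  refine GeoO.of_3 hS.le r Kr hrp (by rw [Fintype.card_fin]; omega) hfield hKrSA ?_
  intro h hh
  show ∀ k : Matrix (Fin n) (Fin n) F, k ∈ Kr ↔ _
  intro k
  constructor
  · intro hk
    obtain ⟨hkK, hkN⟩ := (hKrmem k).mp hk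
    refine (hKrmem _).mpr ⟨hnorm h hh k hkK, ?_⟩
    rw [Cfsg.Agent.Lib.Helper39.AschC3.conj_pow_matrix, hkN]
  · intro hk
    obtain ⟨hkK, hkN⟩ := (hKrmem _).mp hk
    have hback : ∀ m : Matrix (Fin n) (Fin n) F,
        ((h⁻¹ : GL (Fin n) F) : Matrix (Fin n) (Fin n) F) *
          ((h : Matrix (Fin n) (Fin n) F) * m * ((h⁻¹ : GL (Fin n) F) : Matrix (Fin n) (Fin n) F)) *
          (((h⁻¹)⁻¹ : GL (Fin n) F) : Matrix (Fin n) (Fin n) F) = m := by
      intro m
      rw [inv_inv]
      have h1 : ((h⁻¹ : GL (Fin n) F) : Matrix (Fin n) (Fin n) F) *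
          (h : Matrix (Fin n) (Fin n) F) = 1 := by
        rw [← Units.val_mul, inv_mul_cancel, Units.val_one]
      calc _ = (((h⁻¹ : GL (Fin n) F) : Matrix (Fin n) (Fin n) F) *
            (h : Matrix (Fin n) (Fin n) F)) * m *
            (((h⁻¹ : GL (Fin n) F) : Matrix (Fin n) (Fin n) F) *
              (h : Matrix (Fin n) (Fin n) F)) := by
            simp only [mul_assoc]
        _ = m := by rw [h1, one_mul, mul_one]
    have hkK' := hnorm h⁻¹ (H.inv_mem hh) _ hkK
    rw [hback] at hkK'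
    refine (hKrmem k).mpr ⟨hkK', ?_⟩
    rw [Cfsg.Agent.Lib.Helper39.AschC3.conj_pow_matrix] at hkN
    have := congrArg (fun m => ((h⁻¹ : GL (Fin n) F) : Matrix (Fin n) (Fin n) F) * m *
          (((h⁻¹)⁻¹ : GL (Fin n) F) : Matrix (Fin n) (Fin n) F)) hkN
    simp only [hback] at this
    exact this

end Cfsg.Agent.Lib.Helper52.AschOC3
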