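import Mathlib

/-!
# Project ASCHO, module [KFORM] (helper52), part S: forms invariant under a spanning set of matrices

`A` a set of invertible `d × d` matrices spanning the full matrix algebra.  The matrices `β` with
`aᵀ β a = β` for all `a ∈ A` are `0` or invertible, any two are proportional, and for `d` odd
(`2 ≠ 0`) the invertible ones are symmetric.
-/

set_option autoImplicit false

namespace Cfsg.Agent.Lib.Helper52.AschOKForm

open scoped Matrix

variable {d : ℕ} {F : Type*} [Field F]

/-- `β` is invariant under every member of `A` -/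
def InvUnder (A : Set (Matrix (Fin d) (Fin d) F)) (β : Matrix (Fin d) (Fin d) F) : Prop :=
  ∀ a ∈ A, aᵀ * β * a = β

theorem InvUnder.transpose {A : Set (Matrix (Fin d) (Fin d) F)} {β : Matrix (Fin d) (Fin d) F}
    (h : InvUnder A β) : InvUnder A βᵀ := by
  intro a ha
  have := congrArg Matrix.transpose (h a ha)
  rw [Matrix.transpose_mul, Matrix.transpose_mul, Matrix.transpose_transpose] at this
  rw [mul_assoc]
  exact this

theorem InvUnder.smul {A : Set (Matrix (Fin d) (Fin d) F)} {β : Matrix (Fin d) (Fin d) F}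
    (h : InvUnder A β) (c : F) : InvUnder A (c • β) := by
  intro a ha
  rw [Matrix.mul_smul, Matrix.smul_mul, h a ha]

/-- a non-zero invariant matrix is invertible -/
theorem isUnit_det_of_invUnder {A : Set (Matrix (Fin d) (Fin d) F)}
    (hAu : ∀ a ∈ A, IsUnit a.det)
    (hspan : ∀ m : Matrix (Fin d) (Fin d) F, m ∈ Submodule.span F A)
    {β : Matrix (Fin d) (Fin d) F} (hβ : InvUnder A β) (h0 : β ≠ 0) : IsUnit β.det := by
  rw [isUnit_iff_ne_zero]
  intro hdet
  obtain ⟨u, hu, hβu⟩ := Matrix.exists_mulVec_eq_zero_iff.2 hdet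
  have key : ∀ m : Matrix (Fin d) (Fin d) F, β *ᵥ (m *ᵥ u) = 0 := by
    intro m
    have hm := hspan m
    induction hm using Submodule.span_induction with
    | mem a ha =>
      have h1 : aᵀ *ᵥ (β *ᵥ (a *ᵥ u)) = 0 := by
        rw [Matrix.mulVec_mulVec, Matrix.mulVec_mulVec, hβ a ha, hβu]
      have hdet' : IsUnit (aᵀ).det := by rw [Matrix.det_transpose]; exact hAu a ha
      have hinj := Matrix.mulVec_injective_of_isUnit ((Matrix.isUnit_iff_isUnit_det _).2 hdet')
      exact hinj (by rw [h1, Matrix.mulVec_zero])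
    | zero => rw [Matrix.zero_mulVec, Matrix.mulVec_zero]
    | add x y _ _ hx hy => rw [Matrix.add_mulVec, Matrix.mulVec_add, hx, hy, add_zero]
    | smul c x _ hx => rw [Matrix.smul_mulVec, Matrix.mulVec_smul, hx, smul_zero]
  obtain ⟨j, hj⟩ : ∃ j, u j ≠ 0 := by
    by_contra hcon
    push_neg at hcon
    exact hu (funext hcon)
  apply h0
  apply Matrix.mulVec_injective
  funext v
  rw [Matrix.zero_mulVec]
  have hm : (Matrix.of fun r c => if c = j then v r * (u j)⁻¹ else 0 :
      Matrix (Fin d) (Fin d) F) *ᵥ u = v := by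
    funext r
    simp only [Matrix.mulVec, dotProduct, Matrix.of_apply, ite_mul, zero_mul,
      Finset.sum_ite_eq', Finset.mem_univ, if_true]
    rw [mul_assoc, inv_mul_cancel₀ hj, mul_one]
  rw [← hm]
  exact key _

/-- two invariant matrices are proportional -/
theorem exists_smul_of_invUnder {A : Set (Matrix (Fin d) (Fin d) F)}
    (hAu : ∀ a ∈ A, IsUnit a.det)
    (hspan : ∀ m : Matrix (Fin d) (Fin d) F, m ∈ Submodule.span F A)
    {β₁ β₂ : Matrix (Fin d) (Fin d) F} (h₁ : InvUnder A β₁) (hu : IsUnit β₁.det)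
    (h₂ : InvUnder A β₂) : ∃ c : F, β₂ = c • β₁ := by
  have hβC : β₁ * (β₁⁻¹ * β₂) = β₂ := by
    rw [← mul_assoc, Matrix.mul_nonsing_inv _ hu, one_mul]
  generalize β₁⁻¹ * β₂ = C at hβC
  have key : ∀ m : Matrix (Fin d) (Fin d) F, m * C = C * m := by
    intro m
    have hm := hspan m
    induction hm using Submodule.span_induction with
    | mem a ha =>
      have hdet : IsUnit (aᵀ * β₁).det := by
        rw [Matrix.det_mul, Matrix.det_transpose]
        exact (hAu a ha).mul hu
      have e1 : (aᵀ * β₁) * (a * C) = β₂ := by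
        calc (aᵀ * β₁) * (a * C) = (aᵀ * β₁ * a) * C := by simp only [mul_assoc]
          _ = β₂ := by rw [h₁ a ha, hβC]
      have e2 : (aᵀ * β₁) * (C * a) = β₂ := by
        calc (aᵀ * β₁) * (C * a) = aᵀ * (β₁ * C) * a := by simp only [mul_assoc]
          _ = β₂ := by rw [hβC, h₂ a ha]
      calc a * C = (aᵀ * β₁)⁻¹ * ((aᵀ * β₁) * (a * C)) := by
            rw [← mul_assoc, Matrix.nonsing_inv_mul _ hdet, one_mul]
        _ = (aᵀ * β₁)⁻¹ * ((aᵀ * β₁) * (C * a)) := by rw [e1, e2]
        _ = C * a := by rw [← mul_assoc, Matrix.nonsing_inv_mul _ hdet, one_mul]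
    | zero => rw [zero_mul, mul_zero]
    | add x y _ _ hx hy => rw [add_mul, mul_add, hx, hy]
    | smul c x _ hx => rw [Matrix.smul_mul, Matrix.mul_smul, hx]
  have hsc : C ∈ Set.range (Matrix.scalar (Fin d)) := by
    apply Matrix.mem_range_scalar_of_commute_single
    intro i j _
    exact key _
  obtain ⟨c, hc⟩ := hsc
  refine ⟨c, ?_⟩
  rw [← hβC, ← hc, Matrix.scalar_apply, ← Matrix.smul_eq_mul_diagonal]

/-- in odd dimension an invertible invariant matrix is symmetric -/
theorem transpose_eq_of_invUnder {A : Set (Matrix (Fin d) (Fin d) F)}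
    (hAu : ∀ a ∈ A, IsUnit a.det)
    (hspan : ∀ m : Matrix (Fin d) (Fin d) F, m ∈ Submodule.span F A)
    (hd : Odd d) (h2 : (2 : F) ≠ 0)
    {β : Matrix (Fin d) (Fin d) F} (hβ : InvUnder A β) (hu : IsUnit β.det) : βᵀ = β := by
  obtain ⟨ε, hε⟩ := exists_smul_of_invUnder hAu hspan hβ hu hβ.transpose
  have h1 : β = ε • βᵀ := by
    have := congrArg Matrix.transpose hε
    rw [Matrix.transpose_transpose, Matrix.transpose_smul] at this
    exact this
  haveI : Nonempty (Fin d) := by
    obtain ⟨m, hm⟩ := hd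
    exact ⟨⟨0, by omega⟩⟩
  have hβ0 : β ≠ 0 := by
    intro h0
    rw [h0, Matrix.det_zero] at hu
    exact not_isUnit_zero hu
  have hεε : ε * ε = 1 := by
    have h3 : β = (ε * ε) • β := by
      conv_lhs => rw [h1, hε, smul_smul]
    have h4 : (ε * ε - 1) • β = 0 := by
      rw [sub_smul, one_smul, ← h3, sub_self]
    rcases smul_eq_zero.1 h4 with h5 | h5
    · exact sub_eq_zero.1 h5
    · exact absurd h5 hβ0
  rcases mul_self_eq_one_iff.1 hεε with h5 | h5
  · rw [hε, h5, one_smul]
  · exfalso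
    rw [h5, neg_one_smul] at hε
    have hdet : β.det = -β.det := by
      conv_lhs => rw [← Matrix.det_transpose, hε, Matrix.det_neg, Fintype.card_fin,
        Odd.neg_one_pow hd, neg_one_mul]
    have h6 : (2 : F) * β.det = 0 := by
      rw [two_mul]
      nth_rewrite 1 [hdet]
      exact neg_add_cancel _
    rcases mul_eq_zero.1 h6 with h7 | h7
    · exact h2 h7
    · rw [h7] at hu
      exact not_isUnit_zero hu

end Cfsg.Agent.Lib.Helper52.AschOKForm
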