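import Mathlib
import Cfsg.Prelude.Def_GeometricClasses
import Cfsg.Agent.Lib.Helper99.AschDefs
import Cfsg.Agent.Lib.Helper52.AschOKFormS

/-!
# Project ASCHO, module [KFORM] (helper52), part T: a Gram matrix on the `k`-fold tensor power
invariant under spanning sets of slot matrices is a scalar multiple of a tensor product
-/

set_option autoImplicit false

namespace Cfsg.Agent.Lib.Helper52.AschOKForm

open Cfsg Cfsg.Geo Cfsg.Agent.Lib.Helper99.Asch
open scoped Matrix

variable {k d : ℕ} {F : Type*} [Field F]

theorem slot_transpose (i : Fin k) (a : Matrix (Fin d) (Fin d) F) :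
    (slotMatrix i a)ᵀ = slotMatrix i aᵀ := by
  ext x y
  simp only [Matrix.transpose_apply, slotMatrix]
  by_cases h : ∀ j, j ≠ i → x j = y j
  · rw [if_pos h, if_pos (fun j hj => (h j hj).symm)]
  · rw [if_neg h, if_neg (fun h' => h (fun j hj => (h' j hj).symm))]

theorem sum_slot_mul (i : Fin k) (a : Matrix (Fin d) (Fin d) F) (x : Fin k → Fin d)
    (f : (Fin k → Fin d) → F) :
    ∑ y, slotMatrix i a x y * f y = ∑ t, a (x i) t * f (Function.update x i t) := by
  classical
  have himg : (Finset.univ.filter (fun y : Fin k → Fin d => ∀ j, j ≠ i → x j = y j)) =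
      Finset.univ.image (fun t => Function.update x i t) := by
    ext y
    simp only [Finset.mem_filter, Finset.mem_univ, true_and, Finset.mem_image]
    constructor
    · intro h
      refine ⟨y i, ?_⟩
      funext j
      by_cases hj : j = i
      · subst hj; simp
      · rw [Function.update_of_ne hj]; exact h j hj
    · rintro ⟨t, rfl⟩ j hj
      rw [Function.update_of_ne hj]
  calc ∑ y, slotMatrix i a x y * f y
      = ∑ y, (if (∀ j, j ≠ i → x j = y j) then a (x i) (y i) * f y else 0) := by
        refine Finset.sum_congr rfl (fun y _ => ?_)
        simp only [slotMatrix]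
        split_ifs <;> simp
    _ = ∑ y ∈ Finset.univ.filter (fun y : Fin k → Fin d => ∀ j, j ≠ i → x j = y j),
          a (x i) (y i) * f y := by
        rw [Finset.sum_filter]
    _ = ∑ y ∈ Finset.univ.image (fun t => Function.update x i t), a (x i) (y i) * f y := by
        rw [himg]
    _ = ∑ t, a (x i) (Function.update x i t i) * f (Function.update x i t) := by
        rw [Finset.sum_image]
        intro t _ t' _ h
        have := congrFun h i
        simpa using this
    _ = ∑ t, a (x i) t * f (Function.update x i t) := by
        simp only [Function.update_self]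

/-- the block of `G` in slot `i` with context `(x, y)` -/
def block (i : Fin k) (G : Matrix (Fin k → Fin d) (Fin k → Fin d) F) (x y : Fin k → Fin d) :
    Matrix (Fin d) (Fin d) F :=
  fun s t => G (Function.update x i s) (Function.update y i t)

theorem slot_conj_apply (i : Fin k) (a b : Matrix (Fin d) (Fin d) F)
    (G : Matrix (Fin k → Fin d) (Fin k → Fin d) F) (x y : Fin k → Fin d) :
    ((slotMatrix i a)ᵀ * G * slotMatrix i b) x y = (aᵀ * block i G x y * b) (x i) (y i) := by
  calc ((slotMatrix i a)ᵀ * G * slotMatrix i b) x y
      = ∑ y', (∑ x', slotMatrix i aᵀ x x' * G x' y') * slotMatrix i b y' y := by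
        rw [slot_transpose]
        simp only [Matrix.mul_apply]
    _ = ∑ y', slotMatrix i bᵀ y y' *
          (∑ s, aᵀ (x i) s * G (Function.update x i s) y') := by
        refine Finset.sum_congr rfl (fun y' _ => ?_)
        rw [sum_slot_mul i aᵀ x (fun x' => G x' y'), mul_comm]
        congr 1
        rw [← slot_transpose, Matrix.transpose_apply]
    _ = ∑ t, bᵀ (y i) t *
          (∑ s, aᵀ (x i) s * G (Function.update x i s) (Function.update y i t)) :=
        sum_slot_mul i bᵀ y (fun y' => ∑ s, aᵀ (x i) s * G (Function.update x i s) y')
    _ = (aᵀ * block i G x y * b) (x i) (y i) := by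
        simp only [Matrix.mul_apply, block, Matrix.transpose_apply]
        refine Finset.sum_congr rfl (fun t _ => ?_)
        rw [mul_comm]

theorem block_conj_eq (i : Fin k) (a : Matrix (Fin d) (Fin d) F)
    (G : Matrix (Fin k → Fin d) (Fin k → Fin d) F)
    (h : (slotMatrix i a)ᵀ * G * slotMatrix i a = G) (x y : Fin k → Fin d) :
    aᵀ * block i G x y * a = block i G x y := by
  ext s t
  have h1 := slot_conj_apply i a a G (Function.update x i s) (Function.update y i t)
  rw [h] at h1
  have hb : block i G (Function.update x i s) (Function.update y i t) = block i G x y := by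
    ext s' t'
    simp only [block, Function.update_idem]
  rw [hb, Function.update_self, Function.update_self] at h1
  exact h1.symm

/-- the product formula -/
theorem exists_slot_forms (hd : Odd d) (h2 : (2 : F) ≠ 0)
    (G : Matrix (Fin k → Fin d) (Fin k → Fin d) F) (s t : Fin k → Fin d) (hst : G s t ≠ 0)
    (A : Fin k → Set (Matrix (Fin d) (Fin d) F))
    (hAu : ∀ i, ∀ a ∈ A i, IsUnit a.det)
    (hspan : ∀ i, ∀ m : Matrix (Fin d) (Fin d) F, m ∈ Submodule.span F (A i))
    (hinv : ∀ i x y, InvUnder (A i) (block i G x y)) :
    ∃ (J : Fin k → Matrix (Fin d) (Fin d) F), (∀ i, (J i)ᵀ = J i) ∧ (∀ i, IsUnit (J i).det) ∧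
      (∀ i, InvUnder (A i) (J i)) ∧
      ∀ x y : Fin k → Fin d, G x y = G s t * ∏ i, J i (x i) (y i) := by
  classical
  have hM : ∀ i, block i G s t (s i) (t i) = G s t := by
    intro i
    simp only [block, Function.update_eq_self]
  have hM0 : ∀ i, block i G s t ≠ 0 := by
    intro i h0
    apply hst
    rw [← hM i, h0]
    rfl
  have hMu : ∀ i, IsUnit (block i G s t).det := fun i =>
    isUnit_det_of_invUnder (hAu i) (hspan i) (hinv i s t) (hM0 i)
  have hc : IsUnit (G s t) := isUnit_iff_ne_zero.2 hst
  refine ⟨fun i => (G s t)⁻¹ • block i G s t, ?_, ?_, ?_, ?_⟩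
  · intro i
    rw [Matrix.transpose_smul,
      transpose_eq_of_invUnder (hAu i) (hspan i) hd h2 (hinv i s t) (hMu i)]
  · intro i
    rw [Matrix.det_smul]
    exact (hc.inv.pow _).mul (hMu i)   -- placeholder
  · intro i
    exact (hinv i s t).smul _
  · -- single slot
    have hslot : ∀ i x y, G x y = ((G s t)⁻¹ • block i G s t) (x i) (y i) *
        G (Function.update x i (s i)) (Function.update y i (t i)) := by
      intro i x y
      obtain ⟨l, hl⟩ := exists_smul_of_invUnder (hAu i) (hspan i) (hinv i s t) (hMu i)
        (hinv i x y)
      have e1 : G (Function.update x i (s i)) (Function.update y i (t i)) = l * G s t := by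
        have := congrFun (congrFun hl (s i)) (t i)
        rw [Matrix.smul_apply, hM i, smul_eq_mul] at this
        exact this
      have e2 : G x y = l * block i G s t (x i) (y i) := by
        have := congrFun (congrFun hl (x i)) (y i)
        rw [Matrix.smul_apply, smul_eq_mul] at this
        simp only [block, Function.update_eq_self] at this
        simpa only [block] using this
      rw [e1, e2, Matrix.smul_apply, smul_eq_mul]
      field_simp
    have hind : ∀ S : Finset (Fin k), ∀ x y, G x y =
        (∏ i ∈ S, ((G s t)⁻¹ • block i G s t) (x i) (y i)) *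
          G (fun j => if j ∈ S then s j else x j) (fun j => if j ∈ S then t j else y j) := by
      intro S
      induction S using Finset.induction_on with
      | empty =>
        intro x y
        simp
      | insert i S hi ih =>
        intro x y
        have e1 : Function.update (fun j => if j ∈ S then s j else x j) i (s i) =
            fun j => if j ∈ insert i S then s j else x j := by
          funext j
          by_cases hj : j = i
          · subst hj; simp
          · simp [Function.update_of_ne hj, Finset.mem_insert, hj]
        have e2 : Function.update (fun j => if j ∈ S then t j else y j) i (t i) =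
            fun j => if j ∈ insert i S then t j else y j := by
          funext j
          by_cases hj : j = i
          · subst hj; simp
          · simp [Function.update_of_ne hj, Finset.mem_insert, hj]
        rw [Finset.prod_insert hi, ih x y,
          hslot i (fun j => if j ∈ S then s j else x j) (fun j => if j ∈ S then t j else y j),
          e1, e2]
        simp only [if_neg hi]
        ring
    intro x y
    have := hind Finset.univ x y
    simp only [Finset.mem_univ, if_true] at this
    rw [this, mul_comm]

end Cfsg.Agent.Lib.Helper52.AschOKForm
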