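import Mathlib
import Cfsg.Prelude.Def_GeometricClasses
import Cfsg.Agent.Lib.Helper99.AschDefs
import Cfsg.Agent.Lib.Helper5.AschODefs
import Cfsg.Agent.Lib.Helper5.AschOBasic
import Cfsg.Agent.Lib.Helper52.AschOKFormT

/-!
# Project ASCHO (helper5), module [KFORM] (helper52): the Gram matrix in slot coordinates is a
scalar multiple of a tensor product of symmetric invertible matrices
-/

set_option autoImplicit false
set_option maxHeartbeats 800000

namespace Cfsg.Agent.Lib.Helper5.AschO

open Cfsg Cfsg.Geo Cfsg.Agent.Lib.Helper99.Asch Cfsg.Agent.Lib.Helper52.AschOKForm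
open scoped MatrixGroups Matrix Kronecker

variable {n : ℕ} {F : Type*} [Field F] [Fintype F]

/-- ASCHO-[KFORM] -/
theorem slotForm {Q : (Fin n → F) → F} {H : Subgroup (GL (Fin n) F)} (hS : OSetup Q H) {k : ℕ}
    (hk : 2 ≤ k)
    (Qs : Fin k → Subgroup (GL (Fin n) F)) (hQs : ∀ i, Qs i ≤ H) (d : ℕ)
    (idx : Fin n ≃ (Fin k → Fin d)) (B : GL (Fin n) F)
    (hslot : ∀ i, ∀ x ∈ Qs i, ∃ a : GL (Fin d) F,
        ((B * x * B⁻¹ : GL (Fin n) F) : Matrix (Fin n) (Fin n) F) =
          Matrix.reindex idx.symm idx.symm (slotMatrix i (a : Matrix (Fin d) (Fin d) F)))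
    (hspan : ∀ i (a : Matrix (Fin d) (Fin d) F),
        ((B⁻¹ : GL (Fin n) F) : Matrix (Fin n) (Fin n) F) *
          Matrix.reindex idx.symm idx.symm (slotMatrix i a) * (B : Matrix (Fin n) (Fin n) F) ∈
          Submodule.span F (matrixSet (Qs i))) :
    ∃ (J : Fin k → Matrix (Fin d) (Fin d) F) (c : F), c ≠ 0 ∧ (∀ i, (J i)ᵀ = J i) ∧
      (∀ i, IsUnit (J i).det) ∧
      (∀ i, ∀ x ∈ Qs i, ∀ a : GL (Fin d) F,
        ((B * x * B⁻¹ : GL (Fin n) F) : Matrix (Fin n) (Fin n) F) =
          Matrix.reindex idx.symm idx.symm (slotMatrix i (a : Matrix (Fin d) (Fin d) F)) →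
        (a : Matrix (Fin d) (Fin d) F)ᵀ * J i * (a : Matrix (Fin d) (Fin d) F) = J i) ∧
      ∀ x y : (Fin k → Fin d) → F,
        QuadraticMap.polar Q (((B⁻¹ : GL (Fin n) F) : Matrix (Fin n) (Fin n) F) *ᵥ (x ∘ idx))
          (((B⁻¹ : GL (Fin n) F) : Matrix (Fin n) (Fin n) F) *ᵥ (y ∘ idx)) =
        c * ∑ a, ∑ b, x a * (∏ i, J i (a i) (b i)) * y b := by
  classical
  have hQ := hS.nondeg
  have h2 : (2 : F) ≠ 0 := two_ne_zero_of_odd_card hS.odd_card
  have hn0 : 0 < n := by have := hS.three_le; omega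
  have hcard : n = d ^ k := by
    have := Fintype.card_congr idx
    simpa using this
  have hd : Odd d := by
    have h := hS.odd_dim
    rw [hcard] at h
    exact (Nat.odd_pow_iff (by omega)).1 h
  have hBiB : ((B⁻¹ : GL (Fin n) F) : Matrix (Fin n) (Fin n) F) *
      (B : Matrix (Fin n) (Fin n) F) = 1 := by
    rw [← Units.val_mul, inv_mul_cancel, Units.val_one]
  have hBBi : (B : Matrix (Fin n) (Fin n) F) *
      ((B⁻¹ : GL (Fin n) F) : Matrix (Fin n) (Fin n) F) = 1 := by
    rw [← Units.val_mul, mul_inv_cancel, Units.val_one]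
  have hconjval : ∀ g : GL (Fin n) F, ((B * g * B⁻¹ : GL (Fin n) F) : Matrix (Fin n) (Fin n) F) =
      (B : Matrix (Fin n) (Fin n) F) * (g : Matrix (Fin n) (Fin n) F) *
        ((B⁻¹ : GL (Fin n) F) : Matrix (Fin n) (Fin n) F) := by
    intro g
    rw [Units.val_mul, Units.val_mul]
  generalize hBm : (B : Matrix (Fin n) (Fin n) F) = Bm at hBiB hBBi hconjval hspan
  generalize hBi : ((B⁻¹ : GL (Fin n) F) : Matrix (Fin n) (Fin n) F) = Bi at hBiB hBBi hconjval hspan
  set P : Matrix (Fin n) (Fin n) F := polarGram Q with hP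
  set Gn : Matrix (Fin n) (Fin n) F := Biᵀ * P * Bi with hGn
  set G : Matrix (Fin k → Fin d) (Fin k → Fin d) F := Gn.submatrix idx.symm idx.symm with hG
  -- the form in coordinates
  have hform : ∀ x y : (Fin k → Fin d) → F,
      QuadraticMap.polar Q (Bi *ᵥ (x ∘ idx)) (Bi *ᵥ (y ∘ idx)) = ∑ a, ∑ b, x a * G a b * y b := by
    intro x y
    rw [polar_eq_dotProduct hQ]
    have e : (x ∘ idx) ⬝ᵥ (Gn *ᵥ (y ∘ idx)) =
        (Bi *ᵥ (x ∘ idx)) ⬝ᵥ (P *ᵥ (Bi *ᵥ (y ∘ idx))) := by
      rw [hGn, ← Matrix.mulVec_mulVec, ← Matrix.mulVec_mulVec, Matrix.dotProduct_mulVec,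
        Matrix.vecMul_transpose]
    rw [← hP, ← e]
    calc (x ∘ idx) ⬝ᵥ (Gn *ᵥ (y ∘ idx))
        = ∑ i, (fun a => ∑ b, x a * G a b * y b) (idx i) := by
          simp only [dotProduct, Matrix.mulVec, Function.comp]
          refine Finset.sum_congr rfl (fun i _ => ?_)
          rw [Finset.mul_sum]
          calc ∑ j, x (idx i) * (Gn i j * y (idx j))
              = ∑ j, (fun b => x (idx i) * G (idx i) b * y b) (idx j) := by
                refine Finset.sum_congr rfl (fun j _ => ?_)
                simp only [hG, Matrix.submatrix_apply, Equiv.symm_apply_apply]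
                ring
            _ = ∑ b, x (idx i) * G (idx i) b * y b :=
                Equiv.sum_comp idx (fun b => x (idx i) * G (idx i) b * y b)
      _ = ∑ a, ∑ b, x a * G a b * y b :=
          Equiv.sum_comp idx (fun a => ∑ b, x a * G a b * y b)
  -- invariance under the slot matrices
  have hGinv : ∀ i, ∀ g ∈ Qs i, ∀ a : Matrix (Fin d) (Fin d) F,
      ((B * g * B⁻¹ : GL (Fin n) F) : Matrix (Fin n) (Fin n) F) =
        Matrix.reindex idx.symm idx.symm (slotMatrix i a) →
      (slotMatrix i a)ᵀ * G * slotMatrix i a = G := by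
    intro i g hg a ha
    have hgiso : g ∈ isometryGroup F Q := hS.le (hQs i hg)
    have hadj := adj_of_mem_isometryGroup hQ g hgiso
    have hgP : (g : Matrix (Fin n) (Fin n) F)ᵀ * P * (g : Matrix (Fin n) (Fin n) F) = P := by
      have h1 : P * (P⁻¹ * (g : Matrix (Fin n) (Fin n) F)ᵀ * P) =
          (g : Matrix (Fin n) (Fin n) F)ᵀ * P := by
        rw [← mul_assoc, ← mul_assoc, hP, polarGram_mul_inv hQ, one_mul]
      unfold adj at hadj
      rw [← hP] at hadj
      rw [hadj] at h1
      rw [← h1, mul_assoc, ← Units.val_mul, inv_mul_cancel, Units.val_one, mul_one]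
    have hconj : (Bm * (g : Matrix (Fin n) (Fin n) F) * Bi)ᵀ * Gn *
        (Bm * (g : Matrix (Fin n) (Fin n) F) * Bi) = Gn := by
      rw [hGn, Matrix.transpose_mul, Matrix.transpose_mul]
      have hBt : Bmᵀ * Biᵀ = 1 := by rw [← Matrix.transpose_mul, hBiB, Matrix.transpose_one]
      calc Biᵀ * ((g : Matrix (Fin n) (Fin n) F)ᵀ * Bmᵀ) * (Biᵀ * P * Bi) *
            (Bm * (g : Matrix (Fin n) (Fin n) F) * Bi)
          = Biᵀ * (g : Matrix (Fin n) (Fin n) F)ᵀ * (Bmᵀ * Biᵀ) * P * (Bi * Bm) *
              (g : Matrix (Fin n) (Fin n) F) * Bi := by simp only [mul_assoc]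
        _ = Biᵀ * ((g : Matrix (Fin n) (Fin n) F)ᵀ * P * (g : Matrix (Fin n) (Fin n) F)) * Bi := by
            rw [hBt, hBiB]; simp only [mul_assoc, mul_one, one_mul]
        _ = Biᵀ * P * Bi := by rw [hgP]
    have hslotT : slotMatrix i a =
        (Bm * (g : Matrix (Fin n) (Fin n) F) * Bi).submatrix idx.symm idx.symm := by
      rw [← hconjval, ha, Matrix.reindex_apply, Matrix.submatrix_submatrix]
      simp
    rw [hslotT, hG, Matrix.transpose_submatrix, Matrix.submatrix_mul_equiv,
      Matrix.submatrix_mul_equiv, hconj]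
  -- a non-zero entry
  have hBidet : IsUnit Bi.det :=
    IsUnit.of_mul_eq_one Bm.det (by rw [← Matrix.det_mul, hBiB, Matrix.det_one])
  have hGn_det : IsUnit Gn.det := by
    rw [hGn, Matrix.det_mul, Matrix.det_mul, Matrix.det_transpose]
    exact (hBidet.mul (polarGram_isUnit_det hQ)).mul hBidet
  obtain ⟨s, t, hst⟩ : ∃ s t, G s t ≠ 0 := by
    by_contra hcon
    push_neg at hcon
    have h0 : Gn = 0 := by
      ext i j
      have := hcon (idx i) (idx j)
      simpa [hG] using this
    haveI : Nonempty (Fin n) := ⟨⟨0, hn0⟩⟩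
    rw [h0, Matrix.det_zero] at hGn_det
    exact not_isUnit_zero hGn_det
  -- the sets of slot components
  let A : Fin k → Set (Matrix (Fin d) (Fin d) F) := fun i =>
    {a | IsUnit a.det ∧ ∃ g ∈ Qs i,
      ((B * g * B⁻¹ : GL (Fin n) F) : Matrix (Fin n) (Fin n) F) =
        Matrix.reindex idx.symm idx.symm (slotMatrix i a)}
  have hAu : ∀ i, ∀ a ∈ A i, IsUnit a.det := fun i a ha => ha.1
  have hAinv : ∀ i x y, InvUnder (A i) (block i G x y) := by
    rintro i x y a ⟨_, g, hg, hga⟩
    exact block_conj_eq i a G (hGinv i g hg a hga) x y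
  have hAspan : ∀ i, ∀ m : Matrix (Fin d) (Fin d) F, m ∈ Submodule.span F (A i) := by
    intro i a₀
    let z : Fin k → Fin d := idx ⟨0, hn0⟩
    let L : Matrix (Fin n) (Fin n) F →ₗ[F] Matrix (Fin d) (Fin d) F :=
      { toFun := fun m => Matrix.of fun p q =>
          (Bm * m * Bi) (idx.symm (Function.update z i p)) (idx.symm (Function.update z i q))
        map_add' := by
          intro m m'
          ext p q
          simp [mul_add, add_mul, Matrix.add_apply]
        map_smul' := by
          intro c m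
          ext p q
          simp [Matrix.mul_smul, Matrix.smul_mul] }
    have hL : ∀ m p q, L m p q =
        (Bm * m * Bi) (idx.symm (Function.update z i p)) (idx.symm (Function.update z i q)) :=
      fun m p q => rfl
    have hρ : ∀ (a : Matrix (Fin d) (Fin d) F) (p q : Fin d),
        slotMatrix i a (Function.update z i p) (Function.update z i q) = a p q := by
      intro a p q
      simp only [slotMatrix, Function.update_self]
      rw [if_pos]
      intro j hj
      rw [Function.update_of_ne hj, Function.update_of_ne hj]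
    have hL1 : ∀ g ∈ Qs i, L (g : Matrix (Fin n) (Fin n) F) ∈ A i := by
      intro g hg
      obtain ⟨a, ha⟩ := hslot i g hg
      have : L (g : Matrix (Fin n) (Fin n) F) = (a : Matrix (Fin d) (Fin d) F) := by
        ext p q
        rw [hL, ← hconjval, ha, Matrix.reindex_apply, Matrix.submatrix_apply]
        simp only [Equiv.symm_symm, Equiv.apply_symm_apply]
        exact hρ _ p q
      rw [this]
      exact ⟨(Matrix.isUnit_iff_isUnit_det _).1 a.isUnit, g, hg, ha⟩
    have hL2 : L (Bi * Matrix.reindex idx.symm idx.symm (slotMatrix i a₀) * Bm) = a₀ := by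
      ext p q
      rw [hL]
      have hcancel : Bm * (Bi * Matrix.reindex idx.symm idx.symm (slotMatrix i a₀) * Bm) * Bi =
          Matrix.reindex idx.symm idx.symm (slotMatrix i a₀) := by
        calc Bm * (Bi * Matrix.reindex idx.symm idx.symm (slotMatrix i a₀) * Bm) * Bi
            = (Bm * Bi) * Matrix.reindex idx.symm idx.symm (slotMatrix i a₀) * (Bm * Bi) := by
              simp only [mul_assoc]
          _ = _ := by rw [hBBi, one_mul, mul_one]
      rw [hcancel, Matrix.reindex_apply, Matrix.submatrix_apply]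
      simp only [Equiv.symm_symm, Equiv.apply_symm_apply]
      exact hρ _ p q
    have hmem := Submodule.apply_mem_span_image_of_mem_span L (hspan i a₀)
    rw [hL2] at hmem
    refine Submodule.span_mono ?_ hmem
    rintro _ ⟨m, ⟨g, hg, rfl⟩, rfl⟩
    exact hL1 g hg
  obtain ⟨J, hJsym, hJu, hJinv, hprod⟩ :=
    exists_slot_forms hd h2 G s t hst A hAu hAspan hAinv
  refine ⟨J, G s t, hst, hJsym, hJu, ?_, ?_⟩
  · intro i x hx a ha
    exact hJinv i (a : Matrix (Fin d) (Fin d) F)
      ⟨(Matrix.isUnit_iff_isUnit_det _).1 a.isUnit, x, hx, ha⟩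
  · intro x y
    rw [hform, Finset.mul_sum]
    refine Finset.sum_congr rfl (fun a _ => ?_)
    rw [Finset.mul_sum]
    refine Finset.sum_congr rfl (fun b _ => ?_)
    rw [hprod a b]
    ring

end Cfsg.Agent.Lib.Helper5.AschO
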