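import Cfsg.Agent.Lib.Helper92.BPTheta
import Cfsg.Agent.Lib.Helper52.BPD0
import Cfsg.Agent.Lib.Helper3.BPLocal
import Cfsg.Agent.Lib.Helper19.BPCharEvAt
import Cfsg.Agent.Lib.Helper81.BPInv
import Cfsg.Agent.Lib.Helper74.BPVan
import Cfsg.Agent.Lib.Helper51.BPEv
import Cfsg.Agent.Lib.Helper77.BPBlockD1
import Cfsg.Agent.Lib.Helper86.BPLift
import Cfsg.Agent.Lib.Helper44.BPBr5
import Cfsg.Agent.Lib.Helper40.BPConj
import Cfsg.Agent.Lib.Helper80.CharBasic
import Cfsg.Agent.S4655

/-!
# PROJECT BP (helper92), module BP-[L4-C3] (helper52): CLAIM for local primitive idempotents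

`claimFor_local_of`: `ClaimFor M μ χ Q c` for a local primitive idempotent `c` of `A^Q`, from
* `hD4`  : the conclusion of BP-[D4] `exists_block_of_localPrim` for `(Q, c)`,
* `hPur` : BP-[U] `purity` for `i = c`, `P = Q`,
* `hTh`  : BP-[L4-TH] `thetaQ_of_mul_blockIdem`.
Everything else is taken from landed modules: S4655 (existence of the subpair `(<u>, f_u) ≤ (Q, f)`),
L3-CHAR `isCharacter_evAt`, L3-INV/VAN/MVN (`evAt` depends only on `Br_u` for idempotents),
D1 for `Rm[C_G(u)]` (helper77), L3-LIFT `idem_eq_zero_of_red_eq_zero`, BR5 `br_mapDomain`.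
-/

set_option autoImplicit false

namespace Cfsg.Agent.Lib.Helper52.BP

open Cfsg Cfsg.Agent.Lib.Helper16 Cfsg.Agent.Lib.Helper92.BP

section Incl
variable {R : Type*} [CommRing R] {G : Type*} [Group G]

theorem incl_injective (K : Subgroup G) : Function.Injective (incl R K) := by
  intro a b hab
  exact MonoidAlgebra.mapDomain_injective (R := R) Subtype.val_injective hab

/-- elements of `R[C_G(Q)]` are `Q`-fixed -/
theorem incl_mem_fixedAlg (Q : Subgroup G)
    (a : MonoidAlgebra R (Subgroup.centralizer (Q : Set G))) :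
    incl R (Subgroup.centralizer (Q : Set G)) a ∈ fixedAlg R Q := by
  unfold fixedAlg
  rw [Subalgebra.mem_centralizer_iff]
  rintro _ ⟨q, hq, rfl⟩
  induction a using MonoidAlgebra.induction_linear with
  | zero => rw [map_zero, mul_zero, zero_mul]
  | add x y hx hy => rw [map_add, mul_add, add_mul, hx, hy]
  | single z r =>
    have hz : q * (z : G) = (z : G) * q := (z.2 q hq)
    have h1 : incl R (Subgroup.centralizer (Q : Set G)) (MonoidAlgebra.single z r) =
        MonoidAlgebra.single (z : G) r := by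
      unfold incl
      rw [MonoidAlgebra.mapDomainRingHom_apply, MonoidAlgebra.mapDomain_single]
      rfl
    rw [h1, MonoidAlgebra.of_apply, MonoidAlgebra.single_mul_single,
      MonoidAlgebra.single_mul_single, hz, one_mul, mul_one]

end Incl

section L4
variable {G : Type*} [Group G] [Finite G] {p : ℕ} [Fact p.Prime] {M : Ideal AlgInt}
  [hMp : M.IsPrime]

/-- BP-[L3-INV] in exact form, assembled from helper81's `_of` form, helper74's VAN and helper51's
MVN -/
theorem evAt_eq_of_br_eq' {R : Type*} [CommRing R] [IsDomain R] [IsLocalRing R] [Algebra R ℂ]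
    (hR : MonicSplits R) {p : ℕ} [Fact p.Prime]
    [CharP (IsLocalRing.ResidueField R) p] {χ : G → ℂ} (hχ : Cfsg.IsClassFunction G χ) {u : G}
    (hu : IsPGroup p (Subgroup.zpowers u)) {c c' : MonoidAlgebra R G}
    (hc : c ∈ fixedAlg R (Subgroup.zpowers u)) (hci : IsIdempotentElem c)
    (hc' : c' ∈ fixedAlg R (Subgroup.zpowers u)) (hci' : IsIdempotentElem c')
    (h : br R (Subgroup.zpowers u) c = br R (Subgroup.zpowers u) c') :
    evAt χ u c = evAt χ u c' :=
  Cfsg.Agent.Lib.Helper81.BP.evAt_eq_of_br_eq_of hR hu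
    (fun c hc hci hbr => Cfsg.Agent.Lib.Helper74.BP.evAt_eq_zero_of_br_eq_zero hR hχ hu hc hci hbr)
    (fun x y hy => Cfsg.Agent.Lib.Helper51.BP.evAt_mul_comm χ hχ u x y hy) hc hci hc' hci' h

/-- BP-[L4-C3] : CLAIM for local primitive idempotents, from D4, purity and
`thetaQ_of_mul_blockIdem` -/
theorem claimFor_local_of (hM : IsPModular p M) {μ : LocSys G} (hμ : IsLocalSystem p M μ)
    {χ : G → ℂ} (hχ : IsCharacter G χ) {Q : Subgroup G} (hQ : IsPGroup p Q)
    {c : MonoidAlgebra (localSubring M) G} (hc : IsLocalPrim (localSubring M) Q c)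
    (hD4 : ∃ e : Set (IrrCharacter (Subgroup.centralizer (Q : Set G))), IsPBlock M e ∧
      br (localSubring M) Q c * blockIdemK M e = br (localSubring M) Q c)
    (hPur : ∀ (Q' : Subgroup G) (f' : Set (IrrCharacter (Subgroup.centralizer (Q' : Set G))))
      (e : Set (IrrCharacter (Subgroup.centralizer (Q : Set G)))),
      IsBrauerPair p M Q e → SubpairLE p M Q' f' Q e →
      br (localSubring M) Q c * blockIdemK M e = br (localSubring M) Q c →
      br (localSubring M) Q' c * blockIdemK M f' = br (localSubring M) Q' c)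
    (hTh : ∀ (Q' : Subgroup G) (u : G)
      (f' : Set (IrrCharacter (Subgroup.centralizer (Q' : Set G)))), IsPBlock M f' →
      ∀ a : MonoidAlgebra (localSubring M) G,
        a * incl (localSubring M) _ (blockIdemR M f') = a →
        ThetaQ M μ χ Q' u a = μ Q' f' u * evAt χ u a) :
    ClaimFor M μ χ Q c := by
  classical
  haveI := Fintype.ofFinite G
  haveI : CharP (IsLocalRing.ResidueField (localSubring M)) p := charP_residueField hM
  have hR : MonicSplits (localSubring M) := Cfsg.Agent.Lib.Helper3.BP.monicSplits_localSubring M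
  obtain ⟨f, hf, hcf⟩ := hD4
  have hPair : IsBrauerPair p M Q f := ⟨hQ, hf⟩
  obtain ⟨hcQ, hcprim⟩ := hc.1
  have hci : IsIdempotentElem c := congrArg Subtype.val hcprim.1
  have hχc : IsClassFunction G χ := Cfsg.Agent.Lib.Helper80.isClassFunction_of_isCharacter hχ
  refine ⟨fun u : Q => μ Q f (u : G) * evAt χ (u : G) c, ?_, ?_⟩
  · -- a generalized character of `Q`
    obtain ⟨α, β, hα, hβ, hαβ⟩ := hμ.2.2 Q f hPair
    have hev : IsCharacter Q (fun u : Q => evAt χ (u : G) c) :=
      Cfsg.Agent.Lib.Helper19.BP.isCharacter_evAt hχ Q hcQ hci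
    refine ⟨α * (fun u : Q => evAt χ (u : G) c), β * (fun u : Q => evAt χ (u : G) c),
      Cfsg.Agent.Lib.Helper80.isCharacter_mul hα hev,
      Cfsg.Agent.Lib.Helper80.isCharacter_mul hβ hev, ?_⟩
    funext u
    have h1 := congrFun hαβ u
    simp only [Pi.sub_apply, Pi.mul_apply] at h1 ⊢
    rw [h1, sub_mul]
  · intro u a ha hai hbr
    have hUQ : Subgroup.zpowers (u : G) ≤ Q := (Subgroup.zpowers_le).mpr u.2
    have hU : IsPGroup p (Subgroup.zpowers (u : G)) := hQ.to_le hUQ
    obtain ⟨fu, ⟨hfu, hle⟩, -⟩ :=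
      Cfsg.Agent.S4655.result p M hM Q (Subgroup.zpowers (u : G)) f hPair hUQ
    have hpur := hPur (Subgroup.zpowers (u : G)) fu f hPair hle hcf
    obtain ⟨a', rfl⟩ := ha
    have ha'i : IsIdempotentElem a' := by
      apply incl_injective (R := localSubring M)
      rw [map_mul]
      exact hai
    have hbr' : red (localSubring M) _ a' =
        br (localSubring M) (Subgroup.zpowers (u : G)) c := by
      rw [← hbr]
      exact (Cfsg.Agent.Lib.Helper44.BP.br_mapDomain (Subgroup.zpowers (u : G)) a').symm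
    haveI : Fintype (Subgroup.centralizer ((Subgroup.zpowers (u : G) : Subgroup G) : Set G)) :=
      Fintype.ofFinite _
    have hei : blockIdemR M fu * blockIdemR M fu = blockIdemR M fu :=
      Cfsg.Agent.Lib.Helper77.BP.blockIdemR_idem hfu
    have hec : ∀ b, b * blockIdemR M fu = blockIdemR M fu * b :=
      Cfsg.Agent.Lib.Helper77.BP.blockIdemR_central hfu
    have hidem : IsIdempotentElem (a' * (1 - blockIdemR M fu)) := by
      have ha'a' : a' * a' = a' := ha'i
      show a' * (1 - blockIdemR M fu) * (a' * (1 - blockIdemR M fu)) = a' * (1 - blockIdemR M fu)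
      have h2 : (1 - blockIdemR M fu) * a' = a' * (1 - blockIdemR M fu) := by
        rw [sub_mul, mul_sub, one_mul, mul_one, hec a']
      have h3 : (1 - blockIdemR M fu) * (1 - blockIdemR M fu) = 1 - blockIdemR M fu := by
        rw [sub_mul, one_mul, mul_sub, mul_one, hei, sub_self, sub_zero]
      calc a' * (1 - blockIdemR M fu) * (a' * (1 - blockIdemR M fu))
          = a' * ((1 - blockIdemR M fu) * a') * (1 - blockIdemR M fu) := by noncomm_ring
        _ = a' * a' * ((1 - blockIdemR M fu) * (1 - blockIdemR M fu)) := by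
            rw [h2]; noncomm_ring
        _ = a' * (1 - blockIdemR M fu) := by rw [ha'a', h3]
    have hz : a' * (1 - blockIdemR M fu) = 0 := by
      apply Cfsg.Agent.Lib.Helper86.BP.idem_eq_zero_of_red_eq_zero _ hidem
      rw [map_mul, map_sub, map_one, hbr']
      show br (localSubring M) (Subgroup.zpowers (u : G)) c * (1 - blockIdemK M fu) = 0
      rw [mul_sub, mul_one, hpur, sub_self]
    have ha'e : a' * blockIdemR M fu = a' := by
      rw [mul_sub, mul_one, sub_eq_zero] at hz
      exact hz.symm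
    have hae : incl (localSubring M) _ a' * incl (localSubring M) _ (blockIdemR M fu) =
        incl (localSubring M) _ a' := by
      rw [← map_mul, ha'e]
    rw [hTh (Subgroup.zpowers (u : G)) (u : G) fu hfu _ hae]
    have hμ2 := hμ.2.1 (Subgroup.zpowers (u : G)) Q fu f hPair hfu hle (u : G)
      (Subgroup.mem_zpowers (u : G))
    show μ Q f (u : G) * evAt χ (u : G) c = _
    rw [hμ2]
    congr 1
    exact evAt_eq_of_br_eq' hR hχc hU
      (Cfsg.Agent.Lib.Helper40.BP.fixedAlg_anti hUQ hcQ) hci
      (incl_mem_fixedAlg _ a') hai hbr.symm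

end L4

end Cfsg.Agent.Lib.Helper52.BP
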