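import Cfsg.Agent.Lib.Helper92.BPGAlg
import Cfsg.Agent.Lib.Helper80.BPCrt
import Cfsg.Agent.Lib.Helper11.BPLocalMain
import Cfsg.Agent.Lib.Helper23.BPFixedFin
import Cfsg.Agent.Lib.Helper23.BPMvN
import Cfsg.Agent.Lib.Helper23.BPBrMul

/-!
# PROJECT BP (helper92), module BP-[U-WLOG] (helper52)

* `exists_mvn_le_summand`: a primitive idempotent of `A^S` below a sum of idempotents of `A^S` is
  Murray–von Neumann equivalent (inside `A^S`) to an idempotent below one of the summands
  (locality of the corner + `exists_mvn_of_cornerUnit`).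
* `br_mul_eq_of_mvn`: equivalent idempotents of `A^S` have Brauer images in the same blocks.
-/

set_option autoImplicit false

namespace Cfsg.Agent.Lib.Helper52.BP

open Cfsg.Agent.Lib.Helper92.BP

section Ring
variable {R : Type*} [CommRing R] [IsDomain R] [IsLocalRing R]
variable {Λ : Type*} [Ring Λ] [Algebra R Λ]

theorem inCorner_sum {e : Λ} {ι : Type*} (L : Finset ι) (x : ι → Λ)
    (hx : ∀ r ∈ L, InCorner e (x r)) : InCorner e (∑ r ∈ L, x r) := by
  constructor
  · rw [Finset.mul_sum]
    exact Finset.sum_congr rfl fun r hr => (hx r hr).1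
  · rw [Finset.sum_mul]
    exact Finset.sum_congr rfl fun r hr => (hx r hr).2

/-- in the (local) corner of a primitive idempotent, a finite sum which is a corner unit has a
summand which is a corner unit -/
theorem exists_cornerUnit_of_sum [Module.Finite R Λ] (hR : MonicSplits R) {e : Λ}
    (he : IsPrimIdem e) {ι : Type*} (L : Finset ι) (x : ι → Λ)
    (hx : ∀ r ∈ L, InCorner e (x r)) (h : CornerUnit e (∑ r ∈ L, x r)) :
    ∃ r ∈ L, CornerUnit e (x r) := by
  classical
  induction L using Finset.induction_on with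
  | empty =>
    exfalso
    rw [Finset.sum_empty] at h
    obtain ⟨_, y, _, h1, _⟩ := h
    rw [zero_mul] at h1
    exact he.2.1 h1.symm
  | insert a s ha ih =>
    rw [Finset.sum_insert ha] at h
    by_cases h1 : CornerUnit e (x a)
    · exact ⟨a, Finset.mem_insert_self a s, h1⟩
    · by_cases h2 : CornerUnit e (∑ r ∈ s, x r)
      · obtain ⟨r, hr, hr'⟩ := ih (fun r hr => hx r (Finset.mem_insert_of_mem hr)) h2
        exact ⟨r, Finset.mem_insert_of_mem hr, hr'⟩
      · exfalso
        exact Cfsg.Agent.Lib.Helper11.BP.not_cornerUnit_add_of_crt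
          (fun he x hx => Cfsg.Agent.Lib.Helper80.BP.corner_crt hR he x hx) he (x a)
          (∑ r ∈ s, x r) (hx a (Finset.mem_insert_self a s))
          (inCorner_sum s x fun r hr => hx r (Finset.mem_insert_of_mem hr)) h1 h2 h

/-- abstract form of `exists_mvn_le_summand` -/
theorem exists_mvn_le_summand_ring [Module.Finite R Λ] (hR : MonicSplits R) {l' : Λ}
    (hl' : IsPrimIdem l') {ι : Type*} (L : Finset ι) (l : ι → Λ)
    (hl : ∀ r ∈ L, IsIdempotentElem (l r)) (hle : IdemLE l' (∑ r ∈ L, l r)) :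
    ∃ r ∈ L, ∃ l'' a b : Λ, IdemLE l'' (l r) ∧ a * b = l' ∧ b * a = l'' := by
  have hidem : l' * l' = l' := hl'.1
  have hsum : ∑ r ∈ L, l' * l r * l' = l' := by
    rw [← Finset.sum_mul, ← Finset.mul_sum, hle.2.2, hidem]
  have hcorner : ∀ r ∈ L, InCorner l' (l' * l r * l') := by
    intro r _
    constructor
    · rw [← mul_assoc, ← mul_assoc, hidem]
    · rw [mul_assoc, hidem]
  have hunit : CornerUnit l' (∑ r ∈ L, l' * l r * l') := by
    rw [hsum]
    exact ⟨⟨hidem, hidem⟩, l', ⟨hidem, hidem⟩, hidem, hidem⟩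
  obtain ⟨r, hr, hru⟩ := exists_cornerUnit_of_sum hR hl' L (fun r => l' * l r * l') hcorner hunit
  have hlr : l r * l r = l r := hl r hr
  have hab : CornerUnit l' ((l' * l r) * (l r * l')) := by
    have : (l' * l r) * (l r * l') = l' * l r * l' := by
      rw [mul_assoc, ← mul_assoc (l r), hlr, mul_assoc]
    rw [this]; exact hru
  obtain ⟨f', hf', a, b, hab1, hab2⟩ :=
    Cfsg.Agent.Lib.Helper23.BP.exists_mvn_of_cornerUnit hl'.1 (hl r hr) (l' * l r) (l r * l')
      ⟨by rw [← mul_assoc, hidem], by rw [mul_assoc, hlr]⟩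
      ⟨by rw [← mul_assoc, hlr], by rw [mul_assoc, hidem]⟩ hab
  exact ⟨r, hr, f', a, b, hf', hab1, hab2⟩

end Ring

section Abstract
variable {R : Type*} [CommRing R] [IsDomain R] [IsLocalRing R] {G : Type*} [Group G]

/-- BP-[U-WLOG] : a primitive idempotent below a sum of orthogonal idempotents is equivalent to
one below a single summand (locality of the corner + `exists_mvn_of_cornerUnit`) -/
theorem exists_mvn_le_summand [Finite G] (hR : MonicSplits R) {S : Subgroup G}
    {l' : MonoidAlgebra R G} (hl' : IsPrimIn R (fixedAlg R S) l') {ι : Type*} (L : Finset ι)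
    (l : ι → MonoidAlgebra R G) (hl : ∀ r ∈ L, l r ∈ fixedAlg R S ∧ IsIdempotentElem (l r))
    (horth : ∀ r ∈ L, ∀ r' ∈ L, r ≠ r' → l r * l r' = 0)
    (hle : IdemLE l' (∑ r ∈ L, l r)) :
    ∃ r ∈ L, ∃ l'' a b : MonoidAlgebra R G, l'' ∈ fixedAlg R S ∧ a ∈ fixedAlg R S ∧
      b ∈ fixedAlg R S ∧ IdemLE l'' (l r) ∧ a * b = l' ∧ b * a = l'' := by
  classical
  obtain ⟨hl'S, hprim⟩ := hl'
  haveI : Module.Finite R (fixedAlg R S) := Cfsg.Agent.Lib.Helper23.BP.finite_fixedAlg S
  let lΛ : {r // r ∈ L} → fixedAlg R S := fun r => ⟨l r.1, (hl r.1 r.2).1⟩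
  have hcoe : ((∑ r ∈ L.attach, lΛ r : fixedAlg R S) : MonoidAlgebra R G) = ∑ r ∈ L, l r := by
    rw [AddSubmonoidClass.coe_finset_sum]
    exact Finset.sum_attach L l
  have hlΛ : ∀ r ∈ L.attach, IsIdempotentElem (lΛ r) := by
    intro r _
    apply Subtype.ext
    exact (hl r.1 r.2).2
  have hleΛ : IdemLE (⟨l', hl'S⟩ : fixedAlg R S) (∑ r ∈ L.attach, lΛ r) := by
    refine ⟨hprim.1, ?_, ?_⟩
    · apply Subtype.ext
      rw [Subalgebra.coe_mul, hcoe]
      exact hle.2.1
    · apply Subtype.ext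
      rw [Subalgebra.coe_mul, hcoe]
      exact hle.2.2
  obtain ⟨r, _, l'', a, b, hl'', hab, hba⟩ :=
    exists_mvn_le_summand_ring hR hprim L.attach lΛ hlΛ hleΛ
  refine ⟨r.1, r.2, l''.1, a.1, b.1, l''.2, a.2, b.2, ⟨?_, ?_, ?_⟩, ?_, ?_⟩
  · have := congrArg Subtype.val hl''.1
    exact this
  · have := congrArg Subtype.val hl''.2.1
    simpa [lΛ] using this
  · have := congrArg Subtype.val hl''.2.2
    simpa [lΛ] using this
  · have := congrArg Subtype.val hab
    simpa using this
  · have := congrArg Subtype.val hba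
    simpa using this

/-- BP-[U-WLOG] : equivalent idempotents of `A^S` have Brauer images in the same blocks -/
theorem br_mul_eq_of_mvn [Finite G] {p : ℕ} [Fact p.Prime]
    [CharP (IsLocalRing.ResidueField R) p] {S : Subgroup G} (hS : IsPGroup p S)
    {a b : MonoidAlgebra R G} (ha : a ∈ fixedAlg R S) (hb : b ∈ fixedAlg R S)
    (z : MonoidAlgebra (IsLocalRing.ResidueField R) (Subgroup.centralizer (S : Set G)))
    (hz : ∀ y, z * y = y * z) (hba : IsIdempotentElem (b * a))
    (h : br R S (a * b) * z = br R S (a * b)) :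
    br R S (b * a) * z = br R S (b * a) := by
  have hmul := fun {x y : MonoidAlgebra R G} (hx : x ∈ fixedAlg R S) (hy : y ∈ fixedAlg R S) =>
    Cfsg.Agent.Lib.Helper23.BP.br_mul (R := R) hS hx hy
  have hab : br R S (a * b) = br R S a * br R S b := hmul ha hb
  have hba' : br R S (b * a) = br R S b * br R S a := hmul hb ha
  have hidem : br R S (b * a) * br R S (b * a) = br R S (b * a) := by
    rw [← hmul (mul_mem hb ha) (mul_mem hb ha)]
    exact congrArg (br R S) hba
  rw [hab] at h
  rw [hba'] at hidem ⊢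
  set α := br R S a
  set β := br R S b
  calc β * α * z = (β * α * (β * α)) * z := by rw [hidem]
    _ = β * (α * β) * (α * z) := by noncomm_ring
    _ = β * (α * β) * (z * α) := by rw [hz α]
    _ = β * (α * β * z) * α := by noncomm_ring
    _ = β * (α * β) * α := by rw [h]
    _ = β * α * (β * α) := by noncomm_ring
    _ = β * α := hidem

end Abstract

end Cfsg.Agent.Lib.Helper52.BP
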