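import Mathlib

/-!
# The final arithmetic of Suzuki's CA-group argument
-/

set_option autoImplicit false

namespace Cfsg.Agent.Lib.Helper52

theorem int_sq_sub_mul_nonneg (c εz : ℤ) (hεz : εz = 1 ∨ εz = -1) : 0 ≤ c ^ 2 - c * εz := by
  rcases hεz with rfl | rfl
  · rcases le_or_gt c 0 with h | h
    · nlinarith
    · nlinarith
  · rcases le_or_gt 0 c with h | h
    · nlinarith
    · nlinarith

theorem one_le_int_sq {z : ℤ} (hz : z ≠ 0) : (1 : ℝ) ≤ (z : ℝ) ^ 2 := by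
  have : (1 : ℤ) ≤ z ^ 2 := by
    have := sq_pos_of_ne_zero hz
    omega
  exact_mod_cast this

theorem per_index_ineq (g a₀ aj ej rj nj : ℝ) (μ ν : ℤ) (hg : 0 < g) (ha₀ : 0 < a₀)
    (hr : 0 ≤ rj) (ha : rj * ej + 1 = aj) (hn : nj * (aj * ej) = g)
    (hnpos : 0 ≤ nj) (hmin : a₀ + 1 ≤ aj) (hpar : μ ≠ 0 ∨ ν ≠ 0) :
    nj * (aj - 1) ≤ nj * ((aj - 1) * (μ : ℝ) ^ 2) + g / (a₀ + 1) * (rj * (ν : ℝ) ^ 2) := by
  have hajpos : 0 < aj := by linarith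
  have haj1 : 0 ≤ aj - 1 := by linarith
  have h1 : 0 ≤ nj * (aj - 1) := mul_nonneg hnpos haj1
  have h2 : 0 ≤ g / (a₀ + 1) * rj := by positivity
  rcases hpar with hμ | hν
  · have hμ2 := one_le_int_sq hμ
    have h3 : 0 ≤ g / (a₀ + 1) * (rj * (ν : ℝ) ^ 2) := by
      rw [← mul_assoc]
      exact mul_nonneg h2 (sq_nonneg _)
    have h4 : nj * (aj - 1) * 1 ≤ nj * (aj - 1) * (μ : ℝ) ^ 2 :=
      mul_le_mul_of_nonneg_left hμ2 h1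
    rw [mul_one, mul_assoc] at h4
    linarith
  · have hν2 := one_le_int_sq hν
    have h3 : 0 ≤ nj * ((aj - 1) * (μ : ℝ) ^ 2) := by
      rw [← mul_assoc]
      exact mul_nonneg h1 (sq_nonneg _)
    have h4 : nj * (aj - 1) = g * rj / aj := by
      rw [eq_div_iff hajpos.ne', ← hn, ← ha]
      ring
    have h5 : g * rj / aj ≤ g * rj / (a₀ + 1) := by
      apply div_le_div_of_nonneg_left _ (by linarith) hmin
      positivity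
    have h6 : g * rj / (a₀ + 1) ≤ g / (a₀ + 1) * (rj * (ν : ℝ) ^ 2) := by
      have : g / (a₀ + 1) * rj * 1 ≤ g / (a₀ + 1) * rj * (ν : ℝ) ^ 2 :=
        mul_le_mul_of_nonneg_left hν2 h2
      rw [mul_one, mul_assoc] at this
      rw [← div_mul_eq_mul_div]
      exact this
    linarith

theorem final_poly (a₀ e₀ r₀ q : ℝ) (hr₀ : 2 ≤ r₀) (he₀ : 2 ≤ e₀) (ha₀ : 0 < a₀) (hq0 : 0 ≤ q)
    (h13 : ((r₀ - 1) * (e₀ - 1) + q) * (a₀ + 1) ≤ a₀ * (e₀ - 1 - q)) : False := by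
  set P : ℝ := (r₀ - 1) * (e₀ - 1) with hPdef
  have hP : e₀ - 1 ≤ P := by
    rw [hPdef]
    nlinarith
  have h14 : 0 ≤ (P - (e₀ - 1)) * a₀ := mul_nonneg (sub_nonneg.2 hP) ha₀.le
  have h15 : 0 ≤ q * a₀ := mul_nonneg hq0 ha₀.le
  nlinarith

theorem final_arith {ι : Type*} (S : Finset ι) (g d2 a₀ e₀ r₀ n₀ : ℝ) (c εz : ℤ)
    (a e r n : ι → ℝ) (μ ν : ι → ℤ)
    (hd : 1 ≤ d2) (hεz : εz = 1 ∨ εz = -1)
    (hr₀ : 2 ≤ r₀) (he₀ : 2 ≤ e₀) (ha₀ : r₀ * e₀ + 1 = a₀) (hn₀ : n₀ * (a₀ * e₀) = g)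
    (hn₀pos : 0 < n₀)
    (hr : ∀ j ∈ S, 0 ≤ r j) (ha : ∀ j ∈ S, r j * e j + 1 = a j)
    (hn : ∀ j ∈ S, n j * (a j * e j) = g) (hnpos : ∀ j ∈ S, 0 ≤ n j)
    (hmin : ∀ j ∈ S, a₀ + 1 ≤ a j)
    (hpar : ∀ j ∈ S, μ j ≠ 0 ∨ ν j ≠ 0)
    (hclass : g = 1 + n₀ * (a₀ - 1) + ∑ j ∈ S, n j * (a j - 1))
    (hrow : g = d2 + n₀ * (a₀ * e₀ - e₀ ^ 2 - 2 * (εz : ℝ) * c * e₀ + (a₀ - 1) * (c : ℝ) ^ 2)
      + ∑ j ∈ S, n j * ((a j - 1) * (μ j : ℝ) ^ 2))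
    (hcol : (1 : ℝ) + (r₀ * (c : ℝ) ^ 2 - 2 * c * εz + 1) + ∑ j ∈ S, r j * (ν j : ℝ) ^ 2
      ≤ e₀ + 1) : False := by
  have ha₀pos : 0 < a₀ := by nlinarith
  have he₀pos : 0 < e₀ := by linarith
  have hgpos : 0 < g := by
    rw [← hn₀]
    positivity
  have hq : (0 : ℝ) ≤ (c : ℝ) ^ 2 - c * εz := by
    have := int_sq_sub_mul_nonneg c εz hεz
    exact_mod_cast this
  have hsum := Finset.sum_le_sum (fun j hj => per_index_ineq g a₀ (a j) (e j) (r j) (n j) (μ j)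
    (ν j) hgpos ha₀pos (hr j hj) (ha j hj) (hn j hj) (hnpos j hj) (hmin j hj)
    (hpar j hj))
  rw [Finset.sum_add_distrib, ← Finset.mul_sum] at hsum
  set A := ∑ j ∈ S, n j * (a j - 1) with hA
  set B := ∑ j ∈ S, n j * ((a j - 1) * (μ j : ℝ) ^ 2) with hB
  set C := ∑ j ∈ S, r j * (ν j : ℝ) ^ 2 with hC
  set q : ℝ := r₀ * (c : ℝ) ^ 2 - 2 * c * εz with hqdef
  have hq0 : 0 ≤ q := by
    have hc2 : 0 ≤ (c : ℝ) ^ 2 := sq_nonneg _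
    have : 0 ≤ (r₀ - 2) * (c : ℝ) ^ 2 := mul_nonneg (by linarith) hc2
    rw [hqdef]
    linarith
  have hCle : C ≤ e₀ - 1 - q := by linarith
  have hgdiv : 0 ≤ g / (a₀ + 1) := by positivity
  have h7 : g / (a₀ + 1) * C ≤ g / (a₀ + 1) * (e₀ - 1 - q) := mul_le_mul_of_nonneg_left hCle hgdiv
  have h9 : n₀ * (a₀ * e₀ - e₀ ^ 2 - 2 * (εz : ℝ) * c * e₀ + (a₀ - 1) * (c : ℝ) ^ 2)
      - n₀ * (a₀ - 1) ≤ g / (a₀ + 1) * (e₀ - 1 - q) := by linarith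
  have h10 : (a₀ * e₀ - e₀ ^ 2 - 2 * (εz : ℝ) * c * e₀ + (a₀ - 1) * (c : ℝ) ^ 2) - (a₀ - 1)
      = e₀ * ((r₀ - 1) * (e₀ - 1) + q) := by
    rw [hqdef, ← ha₀]
    ring
  have h11 : n₀ * (e₀ * ((r₀ - 1) * (e₀ - 1) + q)) ≤ n₀ * (a₀ * e₀) / (a₀ + 1) * (e₀ - 1 - q) := by
    rw [hn₀, ← h10]
    linarith
  have hpos : 0 < a₀ + 1 := by linarith
  have h12 : n₀ * (e₀ * ((r₀ - 1) * (e₀ - 1) + q)) * (a₀ + 1) ≤
      n₀ * (a₀ * e₀) * (e₀ - 1 - q) := by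
    rw [div_mul_eq_mul_div, le_div_iff₀ hpos] at h11
    exact h11
  have h13 : ((r₀ - 1) * (e₀ - 1) + q) * (a₀ + 1) ≤ a₀ * (e₀ - 1 - q) := by
    have hne : 0 < n₀ * e₀ := mul_pos hn₀pos he₀pos
    have : n₀ * e₀ * (((r₀ - 1) * (e₀ - 1) + q) * (a₀ + 1)) ≤ n₀ * e₀ * (a₀ * (e₀ - 1 - q)) := by
      linarith [h12]
    exact le_of_mul_le_mul_left this hne
  exact final_poly a₀ e₀ r₀ q hr₀ he₀ ha₀pos hq0 h13

end Cfsg.Agent.Lib.Helper52
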