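import Mathlib

/-!
# CA-groups: elementary group theory (centralizers of nonidentity elements are abelian)
-/

set_option autoImplicit false
set_option linter.unusedSectionVars false
set_option linter.style.haveILetI false

namespace Cfsg.Agent.Lib.Helper52

universe u

/-- centralizers of nonidentity elements are abelian -/
def CAGroup (G : Type u) [Group G] : Prop :=
  ∀ x : G, x ≠ 1 → ∀ a ∈ Subgroup.centralizer ({x} : Set G),
    ∀ b ∈ Subgroup.centralizer ({x} : Set G), a * b = b * a

variable {G : Type u} [Group G]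

theorem CAGroup.subgroup (h : CAGroup G) (H : Subgroup G) : CAGroup ↥H := by
  intro x hx a ha b hb
  rw [Subgroup.mem_centralizer_singleton_iff] at ha hb
  apply Subtype.ext
  have hx' : (x : G) ≠ 1 := fun h' => hx (Subtype.ext h')
  exact h (x : G) hx' (a : G)
    (Subgroup.mem_centralizer_singleton_iff.mpr (congrArg Subtype.val ha)) (b : G)
    (Subgroup.mem_centralizer_singleton_iff.mpr (congrArg Subtype.val hb))

/-- in a CA-group the centralizer of `y ∈ C(x)#` is `C(x)` -/
theorem CAGroup.centralizer_eq (h : CAGroup G) {x y : G} (hx : x ≠ 1) (hy : y ≠ 1)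
    (hyx : y ∈ Subgroup.centralizer ({x} : Set G)) :
    Subgroup.centralizer ({y} : Set G) = Subgroup.centralizer ({x} : Set G) := by
  have hxy : x ∈ Subgroup.centralizer ({y} : Set G) := by
    rw [Subgroup.mem_centralizer_singleton_iff] at hyx ⊢
    exact hyx.symm
  apply le_antisymm
  · intro z hz
    rw [Subgroup.mem_centralizer_singleton_iff]
    exact h y hy z hz x hxy
  · intro z hz
    rw [Subgroup.mem_centralizer_singleton_iff]
    exact h x hx z hz y hyx

theorem conj_mem_centralizer_iff (g k z : G) :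
    g * z * g⁻¹ ∈ Subgroup.centralizer ({g * k * g⁻¹} : Set G) ↔
      z ∈ Subgroup.centralizer ({k} : Set G) := by
  rw [Subgroup.mem_centralizer_singleton_iff, Subgroup.mem_centralizer_singleton_iff]
  constructor
  · intro h
    have h2 := congrArg (fun t => g⁻¹ * t * g) h
    simpa [mul_assoc] using h2
  · intro h
    have : g * z * g⁻¹ * (g * k * g⁻¹) = g * (z * k) * g⁻¹ := by group
    rw [this, h]
    group

/-- the T.I. property of the centralizers in a CA-group -/
theorem CAGroup.mem_normalizer (h : CAGroup G) {x k g : G} (hx : x ≠ 1) (hk1 : k ≠ 1)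
    (hk : k ∈ Subgroup.centralizer ({x} : Set G))
    (hgk : g * k * g⁻¹ ∈ Subgroup.centralizer ({x} : Set G)) :
    g ∈ Subgroup.normalizer (Subgroup.centralizer ({x} : Set G) : Set G) := by
  have h1 := h.centralizer_eq hx hk1 hk
  have hgk1 : g * k * g⁻¹ ≠ 1 := by
    intro h'
    apply hk1
    have h2 := congrArg (fun t => g⁻¹ * t * g) h'
    simpa [mul_assoc] using h2
  have h2 := h.centralizer_eq hx hgk1 hgk
  rw [Subgroup.mem_set_normalizer_iff]
  intro z
  rw [SetLike.mem_coe, SetLike.mem_coe]
  calc z ∈ Subgroup.centralizer ({x} : Set G) ↔ z ∈ Subgroup.centralizer ({k} : Set G) := by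
        rw [h1]
    _ ↔ g * z * g⁻¹ ∈ Subgroup.centralizer ({g * k * g⁻¹} : Set G) :=
        (conj_mem_centralizer_iff g k z).symm
    _ ↔ g * z * g⁻¹ ∈ Subgroup.centralizer ({x} : Set G) := by rw [h2]

/-- `C(x)` contains a Sylow `p`-subgroup of `G` for each prime divisor `p` of its order -/
theorem CAGroup.exists_sylow_le [Finite G] (h : CAGroup G) {x : G} (hx : x ≠ 1) {p : ℕ}
    [hp : Fact p.Prime] (hdvd : p ∣ Nat.card (Subgroup.centralizer ({x} : Set G))) :
    ∃ P : Sylow p G, (P : Subgroup G) ≤ Subgroup.centralizer ({x} : Set G) := by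
  obtain ⟨y, hy⟩ := exists_prime_orderOf_dvd_card' p hdvd
  have hy1 : (y : G) ≠ 1 := by
    intro h'
    have : y = 1 := Subtype.ext h'
    rw [this, orderOf_one] at hy
    exact hp.out.one_lt.ne hy
  have hyG : orderOf (y : G) = p := by rw [Subgroup.orderOf_coe]; exact hy
  have hpg : IsPGroup p (Subgroup.zpowers (y : G)) := by
    rw [IsPGroup.iff_card]
    exact ⟨1, by rw [Nat.card_zpowers, hyG, pow_one]⟩
  obtain ⟨P, hP⟩ := hpg.exists_le_sylow
  have hyP : (y : G) ∈ (P : Subgroup G) := hP (Subgroup.mem_zpowers _)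
  haveI : Nontrivial ↥(P : Subgroup G) := ⟨⟨⟨(y : G), hyP⟩, 1, fun h' => hy1 (congrArg Subtype.val h')⟩⟩
  haveI := P.isPGroup'.center_nontrivial
  obtain ⟨z, hz⟩ := exists_ne (1 : ↥(Subgroup.center ↥(P : Subgroup G)))
  have hz1 : ((z : ↥(P : Subgroup G)) : G) ≠ 1 := by
    intro h'
    apply hz
    apply Subtype.ext
    apply Subtype.ext
    exact h'
  have hzc : ∀ u : ↥(P : Subgroup G), u * (z : ↥(P : Subgroup G)) = (z : ↥(P : Subgroup G)) * u := by
    intro u
    have := Subgroup.mem_center_iff.mp z.2 u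
    exact this
  -- `z ∈ C(y) = C(x)`
  have hCy := h.centralizer_eq hx hy1 y.2
  have hzx : ((z : ↥(P : Subgroup G)) : G) ∈ Subgroup.centralizer ({x} : Set G) := by
    rw [← hCy, Subgroup.mem_centralizer_singleton_iff]
    have := hzc ⟨(y : G), hyP⟩
    exact (congrArg Subtype.val this).symm
  have hCz := h.centralizer_eq hx hz1 hzx
  refine ⟨P, ?_⟩
  intro u hu
  rw [← hCz, Subgroup.mem_centralizer_singleton_iff]
  have := hzc ⟨u, hu⟩
  exact congrArg Subtype.val this

/-- `C(x)` is a Hall subgroup -/
theorem CAGroup.coprime_card_index [Finite G] (h : CAGroup G) {x : G} (hx : x ≠ 1) :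
    Nat.Coprime (Nat.card (Subgroup.centralizer ({x} : Set G)))
      (Subgroup.centralizer ({x} : Set G)).index := by
  by_contra hcon
  rw [Nat.Prime.not_coprime_iff_dvd] at hcon
  obtain ⟨p, hp, h1, h2⟩ := hcon
  haveI : Fact p.Prime := ⟨hp⟩
  obtain ⟨P, hP⟩ := h.exists_sylow_le hx h1
  have h3 := Subgroup.index_dvd_of_le hP
  exact P.not_dvd_index (h2.trans h3)

/-- the inductive step when there is a proper nontrivial normal subgroup -/
theorem CAGroup.solvable_of_normal [Finite G] (h : CAGroup G)
    (ih : ∀ H : Subgroup G, H ≠ ⊤ → Group.IsSolvable ↥H)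
    (N : Subgroup G) (hNn : N.Normal) (hN1 : N ≠ ⊥) (hN2 : N ≠ ⊤) : Group.IsSolvable G := by
  classical
  -- a minimal normal subgroup
  obtain ⟨M, hM, hmin⟩ := WellFounded.has_min
    (wellFounded_lt : WellFounded ((· < ·) : Subgroup G → Subgroup G → Prop))
    {M : Subgroup G | M.Normal ∧ M ≠ ⊥ ∧ M ≠ ⊤} ⟨N, hNn, hN1, hN2⟩
  obtain ⟨hMn, hM1, hM2⟩ := hM
  haveI := hMn
  haveI : Group.IsSolvable ↥M := ih M hM2
  have hlt : ⁅M, M⁆ < M := by
    have hM1' := hM1
    rw [← Subgroup.nontrivial_iff_ne_bot] at hM1'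
    rw [← M.range_subtype, MonoidHom.range_eq_map, ← Subgroup.map_commutator,
      Subgroup.map_subtype_lt_map_subtype]
    exact Group.IsSolvable.commutator_lt_top_of_nontrivial ↥M
  have hcomm : ⁅M, M⁆ = ⊥ := by
    by_contra hne
    exact hmin ⁅M, M⁆ ⟨Subgroup.commutator_normal M M, hne, fun h' => by
      rw [h'] at hlt
      exact not_top_lt hlt⟩ hlt
  have hMc : M ≤ Subgroup.centralizer (M : Set G) :=
    Subgroup.commutator_eq_bot_iff_le_centralizer.mp hcomm
  obtain ⟨m, hmM, hm1⟩ := (Subgroup.bot_or_exists_ne_one M).resolve_left hM1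
  -- the centralizer of `M` is `C(m)`
  have hA : Subgroup.centralizer (M : Set G) = Subgroup.centralizer ({m} : Set G) := by
    apply le_antisymm
    · intro z hz
      rw [Subgroup.mem_centralizer_singleton_iff]
      exact (Subgroup.mem_centralizer_iff.mp hz m hmM).symm
    · intro z hz
      rw [Subgroup.mem_centralizer_iff]
      intro m' hm'
      have hm'c : m' ∈ Subgroup.centralizer ({m} : Set G) := by
        rw [Subgroup.mem_centralizer_singleton_iff]
        exact (Subgroup.mem_centralizer_iff.mp (hMc hm') m hmM).symm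
      exact h m hm1 m' hm'c z hz
  haveI hAn : (Subgroup.centralizer (M : Set G)).Normal := Subgroup.normal_centralizer
  by_cases hAtop : Subgroup.centralizer (M : Set G) = ⊤
  · apply Group.isSolvable_of_comm
    intro a b
    have ha : a ∈ Subgroup.centralizer ({m} : Set G) := by rw [← hA, hAtop]; trivial
    have hb : b ∈ Subgroup.centralizer ({m} : Set G) := by rw [← hA, hAtop]; trivial
    exact h m hm1 a ha b hb
  · have hcop : Nat.Coprime (Nat.card (Subgroup.centralizer (M : Set G)))
        (Subgroup.centralizer (M : Set G)).index := by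
      rw [hA]
      exact h.coprime_card_index hm1
    obtain ⟨K, hK⟩ := Subgroup.exists_right_complement'_of_coprime hcop
    have hKtop : K ≠ ⊤ := by
      intro h'
      rw [h', Subgroup.isComplement'_top_right] at hK
      have : m ∈ (⊥ : Subgroup G) := by
        rw [← hK]
        exact hMc hmM
      exact hm1 (Subgroup.mem_bot.mp this)
    haveI : Group.IsSolvable ↥K := ih K hKtop
    haveI : Group.IsSolvable ↥(Subgroup.centralizer (M : Set G)) := ih _ hAtop
    haveI : Group.IsSolvable (G ⧸ Subgroup.centralizer (M : Set G)) := by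
      apply Group.isSolvable_of_surjective
        (f := (QuotientGroup.mk' (Subgroup.centralizer (M : Set G))).comp K.subtype)
      intro q
      obtain ⟨g, rfl⟩ := QuotientGroup.mk'_surjective _ q
      obtain ⟨⟨a, k⟩, hak, -⟩ := (Subgroup.isComplement'_def.mp hK).existsUnique g
      refine ⟨k, ?_⟩
      simp only [MonoidHom.coe_comp, Function.comp_apply, Subgroup.coe_subtype,
        QuotientGroup.mk'_apply]
      simp only at hak
      rw [← hak, QuotientGroup.mk_mul, (QuotientGroup.eq_one_iff (a : G)).mpr a.2, one_mul]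
    exact Group.isSolvable_of_ker_le_range (Subgroup.centralizer (M : Set G)).subtype
      (QuotientGroup.mk' (Subgroup.centralizer (M : Set G))) (by simp)

end Cfsg.Agent.Lib.Helper52
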