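import Cfsg.Agent.Lib.Helper52.TIFNMain
import Cfsg.Agent.Lib.Helper52.CAGroup
import Cfsg.Agent.Lib.Helper74.FrobThm

/-!
# A CA-group of odd order is not a nonabelian simple group (Suzuki)
-/

set_option autoImplicit false
set_option linter.unusedSectionVars false
set_option linter.style.haveILetI false

namespace Cfsg.Agent.Lib.Helper52

open scoped Pointwise

universe u

/-- conjugacy of subgroups -/
def conjSetoid (G : Type u) [Group G] : Setoid (Subgroup G) where
  r A B := ∃ g : G, ∀ z, z ∈ A ↔ g * z * g⁻¹ ∈ B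
  iseqv := by
    refine ⟨fun A => ⟨1, by simp⟩, ?_, ?_⟩
    · rintro A B ⟨g, hg⟩
      refine ⟨g⁻¹, fun z => ?_⟩
      rw [hg]
      simp [mul_assoc]
    · rintro A B C ⟨g, hg⟩ ⟨g', hg'⟩
      refine ⟨g' * g, fun z => ?_⟩
      rw [hg, hg']
      simp [mul_assoc]

variable {G : Type u} [Group G]

theorem CAGroup.centralizer_ne_top (_h : CAGroup G) (hsimple : ∀ N : Subgroup G, N.Normal → N = ⊥ ∨ N = ⊤)
    (hnc : ¬ ∀ a b : G, a * b = b * a) {x : G} (hx : x ≠ 1) :
    Subgroup.centralizer ({x} : Set G) ≠ ⊤ := by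
  intro htop
  have hxc : x ∈ Subgroup.center G := by
    rw [Subgroup.mem_center_iff]
    intro g
    have : g ∈ Subgroup.centralizer ({x} : Set G) := by rw [htop]; trivial
    exact Subgroup.mem_centralizer_singleton_iff.mp this
  rcases hsimple (Subgroup.center G) inferInstance with h1 | h1
  · rw [h1] at hxc
    exact hx (Subgroup.mem_bot.mp hxc)
  · apply hnc
    intro a b
    have ha : a ∈ Subgroup.center G := by rw [h1]; trivial
    exact (Subgroup.mem_center_iff.mp ha b).symm

theorem CAGroup.lt_normalizer [Finite G] (h : CAGroup G)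
    (hsimple : ∀ N : Subgroup G, N.Normal → N = ⊥ ∨ N = ⊤)
    (hnc : ¬ ∀ a b : G, a * b = b * a) {x : G} (hx : x ≠ 1) :
    Subgroup.centralizer ({x} : Set G) <
      Subgroup.normalizer (Subgroup.centralizer ({x} : Set G) : Set G) := by
  set A := Subgroup.centralizer ({x} : Set G) with hA
  refine lt_of_le_of_ne Subgroup.le_normalizer ?_
  intro heq
  have hxA : x ∈ A := by
    rw [hA, Subgroup.mem_centralizer_singleton_iff]
  have hA1 : A ≠ ⊥ := by
    intro h'
    rw [h'] at hxA
    exact hx (Subgroup.mem_bot.mp hxA)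
  have hA2 : A ≠ ⊤ := h.centralizer_ne_top hsimple hnc hx
  have hfrob : Cfsg.IsFrobeniusComplement A := by
    refine ⟨hA1, hA2, ?_⟩
    intro g hg
    rw [eq_bot_iff]
    intro k hk
    rw [Subgroup.mem_inf] at hk
    obtain ⟨hk1, hk2⟩ := hk
    rw [Subgroup.mem_bot]
    by_contra hk0
    rw [Subgroup.mem_pointwise_smul_iff_inv_smul_mem] at hk2
    have hk2' : g⁻¹ * k * g ∈ A := by
      have : (MulAut.conj g)⁻¹ • k = g⁻¹ * k * g := by
        rw [← map_inv, MulAut.smul_def, MulAut.conj_apply, inv_inv]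
      rwa [this] at hk2
    have hk3 : g⁻¹ * k * g ≠ 1 := by
      intro h'
      apply hk0
      have h2 := congrArg (fun t => g * t * g⁻¹) h'
      simpa [mul_assoc] using h2
    have hmem : g ∈ Subgroup.normalizer (A : Set G) := by
      apply h.mem_normalizer hx hk3 hk2'
      have : g * (g⁻¹ * k * g) * g⁻¹ = k := by group
      rw [this]
      exact hk1
    rw [← heq] at hmem
    exact hg hmem
  obtain ⟨N, -, hNn, hcompl⟩ := Cfsg.Agent.Lib.Helper74.frobenius_theorem A hfrob
  rcases hsimple N hNn with h1 | h1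
  · rw [h1, Subgroup.isComplement'_bot_left] at hcompl
    exact hA2 hcompl
  · rw [h1, Subgroup.isComplement'_top_left] at hcompl
    exact hA1 hcompl

theorem CAGroup.false_of_simple [Finite G] (h : CAGroup G) (hodd : Odd (Nat.card G))
    (hsimple : ∀ N : Subgroup G, N.Normal → N = ⊥ ∨ N = ⊤)
    (hnc : ¬ ∀ a b : G, a * b = b * a) : False := by
  classical
  let ι : Type u := {A : Subgroup G // (∃ x : G, x ≠ 1 ∧ A = Subgroup.centralizer ({x} : Set G)) ∧
    Quotient.out (Quotient.mk (conjSetoid G) A) = A}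
  haveI : Fintype ι := Fintype.ofFinite ι
  let H : ι → Subgroup G := fun i => i.1
  -- basic facts about a member
  have hmem : ∀ i : ι, ∃ x : G, x ≠ 1 ∧ H i = Subgroup.centralizer ({x} : Set G) := fun i => i.2.1
  -- key: two members related by conjugation are equal
  have hrel : ∀ i j : ι, (∃ g : G, ∀ z, z ∈ H i ↔ g * z * g⁻¹ ∈ H j) → i = j := by
    intro i j hij
    have h1 : Quotient.mk (conjSetoid G) (H i) = Quotient.mk (conjSetoid G) (H j) :=
      Quotient.sound hij
    apply Subtype.ext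
    have h2 := i.2.2
    have h3 := j.2.2
    calc i.1 = Quotient.out (Quotient.mk (conjSetoid G) i.1) := h2.symm
      _ = Quotient.out (Quotient.mk (conjSetoid G) j.1) := by rw [h1]
      _ = j.1 := h3
  -- fusion forces conjugacy
  have hfus : ∀ i j : ι, ∀ g : G, ∀ k ∈ H i, k ≠ 1 → g * k * g⁻¹ ∈ H j → i = j := by
    intro i j g k hk hk1 hgk
    apply hrel i j
    obtain ⟨x, hx, hHi⟩ := hmem i
    obtain ⟨y, hy, hHj⟩ := hmem j
    have hgk1 : g * k * g⁻¹ ≠ 1 := by
      intro h'
      apply hk1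
      have h2 := congrArg (fun t => g⁻¹ * t * g) h'
      simpa [mul_assoc] using h2
    rw [hHi] at hk
    rw [hHj] at hgk
    have e1 := h.centralizer_eq hx hk1 hk
    have e2 := h.centralizer_eq hy hgk1 hgk
    refine ⟨g, fun z => ?_⟩
    rw [hHi, hHj, ← e1, ← e2, conj_mem_centralizer_iff]
  have hcover : ∀ g : G, g ≠ 1 → ∃ i : ι, ∃ x : G, x * g * x⁻¹ ∈ H i := by
    intro g hg
    set A := Subgroup.centralizer ({g} : Set G) with hA
    set B := Quotient.out (Quotient.mk (conjSetoid G) A) with hBdef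
    have hBA : (conjSetoid G).r B A := Quotient.exact (Quotient.out_eq _)
    obtain ⟨y, hy⟩ := hBA
    have hB : B = Subgroup.centralizer ({y⁻¹ * g * y} : Set G) := by
      ext z
      rw [hy]
      have := conj_mem_centralizer_iff y (y⁻¹ * g * y) z
      rw [show y * (y⁻¹ * g * y) * y⁻¹ = g by group] at this
      exact this
    have hne : y⁻¹ * g * y ≠ 1 := by
      intro h'
      apply hg
      have h2 := congrArg (fun t => y * t * y⁻¹) h'
      simpa [mul_assoc] using h2
    have hout : Quotient.out (Quotient.mk (conjSetoid G) B) = B := by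
      have : Quotient.mk (conjSetoid G) B = Quotient.mk (conjSetoid G) A := Quotient.out_eq _
      rw [this]
    refine ⟨⟨B, ⟨y⁻¹ * g * y, hne, hB⟩, hout⟩, y⁻¹, ?_⟩
    show y⁻¹ * g * y⁻¹⁻¹ ∈ B
    rw [inv_inv, hB, Subgroup.mem_centralizer_singleton_iff]
  obtain ⟨g₀, hg₀⟩ : ∃ g : G, g ≠ 1 := by
    by_contra hcon
    push Not at hcon
    apply hnc
    intro a b
    rw [hcon a, hcon b]
  haveI : Nonempty ι := by
    obtain ⟨i, -⟩ := hcover g₀ hg₀
    exact ⟨i⟩
  have hnf : ∀ i j : ι, i ≠ j → ∀ g : G, ∀ k ∈ H i, g * k * g⁻¹ ∈ H j → k = 1 := by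
    intro i j hij g k hk hgk
    by_contra hk1
    exact hij (hfus i j g k hk hk1 hgk)
  apply no_abelian_TI_partition hodd H
  · intro i
    obtain ⟨x, hx, hHi⟩ := hmem i
    intro h'
    have : x ∈ H i := by
      rw [hHi, Subgroup.mem_centralizer_singleton_iff]
    rw [h'] at this
    exact hx (Subgroup.mem_bot.mp this)
  · intro i g hg k hk hgk
    obtain ⟨x, hx, hHi⟩ := hmem i
    by_contra hk1
    apply hg
    rw [hHi] at hk hgk ⊢
    exact h.mem_normalizer hx hk1 hk hgk
  · intro i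
    obtain ⟨x, hx, hHi⟩ := hmem i
    rw [hHi]
    exact h.lt_normalizer hsimple hnc hx
  · intro i k hk hk1
    obtain ⟨x, hx, hHi⟩ := hmem i
    rw [hHi] at hk ⊢
    exact (h.centralizer_eq hx hk1 hk).le
  · intro i a ha b hb
    obtain ⟨x, hx, hHi⟩ := hmem i
    rw [hHi] at ha hb
    exact h x hx a ha b hb
  · exact hnf
  · intro i j hij hcard
    obtain ⟨x, hx, hHi⟩ := hmem i
    obtain ⟨y, hy, hHj⟩ := hmem j
    have hxi : x ∈ H i := by
      rw [hHi, Subgroup.mem_centralizer_singleton_iff]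
    have hcard1 : Nat.card (H i) ≠ 1 := by
      intro h1
      rw [Subgroup.card_eq_one] at h1
      rw [h1] at hxi
      exact hx (Subgroup.mem_bot.mp hxi)
    obtain ⟨p, hp, hpdvd⟩ := Nat.exists_prime_and_dvd hcard1
    haveI : Fact p.Prime := ⟨hp⟩
    have hpdvd' : p ∣ Nat.card (H j) := by rw [← hcard]; exact hpdvd
    rw [hHi] at hpdvd
    rw [hHj] at hpdvd'
    obtain ⟨P, hP⟩ := h.exists_sylow_le hx hpdvd
    obtain ⟨Q, hQ⟩ := h.exists_sylow_le hy hpdvd'
    obtain ⟨g, hg⟩ := MulAction.exists_smul_eq G P Q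
    have hPne : (P : Subgroup G) ≠ ⊥ :=
      P.ne_bot_of_dvd_card (hpdvd.trans (Subgroup.card_subgroup_dvd_card _))
    obtain ⟨k, hkP, hk1⟩ := (Subgroup.bot_or_exists_ne_one (P : Subgroup G)).resolve_left hPne
    have hgk : g * k * g⁻¹ ∈ (Q : Subgroup G) := by
      rw [← hg, Sylow.coe_subgroup_smul]
      have := Subgroup.smul_mem_pointwise_smul k (MulAut.conj g) (P : Subgroup G) hkP
      rwa [MulAut.smul_def, MulAut.conj_apply] at this
    apply hk1
    apply hnf i j hij g k
    · rw [hHi]; exact hP hkP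
    · rw [hHj]; exact hQ hgk
  · exact hcover

end Cfsg.Agent.Lib.Helper52
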