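import Cfsg.Agent.Lib.Helper52.CASimple

/-!
# Suzuki's CA-theorem for groups of odd order
-/

set_option autoImplicit false
set_option linter.unusedSectionVars false
set_option linter.style.haveILetI false

namespace Cfsg.Agent.Lib.Helper52

universe u

theorem ca_solvable_aux (n : ℕ) : ∀ (G : Type u) [Group G] [Finite G], Nat.card G = n →
    Odd (Nat.card G) → CAGroup G → Group.IsSolvable G := by
  induction n using Nat.strong_induction_on with
  | _ n ih =>
    intro G _ _ hn hodd hCA
    by_cases hcomm : ∀ a b : G, a * b = b * a
    · exact Group.isSolvable_of_comm hcomm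
    by_cases hsimple : ∀ N : Subgroup G, N.Normal → N = ⊥ ∨ N = ⊤
    · exact (hCA.false_of_simple hodd hsimple hcomm).elim
    push Not at hsimple
    obtain ⟨N, hNn, hN1, hN2⟩ := hsimple
    apply hCA.solvable_of_normal _ N hNn hN1 hN2
    intro H hH
    apply ih (Nat.card H) _ H rfl _ (hCA.subgroup H)
    · rw [← hn]
      apply lt_of_le_of_ne (Subgroup.card_le_card_group H)
      intro h'
      exact hH ((Subgroup.card_eq_iff_eq_top H).mp h')
    · exact Odd.of_dvd_nat hodd (Subgroup.card_subgroup_dvd_card H)

/-- **Suzuki's CA-theorem** for groups of odd order -/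
theorem ca_solvable {G : Type u} [Group G] [Finite G] (hodd : Odd (Nat.card G))
    (hCA : CAGroup G) : Group.IsSolvable G :=
  ca_solvable_aux (Nat.card G) G rfl hodd hCA

end Cfsg.Agent.Lib.Helper52
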