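/-
helper52: module S1329-[CASEC] of helper55's sheet `Lib/Helper55/S1329_SHEET.md`:
`N` a minimal `A`-invariant normal abelian subgroup of `Y` with `⁅N, Y⁆ = N`, Theorem T known for
the proper `A`-invariant subgroups of `Y`  ⇒  `C_N(A) ≤ ZStar A Y`.
-/
import Mathlib
import Cfsg.Agent.Lib.Helper55.CfgDefs
import Cfsg.Agent.S3734
import Cfsg.Agent.S0055
import Cfsg.Agent.S0058

set_option autoImplicit false

namespace Cfsg.Agent.Lib.Helper52.CFG

open Cfsg.Agent.Lib.Helper55.CFG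
open scoped commutatorElement
open scoped IsMulCommutative

variable {G : Type*} [Group G]

theorem le_normalizer_sup' {A B H : Subgroup G} (hA : H ≤ Subgroup.normalizer (A : Set G))
    (hB : H ≤ Subgroup.normalizer (B : Set G)) :
    H ≤ Subgroup.normalizer ((A ⊔ B : Subgroup G) : Set G) := by
  intro g hg
  rw [Cfsg.Agent.Lib.Helper54.mem_normalizer_iff_conj_smul, Subgroup.pointwise_smul_def]
  change Subgroup.map (MulAut.conj g).toMonoidHom (A ⊔ B) = A ⊔ B
  rw [Subgroup.map_sup]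
  have h1 := Cfsg.Agent.Lib.Helper54.mem_normalizer_iff_conj_smul.mp (hA hg)
  have h2 := Cfsg.Agent.Lib.Helper54.mem_normalizer_iff_conj_smul.mp (hB hg)
  rw [Subgroup.pointwise_smul_def] at h1 h2
  change Subgroup.map (MulAut.conj g).toMonoidHom A = A at h1
  change Subgroup.map (MulAut.conj g).toMonoidHom B = B at h2
  rw [h1, h2]

/-- **S1329-[CASEC]** -/
theorem case_noncentral {G : Type*} [Group G] [Finite G] (A Y N : Subgroup G)
    (hAab : IsMulCommutative A) (hAY : A ≤ Subgroup.normalizer (Y : Set G))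
    (hcop : (Nat.card A).Coprime (Nat.card Y)) (hYA : ⁅Y, A⁆ = Y)
    (hNY : N ≤ Y) (hNn : Y ≤ Subgroup.normalizer (N : Set G))
    (hNA : A ≤ Subgroup.normalizer (N : Set G)) (hNab : IsMulCommutative N)
    (hNmin : ∀ N' : Subgroup G, N' ≤ N → Y ≤ Subgroup.normalizer (N' : Set G) →
      A ≤ Subgroup.normalizer (N' : Set G) → N' = ⊥ ∨ N' = N)
    (hNcomm : ⁅N, Y⁆ = N)
    (IH : ∀ L : Subgroup G, L ≤ Y → L ≠ Y → A ≤ Subgroup.normalizer (L : Set G) →
      (L ⊓ Subgroup.centralizer (A : Set G)) ⊓ ⁅L, A⁆ ≤ ZStar A L) :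
    N ⊓ Subgroup.centralizer (A : Set G) ≤ ZStar A Y := by
  classical
  haveI := hAab
  haveI := hNab
  have hS2 : (⨆ B ∈ Cocyc A, ⁅Y ⊓ Subgroup.centralizer (B : Set G), A⁆) = Y :=
    (Cfsg.Agent.S3734.result A Y hAab hAY hcop).2.trans hYA
  -- facts on `Y(B)`
  have k1 : ∀ B ∈ Cocyc A,
      A ≤ Subgroup.normalizer ((Y ⊓ Subgroup.centralizer (B : Set G) : Subgroup G) : Set G) := by
    intro B hB
    exact Cfsg.Agent.Lib.Helper54.le_normalizer_inf hAY
      (Cfsg.Agent.S3734.le_normalizer_centralizer A (fun x hx => hB.1 hx))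
  have k2 : ∀ B ∈ Cocyc A, ⁅Y ⊓ Subgroup.centralizer (B : Set G), A⁆ ≤ Y := by
    intro B _
    exact (Subgroup.commutator_mono inf_le_left le_rfl).trans hYA.le
  have k3 : ∀ B ∈ Cocyc A, ⁅N, ⁅Y ⊓ Subgroup.centralizer (B : Set G), A⁆⁆ ≤ N := by
    intro B hB
    exact Subgroup.le_normalizer_iff_commutator_le_left.mp ((k2 B hB).trans hNn)
  have hAcent : ∀ B : Subgroup G, B ≤ A → A ≤ Subgroup.centralizer (B : Set G) := by
    intro B hBA a ha
    rw [Subgroup.mem_centralizer_iff]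
    intro b hb
    have := mul_comm (⟨b, hBA hb⟩ : A) ⟨a, ha⟩
    exact congrArg Subtype.val this
  by_cases hc1 : ∃ B ∈ Cocyc A, N ⊔ (Y ⊓ Subgroup.centralizer (B : Set G)) = Y
  · -- case (c1)
    obtain ⟨B, hB, hsup⟩ := hc1
    have hBN : B ≤ Subgroup.normalizer (N : Set G) := hB.1.trans hNA
    have hM_le : ⁅N, B⁆ ≤ N := Subgroup.le_normalizer_iff_commutator_le_left.mp hBN
    have hAB : A ≤ Subgroup.normalizer (B : Set G) :=
      (hAcent B hB.1).trans (Subgroup.centralizer_le_normalizer _)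
    have hYM : Y ≤ Subgroup.normalizer ((⁅N, B⁆ : Subgroup G) : Set G) := by
      calc Y = N ⊔ (Y ⊓ Subgroup.centralizer (B : Set G)) := hsup.symm
        _ ≤ Subgroup.normalizer ((⁅N, B⁆ : Subgroup G) : Set G) :=
          sup_le (Subgroup.normalizer_commutator_ge_left N B)
            (le_trans (le_inf (inf_le_left.trans hNn)
              (inf_le_right.trans (Subgroup.centralizer_le_normalizer _)))
              (Cfsg.Agent.S0058.le_normalizer_commutator' N B))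
    have hAM : A ≤ Subgroup.normalizer ((⁅N, B⁆ : Subgroup G) : Set G) :=
      le_trans (le_inf hNA hAB) (Cfsg.Agent.S0058.le_normalizer_commutator' N B)
    rcases hNmin ⁅N, B⁆ hM_le hYM hAM with h0 | h1
    · have hNC : N ≤ Subgroup.centralizer (B : Set G) :=
        Subgroup.commutator_eq_bot_iff_le_centralizer.mp h0
      have hYC : Y ≤ Subgroup.centralizer (B : Set G) := by
        calc Y = N ⊔ (Y ⊓ Subgroup.centralizer (B : Set G)) := hsup.symm
          _ ≤ Subgroup.centralizer (B : Set G) := sup_le hNC inf_le_right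
      have e : Y ⊓ Subgroup.centralizer (B : Set G) = Y := inf_eq_left.mpr hYC
      have h2 := le_ZStar A Y hB
      rw [e, hYA] at h2
      intro x hx
      exact h2 ⟨⟨hNY hx.1, hx.2⟩, hNY hx.1⟩
    · have hcopBN : (Nat.card B).Coprime (Nat.card N) :=
        Nat.Coprime.coprime_dvd_left (Subgroup.card_dvd_of_le hB.1)
          (Nat.Coprime.coprime_dvd_right (Subgroup.card_dvd_of_le hNY) hcop)
      have h55 := (Cfsg.Agent.S0055.result B N hBN hcopBN).1
      rw [h1] at h55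
      intro x hx
      have hxB : x ∈ Subgroup.centralizer (B : Set G) :=
        Subgroup.centralizer_le (fun y hy => hB.1 hy) hx.2
      have h3 : x ∈ (N ⊓ Subgroup.centralizer (B : Set G)) ⊓ N := ⟨⟨hx.1, hxB⟩, hx.1⟩
      rw [h55] at h3
      rw [Subgroup.mem_bot.mp h3]
      exact Subgroup.one_mem _
  · -- case (c2)
    push Not at hc1
    have hAYB : ∀ B ∈ Cocyc A, A ≤ Subgroup.normalizer
        ((⁅Y ⊓ Subgroup.centralizer (B : Set G), A⁆ : Subgroup G) : Set G) :=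
      fun B _ => Subgroup.normalizer_commutator_ge_right _ A
    have hAVB : ∀ B ∈ Cocyc A, A ≤ Subgroup.normalizer
        ((⁅N, ⁅Y ⊓ Subgroup.centralizer (B : Set G), A⁆⁆ : Subgroup G) : Set G) :=
      fun B hB => le_trans (le_inf hNA (hAYB B hB))
        (Cfsg.Agent.S0058.le_normalizer_commutator' N _)
    -- step 2
    have step2 : ∀ B ∈ Cocyc A,
        ⁅N, ⁅Y ⊓ Subgroup.centralizer (B : Set G), A⁆⁆ ⊓ Subgroup.centralizer (A : Set G) ≤
          ZStar A Y := by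
      intro B hB
      have hLY : N ⊔ (Y ⊓ Subgroup.centralizer (B : Set G)) ≤ Y := sup_le hNY inf_le_left
      have hAL : A ≤ Subgroup.normalizer
          ((N ⊔ (Y ⊓ Subgroup.centralizer (B : Set G)) : Subgroup G) : Set G) :=
        le_normalizer_sup' hNA (k1 B hB)
      have hIH := IH _ hLY (hc1 B hB) hAL
      have h1 : ⁅N, ⁅Y ⊓ Subgroup.centralizer (B : Set G), A⁆⁆ ≤
          ⁅N ⊔ (Y ⊓ Subgroup.centralizer (B : Set G)), A⁆ := by
        calc ⁅N, ⁅Y ⊓ Subgroup.centralizer (B : Set G), A⁆⁆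
            ≤ ⁅N ⊔ (Y ⊓ Subgroup.centralizer (B : Set G)),
                ⁅N ⊔ (Y ⊓ Subgroup.centralizer (B : Set G)), A⁆⁆ :=
              Subgroup.commutator_mono le_sup_left (Subgroup.commutator_mono le_sup_right le_rfl)
          _ ≤ ⁅N ⊔ (Y ⊓ Subgroup.centralizer (B : Set G)), A⁆ :=
              Subgroup.le_normalizer_iff_commutator_le_right.mp
                (Subgroup.normalizer_commutator_ge_left _ A)
      have h2 : ⁅N, ⁅Y ⊓ Subgroup.centralizer (B : Set G), A⁆⁆ ≤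
          N ⊔ (Y ⊓ Subgroup.centralizer (B : Set G)) := (k3 B hB).trans le_sup_left
      intro x hx
      exact ZStar_mono A hLY (hIH ⟨⟨h2 hx.1, hx.2⟩, h1 hx.1⟩)
    -- step 1: `N ≤ W`
    have hWN : (⨆ B ∈ Cocyc A, ⁅N, ⁅Y ⊓ Subgroup.centralizer (B : Set G), A⁆⁆) ≤ N :=
      iSup₂_le (fun B hB => k3 B hB)
    have hVW : ∀ B ∈ Cocyc A, ⁅N, ⁅Y ⊓ Subgroup.centralizer (B : Set G), A⁆⁆ ≤
        ⨆ B ∈ Cocyc A, ⁅N, ⁅Y ⊓ Subgroup.centralizer (B : Set G), A⁆⁆ := fun B hB =>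
      le_iSup₂ (f := fun B (_ : B ∈ Cocyc A) =>
        ⁅N, ⁅Y ⊓ Subgroup.centralizer (B : Set G), A⁆⁆) B hB
    have hYBW : ∀ B ∈ Cocyc A, ⁅Y ⊓ Subgroup.centralizer (B : Set G), A⁆ ≤
        Subgroup.normalizer
          (((⨆ B ∈ Cocyc A, ⁅N, ⁅Y ⊓ Subgroup.centralizer (B : Set G), A⁆⁆ : Subgroup G)) :
            Set G) := by
      intro B hB
      rw [Subgroup.le_normalizer_iff_commutator_le_right]
      calc ⁅⁅Y ⊓ Subgroup.centralizer (B : Set G), A⁆,
            ⨆ B ∈ Cocyc A, ⁅N, ⁅Y ⊓ Subgroup.centralizer (B : Set G), A⁆⁆⁆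
          ≤ ⁅⁅Y ⊓ Subgroup.centralizer (B : Set G), A⁆, N⁆ :=
            Subgroup.commutator_mono le_rfl hWN
        _ = ⁅N, ⁅Y ⊓ Subgroup.centralizer (B : Set G), A⁆⁆ := Subgroup.commutator_comm _ _
        _ ≤ _ := hVW B hB
    let T : Subgroup G :=
      { carrier := {g | g ∈ Subgroup.normalizer
            (((⨆ B ∈ Cocyc A, ⁅N, ⁅Y ⊓ Subgroup.centralizer (B : Set G), A⁆⁆ : Subgroup G)) :
              Set G) ∧
          ∀ n ∈ N, ⁅n, g⁆ ∈ ⨆ B ∈ Cocyc A, ⁅N, ⁅Y ⊓ Subgroup.centralizer (B : Set G), A⁆⁆}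
        one_mem' := ⟨Subgroup.one_mem _, fun n _ => by simp⟩
        mul_mem' := by
          rintro g h ⟨hg, hg'⟩ ⟨hh, hh'⟩
          refine ⟨Subgroup.mul_mem _ hg hh, fun n hn => ?_⟩
          have h1 : ⁅n, g * h⁆ = ⁅n, g⁆ * (g * ⁅n, h⁆ * g⁻¹) := by
            simp only [commutatorElement_def]; group
          rw [h1]
          exact Subgroup.mul_mem _ (hg' n hn)
            ((Subgroup.mem_normalizer_iff.mp hg _).mp (hh' n hn))
        inv_mem' := by
          rintro g ⟨hg, hg'⟩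
          refine ⟨Subgroup.inv_mem _ hg, fun n hn => ?_⟩
          have h1 : ⁅n, g⁻¹⁆ = g⁻¹ * ⁅n, g⁆⁻¹ * g⁻¹⁻¹ := by
            simp only [commutatorElement_def]; group
          rw [h1]
          exact (Subgroup.mem_normalizer_iff.mp (Subgroup.inv_mem _ hg) _).mp
            (Subgroup.inv_mem _ (hg' n hn)) }
    have hYT : Y ≤ T := by
      calc Y = ⨆ B ∈ Cocyc A, ⁅Y ⊓ Subgroup.centralizer (B : Set G), A⁆ := hS2.symm
        _ ≤ T := by
          apply iSup₂_le
          intro B hB g hg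
          exact ⟨hYBW B hB hg, fun n hn =>
            hVW B hB (Subgroup.commutator_mem_commutator hn hg)⟩
    have hNW : N ≤ ⨆ B ∈ Cocyc A, ⁅N, ⁅Y ⊓ Subgroup.centralizer (B : Set G), A⁆⁆ := by
      have key : ⁅N, Y⁆ ≤ ⨆ B ∈ Cocyc A, ⁅N, ⁅Y ⊓ Subgroup.centralizer (B : Set G), A⁆⁆ := by
        rw [Subgroup.commutator_le]
        intro n hn y hy
        exact (hYT hy).2 n hn
      exact hNcomm.ge.trans key
    -- step 3: the norm map
    intro x hx
    have hxW := hNW hx.1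
    let f : ↥N →* G := N.subtype.comp (Cfsg.Agent.S0055.avg A N hNA)
    have hfV : ∀ B ∈ Cocyc A, ⁅N, ⁅Y ⊓ Subgroup.centralizer (B : Set G), A⁆⁆ ≤
        ((ZStar A Y).comap f).map N.subtype := by
      intro B hB v hv
      have hvN : v ∈ N := k3 B hB hv
      refine ⟨⟨v, hvN⟩, ?_, rfl⟩
      show f ⟨v, hvN⟩ ∈ ZStar A Y
      apply step2 B hB
      refine Subgroup.mem_inf.mpr ⟨?_, ?_⟩
      · have h1 : Cfsg.Agent.S0055.avg A N hNA ⟨v, hvN⟩ ∈
            (⁅N, ⁅Y ⊓ Subgroup.centralizer (B : Set G), A⁆⁆).subgroupOf N := by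
          rw [Cfsg.Agent.S0055.avg_apply]
          apply Subgroup.prod_mem
          intro a _
          rw [Subgroup.mem_subgroupOf, Cfsg.Agent.S0055.conjV_coe]
          exact (Subgroup.mem_normalizer_iff.mp (hAVB B hB a.2) v).mp hv
        exact Subgroup.mem_subgroupOf.mp h1
      · rw [Subgroup.mem_centralizer_iff]
        intro a ha
        have h2 := congrArg Subtype.val
          (Cfsg.Agent.S0055.conj_avg A N hNA ⟨a, ha⟩ ⟨v, hvN⟩)
        rw [Cfsg.Agent.S0055.conjV_coe] at h2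
        show a * ((Cfsg.Agent.S0055.avg A N hNA ⟨v, hvN⟩ : ↥N) : G) =
          ((Cfsg.Agent.S0055.avg A N hNA ⟨v, hvN⟩ : ↥N) : G) * a
        have h3 : a * ((Cfsg.Agent.S0055.avg A N hNA ⟨v, hvN⟩ : ↥N) : G) =
            (a * ((Cfsg.Agent.S0055.avg A N hNA ⟨v, hvN⟩ : ↥N) : G) * a⁻¹) * a := by group
        rw [h3]
        exact congrArg (· * a) h2
    have hW' : (⨆ B ∈ Cocyc A, ⁅N, ⁅Y ⊓ Subgroup.centralizer (B : Set G), A⁆⁆) ≤
        ((ZStar A Y).comap f).map N.subtype := iSup₂_le hfV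
    obtain ⟨s, hs, hsx⟩ := hW' hxW
    have hs' : s = ⟨x, hx.1⟩ := Subtype.ext hsx
    rw [hs'] at hs
    have hfx : f ⟨x, hx.1⟩ = x ^ Nat.card A := by
      show ((Cfsg.Agent.S0055.avg A N hNA ⟨x, hx.1⟩ : ↥N) : G) = _
      rw [Cfsg.Agent.S0055.avg_of_fixed A N hNA ⟨x, hx.1⟩ hx.2]
      rfl
    have hs2 : x ^ Nat.card A ∈ ZStar A Y := by
      rw [← hfx]
      exact hs
    have hcopx : (Nat.card A).Coprime (orderOf x) :=
      Nat.Coprime.coprime_dvd_right (Subgroup.orderOf_dvd_natCard Y (hNY hx.1)) hcop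
    obtain ⟨m, hm⟩ := exists_pow_eq_self_of_coprime hcopx
    rw [← hm]
    exact Subgroup.pow_mem _ hs2 m

end Cfsg.Agent.Lib.Helper52.CFG
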