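import Cfsg.Agent.Lib.Helper52.CohTISum

/-!
# Two coherent T.I. subgroups with Frobenius normalizers and no fusion
-/

set_option autoImplicit false
set_option linter.unusedSectionVars false
set_option linter.style.haveILetI false

namespace Cfsg.Agent.Lib.Helper52

open Cfsg Cfsg.Agent.Lib.Helper74 Cfsg.Agent.Lib.Helper78 Cfsg.Agent.Lib.Helper75
open scoped ComplexConjugate

universe u

section Cross

variable {G : Type u} [Group G] [Fintype G] {K K' : Subgroup G}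
variable [Fintype ↥(Subgroup.normalizer (K : Set G))]
variable [Fintype ↥(Subgroup.normalizer (K' : Set G))]

theorem tifnBeta_supp
    (hC : ∀ k ∈ K, k ≠ 1 → Subgroup.centralizer ({k} : Set G) ≤ K) (χ ξ : RelChar K) {g : G}
    (hg : indFun (Subgroup.normalizer (K : Set G))
      (tifnBeta (χ.1 : ↥(Subgroup.normalizer (K : Set G)) → ℂ)
        (ξ.1 : ↥(Subgroup.normalizer (K : Set G)) → ℂ)) g ≠ 0) :
    ∃ k ∈ K, k ≠ 1 ∧ ∃ x : G, x⁻¹ * g * x = k := by
  apply indFun_supp _ _ hg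
  · intro x hx
    exact zspan_tifnS_vanish hC (tifnBeta_mem_zspan χ.mem_tifnS ξ.mem_tifnS) x hx
  · exact tifnBeta_one χ.mem_tifnS ξ.mem_tifnS

theorem sum_mult_mul_cross'
    (hnf : ∀ g : G, ∀ k ∈ K, g * k * g⁻¹ ∈ K' → k = 1)
    (hC : ∀ k ∈ K, k ≠ 1 → Subgroup.centralizer ({k} : Set G) ≤ K)
    (hC' : ∀ k ∈ K', k ≠ 1 → Subgroup.centralizer ({k} : Set G) ≤ K')
    (ζ : RelChar K) (ζ' : RelChar K')
    (hζ1 : (ζ.1 : ↥(Subgroup.normalizer (K : Set G)) → ℂ) 1 =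
      ((K.subgroupOf (Subgroup.normalizer (K : Set G))).index : ℂ))
    (hζ1' : (ζ'.1 : ↥(Subgroup.normalizer (K' : Set G)) → ℂ) 1 =
      ((K'.subgroupOf (Subgroup.normalizer (K' : Set G))).index : ℂ)) :
    ∑ ψ : IrrCharacter G, mult ζ ψ * mult ζ' ψ = 0 := by
  have h := classInner_eq_sum_mul_conj (gammaK ζ') (gammaK_isClassFunction ζ)
  rw [classInner_eq_zero_of_supp hnf (fun g hg => gammaK_supp' hC ζ hζ1 hg)
    (fun g hg => gammaK_supp' hC' ζ' hζ1' hg)] at h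
  have h2 : ∑ ψ : IrrCharacter G, classInner (gammaK ζ) (ψ : G → ℂ) *
      conj (classInner (gammaK ζ') (ψ : G → ℂ)) =
      ((∑ ψ : IrrCharacter G, mult ζ ψ * mult ζ' ψ : ℤ) : ℂ) := by
    push_cast
    apply Finset.sum_congr rfl
    intro ψ _
    rw [mult_spec, mult_spec, map_intCast]
  rw [h2] at h
  exact_mod_cast h.symm

/-- the multiplicities in `Γ` of the exceptional characters of `K'` are proportional to the
degrees -/
theorem mult_cross_prop
    (hnf : ∀ g : G, ∀ k ∈ K, g * k * g⁻¹ ∈ K' → k = 1)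
    (hC : ∀ k ∈ K, k ≠ 1 → Subgroup.centralizer ({k} : Set G) ≤ K)
    (hC' : ∀ k ∈ K', k ≠ 1 → Subgroup.centralizer ({k} : Set G) ≤ K')
    (ζ : RelChar K)
    (hζ1 : (ζ.1 : ↥(Subgroup.normalizer (K : Set G)) → ℂ) 1 =
      ((K.subgroupOf (Subgroup.normalizer (K : Set G))).index : ℂ))
    (D' : CohData K') (χ' ξ' : RelChar K') :
    (charDegree (ξ'.1 : ↥(Subgroup.normalizer (K' : Set G)) → ℂ) : ℤ) * mult ζ (D'.f χ') =
      (charDegree (χ'.1 : ↥(Subgroup.normalizer (K' : Set G)) → ℂ) : ℤ) * mult ζ (D'.f ξ') := by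
  have h := classInner_eq_zero_of_supp hnf (fun g hg => gammaK_supp' hC ζ hζ1 hg)
    (fun g hg => tifnBeta_supp hC' χ' ξ' hg)
  rw [D'.star_tifnBeta, classInner_smul_right, Cfsg.Agent.Lib.Helper26.classInner_sub_right,
    classInner_smul_right, classInner_smul_right, mult_spec, mult_spec, Complex.conj_natCast,
    Complex.conj_natCast] at h
  rcases mul_eq_zero.mp h with h | h
  · exfalso
    rw [D'.conj_ε] at h
    exact D'.ε_ne_zero h
  · have := sub_eq_zero.mp h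
    exact_mod_cast this

theorem exc_ne_exc'
    (hnf : ∀ g : G, ∀ k ∈ K, g * k * g⁻¹ ∈ K' → k = 1)
    (hC : ∀ k ∈ K, k ≠ 1 → Subgroup.centralizer ({k} : Set G) ≤ K)
    (hC' : ∀ k ∈ K', k ≠ 1 → Subgroup.centralizer ({k} : Set G) ≤ K')
    (htwo : ∃ χ ξ : RelChar K, χ ≠ ξ) (htwo' : ∃ χ ξ : RelChar K', χ ≠ ξ)
    (D : CohData K) (D' : CohData K')
    (χ : RelChar K) (χ' : RelChar K') : D.f χ ≠ D'.f χ' := by
  intro heq
  obtain ⟨ξ, hξ⟩ : ∃ ξ : RelChar K, ξ ≠ χ := by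
    obtain ⟨χ₀, ξ₀, hne⟩ := htwo
    by_cases h : χ₀ = χ
    · exact ⟨ξ₀, fun h' => hne (h.trans h'.symm)⟩
    · exact ⟨χ₀, h⟩
  obtain ⟨ξ', hξ'⟩ : ∃ ξ' : RelChar K', ξ' ≠ χ' := by
    obtain ⟨χ₀, ξ₀, hne⟩ := htwo'
    by_cases h : χ₀ = χ'
    · exact ⟨ξ₀, fun h' => hne (h.trans h'.symm)⟩
    · exact ⟨χ₀, h⟩
  have h := classInner_eq_zero_of_supp hnf (fun g hg => tifnBeta_supp hC χ ξ hg)
    (fun g hg => tifnBeta_supp hC' χ' ξ' hg)
  rw [D.star_tifnBeta, D'.star_tifnBeta] at h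
  simp only [classInner_smul_left, classInner_smul_right,
    Cfsg.Agent.Lib.Helper26.classInner_sub_left, Cfsg.Agent.Lib.Helper26.classInner_sub_right,
    classInner_irr_irr, Complex.conj_natCast, if_pos heq] at h
  have h1 : ¬ D.f χ = D'.f ξ' := fun h' => hξ' (D'.hf (h'.symm.trans heq))
  have h2 : ¬ D.f ξ = D'.f χ' := fun h' => hξ (D.hf (h'.trans heq.symm))
  rw [if_neg h1, if_neg h2] at h
  simp only [mul_one, mul_zero, sub_zero, D'.conj_ε] at h
  have p1 := charDegree_pos_rel ξ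
  have p2 := charDegree_pos_rel ξ'
  have p3 := charDegree_pos_rel χ
  have p4 := charDegree_pos_rel χ'
  have key : D'.ε * D.ε * (((charDegree (ξ.1 : ↥(Subgroup.normalizer (K : Set G)) → ℂ) : ℕ) : ℂ) *
      ((charDegree (ξ'.1 : ↥(Subgroup.normalizer (K' : Set G)) → ℂ) : ℕ) : ℂ) +
      ((charDegree (χ.1 : ↥(Subgroup.normalizer (K : Set G)) → ℂ) : ℕ) : ℂ) *
      ((charDegree (χ'.1 : ↥(Subgroup.normalizer (K' : Set G)) → ℂ) : ℕ) : ℂ) *
      (if D.f ξ = D'.f ξ' then 1 else 0)) = 0 := by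
    linear_combination h
  rcases mul_eq_zero.mp key with h | h
  · rcases mul_eq_zero.mp h with h | h
    · exact D'.ε_ne_zero h
    · exact D.ε_ne_zero h
  · split_ifs at h
    · have h3 : ((charDegree (ξ.1 : ↥(Subgroup.normalizer (K : Set G)) → ℂ) *
          charDegree (ξ'.1 : ↥(Subgroup.normalizer (K' : Set G)) → ℂ) +
          charDegree (χ.1 : ↥(Subgroup.normalizer (K : Set G)) → ℂ) *
          charDegree (χ'.1 : ↥(Subgroup.normalizer (K' : Set G)) → ℂ) : ℕ) : ℂ) = 0 := by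
        push_cast
        linear_combination h
      have h4 : charDegree (ξ.1 : ↥(Subgroup.normalizer (K : Set G)) → ℂ) *
          charDegree (ξ'.1 : ↥(Subgroup.normalizer (K' : Set G)) → ℂ) +
          charDegree (χ.1 : ↥(Subgroup.normalizer (K : Set G)) → ℂ) *
          charDegree (χ'.1 : ↥(Subgroup.normalizer (K' : Set G)) → ℂ) = 0 := by exact_mod_cast h3
      have : 0 < charDegree (ξ.1 : ↥(Subgroup.normalizer (K : Set G)) → ℂ) *
          charDegree (ξ'.1 : ↥(Subgroup.normalizer (K' : Set G)) → ℂ) := Nat.mul_pos p1 p2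
      omega
    · have h3 : ((charDegree (ξ.1 : ↥(Subgroup.normalizer (K : Set G)) → ℂ) *
          charDegree (ξ'.1 : ↥(Subgroup.normalizer (K' : Set G)) → ℂ) : ℕ) : ℂ) = 0 := by
        push_cast
        linear_combination h
      have h4 : charDegree (ξ.1 : ↥(Subgroup.normalizer (K : Set G)) → ℂ) *
          charDegree (ξ'.1 : ↥(Subgroup.normalizer (K' : Set G)) → ℂ) = 0 := by exact_mod_cast h3
      have : 0 < charDegree (ξ.1 : ↥(Subgroup.normalizer (K : Set G)) → ℂ) *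
          charDegree (ξ'.1 : ↥(Subgroup.normalizer (K' : Set G)) → ℂ) := Nat.mul_pos p1 p2
      omega

theorem excSet_disjoint'
    (hnf : ∀ g : G, ∀ k ∈ K, g * k * g⁻¹ ∈ K' → k = 1)
    (hC : ∀ k ∈ K, k ≠ 1 → Subgroup.centralizer ({k} : Set G) ≤ K)
    (hC' : ∀ k ∈ K', k ≠ 1 → Subgroup.centralizer ({k} : Set G) ≤ K')
    (htwo : ∃ χ ξ : RelChar K, χ ≠ ξ) (htwo' : ∃ χ ξ : RelChar K', χ ≠ ξ)
    (D : CohData K) (D' : CohData K') : Disjoint D.excSet D'.excSet := by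
  rw [Finset.disjoint_left]
  intro ψ h1 h2
  rw [CohData.mem_excSet] at h1 h2
  obtain ⟨χ, rfl⟩ := h1
  obtain ⟨χ', h'⟩ := h2
  exact exc_ne_exc' hnf hC hC' htwo htwo' D D' χ χ' h'.symm

/-- the sum of the squares of the multiplicities in `Γ` of the exceptional characters of `K'` -/
theorem sum_sq_mult_cross
    (hnf : ∀ g : G, ∀ k ∈ K, g * k * g⁻¹ ∈ K' → k = 1)
    (hC : ∀ k ∈ K, k ≠ 1 → Subgroup.centralizer ({k} : Set G) ≤ K)
    (hC' : ∀ k ∈ K', k ≠ 1 → Subgroup.centralizer ({k} : Set G) ≤ K')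
    (ζ : RelChar K)
    (hζ1 : (ζ.1 : ↥(Subgroup.normalizer (K : Set G)) → ℂ) 1 =
      ((K.subgroupOf (Subgroup.normalizer (K : Set G))).index : ℂ))
    (D' : CohData K') (ζ' : RelChar K')
    (hζ1' : (ζ'.1 : ↥(Subgroup.normalizer (K' : Set G)) → ℂ) 1 =
      ((K'.subgroupOf (Subgroup.normalizer (K' : Set G))).index : ℂ)) :
    ∑ ψ ∈ D'.excSet, ((mult ζ ψ : ℤ) : ℝ) ^ 2 =
      ((Nat.card K' : ℝ) - 1) / ((K'.subgroupOf (Subgroup.normalizer (K' : Set G))).index : ℝ) *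
        ((mult ζ (D'.f ζ') : ℤ) : ℝ) ^ 2 := by
  classical
  haveI : Finite (RelChar K') := Finite.of_injective D'.f D'.hf
  haveI : Fintype (RelChar K') := Fintype.ofFinite _
  set e : ℝ := ((K'.subgroupOf (Subgroup.normalizer (K' : Set G))).index : ℝ) with he
  have he0 : e ≠ 0 := by
    have : (K'.subgroupOf (Subgroup.normalizer (K' : Set G))).index ≠ 0 :=
      Subgroup.index_ne_zero_of_finite
    rw [he]
    exact_mod_cast this
  have hζd : charDegree (ζ'.1 : ↥(Subgroup.normalizer (K' : Set G)) → ℂ) =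
      (K'.subgroupOf (Subgroup.normalizer (K' : Set G))).index := by
    have h1 := IsCharacter.apply_one_eq_charDegree (IsIrrCharacter.isCharacter ζ'.1.2)
    rw [hζ1'] at h1
    exact_mod_cast h1.symm
  rw [D'.sum_excSet (fun ψ => ((mult ζ ψ : ℤ) : ℝ) ^ 2)]
  have hterm : ∀ χ' : RelChar K', ((mult ζ (D'.f χ') : ℤ) : ℝ) ^ 2 =
      ((mult ζ (D'.f ζ') : ℤ) : ℝ) ^ 2 / e ^ 2 *
        ((charDegree (χ'.1 : ↥(Subgroup.normalizer (K' : Set G)) → ℂ) : ℕ) : ℝ) ^ 2 := by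
    intro χ'
    have h := mult_cross_prop hnf hC hC' ζ hζ1 D' χ' ζ'
    rw [hζd] at h
    have h' : e * ((mult ζ (D'.f χ') : ℤ) : ℝ) =
        ((charDegree (χ'.1 : ↥(Subgroup.normalizer (K' : Set G)) → ℂ) : ℕ) : ℝ) *
          ((mult ζ (D'.f ζ') : ℤ) : ℝ) := by
      rw [he]
      exact_mod_cast h
    have h2 : ((mult ζ (D'.f χ') : ℤ) : ℝ) =
        ((charDegree (χ'.1 : ↥(Subgroup.normalizer (K' : Set G)) → ℂ) : ℕ) : ℝ) *
          ((mult ζ (D'.f ζ') : ℤ) : ℝ) / e := by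
      rw [eq_div_iff he0]
      linarith
    rw [h2]
    field_simp
  rw [Finset.sum_congr rfl (fun χ _ => hterm χ), ← Finset.mul_sum]
  have hS := sum_relChar_degree_sq (K := K') hC'
  have hS' : ∑ χ : RelChar K',
      ((charDegree (χ.1 : ↥(Subgroup.normalizer (K' : Set G)) → ℂ) : ℕ) : ℝ) ^ 2 =
      (Nat.card K' : ℝ) * e - e := by
    have : ((∑ χ : RelChar K',
        charDegree (χ.1 : ↥(Subgroup.normalizer (K' : Set G)) → ℂ) ^ 2 +
          (K'.subgroupOf (Subgroup.normalizer (K' : Set G))).index : ℕ) : ℝ) =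
        ((Nat.card K' * (K'.subgroupOf (Subgroup.normalizer (K' : Set G))).index : ℕ) : ℝ) := by
      rw [hS]
    push_cast at this
    linarith
  rw [hS']
  field_simp

end Cross

end Cfsg.Agent.Lib.Helper52
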