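import Cfsg.Agent.Lib.Helper52.TIFNMain
import Cfsg.Agent.S0852
import Cfsg.Agent.S0853

/-!
# Coherent data attached to a T.I. subgroup with Frobenius normalizer

`K ≤ G` a T.I. subgroup containing the centralizers of its non-identity elements, `N = N_G(K)`.
If the set of relevant characters of `N` is coherent, we extract a sign `ε` and an injective map
`f` from the relevant characters to the irreducible characters of `G`.
-/

set_option autoImplicit false
set_option linter.unusedSectionVars false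
set_option linter.style.haveILetI false

namespace Cfsg.Agent.Lib.Helper52

open Cfsg Cfsg.Agent.Lib.Helper74 Cfsg.Agent.Lib.Helper78 Cfsg.Agent.Lib.Helper75
open scoped ComplexConjugate

universe u

section TIFN

variable {G : Type u} [Group G] [Fintype G] {K : Subgroup G}

local notation "NK" => Subgroup.normalizer (K : Set G)

variable [Fintype ↥(Subgroup.normalizer (K : Set G))]

/-- the set of S1524 is the set of relevant characters -/
theorem inducedIrrAbove_eq_tifnS
    (hC : ∀ k ∈ K, k ≠ 1 → Subgroup.centralizer ({k} : Set G) ≤ K) :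
    inducedIrrAbove (K.subgroupOf NK) ⊥ = tifnS K := by
  classical
  haveI : Fintype ↥(K.subgroupOf NK) := Fintype.ofFinite _
  ext φ
  constructor
  · rintro ⟨θ, hθ, hθ1, -, rfl⟩
    exact indFun_mem_tifnS hC hθ hθ1
  · intro hφ
    obtain ⟨θ, hθ, rfl⟩ := tifnS_exists_eq_indFun hC hφ
    refine ⟨θ, hθ, ?_, ?_, rfl⟩
    · intro h1
      obtain ⟨k, hk, hne⟩ := hφ.2
      apply hne
      rw [h1]
      exact indFun_eq_of_forall_eq (K.subgroupOf NK) (K.subgroupOf NK) le_rfl _
        (fun _ _ => rfl) k (Subgroup.mem_subgroupOf.mpr hk)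
    · intro a ha
      have : a = 1 := by
        apply Subtype.ext
        exact (Subgroup.mem_bot.mp ha)
      rw [this]

variable (K) in
/-- coherent data for `K` -/
structure CohData where
  /-- the isometry -/
  star : (↥(Subgroup.normalizer (K : Set G)) → ℂ) → (G → ℂ)
  hstar : IsLinearIsometryOn (zspan (tifnS K)) star
  hext : ∀ α ∈ zspanOn (tifnS K) ({1}ᶜ : Set ↥(Subgroup.normalizer (K : Set G))),
    star α = indFun (Subgroup.normalizer (K : Set G)) α
  /-- the sign -/
  ε : ℂ
  /-- the map to the exceptional characters -/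
  f : RelChar K → IrrCharacter G
  hε : ε = 1 ∨ ε = -1
  hf : Function.Injective f
  hstarf : ∀ χ : RelChar K, star (χ.1 : ↥(Subgroup.normalizer (K : Set G)) → ℂ) =
    ε • (f χ : G → ℂ)

theorem charDegree_pos_rel (χ : RelChar K) : 0 < charDegree (χ.1 : ↥NK → ℂ) :=
  IsIrrCharacter.charDegree_pos χ.1.2

theorem exists_cohData
    (hcoh : IsCoherent (tifnS K) ({1}ᶜ : Set ↥NK) (fun α : ↥NK → ℂ => indFun NK α))
    (htwo : ∃ χ ξ : RelChar K, χ ≠ ξ) : Nonempty (CohData K) := by
  classical
  obtain ⟨-, star, hstar, hext'⟩ := hcoh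
  have hext : ∀ α ∈ zspanOn (tifnS K) ({1}ᶜ : Set ↥NK), star α = indFun NK α := hext'
  -- each `star χ` is `±` irreducible
  have h1 : ∀ χ : RelChar K, ∃ μ : IrrCharacter G, ∃ s : ℂ, (s = 1 ∨ s = -1) ∧
      star (χ.1 : ↥NK → ℂ) = s • (μ : G → ℂ) := by
    intro χ
    obtain ⟨μ, hμ, h | h⟩ := star_eq_irr_or_neg star hstar χ.mem_tifnS
    · exact ⟨⟨μ, hμ⟩, 1, Or.inl rfl, by rw [h, one_smul]⟩
    · exact ⟨⟨μ, hμ⟩, -1, Or.inr rfl, by rw [h, neg_one_smul]⟩
  choose f s hs hfs using h1
  -- the signs agree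
  have hsign : ∀ χ ξ : RelChar K, s χ = s ξ := by
    intro χ ξ
    have h2 := star_tifnBeta_apply star hstar χ.mem_tifnS ξ.mem_tifnS 1
    rw [hext _ (tifnBeta_mem_zspanOn χ.mem_tifnS ξ.mem_tifnS), indFun_one,
      tifnBeta_one χ.mem_tifnS ξ.mem_tifnS, mul_zero, hfs χ, hfs ξ] at h2
    simp only [Pi.smul_apply, smul_eq_mul] at h2
    rw [IsCharacter.apply_one_eq_charDegree (IsIrrCharacter.isCharacter (f χ).2),
      IsCharacter.apply_one_eq_charDegree (IsIrrCharacter.isCharacter (f ξ).2)] at h2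
    have p1 := charDegree_pos_rel χ
    have p2 := charDegree_pos_rel ξ
    have p3 := IsIrrCharacter.charDegree_pos (f χ).2
    have p4 := IsIrrCharacter.charDegree_pos (f ξ).2
    have q1 : (0 : ℝ) < (charDegree (ξ.1 : ↥NK → ℂ) : ℝ) * (charDegree ((f χ : IrrCharacter G) : G → ℂ) : ℝ) := by
      positivity
    have q2 : (0 : ℝ) < (charDegree (χ.1 : ↥NK → ℂ) : ℝ) * (charDegree ((f ξ : IrrCharacter G) : G → ℂ) : ℝ) := by
      positivity
    rcases hs χ with h | h <;> rcases hs ξ with h' | h'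
    · rw [h, h']
    · exfalso
      rw [h, h'] at h2
      have h3 := congrArg Complex.re h2
      simp at h3
      linarith
    · exfalso
      rw [h, h'] at h2
      have h3 := congrArg Complex.re h2
      simp at h3
      linarith
    · rw [h, h']
  obtain ⟨χ₀, ξ₀, hne⟩ := htwo
  refine ⟨⟨star, hstar, hext, s χ₀, f, hs χ₀, ?_, fun χ => by rw [hfs χ, hsign χ χ₀]⟩⟩
  intro χ ξ hχξ
  by_contra hne'
  have h3 := hstar.2.2.1 _ (mem_zspan_of_mem χ.mem_tifnS) _ (mem_zspan_of_mem ξ.mem_tifnS)
  rw [classInner_relChar_relChar, if_neg hne', hfs χ, hfs ξ, classInner_smul_left,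
    classInner_smul_right, hχξ, classInner_irr_self (f ξ).2, mul_one] at h3
  rcases hs χ with h | h <;> rcases hs ξ with h' | h' <;> rw [h, h'] at h3 <;> simp at h3

end TIFN

end Cfsg.Agent.Lib.Helper52
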