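import Cfsg.Agent.Lib.Helper52.CohTIData

/-!
# Coherent T.I. subgroups with Frobenius normalizer: the multiplicities of `Γ = Ind (ρ - ζ)`
for a relevant character `ζ` of degree `e = |N : K|`
-/

set_option autoImplicit false
set_option linter.unusedSectionVars false
set_option linter.style.haveILetI false

namespace Cfsg.Agent.Lib.Helper52

open Cfsg Cfsg.Agent.Lib.Helper74 Cfsg.Agent.Lib.Helper78 Cfsg.Agent.Lib.Helper75
open scoped ComplexConjugate

universe u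

section TIFN

variable {G : Type u} [Group G] [Fintype G] {K : Subgroup G}

local notation "NK" => Subgroup.normalizer (K : Set G)

variable [Fintype ↥(Subgroup.normalizer (K : Set G))]

/-! ### Versions of the `Γ`-lemmas with `ζ(1) = e` as a hypothesis -/

theorem betaK_one' (ζ : RelChar K)
    (hζ1 : (ζ.1 : ↥NK → ℂ) 1 = ((K.subgroupOf NK).index : ℂ)) : betaK ζ 1 = 0 := by
  unfold betaK
  rw [Pi.sub_apply, rhoK_apply_mem (1 : ↥NK) K.one_mem, hζ1, sub_self]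

/-- the inner product with `β` only depends on the values on `K#` -/
theorem classInner_betaK_congr
    (hC : ∀ k ∈ K, k ≠ 1 → Subgroup.centralizer ({k} : Set G) ≤ K) (ζ : RelChar K)
    (hζ1 : (ζ.1 : ↥NK → ℂ) 1 = ((K.subgroupOf NK).index : ℂ))
    {F F' : ↥NK → ℂ} (h : ∀ x : ↥NK, (x : G) ∈ K → x ≠ 1 → F x = F' x) :
    classInner (betaK ζ) F = classInner (betaK ζ) F' := by
  unfold classInner
  congr 1
  apply Finset.sum_congr rfl
  intro x _
  by_cases hx : (x : G) ∈ K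
  · by_cases hx1 : x = 1
    · rw [hx1, betaK_one' ζ hζ1, zero_mul, zero_mul]
    · rw [h x hx hx1]
  · rw [betaK_vanish hC ζ x hx, zero_mul, zero_mul]

theorem classInner_betaK_of_const'
    (hC : ∀ k ∈ K, k ≠ 1 → Subgroup.centralizer ({k} : Set G) ≤ K) (ζ : RelChar K)
    (hζ1 : (ζ.1 : ↥NK → ℂ) 1 = ((K.subgroupOf NK).index : ℂ))
    {F : ↥NK → ℂ} {c : ℂ} (hF : ∀ x : ↥NK, (x : G) ∈ K → x ≠ 1 → F x = c) :
    classInner (betaK ζ) F = conj c := by
  rw [classInner_betaK_congr hC ζ hζ1 (F' := c • fun _ : ↥NK => (1 : ℂ))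
    (fun x hx hx1 => by rw [hF x hx hx1]; simp), classInner_smul_right, classInner_betaK_one,
    mul_one]

theorem classInner_gammaK_gammaK'
    (hTI : ∀ g : G, g ∉ NK → ∀ k ∈ K, g * k * g⁻¹ ∈ K → k = 1)
    (hC : ∀ k ∈ K, k ≠ 1 → Subgroup.centralizer ({k} : Set G) ≤ K) (ζ : RelChar K)
    (hζ1 : (ζ.1 : ↥NK → ℂ) 1 = ((K.subgroupOf NK).index : ℂ)) :
    classInner (gammaK ζ) (gammaK ζ) = ((K.subgroupOf NK).index : ℂ) + 1 := by
  unfold gammaK
  rw [Cfsg.Agent.Lib.Helper3.classInner_indFun_TI (K : Set G) hTI _ _ (betaK_isClassFunction ζ)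
    (betaK_vanish hC ζ) (betaK_vanish hC ζ) (betaK_one' ζ hζ1)]
  exact classInner_betaK_betaK hC ζ

theorem gammaK_supp' (hC : ∀ k ∈ K, k ≠ 1 → Subgroup.centralizer ({k} : Set G) ≤ K)
    (ζ : RelChar K) (hζ1 : (ζ.1 : ↥NK → ℂ) 1 = ((K.subgroupOf NK).index : ℂ))
    {g : G} (hg : gammaK ζ g ≠ 0) : ∃ k ∈ K, k ≠ 1 ∧ ∃ x : G, x⁻¹ * g * x = k :=
  indFun_supp (betaK_vanish hC ζ) (betaK_one' ζ hζ1) hg

theorem sum_mult_mul_self'
    (hTI : ∀ g : G, g ∉ NK → ∀ k ∈ K, g * k * g⁻¹ ∈ K → k = 1)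
    (hC : ∀ k ∈ K, k ≠ 1 → Subgroup.centralizer ({k} : Set G) ≤ K) (ζ : RelChar K)
    (hζ1 : (ζ.1 : ↥NK → ℂ) 1 = ((K.subgroupOf NK).index : ℂ)) :
    ∑ ψ : IrrCharacter G, mult ζ ψ * mult ζ ψ = ((K.subgroupOf NK).index : ℤ) + 1 := by
  have h := classInner_eq_sum_mul_conj (gammaK ζ) (gammaK_isClassFunction ζ)
  rw [classInner_gammaK_gammaK' hTI hC ζ hζ1] at h
  have h2 : ∑ ψ : IrrCharacter G, classInner (gammaK ζ) (ψ : G → ℂ) *
      conj (classInner (gammaK ζ) (ψ : G → ℂ)) =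
      ((∑ ψ : IrrCharacter G, mult ζ ψ * mult ζ ψ : ℤ) : ℂ) := by
    push_cast
    apply Finset.sum_congr rfl
    intro ψ _
    rw [mult_spec, map_intCast]
  rw [h2] at h
  exact_mod_cast h.symm

/-! ### The sum of the squares of the degrees of the relevant characters -/

theorem sum_relChar_degree_sq [Fintype (RelChar K)]
    (hC : ∀ k ∈ K, k ≠ 1 → Subgroup.centralizer ({k} : Set G) ≤ K) :
    ∑ χ : RelChar K, charDegree (χ.1 : ↥NK → ℂ) ^ 2 + (K.subgroupOf NK).index =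
      Nat.card K * (K.subgroupOf NK).index := by
  classical
  set e : ℕ := (K.subgroupOf NK).index with he
  have hP := classInner_eq_sum_mul_conj (rhoK K) (rhoK_isClassFunction (K := K))
  rw [classInner_rhoK_rhoK] at hP
  have hterm : ∀ θ : IrrCharacter ↥NK,
      classInner (rhoK K) (θ : ↥NK → ℂ) * conj (classInner (rhoK K) (θ : ↥NK → ℂ)) =
        if IsRel K θ then 0 else ((charDegree (θ : ↥NK → ℂ) : ℕ) : ℂ) ^ 2 := by
    intro θ
    by_cases hθ : IsRel K θ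
    · rw [if_pos hθ, classInner_rhoK_relChar hC ⟨θ, hθ⟩, zero_mul]
    · rw [if_neg hθ]
      have hconst : ∀ x : ↥NK, (x : G) ∈ K → (θ : ↥NK → ℂ) x = (θ : ↥NK → ℂ) 1 := by
        intro x hx
        by_contra hne
        exact hθ ⟨x, hx, hne⟩
      rw [classInner_rhoK_of_const (isClassFunction_irr θ) hconst, Complex.conj_conj,
        IsCharacter.apply_one_eq_charDegree (IsIrrCharacter.isCharacter θ.2), Complex.conj_natCast]
      ring
  rw [Finset.sum_congr rfl fun θ _ => hterm θ] at hP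
  have hsum := sum_irr_charDegree_sq (G := ↥NK)
  have hsplit : ∀ θ : IrrCharacter ↥NK, (charDegree (θ : ↥NK → ℂ)) ^ 2 =
      (if IsRel K θ then (charDegree (θ : ↥NK → ℂ)) ^ 2 else 0) +
        (if IsRel K θ then 0 else (charDegree (θ : ↥NK → ℂ)) ^ 2) := by
    intro θ
    by_cases hθ : IsRel K θ
    · rw [if_pos hθ, if_pos hθ, add_zero]
    · rw [if_neg hθ, if_neg hθ, zero_add]
  rw [Finset.sum_congr rfl fun θ _ => hsplit θ, Finset.sum_add_distrib] at hsum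
  have hP' : ∑ θ : IrrCharacter ↥NK, (if IsRel K θ then 0 else (charDegree (θ : ↥NK → ℂ)) ^ 2) = e := by
    have : ((∑ θ : IrrCharacter ↥NK,
        (if IsRel K θ then 0 else (charDegree (θ : ↥NK → ℂ)) ^ 2) : ℕ) : ℂ) = (e : ℂ) := by
      rw [hP]
      push_cast
      apply Finset.sum_congr rfl
      intro θ _
      split_ifs <;> simp
    exact_mod_cast this
  rw [hP', ← Finset.sum_filter, card_normalizer_eq (K := K), ← he] at hsum
  rw [← hsum]
  congr 1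
  exact (Finset.sum_subtype (Finset.univ.filter fun θ : IrrCharacter ↥NK => IsRel K θ)
    (fun θ => by simp [IsRel]) (fun θ => (charDegree (θ : ↥NK → ℂ)) ^ 2)).symm

/-! ### Consequences of the coherent data -/

theorem CohData.ε_ne_zero (D : CohData K) : D.ε ≠ 0 := by
  rcases D.hε with h | h <;> rw [h] <;> norm_num

theorem CohData.conj_ε (D : CohData K) : conj D.ε = D.ε := by
  rcases D.hε with h | h <;> rw [h] <;> simp

theorem CohData.ε_mul_ε (D : CohData K) : D.ε * D.ε = 1 := by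
  rcases D.hε with h | h <;> rw [h] <;> simp

theorem CohData.exists_εz (D : CohData K) : ∃ εz : ℤ, (εz = 1 ∨ εz = -1) ∧ D.ε = εz := by
  rcases D.hε with h | h
  · exact ⟨1, Or.inl rfl, by rw [h]; simp⟩
  · exact ⟨-1, Or.inr rfl, by rw [h]; simp⟩

theorem CohData.star_tifnBeta (D : CohData K) (χ ξ : RelChar K) :
    indFun NK (tifnBeta (χ.1 : ↥NK → ℂ) (ξ.1 : ↥NK → ℂ)) =
      D.ε • (((charDegree (ξ.1 : ↥NK → ℂ) : ℕ) : ℂ) • (D.f χ : G → ℂ) -
        ((charDegree (χ.1 : ↥NK → ℂ) : ℕ) : ℂ) • (D.f ξ : G → ℂ)) := by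
  rw [← D.hext _ (tifnBeta_mem_zspanOn χ.mem_tifnS ξ.mem_tifnS)]
  funext g
  rw [star_tifnBeta_apply D.star D.hstar χ.mem_tifnS ξ.mem_tifnS, D.hstarf, D.hstarf]
  simp only [Pi.smul_apply, Pi.sub_apply, smul_eq_mul]
  ring

/-- the values of the exceptional characters on `K#` (S0853) -/
theorem CohData.exists_m (D : CohData K)
    (hTI : ∀ g : G, g ∉ NK → ∀ k ∈ K, g * k * g⁻¹ ∈ K → k = 1) (hlt : K < NK)
    (hC : ∀ k ∈ K, k ≠ 1 → Subgroup.centralizer ({k} : Set G) ≤ K)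
    (htwo : ∃ χ ξ : RelChar K, χ ≠ ξ) :
    ∃ m : ℤ, ∀ χ : RelChar K, ∀ k : ↥NK, (k : G) ∈ K → k ≠ 1 →
      (D.f χ : G → ℂ) k = D.ε * (χ.1 : ↥NK → ℂ) k +
        D.ε * (m : ℂ) * (χ.1 : ↥NK → ℂ) 1 / ((K.subgroupOf NK).index : ℂ) := by
  obtain ⟨χ₀, ξ₀, hne⟩ := htwo
  obtain ⟨m, hm⟩ := Cfsg.Agent.S0853.result K hTI hlt hC (tifnS K) rfl
    ⟨χ₀.1.1, χ₀.mem_tifnS, ξ₀.1.1, ξ₀.mem_tifnS,
      fun h => hne (Subtype.ext (Subtype.ext h))⟩ D.star D.hstar D.hext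
  refine ⟨m, fun χ k hk hk1 => ?_⟩
  have h := hm _ χ.mem_tifnS k hk hk1
  rw [D.hstarf] at h
  simp only [Pi.smul_apply, smul_eq_mul] at h
  have h2 := D.ε_mul_ε
  linear_combination D.ε * h - (D.f χ : G → ℂ) k * h2

/-- the multiplicities of the exceptional characters in `Γ` -/
theorem CohData.mult_f (D : CohData K)
    (hC : ∀ k ∈ K, k ≠ 1 → Subgroup.centralizer ({k} : Set G) ≤ K) (ζ : RelChar K)
    (hζ1 : (ζ.1 : ↥NK → ℂ) 1 = ((K.subgroupOf NK).index : ℂ)) (m : ℤ)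
    (hm : ∀ χ : RelChar K, ∀ k : ↥NK, (k : G) ∈ K → k ≠ 1 →
      (D.f χ : G → ℂ) k = D.ε * (χ.1 : ↥NK → ℂ) k +
        D.ε * (m : ℂ) * (χ.1 : ↥NK → ℂ) 1 / ((K.subgroupOf NK).index : ℂ)) (χ : RelChar K) :
    (mult ζ (D.f χ) : ℂ) =
      D.ε * (m : ℂ) * (χ.1 : ↥NK → ℂ) 1 / ((K.subgroupOf NK).index : ℂ) -
        (if χ = ζ then D.ε else 0) := by
  rw [← mult_spec, classInner_gammaK ζ (isClassFunction_irr (D.f χ))]
  set c : ℂ := D.ε * (m : ℂ) * (χ.1 : ↥NK → ℂ) 1 / ((K.subgroupOf NK).index : ℂ) with hc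
  have hcc : conj c = c := by
    rw [hc, IsCharacter.apply_one_eq_charDegree (IsIrrCharacter.isCharacter χ.1.2)]
    simp only [map_div₀, map_mul, D.conj_ε, map_intCast, map_natCast]
  rw [classInner_betaK_congr hC ζ hζ1
    (F' := D.ε • (χ.1 : ↥NK → ℂ) + c • fun _ : ↥NK => (1 : ℂ))
    (fun x hx hx1 => by
      rw [hm χ x hx hx1]
      simp only [Pi.add_apply, Pi.smul_apply, smul_eq_mul, mul_one]
      rw [hc]),
    classInner_add_right, classInner_smul_right, classInner_smul_right,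
    classInner_betaK_relChar hC, classInner_betaK_one, D.conj_ε, hcc]
  by_cases h : χ = ζ
  · rw [if_pos h, if_pos h.symm]; ring
  · rw [if_neg h, if_neg (fun h' => h h'.symm)]; ring

/-- the set of exceptional characters -/
noncomputable def CohData.excSet (D : CohData K) : Finset (IrrCharacter G) :=
  open Classical in Finset.univ.filter (fun ψ => ∃ χ, D.f χ = ψ)

theorem CohData.mem_excSet (D : CohData K) (ψ : IrrCharacter G) :
    ψ ∈ D.excSet ↔ ∃ χ, D.f χ = ψ := by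
  unfold CohData.excSet
  simp

theorem CohData.sum_excSet {M : Type*} [AddCommMonoid M] (D : CohData K) [Fintype (RelChar K)]
    (F : IrrCharacter G → M) :
    ∑ ψ ∈ D.excSet, F ψ = ∑ χ : RelChar K, F (D.f χ) := by
  classical
  have h : D.excSet = Finset.univ.image D.f := by
    ext ψ
    rw [D.mem_excSet]
    simp
  rw [h, Finset.sum_image (fun x _ y _ hxy => D.hf hxy)]

theorem irr_ne_neg_irr (ψ φ : IrrCharacter G) : (ψ : G → ℂ) ≠ -(φ : G → ℂ) := by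
  intro h
  have h1 := congrFun h 1
  rw [Pi.neg_apply, IsCharacter.apply_one_eq_charDegree (IsIrrCharacter.isCharacter ψ.2),
    IsCharacter.apply_one_eq_charDegree (IsIrrCharacter.isCharacter φ.2)] at h1
  have p1 := IsIrrCharacter.charDegree_pos ψ.2
  have p2 := IsIrrCharacter.charDegree_pos φ.2
  have h2 : ((charDegree (ψ : G → ℂ) + charDegree (φ : G → ℂ) : ℕ) : ℂ) = 0 := by
    push_cast
    linear_combination h1
  have h3 : charDegree (ψ : G → ℂ) + charDegree (φ : G → ℂ) = 0 := by exact_mod_cast h2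
  omega

/-- a non-exceptional character is constant on `K#` (S0852) -/
theorem CohData.const_of_notMem_excSet (D : CohData K)
    (hTI : ∀ g : G, g ∉ NK → ∀ k ∈ K, g * k * g⁻¹ ∈ K → k = 1) (hlt : K < NK)
    (hC : ∀ k ∈ K, k ≠ 1 → Subgroup.centralizer ({k} : Set G) ≤ K)
    (htwo : ∃ χ ξ : RelChar K, χ ≠ ξ) {ψ : IrrCharacter G} (hψ : ψ ∉ D.excSet) :
    ∀ a ∈ K, ∀ b ∈ K, a ≠ 1 → b ≠ 1 → (ψ : G → ℂ) a = (ψ : G → ℂ) b := by
  intro a ha b hb ha1 hb1
  by_contra hab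
  obtain ⟨χ₀, ξ₀, hne⟩ := htwo
  obtain ⟨χ, hχ, h⟩ := (Cfsg.Agent.S0852.result K hTI hlt hC (tifnS K) rfl
    ⟨χ₀.1.1, χ₀.mem_tifnS, ξ₀.1.1, ξ₀.mem_tifnS,
      fun h => hne (Subtype.ext (Subtype.ext h))⟩ D.star D.hstar D.hext (ψ : G → ℂ) ψ.2).mpr
    ⟨a, ha, b, hb, ha1, hb1, hab⟩
  set χ' : RelChar K := ⟨⟨χ, hχ.1⟩, hχ.2⟩ with hχ'
  have hs : D.star χ = D.ε • (D.f χ' : G → ℂ) := D.hstarf χ'
  rw [hs] at h
  have h2 : (ψ : G → ℂ) = (D.f χ' : G → ℂ) ∨ (ψ : G → ℂ) = -(D.f χ' : G → ℂ) := by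
    rcases D.hε with hε | hε <;> rw [hε] at h <;> rcases h with h | h
    · left; rw [h, one_smul]
    · right; rw [h, one_smul]
    · right; rw [h, neg_one_smul]
    · left; rw [h, neg_one_smul, neg_neg]
  rcases h2 with h2 | h2
  · apply hψ
    rw [D.mem_excSet]
    exact ⟨χ', (Subtype.ext h2).symm⟩
  · exact irr_ne_neg_irr _ _ h2

/-- a non-exceptional character takes the value `mult ζ ψ` on `K#` -/
theorem CohData.apply_of_notMem_excSet (D : CohData K)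
    (hTI : ∀ g : G, g ∉ NK → ∀ k ∈ K, g * k * g⁻¹ ∈ K → k = 1) (hlt : K < NK)
    (hC : ∀ k ∈ K, k ≠ 1 → Subgroup.centralizer ({k} : Set G) ≤ K)
    (htwo : ∃ χ ξ : RelChar K, χ ≠ ξ) (ζ : RelChar K)
    (hζ1 : (ζ.1 : ↥NK → ℂ) 1 = ((K.subgroupOf NK).index : ℂ)) {ψ : IrrCharacter G}
    (hψ : ψ ∉ D.excSet) (x : G) (hx : x ∈ K) (hx1 : x ≠ 1) :
    (ψ : G → ℂ) x = mult ζ ψ := by
  have hconst := D.const_of_notMem_excSet hTI hlt hC htwo hψ
  have h1 : classInner (betaK ζ) (fun y : ↥NK => (ψ : G → ℂ) y) = conj ((ψ : G → ℂ) x) := by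
    apply classInner_betaK_of_const' hC ζ hζ1
    intro y hy hy1
    exact hconst y hy x hx (fun h => hy1 (Subtype.ext h)) hx1
  rw [← classInner_gammaK ζ (isClassFunction_irr ψ), mult_spec] at h1
  have h2 := congrArg conj h1
  rw [Complex.conj_conj, map_intCast] at h2
  exact h2.symm

/-! ### Complex conjugation -/

theorem irr_eq_of_smul_sub_eq (a b c d : IrrCharacter G) (p q : ℕ) (hp : 0 < p) (hab : a ≠ b)
    (h : (p : ℂ) • (a : G → ℂ) - (q : ℂ) • (b : G → ℂ) =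
      (p : ℂ) • (c : G → ℂ) - (q : ℂ) • (d : G → ℂ)) : a = c := by
  have h1 := congrArg (fun F => classInner F (a : G → ℂ)) h
  simp only [Cfsg.Agent.Lib.Helper26.classInner_sub_left, classInner_smul_left,
    classInner_irr_irr] at h1
  have hba : ¬ b = a := fun h' => hab h'.symm
  by_contra hca
  have hca' : ¬ c = a := fun h' => hca h'.symm
  simp only [if_true, if_neg hba, if_neg hca'] at h1
  by_cases hda : d = a
  · rw [if_pos hda] at h1
    have h2 : ((p + q : ℕ) : ℂ) = 0 := by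
      push_cast
      linear_combination h1
    have h3 : p + q = 0 := by exact_mod_cast h2
    omega
  · rw [if_neg hda] at h1
    have h2 : ((p : ℕ) : ℂ) = 0 := by linear_combination h1
    have h3 : p = 0 := by exact_mod_cast h2
    omega

theorem charDegree_conjRel (χ : RelChar K) :
    charDegree ((conjRel χ).1 : ↥NK → ℂ) = charDegree (χ.1 : ↥NK → ℂ) := by
  have h1 := IsCharacter.apply_one_eq_charDegree (IsIrrCharacter.isCharacter (conjRel χ).1.2)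
  rw [conjRel_apply, IsCharacter.apply_one_eq_charDegree (IsIrrCharacter.isCharacter χ.1.2),
    Complex.conj_natCast] at h1
  exact_mod_cast h1.symm

theorem conjRel_apply_one (χ : RelChar K) :
    ((conjRel χ).1 : ↥NK → ℂ) 1 = (χ.1 : ↥NK → ℂ) 1 := by
  rw [IsCharacter.apply_one_eq_charDegree (IsIrrCharacter.isCharacter (conjRel χ).1.2),
    charDegree_conjRel, IsCharacter.apply_one_eq_charDegree (IsIrrCharacter.isCharacter χ.1.2)]

/-- the set of exceptional characters is closed under complex conjugation -/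
theorem CohData.f_conjRel (D : CohData K) (htwo : ∃ χ ξ : RelChar K, χ ≠ ξ) (χ : RelChar K) :
    D.f (conjRel χ) = conjIrrChar (D.f χ) := by
  classical
  obtain ⟨ξ, hξ⟩ : ∃ ξ : RelChar K, ξ ≠ χ := by
    obtain ⟨χ₀, ξ₀, hne⟩ := htwo
    by_cases h : χ₀ = χ
    · exact ⟨ξ₀, fun h' => hne (h.trans h'.symm)⟩
    · exact ⟨χ₀, h⟩
  have h1 := D.star_tifnBeta (conjRel χ) (conjRel ξ)
  rw [charDegree_conjRel, charDegree_conjRel] at h1
  have h4 : (fun h : ↥NK => conj (tifnBeta (χ.1 : ↥NK → ℂ) (ξ.1 : ↥NK → ℂ) h)) =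
      tifnBeta ((conjRel χ).1 : ↥NK → ℂ) ((conjRel ξ).1 : ↥NK → ℂ) := by
    funext h
    rw [tifnBeta_apply, tifnBeta_apply, charDegree_conjRel, charDegree_conjRel]
    simp only [map_sub, map_mul, map_natCast, conjRel_apply]
  have h2 : indFun NK (tifnBeta ((conjRel χ).1 : ↥NK → ℂ) ((conjRel ξ).1 : ↥NK → ℂ)) =
      D.ε • (((charDegree (ξ.1 : ↥NK → ℂ) : ℕ) : ℂ) •
          ((conjIrrChar (D.f χ) : IrrCharacter G) : G → ℂ) -
        ((charDegree (χ.1 : ↥NK → ℂ) : ℕ) : ℂ) •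
          ((conjIrrChar (D.f ξ) : IrrCharacter G) : G → ℂ)) := by
    funext g
    have h3 := conj_indFun NK (tifnBeta (χ.1 : ↥NK → ℂ) (ξ.1 : ↥NK → ℂ)) g
    rw [D.star_tifnBeta χ ξ, h4] at h3
    rw [← h3]
    simp only [Pi.smul_apply, Pi.sub_apply, smul_eq_mul, map_mul, map_sub, D.conj_ε,
      map_natCast]
    rfl
  rw [h1] at h2
  have h5 : ((charDegree (ξ.1 : ↥NK → ℂ) : ℕ) : ℂ) • (D.f (conjRel χ) : G → ℂ) -
      ((charDegree (χ.1 : ↥NK → ℂ) : ℕ) : ℂ) • (D.f (conjRel ξ) : G → ℂ) =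
      ((charDegree (ξ.1 : ↥NK → ℂ) : ℕ) : ℂ) •
          ((conjIrrChar (D.f χ) : IrrCharacter G) : G → ℂ) -
        ((charDegree (χ.1 : ↥NK → ℂ) : ℕ) : ℂ) •
          ((conjIrrChar (D.f ξ) : IrrCharacter G) : G → ℂ) := by
    funext g
    have := congrFun h2 g
    simp only [Pi.smul_apply, smul_eq_mul] at this
    exact mul_left_cancel₀ D.ε_ne_zero this
  apply irr_eq_of_smul_sub_eq _ _ _ _ _ _ (charDegree_pos_rel ξ) _ h5
  intro h
  exact hξ (conjRel_injective (D.hf h)).symm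

theorem CohData.conj_mem_excSet (D : CohData K) (htwo : ∃ χ ξ : RelChar K, χ ≠ ξ)
    {ψ : IrrCharacter G} (hψ : ψ ∈ D.excSet) : conjIrrChar ψ ∈ D.excSet := by
  rw [D.mem_excSet] at hψ ⊢
  obtain ⟨χ, rfl⟩ := hψ
  exact ⟨conjRel χ, D.f_conjRel htwo χ⟩

theorem CohData.conj_notMem_excSet (D : CohData K) (htwo : ∃ χ ξ : RelChar K, χ ≠ ξ)
    {ψ : IrrCharacter G} (hψ : ψ ∉ D.excSet) : conjIrrChar ψ ∉ D.excSet := by
  intro h
  apply hψ
  have := D.conj_mem_excSet htwo h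
  rwa [conjIrrChar_conjIrrChar] at this

theorem conjRel_conjRel (χ : RelChar K) : conjRel (conjRel χ) = χ := by
  apply Subtype.ext
  apply Subtype.ext
  funext x
  show conj (conj ((χ.1 : ↥NK → ℂ) x)) = _
  rw [Complex.conj_conj]

theorem conjRel_ne_self (hodd : Odd (Nat.card G)) (χ : RelChar K) : conjRel χ ≠ χ := by
  intro h
  have h1 : conjIrrChar χ.1 = χ.1 := congrArg Subtype.val h
  have hoddN : Odd (Nat.card ↥NK) := Odd.of_dvd_nat hodd (Subgroup.card_subgroup_dvd_card _)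
  have h2 := eq_one_of_real_of_odd_card hoddN χ.1 ((conjIrrChar_eq_self_iff χ.1).mp h1)
  obtain ⟨k, -, hne⟩ := χ.2
  apply hne
  rw [h2]

/-- the principal character is not exceptional -/
theorem CohData.f_ne_one (D : CohData K) (htwo : ∃ χ ξ : RelChar K, χ ≠ ξ) (χ : RelChar K) :
    D.f χ ≠ oneIrr := by
  intro h
  obtain ⟨ξ, hξ⟩ : ∃ ξ : RelChar K, ξ ≠ χ := by
    obtain ⟨χ₀, ξ₀, hne⟩ := htwo
    by_cases h : χ₀ = χ
    · exact ⟨ξ₀, fun h' => hne (h.trans h'.symm)⟩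
    · exact ⟨χ₀, h⟩
  have h1 : classInner (indFun NK (tifnBeta (χ.1 : ↥NK → ℂ) (ξ.1 : ↥NK → ℂ)))
      (fun _ : G => (1 : ℂ)) = 0 := by
    rw [frobenius_reciprocity NK _ (ψ := fun _ : G => (1 : ℂ)) (fun _ _ => rfl)]
    exact zspan_tifnS_classInner_one (tifnBeta_mem_zspan χ.mem_tifnS ξ.mem_tifnS)
  rw [D.star_tifnBeta, classInner_smul_left, Cfsg.Agent.Lib.Helper26.classInner_sub_left,
    classInner_smul_left, classInner_smul_left] at h1
  have h2 : classInner (D.f χ : G → ℂ) (fun _ : G => (1 : ℂ)) = 1 := by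
    rw [h]
    exact classInner_irr_self isIrrCharacter_one
  have h3 : classInner (D.f ξ : G → ℂ) (fun _ : G => (1 : ℂ)) = 0 := by
    have := classInner_irr_irr (D.f ξ) (oneIrr : IrrCharacter G)
    rw [if_neg] at this
    · exact this
    · intro h'
      exact hξ (D.hf (h'.trans h.symm))
  rw [h2, h3, mul_zero, sub_zero, mul_one] at h1
  rcases mul_eq_zero.mp h1 with h4 | h4
  · exact D.ε_ne_zero h4
  · have := charDegree_pos_rel ξ
    have h5 : charDegree (ξ.1 : ↥NK → ℂ) = 0 := by exact_mod_cast h4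
    omega

theorem CohData.one_notMem_excSet (D : CohData K) (htwo : ∃ χ ξ : RelChar K, χ ≠ ξ) :
    (oneIrr : IrrCharacter G) ∉ D.excSet := by
  rw [D.mem_excSet]
  rintro ⟨χ, hχ⟩
  exact D.f_ne_one htwo χ hχ

theorem CohData.mult_conj (D : CohData K)
    (hTI : ∀ g : G, g ∉ NK → ∀ k ∈ K, g * k * g⁻¹ ∈ K → k = 1) (hlt : K < NK)
    (hC : ∀ k ∈ K, k ≠ 1 → Subgroup.centralizer ({k} : Set G) ≤ K)
    (htwo : ∃ χ ξ : RelChar K, χ ≠ ξ) (hK : K ≠ ⊥) (ζ : RelChar K)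
    (hζ1 : (ζ.1 : ↥NK → ℂ) 1 = ((K.subgroupOf NK).index : ℂ)) {ψ : IrrCharacter G}
    (hψ : ψ ∉ D.excSet) : mult ζ (conjIrrChar ψ) = mult ζ ψ := by
  obtain ⟨x, hx, hx1⟩ : ∃ x ∈ K, x ≠ 1 := by
    by_contra hcon
    push Not at hcon
    exact hK ((Subgroup.eq_bot_iff_forall K).mpr hcon)
  have h1 := D.apply_of_notMem_excSet hTI hlt hC htwo ζ hζ1 hψ x hx hx1
  have h2 := D.apply_of_notMem_excSet hTI hlt hC htwo ζ hζ1 (D.conj_notMem_excSet htwo hψ) x hx hx1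
  have h3 : ((conjIrrChar ψ : IrrCharacter G) : G → ℂ) x = conj ((ψ : G → ℂ) x) := rfl
  rw [h3, h1, map_intCast] at h2
  exact_mod_cast h2.symm

/-- the multiplicities of `f χ` and `f (conj χ)` agree for `χ ≠ ζ, conj ζ` -/
theorem CohData.mult_f_conjRel (D : CohData K)
    (hC : ∀ k ∈ K, k ≠ 1 → Subgroup.centralizer ({k} : Set G) ≤ K) (ζ : RelChar K)
    (hζ1 : (ζ.1 : ↥NK → ℂ) 1 = ((K.subgroupOf NK).index : ℂ)) (m : ℤ)
    (hm : ∀ χ : RelChar K, ∀ k : ↥NK, (k : G) ∈ K → k ≠ 1 →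
      (D.f χ : G → ℂ) k = D.ε * (χ.1 : ↥NK → ℂ) k +
        D.ε * (m : ℂ) * (χ.1 : ↥NK → ℂ) 1 / ((K.subgroupOf NK).index : ℂ)) (χ : RelChar K)
    (h1 : χ ≠ ζ) (h2 : χ ≠ conjRel ζ) : mult ζ (D.f (conjRel χ)) = mult ζ (D.f χ) := by
  have e1 := D.mult_f hC ζ hζ1 m hm χ
  have e2 := D.mult_f hC ζ hζ1 m hm (conjRel χ)
  have h3 : conjRel χ ≠ ζ := by
    intro h
    apply h2
    rw [← h, conjRel_conjRel]
  rw [if_neg h1] at e1
  rw [if_neg h3, conjRel_apply_one] at e2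
  have : (mult ζ (D.f (conjRel χ)) : ℂ) = (mult ζ (D.f χ) : ℂ) := by rw [e1, e2]
  exact_mod_cast this

end TIFN

end Cfsg.Agent.Lib.Helper52
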