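import Cfsg.Agent.Lib.Helper52.TIFNParity

/-!
# A parity lemma for multiplicities in a group of odd order (second form)
-/

set_option autoImplicit false
set_option linter.unusedSectionVars false
set_option linter.style.haveILetI false

namespace Cfsg.Agent.Lib.Helper52

open Cfsg Cfsg.Agent.Lib.Helper74 Cfsg.Agent.Lib.Helper78
open scoped ComplexConjugate

universe u

theorem conjIrrChar_ne_self {G : Type u} [Group G] [Fintype G] (hodd : Odd (Nat.card G))
    {ψ : IrrCharacter G} (hψ : ψ ≠ oneIrr) : conjIrrChar ψ ≠ ψ := by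
  intro heq
  apply hψ
  rw [eq_oneIrr_iff]
  exact eq_one_of_real_of_odd_card hodd ψ ((conjIrrChar_eq_self_iff ψ).mp heq)

theorem conjIrrChar_inj {G : Type u} [Group G] [Fintype G] {ψ φ : IrrCharacter G}
    (h : conjIrrChar ψ = conjIrrChar φ) : ψ = φ := by
  have := congrArg conjIrrChar h
  rwa [conjIrrChar_conjIrrChar, conjIrrChar_conjIrrChar] at this

theorem parity_lemma' {G : Type u} [Group G] [Fintype G] (hodd : Odd (Nat.card G))
    (m m' : IrrCharacter G → ℤ) (Ψ Ψ' : IrrCharacter G)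
    (hsum : ∑ ψ : IrrCharacter G, m ψ * m' ψ = 0)
    (hm1 : m oneIrr = 1) (hm1' : m' oneIrr = 1)
    (hΨ1 : Ψ ≠ oneIrr) (hΨ'1 : Ψ' ≠ oneIrr)
    (hd1 : Ψ ≠ Ψ') (hd2 : Ψ ≠ conjIrrChar Ψ')
    (hmc : ∀ ψ, ψ ≠ Ψ → ψ ≠ conjIrrChar Ψ → m (conjIrrChar ψ) = m ψ)
    (hmc' : ∀ ψ, ψ ≠ Ψ' → ψ ≠ conjIrrChar Ψ' → m' (conjIrrChar ψ) = m' ψ)
    (hoddΨ : Odd (m Ψ + m (conjIrrChar Ψ))) (hoddΨ' : Odd (m' Ψ' + m' (conjIrrChar Ψ'))) :
    Odd (m' Ψ + m Ψ') := by
  classical
  set F : IrrCharacter G → ZMod 2 := fun ψ => ((m ψ * m' ψ : ℤ) : ZMod 2) with hF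
  have h0 : ∑ ψ : IrrCharacter G, F ψ = 0 := by
    rw [hF, ← Int.cast_sum, hsum, Int.cast_zero]
  -- distinctness
  have c1 : conjIrrChar Ψ ≠ oneIrr := by
    intro h
    apply hΨ1
    have := congrArg conjIrrChar h
    rwa [conjIrrChar_conjIrrChar, conjIrrChar_oneIrr] at this
  have c1' : conjIrrChar Ψ' ≠ oneIrr := by
    intro h
    apply hΨ'1
    have := congrArg conjIrrChar h
    rwa [conjIrrChar_conjIrrChar, conjIrrChar_oneIrr] at this
  have c2 : conjIrrChar Ψ ≠ Ψ := conjIrrChar_ne_self hodd hΨ1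
  have c2' : conjIrrChar Ψ' ≠ Ψ' := conjIrrChar_ne_self hodd hΨ'1
  have c3 : conjIrrChar Ψ ≠ Ψ' := by
    intro h
    apply hd2
    rw [← h, conjIrrChar_conjIrrChar]
  have c4 : conjIrrChar Ψ ≠ conjIrrChar Ψ' := fun h => hd1 (conjIrrChar_inj h)
  set E : Finset (IrrCharacter G) :=
    {oneIrr, Ψ, conjIrrChar Ψ, Ψ', conjIrrChar Ψ'} with hE
  have hmemE : ∀ ψ, ψ ∈ E ↔ ψ = oneIrr ∨ ψ = Ψ ∨ ψ = conjIrrChar Ψ ∨ ψ = Ψ' ∨
      ψ = conjIrrChar Ψ' := by
    intro ψ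
    simp [hE]
  have hsplit : ∑ ψ : IrrCharacter G, F ψ = ∑ ψ ∈ Finset.univ \ E, F ψ + ∑ ψ ∈ E, F ψ :=
    (Finset.sum_sdiff (Finset.subset_univ E)).symm
  have hrest : ∑ ψ ∈ Finset.univ \ E, F ψ = 0 := by
    apply Finset.sum_involution (fun ψ _ => conjIrrChar ψ)
    · intro ψ hψ
      simp only [Finset.mem_sdiff, Finset.mem_univ, true_and, hmemE] at hψ
      push Not at hψ
      simp only [hF]
      rw [hmc ψ hψ.2.1 hψ.2.2.1, hmc' ψ hψ.2.2.2.1 hψ.2.2.2.2]
      exact CharTwo.add_self_eq_zero _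
    · intro ψ hψ _ heq
      simp only [Finset.mem_sdiff, Finset.mem_univ, true_and, hmemE] at hψ
      push Not at hψ
      exact conjIrrChar_ne_self hodd hψ.1 heq
    · intro ψ hψ
      simp only [Finset.mem_sdiff, Finset.mem_univ, true_and, hmemE] at hψ ⊢
      push Not at hψ ⊢
      refine ⟨?_, ?_, ?_, ?_, ?_⟩
      · intro h
        apply hψ.1
        have := congrArg conjIrrChar h
        rwa [conjIrrChar_conjIrrChar, conjIrrChar_oneIrr] at this
      · intro h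
        apply hψ.2.2.1
        rw [← h, conjIrrChar_conjIrrChar]
      · intro h
        exact hψ.2.1 (conjIrrChar_inj h)
      · intro h
        apply hψ.2.2.2.2
        rw [← h, conjIrrChar_conjIrrChar]
      · intro h
        exact hψ.2.2.2.1 (conjIrrChar_inj h)
    · intro ψ _
      exact conjIrrChar_conjIrrChar ψ
  have hEsum : ∑ ψ ∈ E, F ψ =
      F oneIrr + (F Ψ + (F (conjIrrChar Ψ) + (F Ψ' + F (conjIrrChar Ψ')))) := by
    rw [hE, Finset.sum_insert, Finset.sum_insert, Finset.sum_insert, Finset.sum_pair]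
    · exact fun h => c2' h.symm
    · simp only [Finset.mem_insert, Finset.mem_singleton, not_or]
      exact ⟨c3, c4⟩
    · simp only [Finset.mem_insert, Finset.mem_singleton, not_or]
      exact ⟨fun h => c2 h.symm, hd1, hd2⟩
    · simp only [Finset.mem_insert, Finset.mem_singleton, not_or]
      exact ⟨fun h => hΨ1 h.symm, fun h => c1 h.symm, fun h => hΨ'1 h.symm, fun h => c1' h.symm⟩
  have hF1 : F oneIrr = 1 := by
    simp only [hF]
    rw [hm1, hm1']
    simp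
  have hFΨ : F Ψ + F (conjIrrChar Ψ) = ((m' Ψ : ℤ) : ZMod 2) := by
    simp only [hF]
    rw [hmc' Ψ hd1 hd2, ← Int.cast_add, ← add_mul, Int.cast_mul, zmod2_of_odd hoddΨ, one_mul]
  have hFΨ' : F Ψ' + F (conjIrrChar Ψ') = ((m Ψ' : ℤ) : ZMod 2) := by
    simp only [hF]
    rw [hmc Ψ' (fun h => hd1 h.symm) (fun h => c3 h.symm), ← Int.cast_add, ← mul_add,
      Int.cast_mul, zmod2_of_odd hoddΨ', mul_one]
  rw [hsplit, hrest, hEsum, hF1, zero_add] at h0
  apply odd_of_zmod2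
  push_cast
  have h2 : (1 : ZMod 2) + 1 = 0 := rfl
  linear_combination h0 - h2 - hFΨ - hFΨ'

end Cfsg.Agent.Lib.Helper52
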