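import Cfsg.Agent.Lib.Helper52.CohTICross
import Cfsg.Agent.Lib.Helper52.CohTIParity

/-!
# No group of odd order is partitioned by the conjugates of coherent T.I. subgroups with
Frobenius normalizers and pairwise distinct orders
-/

set_option autoImplicit false
set_option linter.unusedSectionVars false
set_option linter.style.haveILetI false

namespace Cfsg.Agent.Lib.Helper52

open Cfsg Cfsg.Agent.Lib.Helper74 Cfsg.Agent.Lib.Helper78 Cfsg.Agent.Lib.Helper75
open scoped ComplexConjugate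

universe u v

section Local

variable {G : Type u} [Group G] [Fintype G] {K : Subgroup G}

local notation "NK" => Subgroup.normalizer (K : Set G)

variable [Fintype ↥(Subgroup.normalizer (K : Set G))]

/-- `|K| ≥ 2e + 1` -/
theorem two_mul_index_lt_card (hodd : Odd (Nat.card G))
    (hC : ∀ k ∈ K, k ≠ 1 → Subgroup.centralizer ({k} : Set G) ≤ K) (ζ : RelChar K)
    (hζ1 : (ζ.1 : ↥NK → ℂ) 1 = ((K.subgroupOf NK).index : ℂ)) :
    2 * (K.subgroupOf NK).index + 1 ≤ Nat.card K := by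
  classical
  haveI : Fintype (RelChar K) := Fintype.ofFinite _
  set e : ℕ := (K.subgroupOf NK).index with he
  have he0 : 0 < e := Nat.pos_of_ne_zero Subgroup.index_ne_zero_of_finite
  have hζd : charDegree (ζ.1 : ↥NK → ℂ) = e := by
    have h1 := IsCharacter.apply_one_eq_charDegree (IsIrrCharacter.isCharacter ζ.1.2)
    rw [hζ1] at h1
    exact_mod_cast h1.symm
  have hS := sum_relChar_degree_sq (K := K) hC
  have hsub : ∑ χ ∈ ({ζ, conjRel ζ} : Finset (RelChar K)), charDegree (χ.1 : ↥NK → ℂ) ^ 2 ≤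
      ∑ χ : RelChar K, charDegree (χ.1 : ↥NK → ℂ) ^ 2 :=
    Finset.sum_le_sum_of_subset (Finset.subset_univ _)
  rw [Finset.sum_pair (fun h => conjRel_ne_self hodd ζ h.symm), charDegree_conjRel, hζd] at hsub
  rw [← he] at hS
  have h2 : e * (2 * e + 1) ≤ e * Nat.card K := by nlinarith
  exact Nat.le_of_mul_le_mul_left h2 he0

end Local

theorem no_coherent_TI_partition {G : Type u} [Group G] [Fintype G] (hodd : Odd (Nat.card G))
    {ι : Type v} [Fintype ι] [Nonempty ι] (H : ι → Subgroup G)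
    [∀ i, Fintype ↥(Subgroup.normalizer (H i : Set G))]
    (hH1 : ∀ i, H i ≠ ⊥)
    (hTI : ∀ i, ∀ g : G, g ∉ Subgroup.normalizer (H i : Set G) → ∀ k ∈ H i,
      g * k * g⁻¹ ∈ H i → k = 1)
    (hlt : ∀ i, H i < Subgroup.normalizer (H i : Set G))
    (hC : ∀ i, ∀ k ∈ H i, k ≠ 1 → Subgroup.centralizer ({k} : Set G) ≤ H i)
    (hcoh : ∀ i, IsCoherent (tifnS (H i))
      ({1}ᶜ : Set ↥(Subgroup.normalizer (H i : Set G)))
      (fun α : ↥(Subgroup.normalizer (H i : Set G)) → ℂ =>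
        indFun (Subgroup.normalizer (H i : Set G)) α))
    (hlin : ∀ i, ∃ ζ : RelChar (H i),
      (ζ.1 : ↥(Subgroup.normalizer (H i : Set G)) → ℂ) 1 =
        (((H i).subgroupOf (Subgroup.normalizer (H i : Set G))).index : ℂ))
    (hnf : ∀ i j, i ≠ j → ∀ g : G, ∀ k ∈ H i, g * k * g⁻¹ ∈ H j → k = 1)
    (hcard : ∀ i j, i ≠ j → Nat.card (H i) ≠ Nat.card (H j))
    (hcover : ∀ g : G, g ≠ 1 → ∃ i, ∃ x : G, x * g * x⁻¹ ∈ H i) : False := by
  classical
  haveI : ∀ i, Fintype ↥(H i) := fun i => Fintype.ofFinite _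
  choose ζ hζ1 using hlin
  have htwo : ∀ i, ∃ χ ξ : RelChar (H i), χ ≠ ξ := fun i =>
    ⟨conjRel (ζ i), ζ i, conjRel_ne_self hodd (ζ i)⟩
  have hD : ∀ i, Nonempty (CohData (H i)) := fun i => exists_cohData (hcoh i) (htwo i)
  obtain ⟨D⟩ : Nonempty (∀ i, CohData (H i)) := ⟨fun i => Classical.choice (hD i)⟩
  have hM := fun i => (D i).exists_m (hTI i) (hlt i) (hC i) (htwo i)
  choose M hM using hM
  obtain ⟨i₀, hi₀⟩ := Finite.exists_min (fun i => Nat.card (H i))
  set S : Finset ι := Finset.univ.erase i₀ with hS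
  have hSne : ∀ j ∈ S, j ≠ i₀ := fun j hj => Finset.ne_of_mem_erase hj
  obtain ⟨εz, hεz, hεD⟩ := (D i₀).exists_εz
  set c : ℤ := εz * M i₀ with hc
  set Ψ : IrrCharacter G := (D i₀).f (ζ i₀) with hΨ
  have hΨmem : Ψ ∈ (D i₀).excSet := ((D i₀).mem_excSet _).mpr ⟨ζ i₀, rfl⟩
  set μ : ι → ℤ := fun j => mult (ζ j) Ψ with hμdef
  set ν : ι → ℤ := fun j => mult (ζ i₀) ((D j).f (ζ j)) with hνdef
  have hdisj : ∀ i j, i ≠ j → Disjoint (D i).excSet (D j).excSet := fun i j hij =>
    excSet_disjoint' (hnf i j hij) (hC i) (hC j) (htwo i) (htwo j) (D i) (D j)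
  have h1not : ∀ i, (oneIrr : IrrCharacter G) ∉ (D i).excSet := fun i =>
    (D i).one_notMem_excSet (htwo i)
  -- conjugation invariance of the multiplicities
  have hmc : ∀ i, ∀ ψ : IrrCharacter G, ψ ≠ (D i).f (ζ i) → ψ ≠ conjIrrChar ((D i).f (ζ i)) →
      mult (ζ i) (conjIrrChar ψ) = mult (ζ i) ψ := by
    intro i ψ h1 h2
    by_cases hψ : ψ ∈ (D i).excSet
    · rw [(D i).mem_excSet] at hψ
      obtain ⟨χ, rfl⟩ := hψ
      rw [← (D i).f_conjRel (htwo i)]
      apply (D i).mult_f_conjRel (hC i) (ζ i) (hζ1 i) (M i) (hM i) χ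
      · intro h
        exact h1 (by rw [h])
      · intro h
        apply h2
        rw [h, (D i).f_conjRel (htwo i)]
    · exact (D i).mult_conj (hTI i) (hlt i) (hC i) (htwo i) (hH1 i) (ζ i) (hζ1 i) hψ
  -- the tournament
  have hpar : ∀ j ∈ S, μ j ≠ 0 ∨ ν j ≠ 0 := by
    intro j hj
    have hne : j ≠ i₀ := hSne j hj
    have hodd' : Odd (μ j + ν j) := by
      apply parity_lemma' hodd (mult (ζ i₀)) (mult (ζ j)) Ψ ((D j).f (ζ j))
      · exact sum_mult_mul_cross' (hnf i₀ j hne.symm) (hC i₀) (hC j) (ζ i₀) (ζ j) (hζ1 i₀)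
          (hζ1 j)
      · exact mult_one _
      · exact mult_one _
      · exact (D i₀).f_ne_one (htwo i₀) _
      · exact (D j).f_ne_one (htwo j) _
      · exact exc_ne_exc' (hnf i₀ j hne.symm) (hC i₀) (hC j) (htwo i₀) (htwo j) (D i₀) (D j) _ _
      · rw [← (D j).f_conjRel (htwo j)]
        exact exc_ne_exc' (hnf i₀ j hne.symm) (hC i₀) (hC j) (htwo i₀) (htwo j) (D i₀) (D j) _ _
      · exact hmc i₀
      · exact hmc j
      · rw [← (D i₀).f_conjRel (htwo i₀)]
        exact (D i₀).odd_mult_add hodd (hC i₀) (ζ i₀) (hζ1 i₀) (M i₀) (hM i₀)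
      · rw [← (D j).f_conjRel (htwo j)]
        exact (D j).odd_mult_add hodd (hC j) (ζ j) (hζ1 j) (M j) (hM j)
    by_contra hcon
    push Not at hcon
    rw [hcon.1, hcon.2] at hodd'
    simp at hodd'
  -- abbreviations for the numerical data
  set a : ι → ℝ := fun i => (Nat.card (H i) : ℝ) with ha
  set e : ι → ℝ := fun i => (((H i).subgroupOf (Subgroup.normalizer (H i : Set G))).index : ℝ)
    with he
  set n : ι → ℝ := fun i => ((Subgroup.normalizer (H i : Set G)).index : ℝ) with hn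
  set r : ι → ℝ := fun i => (a i - 1) / e i with hr
  have he0 : ∀ i, 0 < e i := by
    intro i
    have : 0 < ((H i).subgroupOf (Subgroup.normalizer (H i : Set G))).index :=
      Nat.pos_of_ne_zero Subgroup.index_ne_zero_of_finite
    simp only [he]
    exact_mod_cast this
  have ha1 : ∀ i, 1 ≤ a i := by
    intro i
    have : 1 ≤ Nat.card (H i) := Nat.card_pos
    simp only [ha]
    exact_mod_cast this
  have hre : ∀ i, r i * e i + 1 = a i := by
    intro i
    simp only [hr]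
    have := (he0 i).ne'
    field_simp
    ring
  have hng : ∀ i, n i * (a i * e i) = (Nat.card G : ℝ) := by
    intro i
    have h1 := Subgroup.index_mul_card (Subgroup.normalizer (H i : Set G))
    rw [card_normalizer_eq] at h1
    simp only [hn, ha, he]
    exact_mod_cast h1
  -- the column inequality
  have hcolR : (1 : ℝ) + (r i₀ * (c : ℝ) ^ 2 - 2 * c * εz + 1)
      + ∑ j ∈ S, r j * (ν j : ℝ) ^ 2 ≤ e i₀ + 1 := by
    have hsum := sum_mult_mul_self' (hTI i₀) (hC i₀) (ζ i₀) (hζ1 i₀)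
    have hsumR : ∑ ψ : IrrCharacter G, ((mult (ζ i₀) ψ : ℤ) : ℝ) ^ 2 = e i₀ + 1 := by
      have : ((∑ ψ : IrrCharacter G, mult (ζ i₀) ψ * mult (ζ i₀) ψ : ℤ) : ℝ) =
          (((((H i₀).subgroupOf (Subgroup.normalizer (H i₀ : Set G))).index : ℤ) + 1 : ℤ) : ℝ) := by
        rw [hsum]
      push_cast at this
      simp only [he]
      rw [← this]
      apply Finset.sum_congr rfl
      intro ψ _
      ring
    rw [← hsumR]
    set T : Finset (IrrCharacter G) :=
      insert oneIrr ((D i₀).excSet ∪ S.biUnion (fun j => (D j).excSet)) with hT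
    have hle : ∑ ψ ∈ T, ((mult (ζ i₀) ψ : ℤ) : ℝ) ^ 2 ≤
        ∑ ψ : IrrCharacter G, ((mult (ζ i₀) ψ : ℤ) : ℝ) ^ 2 :=
      Finset.sum_le_sum_of_subset_of_nonneg (Finset.subset_univ _)
        (fun ψ _ _ => sq_nonneg _)
    refine le_trans (le_of_eq ?_) hle
    have hn1 : (oneIrr : IrrCharacter G) ∉
        (D i₀).excSet ∪ S.biUnion (fun j => (D j).excSet) := by
      rw [Finset.mem_union, Finset.mem_biUnion]
      rintro (h | ⟨j, _, h⟩)
      · exact h1not i₀ h
      · exact h1not j h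
    have hd2 : Disjoint (D i₀).excSet (S.biUnion (fun j => (D j).excSet)) := by
      rw [Finset.disjoint_biUnion_right]
      intro j hj
      exact hdisj i₀ j (hSne j hj).symm
    have hpd : Set.PairwiseDisjoint (S : Set ι) (fun j => (D j).excSet) := by
      intro j _ k _ hjk
      exact hdisj j k hjk
    rw [hT, Finset.sum_insert hn1, Finset.sum_union hd2, Finset.sum_biUnion hpd, mult_one]
    have e1 := (D i₀).sum_sq_mult_excSet (hC i₀) (ζ i₀) (hζ1 i₀) (M i₀) (hM i₀)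
    rw [e1]
    have e2 : ∀ j ∈ S, ∑ ψ ∈ (D j).excSet, ((mult (ζ i₀) ψ : ℤ) : ℝ) ^ 2 =
        r j * (ν j : ℝ) ^ 2 := by
      intro j hj
      exact sum_sq_mult_cross (hnf i₀ j (hSne j hj).symm) (hC i₀) (hC j) (ζ i₀) (hζ1 i₀) (D j)
        (ζ j) (hζ1 j)
    rw [Finset.sum_congr rfl e2]
    have hεz2 : (εz : ℝ) * εz = 1 := by
      rcases hεz with rfl | rfl <;> norm_num
    have hc2 : (c : ℝ) ^ 2 = (M i₀ : ℝ) ^ 2 := by
      rw [hc]
      push_cast
      have : ((εz : ℝ) * (M i₀ : ℝ)) ^ 2 = ((εz : ℝ) * εz) * (M i₀ : ℝ) ^ 2 := by ring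
      rw [this, hεz2, one_mul]
    have hcε : (c : ℝ) * εz = (M i₀ : ℝ) := by
      rw [hc]
      push_cast
      have : (εz : ℝ) * (M i₀ : ℝ) * εz = ((εz : ℝ) * εz) * (M i₀ : ℝ) := by ring
      rw [this, hεz2, one_mul]
    rw [hc2]
    simp only [hr, ha, he]
    linarith
  -- the class equation
  have hclass := weighted_partition H hnf hTI hcover (fun _ => (1 : ℝ)) (fun _ _ => rfl)
  simp only [Finset.sum_const, Finset.card_univ, nsmul_eq_mul, mul_one] at hclass
  rw [← Nat.card_eq_fintype_card] at hclass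
  have hclass' : (Nat.card G : ℝ) = 1 + ∑ i, n i * (a i - 1) := by
    rw [hclass]
    congr 1
    apply Finset.sum_congr rfl
    intro i _
    rw [sum_ite_ne_one_const, mul_one]
  rw [← Finset.add_sum_erase Finset.univ _ (Finset.mem_univ i₀), ← hS, ← add_assoc] at hclass'
  -- the row equation
  have hrow := weighted_partition H hnf hTI hcover (fun g => Complex.normSq ((Ψ : G → ℂ) g))
    (fun g x => by
      show Complex.normSq ((Ψ : G → ℂ) (x * g * x⁻¹)) = Complex.normSq ((Ψ : G → ℂ) g)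
      rw [isClassFunction_irr Ψ g x])
  rw [sum_normSq_irr Ψ, ← Finset.add_sum_erase Finset.univ _ (Finset.mem_univ i₀), ← hS,
    ← add_assoc] at hrow
  have hval : ∀ x : ↥(Subgroup.normalizer (H i₀ : Set G)), (x : G) ∈ H i₀ → x ≠ 1 →
      (Ψ : G → ℂ) x = (D i₀).ε * ((ζ i₀).1 : ↥(Subgroup.normalizer (H i₀ : Set G)) → ℂ) x + c :=
    fun x hx hx1 => (D i₀).apply_f_zeta (ζ i₀) (hζ1 i₀) (M i₀) (hM i₀) εz hεD x hx hx1
  have hrow0 := sum_normSq_on_K' (hC i₀) (ζ i₀) (hζ1 i₀) (Ψ : G → ℂ) (D i₀).ε (D i₀).hε c hval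
  have hεre : ((D i₀).ε).re = (εz : ℝ) := by rw [hεD]; simp
  rw [hεre] at hrow0
  have hrowj : ∀ j ∈ S, ((Subgroup.normalizer (H j : Set G)).index : ℝ) *
      ∑ h : ↥(H j), (if h = 1 then (0 : ℝ) else Complex.normSq ((Ψ : G → ℂ) h)) =
      n j * ((a j - 1) * (μ j : ℝ) ^ 2) := by
    intro j hj
    simp only [hn, ha]
    congr 1
    rw [← sum_ite_ne_one_const]
    apply Finset.sum_congr rfl
    intro h _
    by_cases hh : h = 1
    · rw [if_pos hh, if_pos hh]
    · rw [if_neg hh, if_neg hh]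
      have hΨj : Ψ ∉ (D j).excSet := fun hmem =>
        (Finset.disjoint_left.mp (hdisj i₀ j (hSne j hj).symm)) hΨmem hmem
      rw [(D j).apply_of_notMem_excSet (hTI j) (hlt j) (hC j) (htwo j) (ζ j) (hζ1 j) hΨj (h : G)
        h.2 (fun h1 => hh (Subtype.ext h1))]
      rw [Complex.normSq_intCast]
      ring
  rw [Finset.sum_congr rfl hrowj, hrow0] at hrow
  -- degree
  have hd : (1 : ℝ) ≤ Complex.normSq ((Ψ : G → ℂ) 1) := by
    rw [IsCharacter.apply_one_eq_charDegree (IsIrrCharacter.isCharacter Ψ.2)]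
    have := IsIrrCharacter.charDegree_pos Ψ.2
    rw [Complex.normSq_natCast]
    have h1 : (1 : ℝ) ≤ (charDegree (Ψ : G → ℂ) : ℝ) := by exact_mod_cast this
    nlinarith
  refine final_arith S (Nat.card G : ℝ) (Complex.normSq ((Ψ : G → ℂ) 1)) (a i₀) (e i₀) (r i₀)
    (n i₀) c εz a e r n μ ν hd hεz ?_ ?_ (hre i₀) (hng i₀) ?_ ?_ (fun j _ => hre j)
    (fun j _ => hng j) (fun j _ => Nat.cast_nonneg _) ?_ hpar hclass' hrow hcolR
  · have h1 := two_mul_index_lt_card hodd (hC i₀) (ζ i₀) (hζ1 i₀)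
    have h2 : (2 : ℝ) * e i₀ + 1 ≤ a i₀ := by
      simp only [he, ha]
      exact_mod_cast h1
    simp only [hr]
    rw [le_div_iff₀ (he0 i₀)]
    linarith
  · have := two_le_index (hlt i₀)
    simp only [he]
    exact_mod_cast this
  · have : 0 < (Subgroup.normalizer (H i₀ : Set G)).index :=
      Nat.pos_of_ne_zero Subgroup.index_ne_zero_of_finite
    simp only [hn]
    exact_mod_cast this
  · intro j _
    simp only [hr]
    exact div_nonneg (by linarith [ha1 j]) (he0 j).le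
  · intro j hj
    have h1 := hi₀ j
    have h2 := hcard i₀ j (hSne j hj).symm
    have h3 : Nat.card (H i₀) + 1 ≤ Nat.card (H j) := by omega
    simp only [ha]
    exact_mod_cast h3

end Cfsg.Agent.Lib.Helper52
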