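import Cfsg.Agent.Lib.Helper52.CohTILocal

/-!
# Coherent T.I. subgroups with Frobenius normalizer: parity and sums of squares of the
multiplicities of the exceptional characters
-/

set_option autoImplicit false
set_option linter.unusedSectionVars false
set_option linter.style.haveILetI false

namespace Cfsg.Agent.Lib.Helper52

open Cfsg Cfsg.Agent.Lib.Helper74 Cfsg.Agent.Lib.Helper78 Cfsg.Agent.Lib.Helper75
open scoped ComplexConjugate

universe u

section TIFN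

variable {G : Type u} [Group G] [Fintype G] {K : Subgroup G}

local notation "NK" => Subgroup.normalizer (K : Set G)

variable [Fintype ↥(Subgroup.normalizer (K : Set G))]

theorem index_ne_zero_C : ((K.subgroupOf NK).index : ℂ) ≠ 0 := by
  have : (K.subgroupOf NK).index ≠ 0 := Subgroup.index_ne_zero_of_finite
  exact_mod_cast this

/-- the real form of `mult_f` -/
theorem CohData.mult_f_real (D : CohData K)
    (hC : ∀ k ∈ K, k ≠ 1 → Subgroup.centralizer ({k} : Set G) ≤ K) (ζ : RelChar K)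
    (hζ1 : (ζ.1 : ↥NK → ℂ) 1 = ((K.subgroupOf NK).index : ℂ)) (m : ℤ)
    (hm : ∀ χ : RelChar K, ∀ k : ↥NK, (k : G) ∈ K → k ≠ 1 →
      (D.f χ : G → ℂ) k = D.ε * (χ.1 : ↥NK → ℂ) k +
        D.ε * (m : ℂ) * (χ.1 : ↥NK → ℂ) 1 / ((K.subgroupOf NK).index : ℂ))
    (εz : ℤ) (hεz : D.ε = εz) (χ : RelChar K) :
    (mult ζ (D.f χ) : ℝ) =
      (εz : ℝ) * (m : ℝ) * (charDegree (χ.1 : ↥NK → ℂ) : ℝ) / ((K.subgroupOf NK).index : ℝ) -
        (if χ = ζ then (εz : ℝ) else 0) := by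
  apply Complex.ofReal_injective
  have h := D.mult_f hC ζ hζ1 m hm χ
  rw [IsCharacter.apply_one_eq_charDegree (IsIrrCharacter.isCharacter χ.1.2), hεz] at h
  push_cast
  rw [h]
  split_ifs <;> simp

/-- the value of `f ζ` on `K#` -/
theorem CohData.apply_f_zeta (D : CohData K) (ζ : RelChar K)
    (hζ1 : (ζ.1 : ↥NK → ℂ) 1 = ((K.subgroupOf NK).index : ℂ)) (m : ℤ)
    (hm : ∀ χ : RelChar K, ∀ k : ↥NK, (k : G) ∈ K → k ≠ 1 →
      (D.f χ : G → ℂ) k = D.ε * (χ.1 : ↥NK → ℂ) k +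
        D.ε * (m : ℂ) * (χ.1 : ↥NK → ℂ) 1 / ((K.subgroupOf NK).index : ℂ))
    (εz : ℤ) (hεz : D.ε = εz) (k : ↥NK) (hk : (k : G) ∈ K) (hk1 : k ≠ 1) :
    (D.f ζ : G → ℂ) k = D.ε * (ζ.1 : ↥NK → ℂ) k + ((εz * m : ℤ) : ℂ) := by
  rw [hm ζ k hk hk1, hζ1]
  have := index_ne_zero_C (K := K)
  push_cast
  rw [hεz]
  field_simp

/-- the sum of the multiplicities of `f ζ` and its conjugate is odd -/
theorem CohData.odd_mult_add (D : CohData K) (hodd : Odd (Nat.card G))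
    (hC : ∀ k ∈ K, k ≠ 1 → Subgroup.centralizer ({k} : Set G) ≤ K) (ζ : RelChar K)
    (hζ1 : (ζ.1 : ↥NK → ℂ) 1 = ((K.subgroupOf NK).index : ℂ)) (m : ℤ)
    (hm : ∀ χ : RelChar K, ∀ k : ↥NK, (k : G) ∈ K → k ≠ 1 →
      (D.f χ : G → ℂ) k = D.ε * (χ.1 : ↥NK → ℂ) k +
        D.ε * (m : ℂ) * (χ.1 : ↥NK → ℂ) 1 / ((K.subgroupOf NK).index : ℂ)) :
    Odd (mult ζ (D.f ζ) + mult ζ (D.f (conjRel ζ))) := by
  obtain ⟨εz, hεz1, hεz⟩ := D.exists_εz
  have e1 := D.mult_f hC ζ hζ1 m hm ζ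
  have e2 := D.mult_f hC ζ hζ1 m hm (conjRel ζ)
  rw [if_pos rfl, hζ1] at e1
  rw [if_neg (conjRel_ne_self hodd ζ), conjRel_apply_one, hζ1] at e2
  have hne := index_ne_zero_C (K := K)
  have h3 : ((mult ζ (D.f ζ) + mult ζ (D.f (conjRel ζ)) : ℤ) : ℂ) = ((2 * εz * m - εz : ℤ) : ℂ) := by
    push_cast
    rw [e1, e2, hεz]
    field_simp
    ring
  have h4 : mult ζ (D.f ζ) + mult ζ (D.f (conjRel ζ)) = 2 * εz * m - εz := by exact_mod_cast h3
  rw [h4]
  rcases hεz1 with rfl | rfl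
  · exact ⟨m - 1, by ring⟩
  · exact ⟨-m, by ring⟩

/-- the sum of the squares of the multiplicities of the exceptional characters -/
theorem CohData.sum_sq_mult_excSet (D : CohData K)
    (hC : ∀ k ∈ K, k ≠ 1 → Subgroup.centralizer ({k} : Set G) ≤ K) (ζ : RelChar K)
    (hζ1 : (ζ.1 : ↥NK → ℂ) 1 = ((K.subgroupOf NK).index : ℂ)) (m : ℤ)
    (hm : ∀ χ : RelChar K, ∀ k : ↥NK, (k : G) ∈ K → k ≠ 1 →
      (D.f χ : G → ℂ) k = D.ε * (χ.1 : ↥NK → ℂ) k +
        D.ε * (m : ℂ) * (χ.1 : ↥NK → ℂ) 1 / ((K.subgroupOf NK).index : ℂ)) :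
    ∑ ψ ∈ D.excSet, ((mult ζ ψ : ℤ) : ℝ) ^ 2 =
      ((Nat.card K : ℝ) - 1) / ((K.subgroupOf NK).index : ℝ) * (m : ℝ) ^ 2 - 2 * (m : ℝ) + 1 := by
  classical
  haveI : Finite (RelChar K) := Finite.of_injective D.f D.hf
  haveI : Fintype (RelChar K) := Fintype.ofFinite _
  obtain ⟨εz, hεz1, hεz⟩ := D.exists_εz
  have hεz2 : (εz : ℝ) * (εz : ℝ) = 1 := by
    rcases hεz1 with rfl | rfl <;> norm_num
  set e : ℝ := ((K.subgroupOf NK).index : ℝ) with he
  have he0 : e ≠ 0 := by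
    have : (K.subgroupOf NK).index ≠ 0 := Subgroup.index_ne_zero_of_finite
    rw [he]
    exact_mod_cast this
  have hζd : (charDegree (ζ.1 : ↥NK → ℂ) : ℝ) = e := by
    have h1 := IsCharacter.apply_one_eq_charDegree (IsIrrCharacter.isCharacter ζ.1.2)
    rw [hζ1] at h1
    have h2 : charDegree (ζ.1 : ↥NK → ℂ) = (K.subgroupOf NK).index := by exact_mod_cast h1.symm
    rw [h2]
  rw [D.sum_excSet (fun ψ => ((mult ζ ψ : ℤ) : ℝ) ^ 2)]
  have hterm : ∀ χ : RelChar K, ((mult ζ (D.f χ) : ℤ) : ℝ) ^ 2 =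
      (m : ℝ) ^ 2 / e ^ 2 * ((charDegree (χ.1 : ↥NK → ℂ) : ℕ) : ℝ) ^ 2 +
        (if χ = ζ then 1 - 2 * (m : ℝ) else 0) := by
    intro χ
    rw [D.mult_f_real hC ζ hζ1 m hm εz hεz χ, ← he]
    by_cases h : χ = ζ
    · rw [if_pos h, if_pos h, h, hζd]
      rcases hεz1 with rfl | rfl
      · push_cast
        field_simp
        ring
      · push_cast
        field_simp
        ring
    · rw [if_neg h, if_neg h]
      rcases hεz1 with rfl | rfl
      · push_cast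
        field_simp
        ring
      · push_cast
        field_simp
        ring
  rw [Finset.sum_congr rfl (fun χ _ => hterm χ), Finset.sum_add_distrib, ← Finset.mul_sum,
    Finset.sum_ite_eq' Finset.univ ζ, if_pos (Finset.mem_univ _)]
  have hS := sum_relChar_degree_sq (K := K) hC
  have hS' : ∑ χ : RelChar K, ((charDegree (χ.1 : ↥NK → ℂ) : ℕ) : ℝ) ^ 2 =
      (Nat.card K : ℝ) * e - e := by
    have : ((∑ χ : RelChar K, charDegree (χ.1 : ↥NK → ℂ) ^ 2 + (K.subgroupOf NK).index : ℕ) : ℝ) =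
        ((Nat.card K * (K.subgroupOf NK).index : ℕ) : ℝ) := by rw [hS]
    push_cast at this
    linarith
  rw [hS']
  field_simp
  ring

open Classical in
/-- the sum of `|Ψ|²` over `K#` for a function with `Ψ = ε ζ + c` on `K#` -/
theorem sum_normSq_on_K' [Fintype ↥K]
    (hC : ∀ k ∈ K, k ≠ 1 → Subgroup.centralizer ({k} : Set G) ≤ K)
    (ζ : RelChar K) (hζ1' : (ζ.1 : ↥NK → ℂ) 1 = ((K.subgroupOf NK).index : ℂ)) (Ψ : G → ℂ) (ε : ℂ)
    (hε : ε = 1 ∨ ε = -1) (c : ℤ)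
    (hval : ∀ x : ↥NK, (x : G) ∈ K → x ≠ 1 → Ψ x = ε * (ζ.1 : ↥NK → ℂ) x + c) :
    ∑ h : ↥K, (if h = 1 then (0 : ℝ) else Complex.normSq (Ψ h)) =
      (Nat.card K : ℝ) * ((K.subgroupOf NK).index : ℝ) - ((K.subgroupOf NK).index : ℝ) ^ 2
        - 2 * ε.re * c * ((K.subgroupOf NK).index : ℝ) + ((Nat.card K : ℝ) - 1) * (c : ℝ) ^ 2 := by
  set e : ℝ := ((K.subgroupOf NK).index : ℝ) with he
  have hζ1 : (ζ.1 : ↥NK → ℂ) 1 = (e : ℂ) := by
    rw [hζ1', he]; push_cast; rfl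
  have hεre : ε = ((ε.re : ℝ) : ℂ) ∧ ε.re * ε.re = 1 := by
    rcases hε with rfl | rfl <;> simp
  have key : ∀ x : ↥NK, (if (x : G) ∈ K ∧ x ≠ 1 then Complex.normSq (Ψ x) else 0) =
      Complex.normSq ((ζ.1 : ↥NK → ℂ) x) - (if x = 1 then e ^ 2 else 0)
        + 2 * ε.re * c * (((ζ.1 : ↥NK → ℂ) x).re - (if x = 1 then e else 0))
        + (c : ℝ) ^ 2 * (if (x : G) ∈ K ∧ x ≠ 1 then (1 : ℝ) else 0) := by
    intro x
    by_cases hxK : (x : G) ∈ K
    · by_cases hx1 : x = 1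
      · subst hx1
        rw [if_neg (by simp), if_pos rfl, if_pos rfl, if_neg (by simp), hζ1]
        simp [Complex.normSq_apply]
        ring
      · rw [if_pos ⟨hxK, hx1⟩, if_neg hx1, if_neg hx1, if_pos ⟨hxK, hx1⟩, hval x hxK hx1]
        rw [hεre.1]
        set z := (ζ.1 : ↥NK → ℂ) x
        rw [Complex.normSq_apply, Complex.normSq_apply]
        simp only [Complex.add_re, Complex.mul_re, Complex.ofReal_re, Complex.ofReal_im,
          Complex.intCast_re, Complex.add_im, Complex.mul_im, Complex.intCast_im]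
        have := hεre.2
        ring_nf
        ring_nf at this
        nlinarith [this]
    · have hx1 : x ≠ 1 := by
        rintro rfl
        exact hxK K.one_mem
      rw [if_neg (fun h => hxK h.1), if_neg hx1, if_neg hx1, if_neg (fun h => hxK h.1),
        relChar_vanish hC ζ x hxK]
      simp
  have hsum := sum_K_eq_sum_NK (K := K)
    (fun x : ↥NK => if (x : G) ∈ K ∧ x ≠ 1 then Complex.normSq (Ψ x) else 0)
    (fun x hx => if_neg (fun h => hx h.1))
  have hlhs : ∑ h : ↥K, (if h = 1 then (0 : ℝ) else Complex.normSq (Ψ h)) =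
      ∑ h : ↥K, (fun x : ↥NK => if (x : G) ∈ K ∧ x ≠ 1 then Complex.normSq (Ψ x) else 0)
        ⟨(h : G), Subgroup.le_normalizer h.2⟩ := by
    apply Finset.sum_congr rfl
    intro h _
    beta_reduce
    by_cases h1 : h = 1
    · subst h1
      rw [if_pos rfl, if_neg]
      rintro ⟨_, h2⟩
      exact h2 rfl
    · rw [if_neg h1, if_pos]
      refine ⟨h.2, ?_⟩
      intro h2
      apply h1
      apply Subtype.ext
      exact congrArg (fun x : ↥NK => (x : G)) h2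
  rw [hlhs, hsum, Finset.sum_congr rfl (fun x _ => key x)]
  rw [Finset.sum_add_distrib, Finset.sum_add_distrib, Finset.sum_sub_distrib, ← Finset.mul_sum,
    ← Finset.mul_sum, Finset.sum_sub_distrib, sum_indicator_K, sum_normSq_irr ζ.1,
    Finset.sum_ite_eq' Finset.univ (1 : ↥NK), Finset.sum_ite_eq' Finset.univ (1 : ↥NK),
    if_pos (Finset.mem_univ _), if_pos (Finset.mem_univ _)]
  have hre : ∑ x : ↥NK, ((ζ.1 : ↥NK → ℂ) x).re = 0 := by
    have := sum_eq_zero_of_classInner_one (relChar_classInner_one ζ)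
    have h2 := congrArg Complex.re this
    rw [Complex.re_sum] at h2
    simpa using h2
  rw [hre, card_normalizer_eq]
  push_cast
  ring

end TIFN

end Cfsg.Agent.Lib.Helper52
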