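import Mathlib

/-!
# Sums over a set on which a subgroup acts freely by conjugation
-/

set_option autoImplicit false
set_option linter.unusedSectionVars false
set_option linter.style.haveILetI false

namespace Cfsg.Agent.Lib.Helper52

universe u

theorem card_dvd_of_free_conj {G : Type u} [Group G] (P : Subgroup G) [Finite ↥P] (S : Set G)
    [Finite ↥S] (hS : ∀ g ∈ P, ∀ x ∈ S, g * x * g⁻¹ ∈ S)
    (hfree : ∀ g ∈ P, ∀ x ∈ S, g * x * g⁻¹ = x → g = 1) : Nat.card ↥P ∣ Nat.card ↥S := by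
  letI : MulAction ↥P ↥S :=
    { smul := fun g x => ⟨(g : G) * (x : G) * (g : G)⁻¹, hS g g.2 x x.2⟩
      one_smul := by
        intro x
        apply Subtype.ext
        show ((1 : ↥P) : G) * (x : G) * ((1 : ↥P) : G)⁻¹ = x
        simp
      mul_smul := by
        intro g h x
        apply Subtype.ext
        show ((g * h : ↥P) : G) * (x : G) * ((g * h : ↥P) : G)⁻¹ =
          (g : G) * ((h : G) * (x : G) * (h : G)⁻¹) * (g : G)⁻¹
        simp [mul_assoc] }
  have hstab : ∀ x : ↥S, MulAction.stabilizer ↥P x = ⊥ := by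
    intro x
    rw [eq_bot_iff]
    intro g hg
    rw [MulAction.mem_stabilizer_iff] at hg
    rw [Subgroup.mem_bot]
    apply Subtype.ext
    have h1 : (g : G) * (x : G) * (g : G)⁻¹ = x := congrArg Subtype.val hg
    exact hfree g g.2 x x.2 h1
  have e := MulAction.selfEquivOrbitsQuotientProd hstab
  rw [Nat.card_congr e, Nat.card_prod]
  exact dvd_mul_left _ _

theorem sum_eq_card_mul_of_free_conj {G : Type u} [Group G] [Fintype G] [DecidableEq G]
    (P : Subgroup G) (s : Finset G) (F : G → ℂ)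
    (hs : ∀ g ∈ P, ∀ x ∈ s, g * x * g⁻¹ ∈ s)
    (hfree : ∀ g ∈ P, ∀ x ∈ s, g * x * g⁻¹ = x → g = 1)
    (hF : ∀ g ∈ P, ∀ x ∈ s, F (g * x * g⁻¹) = F x) (hint : ∀ x ∈ s, IsIntegral ℤ (F x)) :
    ∃ β : ℂ, IsIntegral ℤ β ∧ ∑ x ∈ s, F x = (Nat.card ↥P : ℂ) * β := by
  classical
  have h1 : ∑ x ∈ s, F x = ∑ b ∈ s.image F, (s.filter (fun x => F x = b)).card • b :=
    Finset.sum_comp (fun b => b) F
  have hdvd : ∀ b ∈ s.image F, Nat.card ↥P ∣ (s.filter (fun x => F x = b)).card := by
    intro b _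
    have := card_dvd_of_free_conj P (↑(s.filter (fun x => F x = b)) : Set G)
      (by
        intro g hg x hx
        rw [Finset.mem_coe, Finset.mem_filter] at hx ⊢
        exact ⟨hs g hg x hx.1, by rw [hF g hg x hx.1, hx.2]⟩)
      (by
        intro g hg x hx hgx
        rw [Finset.mem_coe, Finset.mem_filter] at hx
        exact hfree g hg x hx.1 hgx)
    rwa [Nat.card_coe_set_eq, Set.ncard_coe_finset] at this
  refine ⟨∑ b ∈ s.image F, ((s.filter (fun x => F x = b)).card / Nat.card ↥P) • b, ?_, ?_⟩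
  · apply IsIntegral.sum
    intro b hb
    obtain ⟨x, hx, rfl⟩ := Finset.mem_image.mp hb
    exact IsIntegral.nsmul (hint x hx) _
  · rw [h1, Finset.mul_sum]
    apply Finset.sum_congr rfl
    intro b hb
    obtain ⟨k, hk⟩ := hdvd b hb
    have hpos : 0 < Nat.card ↥P := Nat.card_pos
    rw [hk, Nat.mul_div_cancel_left _ hpos, nsmul_eq_mul, nsmul_eq_mul]
    push_cast
    ring

end Cfsg.Agent.Lib.Helper52
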