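/-
Gaschütz conjugacy, strong form (conjugating element in `K`), and the abelian Schur–Zassenhaus conjugacy
as a special case (helper52).
-/
import Cfsg.Agent.Lib.Helper52.Gaschutz

set_option autoImplicit false
open Pointwise

namespace Cfsg.Agent.Lib.Helper52

theorem mem_conj_smul' {G : Type*} [Group G] (g x : G) (H : Subgroup G) :
    x ∈ MulAut.conj g • H ↔ g⁻¹ * x * g ∈ H := by
  rw [Subgroup.mem_pointwise_smul_iff_inv_smul_mem]
  simp [MulAut.smul_def]

theorem exists_decomp_of_isComplement' {G : Type*} [Group G] {K H : Subgroup G}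
    (h : Subgroup.IsComplement' K H) (g : G) :
    ∃ k : K, ∃ a ∈ H, g = k * a := by
  obtain ⟨⟨k, a⟩, hka, -⟩ := (Subgroup.isComplement_iff_existsUnique.mp h) g
  exact ⟨k, a, a.2, hka.symm⟩

/-- Gaschütz's Theorem, conjugacy, strong form: the conjugating element can be taken in `K`. -/
theorem gaschutz_conj {G : Type*} [Group G] [Finite G] (K U : Subgroup G) [K.Normal] [IsMulCommutative K]
    (hKU : K ≤ U) (hcop : (Nat.card K).Coprime U.index)
    (H₀ H₁ : Subgroup G) (h₀ : Subgroup.IsComplement' K H₀) (h₁ : Subgroup.IsComplement' K H₁)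
    (hU : H₀ ⊓ U = H₁ ⊓ U) :
    ∃ k ∈ K, MulAut.conj k • H₀ = H₁ := by
  set A : Subgroup G := H₀ ⊓ U with hA
  have hAH₀ : A ≤ H₀ := inf_le_left
  have hAH₁ : A ≤ H₁ := by rw [hU]; exact inf_le_left
  have hG₀ := exists_decomp_of_isComplement' h₀
  have hG₁ := exists_decomp_of_isComplement' h₁
  have hKH₀ : K ⊓ H₀ = ⊥ := disjoint_iff.mp h₀.disjoint
  have hKH₁ : K ⊓ H₁ = ⊥ := disjoint_iff.mp h₁.disjoint
  have hUd : ∀ u ∈ U, ∃ k : K, ∃ a ∈ A, u = k * a := by
    intro u hu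
    obtain ⟨k, a, ha, rfl⟩ := hG₀ u
    refine ⟨k, a, ⟨ha, ?_⟩, rfl⟩
    have : a = (k : G)⁻¹ * (k * a) := by group
    rw [this]
    exact U.mul_mem (U.inv_mem (hKU k.2)) hu
  set f₀ : GFun K A := GFun.ofCompl hKH₀ hG₀ hAH₀ with hf₀
  set f₁ : GFun K A := GFun.ofCompl hKH₁ hG₁ hAH₁ with hf₁
  obtain ⟨k, hk⟩ := GFun.exists_smul_equiv (U := U) hcop f₀ f₁
  have hH₁le : H₁ ≤ GFun.ker hUd f₁ := by
    intro h hh
    rw [GFun.mem_ker]
    unfold GFun.delta
    rw [hf₁, GFun.smul_ofCompl hKH₁ hG₁ hAH₁ h hh, GFun.D_self]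
  have hcard₁ : Nat.card (GFun.ker hUd f₁) = Nat.card H₁ := by
    have e1 := (GFun.ker_isComplement' hUd hcop f₁).card_mul_card
    have e2 := h₁.card_mul_card
    have hpos : 0 < Nat.card K := Nat.card_pos
    exact Nat.eq_of_mul_eq_mul_left hpos (e1.trans e2.symm)
  have hH₁ : H₁ = GFun.ker hUd f₁ := Subgroup.eq_of_le_of_card_ge hH₁le hcard₁.le
  refine ⟨k, k.2, ?_⟩
  have hle : MulAut.conj (k : G) • H₀ ≤ H₁ := by
    intro y hy
    rw [mem_conj_smul'] at hy
    rw [hH₁]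
    apply GFun.mem_ker_of_fix hUd f₁ (GFun.smul (k : G) f₀) hk
    have h2 : y * (k : G) = (k : G) * ((k : G)⁻¹ * y * k) := by group
    rw [← GFun.mul_smul, h2, GFun.mul_smul, hf₀, GFun.smul_ofCompl hKH₀ hG₀ hAH₀ _ hy]
  apply Subgroup.eq_of_le_of_card_ge hle
  have e0 := h₀.card_mul_card
  have e1 := h₁.card_mul_card
  have hpos : 0 < Nat.card K := Nat.card_pos
  have : Nat.card H₁ = Nat.card H₀ := Nat.eq_of_mul_eq_mul_left hpos (e1.trans e0.symm)
  rw [this]
  exact (Nat.card_congr (Subgroup.equivSMul (MulAut.conj (k : G)) H₀).toEquiv).le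

/-- Schur–Zassenhaus conjugacy for an abelian normal Hall subgroup: any two complements are conjugate
by an element of the normal subgroup (this is the frozen statement S0002). -/
theorem schur_zassenhaus_abelian_conj {G : Type*} [Group G] [Finite G] (A : Subgroup G) [A.Normal]
    [IsMulCommutative A] (hA : (Nat.card A).Coprime A.index)
    (H K : Subgroup G) (hH : Subgroup.IsComplement' A H) (hK : Subgroup.IsComplement' A K) :
    ∃ a ∈ A, MulAut.conj a • H = K := by
  apply gaschutz_conj A A le_rfl hA H K hH hK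
  have h1 : H ⊓ A = ⊥ := by rw [inf_comm]; exact disjoint_iff.mp hH.disjoint
  have h2 : K ⊓ A = ⊥ := by rw [inf_comm]; exact disjoint_iff.mp hK.disjoint
  rw [h1, h2]

end Cfsg.Agent.Lib.Helper52
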