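import Mathlib
import Cfsg.Prelude.Def_GeometricClasses
import Cfsg.Agent.Lib.Helper44.Witt
import Cfsg.Agent.Lib.Helper94.OrthBridge
import Cfsg.Agent.Lib.Helper94.OrthSiegel

/-!
# Siegel elements of `omegaGL Q` as matrices (helper52, project ASCHOE)

* `exists_hypSys` : `k` mutually orthogonal hyperbolic pairs in dimension `≥ 2k+1` (finite field).
* `exists_siegel_matrix` : for `n ≥ 7` there are `a, b` (singular, orthogonal, with partners) such that for
  every `lam : F` the matrix of `x ↦ x + lam • (B(x,a) b − B(x,b) a)` lies in `omegaGL Q`.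
-/

set_option autoImplicit false

namespace Cfsg.Agent.Lib.Helper52.OeSiegel

open Cfsg Cfsg.Geo Module Cfsg.Agent.Lib.Helper44 Cfsg.Agent.Lib.Helper94
open scoped Matrix

/-- `k` mutually orthogonal hyperbolic pairs in a non-degenerate quadratic space of dimension `≥ 2k+1`
over a finite field. -/
theorem exists_hypSys {K : Type*} [Field K] [Finite K] (k : ℕ) :
    ∀ {V : Type*} [AddCommGroup V] [Module K V] [FiniteDimensional K V]
    (Q : QuadraticForm K V) (_ : (QuadraticMap.polarBilin Q).Nondegenerate),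
    2 * k + 1 ≤ finrank K V → ∃ (e f : Fin k → V), HypSys Q e f := by
  induction k with
  | zero =>
    intro V _ _ _ Q _ _
    exact ⟨Fin.elim0, Fin.elim0, fun i => i.elim0, fun i => i.elim0, fun i => i.elim0⟩
  | succ k ih =>
    intro V _ _ _ Q hQ hfr
    obtain ⟨e₀, f₀, W, hQe, hQf, hef, hWnd, hWfr, hWo⟩ := peel Q hQ (by omega)
    obtain ⟨e, f, hsys⟩ := ih (Q.comp W.subtype) hWnd (by omega)
    exact ⟨Fin.cons e₀ (fun i => (e i : V)), Fin.cons f₀ (fun i => (f i : V)),
      HypSys.cons Q e₀ f₀ hQe hQf hef W hWo e f hsys⟩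

variable {n : ℕ} {F : Type*} [Field F] [Fintype F]

/-- three mutually orthogonal hyperbolic pairs for `n ≥ 7`. -/
theorem exists_three_pairs {Q : (Fin n → F) → F} (hQ : IsNondegenerateQuadraticForm Q) (hn : 7 ≤ n) :
    ∃ e f : Fin 3 → (Fin n → F), (∀ i, Q (e i) = 0 ∧ Q (f i) = 0) ∧
      (∀ i j, polarBilin hQ (e i) (f j) = if i = j then 1 else 0) ∧
      (∀ i j, polarBilin hQ (e i) (e j) = 0 ∧ polarBilin hQ (f i) (f j) = 0) := by
  have hD := quadData_polarBilin hQ
  have hnd := hD.nondeg_toQF (nondeg_polarBilin hQ)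
  obtain ⟨e, f, h1, h2, h3⟩ := exists_hypSys (K := F) 3 hD.toQF hnd
    (by rw [Module.finrank_fin_fun]; omega)
  refine ⟨e, f, fun i => h1 i, fun i j => ?_, fun i j => ?_⟩
  · rw [← hD.polar_toQF]; exact h2 i j
  · rw [← hD.polar_toQF, ← hD.polar_toQF]; exact h3 i j

/-- Siegel elements in `omegaGL Q`, matrix form. -/
theorem exists_siegel_matrix {Q : (Fin n → F) → F} (hQ : IsNondegenerateQuadraticForm Q) (hn : 7 ≤ n) :
    ∃ a b f : Fin n → F, Q a = 0 ∧ Q b = 0 ∧ polarBilin hQ a b = 0 ∧ polarBilin hQ f a = 1 ∧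
      polarBilin hQ f b = 0 ∧ b ≠ 0 ∧
      ∀ lam : F, ∃ g ∈ omegaGL Q, ∀ x : Fin n → F,
        (g : Matrix (Fin n) (Fin n) F) *ᵥ x =
          x + lam • (polarBilin hQ x a • b - polarBilin hQ x b • a) := by
  have hD := quadData_polarBilin hQ
  obtain ⟨e, f, h1, h2, h3⟩ := exists_three_pairs hQ hn
  have hb0 : e 1 ≠ 0 := by
    intro h
    have := h2 1 1
    rw [h] at this
    simp at this
  refine ⟨e 0, e 1, f 0, (h1 0).1, (h1 1).1, (h3 0 1).1, ?_, ?_, hb0, ?_⟩
  · rw [hD.symm]; simpa using h2 0 0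
  · rw [hD.symm]; simpa using h2 1 0
  · intro lam
    have hQb : Q (lam • e 1) = 0 := by rw [hD.smul, (h1 1).1, mul_zero]
    have hab : polarBilin hQ (e 0) (lam • e 1) = 0 := by
      rw [map_smul, (h3 0 1).1, smul_zero]
    have hmem : QuadData.siegel (polarBilin hQ) Q (e 0) (lam • e 1) ∈
        ⁅OG Q, OG Q⁆ := by
      apply hD.siegel_mem_commutator (c := e 2) (c' := f 2) (h1 0).1 hQb hab (h1 2).1 (h1 2).2
      · simpa using h2 2 2
      · exact (h3 2 0).1
      · rw [map_smul, (h3 2 1).1, smul_zero]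
      · rw [hD.symm]; simpa using h2 0 2
      · rw [map_smul, hD.symm, h2 1 2]; simp
    rw [← map_omegaGL, Subgroup.mem_map] at hmem
    obtain ⟨g, hg, hgs⟩ := hmem
    refine ⟨g, hg, fun x => ?_⟩
    rw [← glEquiv_apply]
    have : (glEquiv (Fin n) F) g = QuadData.siegel (polarBilin hQ) Q (e 0) (lam • e 1) := hgs
    rw [this, hD.siegel_apply (h1 0).1 hQb hab]
    simp only [map_smul, smul_eq_mul, smul_sub, smul_smul]
    rw [mul_comm lam, mul_comm lam, add_sub_assoc]

end Cfsg.Agent.Lib.Helper52.OeSiegel
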