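import Mathlib
import Cfsg.Prelude.Def_GeometricClasses
import Cfsg.Agent.Lib.Helper13.SubfieldBasic
import Cfsg.Agent.Lib.Helper52.OeSiegelKit

/-!
# ASCHOE-[P-SUBFIELD] (helper52)

`omegaGL Q` (`n ≥ 7`) lies in no subfield group over a proper subfield.
-/

set_option autoImplicit false

namespace Cfsg.Agent.Lib.Helper52.OePSub

open Cfsg Cfsg.Geo Module Cfsg.Agent.Lib.Helper94 Cfsg.Agent.Lib.Helper13
open scoped Matrix

variable {n : ℕ} {F : Type*} [Field F]

lemma one_add_pow_of_sq_zero (L : Matrix (Fin n) (Fin n) F) (hL : L * L = 0) (k : ℕ) :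
    (1 + L) ^ k = 1 + (k : F) • L := by
  induction k with
  | zero => simp
  | succ k ih =>
    rw [pow_succ, ih, Matrix.add_mul, Matrix.mul_add, Matrix.mul_add]
    simp only [Matrix.one_mul, Matrix.mul_one, Matrix.smul_mul, hL, smul_zero, add_zero,
      Nat.cast_succ, add_smul, one_smul]
    abel

/-- powers of a member of the subfield group. -/
lemma pow_mul_of_mem (F₀ : Subfield F) (P : GL (Fin n) F) (M : Matrix (Fin n) (Fin n) F)
    (A : Matrix (Fin n) (Fin n) F₀) (μ : F)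
    (h : M * (P : Matrix (Fin n) (Fin n) F) = μ • ((P : Matrix (Fin n) (Fin n) F) * A.map F₀.subtype))
    (k : ℕ) :
    M ^ k * (P : Matrix (Fin n) (Fin n) F) =
      μ ^ k • ((P : Matrix (Fin n) (Fin n) F) * (A ^ k).map F₀.subtype) := by
  induction k with
  | zero => simp
  | succ k ih =>
    have hmap : (A ^ (k + 1)).map F₀.subtype = (A ^ k).map F₀.subtype * A.map F₀.subtype := by
      rw [pow_succ, Matrix.map_mul]
    calc M ^ (k + 1) * (P : Matrix (Fin n) (Fin n) F)
        = M ^ k * (M * (P : Matrix (Fin n) (Fin n) F)) := by rw [pow_succ, Matrix.mul_assoc]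
      _ = μ • (M ^ k * (P : Matrix (Fin n) (Fin n) F) * A.map F₀.subtype) := by
          rw [h, Matrix.mul_smul, Matrix.mul_assoc]
      _ = μ ^ (k + 1) • ((P : Matrix (Fin n) (Fin n) F) * (A ^ (k + 1)).map F₀.subtype) := by
          rw [ih, hmap, Matrix.smul_mul, smul_smul, Matrix.mul_assoc, pow_succ, mul_comm]

variable [Fintype F]

/-- a unipotent member `1 + L`, `L² = 0`, of the subfield group: `P⁻¹ L P` is rational. -/
lemma rational_of_mem (F₀ : Subfield F) (P : GL (Fin n) F) (g : GL (Fin n) F)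
    (hg : g ∈ subfieldSubgroup F₀ P) (L : Matrix (Fin n) (Fin n) F) (hL : L * L = 0)
    (hgL : (g : Matrix (Fin n) (Fin n) F) = 1 + L) :
    ∃ N : Matrix (Fin n) (Fin n) F₀,
      L * (P : Matrix (Fin n) (Fin n) F) = (P : Matrix (Fin n) (Fin n) F) * N.map F₀.subtype := by
  rw [mem_subfieldSubgroup_iff] at hg
  obtain ⟨A, μ, h⟩ := hg
  have hpow := pow_mul_of_mem F₀ P _ (A : Matrix (Fin n) (Fin n) F₀) (μ : F) h (Fintype.card F - 1)
  rw [FiniteField.pow_card_sub_one_eq_one (μ : F) μ.ne_zero, one_smul, hgL,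
    one_add_pow_of_sq_zero L hL] at hpow
  have hcast : ((Fintype.card F - 1 : ℕ) : F) = -1 := by
    rw [Nat.cast_sub Fintype.card_pos, FiniteField.cast_card_eq_zero]; simp
  rw [hcast] at hpow
  refine ⟨1 - (A : Matrix (Fin n) (Fin n) F₀) ^ (Fintype.card F - 1), ?_⟩
  have hmap : (1 - (A : Matrix (Fin n) (Fin n) F₀) ^ (Fintype.card F - 1)).map F₀.subtype =
      1 - ((A : Matrix (Fin n) (Fin n) F₀) ^ (Fintype.card F - 1)).map F₀.subtype := by
    show F₀.subtype.mapMatrix _ = 1 - F₀.subtype.mapMatrix _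
    rw [map_sub, map_one]
  rw [hmap, Matrix.mul_sub, Matrix.mul_one, ← hpow]
  rw [Matrix.add_mul, Matrix.one_mul, Matrix.smul_mul]
  simp

/-- the core: two unipotent members `1 + L`, `1 + lam • L` force `lam ∈ F₀`. -/
theorem mem_of_two_unipotents (F₀ : Subfield F) (P : GL (Fin n) F) (g g' : GL (Fin n) F)
    (hg : g ∈ subfieldSubgroup F₀ P) (hg' : g' ∈ subfieldSubgroup F₀ P)
    (L : Matrix (Fin n) (Fin n) F) (lam : F) (hL : L * L = 0) (hL0 : L ≠ 0)
    (hgL : (g : Matrix (Fin n) (Fin n) F) = 1 + L)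
    (hgL' : (g' : Matrix (Fin n) (Fin n) F) = 1 + lam • L) : lam ∈ F₀ := by
  obtain ⟨N, hN⟩ := rational_of_mem F₀ P g hg L hL hgL
  have hL' : (lam • L) * (lam • L) = 0 := by
    rw [Matrix.smul_mul, Matrix.mul_smul, hL, smul_zero, smul_zero]
  obtain ⟨N', hN'⟩ := rational_of_mem F₀ P g' hg' (lam • L) hL' hgL'
  have hinj : ∀ X Y : Matrix (Fin n) (Fin n) F,
      (P : Matrix (Fin n) (Fin n) F) * X = (P : Matrix (Fin n) (Fin n) F) * Y → X = Y := by
    intro X Y h
    have := congrArg (fun Z => ((P⁻¹ : GL (Fin n) F) : Matrix (Fin n) (Fin n) F) * Z) h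
    simpa [← Matrix.mul_assoc, ← Units.val_mul] using this
  have hrel : lam • N.map F₀.subtype = N'.map F₀.subtype := by
    apply hinj
    rw [← hN', Matrix.mul_smul, ← hN, Matrix.smul_mul]
  have hN0 : N ≠ 0 := by
    intro h0
    rw [h0] at hN
    have h1 : L * (P : Matrix (Fin n) (Fin n) F) = 0 := by
      rw [hN]; simp
    apply hL0
    have := congrArg (fun Z => Z * ((P⁻¹ : GL (Fin n) F) : Matrix (Fin n) (Fin n) F)) h1
    simpa [Matrix.mul_assoc, ← Units.val_mul] using this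
  obtain ⟨i, j, hij⟩ : ∃ i j, N i j ≠ 0 := by
    by_contra hcon
    push Not at hcon
    exact hN0 (Matrix.ext hcon)
  have h2 := congrFun (congrFun hrel i) j
  simp only [Matrix.smul_apply, Matrix.map_apply, Subfield.coe_subtype, smul_eq_mul] at h2
  have h3 : ((N i j : F₀) : F) ≠ 0 := fun h => hij (Subtype.ext h)
  have : lam = ((N' i j : F₀) : F) / ((N i j : F₀) : F) := by
    rw [eq_div_iff h3, h2]
  rw [this]
  exact F₀.div_mem (N' i j).2 (N i j).2

end Cfsg.Agent.Lib.Helper52.OePSub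

namespace Cfsg.Agent.Lib.Helper55.Oe

open Cfsg Cfsg.Geo Module Cfsg.Agent.Lib.Helper94 Cfsg.Agent.Lib.Helper52.OePSub
  Cfsg.Agent.Lib.Helper52.OeSiegel
open scoped Matrix

variable {n : ℕ} {F : Type*} [Field F] [Fintype F]

/-- ASCHOE-[P-SUBFIELD] -/
theorem not_omegaGL_le_subfieldSubgroup {Q : (Fin n → F) → F} (hQ : IsNondegenerateQuadraticForm Q)
    (hn : 7 ≤ n) (F₀ : Subfield F) (hF₀ : F₀ ≠ ⊤) (P : GL (Fin n) F) :
    ¬ omegaGL Q ≤ subfieldSubgroup F₀ P := by
  intro hle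
  obtain ⟨lam, hlam⟩ : ∃ lam : F, lam ∉ F₀ := by
    by_contra hcon
    push Not at hcon
    exact hF₀ (eq_top_iff.mpr fun x _ => hcon x)
  have hD := quadData_polarBilin hQ
  obtain ⟨a, b, f, hQa, hQb, hab, hfa, hfb, hb0, hS⟩ := exists_siegel_matrix hQ hn
  obtain ⟨g, hg, hgx⟩ := hS 1
  obtain ⟨g', hg', hgx'⟩ := hS lam
  set L : Matrix (Fin n) (Fin n) F := (g : Matrix (Fin n) (Fin n) F) - 1 with hLdef
  have hLx : ∀ x, L *ᵥ x = polarBilin hQ x a • b - polarBilin hQ x b • a := by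
    intro x
    rw [hLdef, Matrix.sub_mulVec, hgx, Matrix.one_mulVec, one_smul]
    abel
  have haa : polarBilin hQ a a = 0 := by rw [hD.self, hQa, mul_zero]
  have hbb : polarBilin hQ b b = 0 := by rw [hD.self, hQb, mul_zero]
  have hba : polarBilin hQ b a = 0 := by rw [hD.symm, hab]
  have hext : ∀ X Y : Matrix (Fin n) (Fin n) F, (∀ x, X *ᵥ x = Y *ᵥ x) → X = Y := by
    intro X Y h
    apply Matrix.toLin'.injective
    apply LinearMap.ext
    intro x
    rw [Matrix.toLin'_apply, Matrix.toLin'_apply, h]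
  have hL2 : L * L = 0 := by
    apply hext
    intro x
    rw [← Matrix.mulVec_mulVec, hLx x, hLx]
    simp only [map_sub, map_smul, LinearMap.sub_apply, LinearMap.smul_apply, haa, hbb, hab, hba,
      smul_eq_mul, mul_zero, sub_zero, zero_smul, Matrix.zero_mulVec]
  have hL0 : L ≠ 0 := by
    intro h0
    have := hLx f
    rw [h0, Matrix.zero_mulVec, hfa, hfb, one_smul, zero_smul, sub_zero] at this
    exact hb0 this.symm
  apply hlam
  apply mem_of_two_unipotents F₀ P g g' (hle hg) (hle hg') L lam hL2 hL0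
  · rw [hLdef]; abel
  · apply hext
    intro x
    rw [hgx', Matrix.add_mulVec, Matrix.one_mulVec, Matrix.smul_mulVec, hLx]

end Cfsg.Agent.Lib.Helper55.Oe
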