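import Mathlib
import Cfsg.Agent.Lib.Helper44.Witt

/-!
# Abstract kit for project ASCHOE (helper52)

* `exists_root_quadratic` : a quadratic polynomial over `K` has a root in a finite extension of degree 2.
* `exists_hypSys_plane` : a non-degenerate quadratic space of dimension `2k+2` over a finite field is
  `k` hyperbolic planes plus a non-degenerate plane.
* `linearIndependent_of_dual`, `quad_zero_on_span`.
-/

set_option autoImplicit false

namespace Cfsg.Agent.Lib.Helper52.OeKit

open Module Polynomial Cfsg.Agent.Lib.Helper44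

/-- A quadratic polynomial over `K` has a root in every finite field extension of degree 2. -/
theorem exists_root_quadratic {K F : Type*} [Field K] [Field F] [Algebra K F] [Finite F]
    (h2 : Module.finrank K F = 2) (a b c : K) (ha : a ≠ 0) :
    ∃ t : F, algebraMap K F a * t ^ 2 + algebraMap K F b * t + algebraMap K F c = 0 := by
  classical
  set p : K[X] := C a * X ^ 2 + C b * X + C c with hp
  have hdeg : p.natDegree = 2 := Polynomial.natDegree_quadratic ha
  have hp0 : p ≠ 0 := by
    intro h0
    rw [h0] at hdeg
    simp at hdeg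
  have key : ∀ (t : F), aeval t p = algebraMap K F a * t ^ 2 + algebraMap K F b * t + algebraMap K F c := by
    intro t
    simp [hp, Polynomial.aeval_def]
  by_cases hr : ∃ x : K, p.IsRoot x
  · obtain ⟨x, hx⟩ := hr
    refine ⟨algebraMap K F x, ?_⟩
    rw [← key, Polynomial.aeval_algebraMap_apply]
    have : (Polynomial.aeval x) p = 0 := by
      rw [Polynomial.coe_aeval_eq_eval]; exact hx
    rw [this, map_zero]
  · push Not at hr
    have hirr : Irreducible p := by
      apply Polynomial.irreducible_of_degree_le_three_of_not_isRoot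
      · rw [hdeg]; decide
      · exact hr
    haveI : Fact (Irreducible p) := ⟨hirr⟩
    have hfr : Module.finrank K (AdjoinRoot p) = 2 := by
      rw [(AdjoinRoot.powerBasis hp0).finrank, AdjoinRoot.powerBasis_dim, hdeg]
    obtain ⟨f⟩ := FiniteField.nonempty_algHom_of_finrank_dvd (F := K) (K := AdjoinRoot p) (L := F)
      (by rw [hfr, h2])
    refine ⟨f (AdjoinRoot.root p), ?_⟩
    rw [← key, Polynomial.aeval_algHom_apply, AdjoinRoot.aeval_eq, AdjoinRoot.mk_self, map_zero]

/-- A family with a dual family for a bilinear form is linearly independent. -/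
theorem linearIndependent_of_dual {F V ι : Type*} [Field F] [AddCommGroup V] [Module F V]
    [Fintype ι] [DecidableEq ι] (B : LinearMap.BilinForm F V) (u w : ι → V)
    (hne : ∀ i, B (u i) (w i) ≠ 0) (hz : ∀ i j, i ≠ j → B (u i) (w j) = 0) :
    LinearIndependent F u := by
  rw [Fintype.linearIndependent_iff]
  intro g hg l
  have := congrArg (fun v => B v (w l)) hg
  simp only [map_sum, map_smul, LinearMap.sum_apply, LinearMap.smul_apply, smul_eq_mul,
    map_zero, LinearMap.zero_apply] at this
  rw [Finset.sum_eq_single l] at this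
  · rcases mul_eq_zero.1 this with h | h
    · exact h
    · exact absurd h (hne l)
  · intro i _ hil
    rw [hz i l hil, mul_zero]
  · intro h
    exact absurd (Finset.mem_univ l) h

/-- A quadratic function vanishing on a family of pairwise orthogonal vectors vanishes on their span. -/
theorem quad_zero_on_span {F V ι : Type*} [Field F] [AddCommGroup V] [Module F V]
    (B : LinearMap.BilinForm F V) (Q : V → F)
    (hsmul : ∀ (c : F) (v : V), Q (c • v) = c ^ 2 * Q v)
    (hpolar : ∀ u v, Q (u + v) = Q u + Q v + B u v)
    (u : ι → V) (hQ : ∀ i, Q (u i) = 0) (hB : ∀ i j, B (u i) (u j) = 0) :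
    ∀ v ∈ Submodule.span F (Set.range u), Q v = 0 := by
  have h1 : ∀ v ∈ Submodule.span F (Set.range u), ∀ j, B v (u j) = 0 := by
    intro v hv j
    induction hv using Submodule.span_induction with
    | mem x hx => obtain ⟨i, rfl⟩ := hx; exact hB i j
    | zero => simp
    | add x y _ _ hx hy => rw [map_add, LinearMap.add_apply, hx, hy, add_zero]
    | smul c x _ hx => rw [map_smul, LinearMap.smul_apply, hx, smul_zero]
  have h2 : ∀ v ∈ Submodule.span F (Set.range u), ∀ w ∈ Submodule.span F (Set.range u), B v w = 0 := by
    intro v hv w hw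
    induction hw using Submodule.span_induction with
    | mem x hx => obtain ⟨i, rfl⟩ := hx; exact h1 v hv i
    | zero => simp
    | add x y _ _ hx hy => rw [map_add, hx, hy, add_zero]
    | smul c x _ hx => rw [map_smul, hx, smul_zero]
  intro v hv
  induction hv using Submodule.span_induction with
  | mem x hx => obtain ⟨i, rfl⟩ := hx; exact hQ i
  | zero => have := hsmul 0 0; simpa using this
  | add x y hx hy hx' hy' => rw [hpolar, hx', hy', h2 x hx y hy]; ring
  | smul c x _ hx => rw [hsmul, hx, mul_zero]

/-- A non-degenerate quadratic space of dimension `2k+2` over a finite field is the orthogonal sum of `k`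
hyperbolic planes and a non-degenerate plane `⟨x, y⟩`. -/
theorem exists_hypSys_plane {K : Type*} [Field K] [Finite K] (k : ℕ) :
    ∀ {V : Type*} [AddCommGroup V] [Module K V] [FiniteDimensional K V]
    (Q : QuadraticForm K V) (_ : (QuadraticMap.polarBilin Q).Nondegenerate),
    finrank K V = 2 * k + 2 →
    ∃ (e f : Fin k → V) (x y : V), HypSys Q e f ∧
      (∀ i, QuadraticMap.polar Q (e i) x = 0 ∧ QuadraticMap.polar Q (f i) x = 0 ∧
        QuadraticMap.polar Q (e i) y = 0 ∧ QuadraticMap.polar Q (f i) y = 0) ∧
      QuadraticMap.polar Q x x * QuadraticMap.polar Q y y -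
        QuadraticMap.polar Q x y * QuadraticMap.polar Q x y ≠ 0 := by
  induction k with
  | zero =>
    intro V _ _ _ Q hQ hfr
    let b : Basis (Fin 2) K V := Module.finBasisOfFinrankEq K V (by simpa using hfr)
    refine ⟨Fin.elim0, Fin.elim0, b 0, b 1, ⟨fun i => i.elim0, fun i => i.elim0, fun i => i.elim0⟩,
      fun i => i.elim0, ?_⟩
    intro hD
    have hsymm : ∀ u v : V, QuadraticMap.polar Q u v = QuadraticMap.polar Q v u :=
      fun u v => QuadraticMap.polar_comm Q u v
    have hall : ∀ v : V, QuadraticMap.polar Q v (b 0) = 0 → QuadraticMap.polar Q v (b 1) = 0 → v = 0 := by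
      intro v h0 h1
      apply hQ.1 v
      intro z
      rw [← b.sum_repr z, Fin.sum_univ_two]
      simp only [map_add, map_smul, QuadraticMap.polarBilin_apply_apply, smul_eq_mul, h0, h1, mul_zero,
        add_zero]
    have hv : QuadraticMap.polar Q (b 1) (b 1) • b 0 - QuadraticMap.polar Q (b 0) (b 1) • b 1 = 0 := by
      apply hall
      · rw [QuadraticMap.polar_sub_left, QuadraticMap.polar_smul_left, QuadraticMap.polar_smul_left,
          smul_eq_mul, smul_eq_mul, hsymm (b 1) (b 0)]
        linear_combination hD
      · rw [QuadraticMap.polar_sub_left, QuadraticMap.polar_smul_left, QuadraticMap.polar_smul_left,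
          smul_eq_mul, smul_eq_mul]
        ring
    have hli := Fintype.linearIndependent_iff.1 b.linearIndependent
      ![QuadraticMap.polar Q (b 1) (b 1), - QuadraticMap.polar Q (b 0) (b 1)]
      (by rw [Fin.sum_univ_two]; simpa [sub_eq_add_neg] using hv)
    have h11 : QuadraticMap.polar Q (b 1) (b 1) = 0 := by simpa using hli 0
    have h01 : QuadraticMap.polar Q (b 0) (b 1) = 0 := by simpa using hli 1
    have : b 1 = 0 := hall _ (by rw [hsymm, h01]) h11
    exact b.ne_zero 1 this
  | succ k ih =>
    intro V _ _ _ Q hQ hfr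
    obtain ⟨e₀, f₀, W, hQe, hQf, hef, hWnd, hWfr, hWo⟩ := peel Q hQ (by omega)
    obtain ⟨e, f, x, y, hsys, horth, hdet⟩ := ih (Q.comp W.subtype) hWnd (by omega)
    have hpol : ∀ a b : W, QuadraticMap.polar (Q.comp W.subtype) a b =
        QuadraticMap.polar Q (a : V) (b : V) := by
      intro a b
      simp [QuadraticMap.polar]
    refine ⟨Fin.cons e₀ (fun i => (e i : V)), Fin.cons f₀ (fun i => (f i : V)), x, y,
      HypSys.cons Q e₀ f₀ hQe hQf hef W hWo e f hsys, ?_, ?_⟩
    · intro i
      refine Fin.cases ?_ (fun i => ?_) i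
      · simp only [Fin.cons_zero]
        exact ⟨(hWo _ x.2).1, (hWo _ x.2).2, (hWo _ y.2).1, (hWo _ y.2).2⟩
      · simp only [Fin.cons_succ, ← hpol]
        exact horth i
    · simpa only [hpol] using hdet

end Cfsg.Agent.Lib.Helper52.OeKit
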