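import Mathlib
import Cfsg.Prelude.Def_GeometricClasses
import Cfsg.Agent.Lib.Helper94.OrthBridge
import Cfsg.Agent.Lib.Helper52.OeQuadKit

/-!
# ASCHOE-[T-SUBFIELD2] (helper52)

A non-degenerate quadratic form in even dimension which is (up to a scalar) defined over a subfield of
index 2 is of plus type.
-/

set_option autoImplicit false

namespace Cfsg.Agent.Lib.Helper52.OeSubfield2

open Cfsg Cfsg.Geo Module Cfsg.Agent.Lib.Helper44 Cfsg.Agent.Lib.Helper94 Cfsg.Agent.Lib.Helper52.OeKit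
open scoped Matrix

variable {n : ℕ} {F : Type*} [Field F]

/-- the `F₀`-rational points of the structure `P`. -/
def phi (F₀ : Subfield F) (P : GL (Fin n) F) (u : Fin n → F₀) : Fin n → F :=
  (P : Matrix (Fin n) (Fin n) F) *ᵥ (fun i => (u i : F))

lemma phi_add (F₀ : Subfield F) (P : GL (Fin n) F) (u v : Fin n → F₀) :
    phi F₀ P (u + v) = phi F₀ P u + phi F₀ P v := by
  unfold phi
  rw [← Matrix.mulVec_add]
  congr 1

lemma phi_smul (F₀ : Subfield F) (P : GL (Fin n) F) (c : F₀) (u : Fin n → F₀) :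
    phi F₀ P (c • u) = (c : F) • phi F₀ P u := by
  unfold phi
  rw [← Matrix.mulVec_smul]
  congr 1

lemma phi_single (F₀ : Subfield F) (P : GL (Fin n) F) (i : Fin n) :
    phi F₀ P (Pi.single i 1) = (P : Matrix (Fin n) (Fin n) F) *ᵥ (Pi.single i 1) := by
  unfold phi
  congr 1
  funext j
  by_cases h : j = i
  · subst h; simp
  · simp [Pi.single_apply, h]

lemma eq_sum_phi (F₀ : Subfield F) (P : GL (Fin n) F) (x : Fin n → F) :
    x = ∑ i, (((P⁻¹ : GL (Fin n) F) : Matrix (Fin n) (Fin n) F) *ᵥ x) i • phi F₀ P (Pi.single i 1) := by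
  have h1 : x = (P : Matrix (Fin n) (Fin n) F) *ᵥ
      (((P⁻¹ : GL (Fin n) F) : Matrix (Fin n) (Fin n) F) *ᵥ x) := by
    rw [Matrix.mulVec_mulVec, ← Units.val_mul, mul_inv_cancel, Units.val_one, Matrix.one_mulVec]
  conv_lhs => rw [h1, pi_eq_sum_univ (((P⁻¹ : GL (Fin n) F) : Matrix (Fin n) (Fin n) F) *ᵥ x)]
  rw [Matrix.mulVec_sum]
  refine Finset.sum_congr rfl (fun i _ => ?_)
  rw [phi_single, ← Matrix.mulVec_smul]
  congr 1
  funext j
  by_cases h : i = j
  · subst h; simp
  · simp [Pi.single_apply, h, Ne.symm h]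

lemma phi_eq_zero (F₀ : Subfield F) (P : GL (Fin n) F) (u : Fin n → F₀) (h : phi F₀ P u = 0) :
    u = 0 := by
  unfold phi at h
  have h1 : ((P⁻¹ : GL (Fin n) F) : Matrix (Fin n) (Fin n) F) *ᵥ
      ((P : Matrix (Fin n) (Fin n) F) *ᵥ (fun i => (u i : F))) = 0 := by
    rw [h, Matrix.mulVec_zero]
  rw [Matrix.mulVec_mulVec, ← Units.val_mul, inv_mul_cancel, Units.val_one, Matrix.one_mulVec] at h1
  funext i
  have := congrFun h1 i
  exact Subtype.ext (by simpa using this)

variable [Fintype F]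

/-- the `F₀`-valued quadratic function on the rational points. -/
def q0 (Q : (Fin n → F) → F) (F₀ : Subfield F) (P : GL (Fin n) F) (ζ : F)
    (hrat : IsQuadFormRationalStructure (fun v : Fin n → F => ζ * Q v) F₀ P) (u : Fin n → F₀) : F₀ :=
  ⟨ζ * Q (phi F₀ P u), hrat _ (fun i => (u i).2)⟩

lemma coe_q0 (Q : (Fin n → F) → F) (F₀ : Subfield F) (P : GL (Fin n) F) (ζ : F)
    (hrat : IsQuadFormRationalStructure (fun v : Fin n → F => ζ * Q v) F₀ P) (u : Fin n → F₀) :
    ((q0 Q F₀ P ζ hrat u : F₀) : F) = ζ * Q (phi F₀ P u) := rfl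

lemma coe_polar_q0 (Q : (Fin n → F) → F) (F₀ : Subfield F) (P : GL (Fin n) F) (ζ : F)
    (hrat : IsQuadFormRationalStructure (fun v : Fin n → F => ζ * Q v) F₀ P) (u v : Fin n → F₀) :
    ((QuadraticMap.polar (q0 Q F₀ P ζ hrat) u v : F₀) : F) =
      ζ * QuadraticMap.polar Q (phi F₀ P u) (phi F₀ P v) := by
  unfold QuadraticMap.polar
  rw [Subfield.coe_sub, Subfield.coe_sub, coe_q0, coe_q0, coe_q0, phi_add]
  ring

/-- the quadratic form over `F₀`. -/
noncomputable def qf0 {Q : (Fin n → F) → F} (hQ : IsNondegenerateQuadraticForm Q) (F₀ : Subfield F)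
    (P : GL (Fin n) F) (ζ : F)
    (hrat : IsQuadFormRationalStructure (fun v : Fin n → F => ζ * Q v) F₀ P) :
    QuadraticForm F₀ (Fin n → F₀) :=
  QuadraticMap.ofPolar (q0 Q F₀ P ζ hrat)
    (by
      intro a x
      apply Subtype.ext
      rw [smul_eq_mul, Subfield.coe_mul, Subfield.coe_mul, coe_q0, coe_q0, phi_smul, hQ.smul]
      ring)
    (by
      intro x x' y
      apply Subtype.ext
      rw [Subfield.coe_add, coe_polar_q0, coe_polar_q0, coe_polar_q0, phi_add,
        hQ.polar_bilinear.add_left]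
      ring)
    (by
      intro a x y
      apply Subtype.ext
      rw [smul_eq_mul, Subfield.coe_mul, coe_polar_q0, coe_polar_q0, phi_smul,
        hQ.polar_bilinear.smul_left]
      ring)

lemma qf0_apply {Q : (Fin n → F) → F} (hQ : IsNondegenerateQuadraticForm Q) (F₀ : Subfield F)
    (P : GL (Fin n) F) (ζ : F)
    (hrat : IsQuadFormRationalStructure (fun v : Fin n → F => ζ * Q v) F₀ P) (u : Fin n → F₀) :
    qf0 hQ F₀ P ζ hrat u = q0 Q F₀ P ζ hrat u := rfl

lemma coe_qf0 {Q : (Fin n → F) → F} (hQ : IsNondegenerateQuadraticForm Q) (F₀ : Subfield F)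
    (P : GL (Fin n) F) (ζ : F)
    (hrat : IsQuadFormRationalStructure (fun v : Fin n → F => ζ * Q v) F₀ P) (u : Fin n → F₀) :
    ((qf0 hQ F₀ P ζ hrat u : F₀) : F) = ζ * Q (phi F₀ P u) := rfl

lemma coe_polar_qf0 {Q : (Fin n → F) → F} (hQ : IsNondegenerateQuadraticForm Q) (F₀ : Subfield F)
    (P : GL (Fin n) F) (ζ : F)
    (hrat : IsQuadFormRationalStructure (fun v : Fin n → F => ζ * Q v) F₀ P) (u v : Fin n → F₀) :
    ((QuadraticMap.polar (qf0 hQ F₀ P ζ hrat) u v : F₀) : F) =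
      ζ * QuadraticMap.polar Q (phi F₀ P u) (phi F₀ P v) :=
  coe_polar_q0 Q F₀ P ζ hrat u v

lemma qf0_nondeg {Q : (Fin n → F) → F} (hQ : IsNondegenerateQuadraticForm Q) (F₀ : Subfield F)
    (P : GL (Fin n) F) (ζ : F) (hζ : ζ ≠ 0)
    (hrat : IsQuadFormRationalStructure (fun v : Fin n → F => ζ * Q v) F₀ P) :
    (QuadraticMap.polarBilin (qf0 hQ F₀ P ζ hrat)).Nondegenerate := by
  have hL : (QuadraticMap.polarBilin (qf0 hQ F₀ P ζ hrat)).SeparatingLeft := by
    intro u hu
    by_contra h0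
    have h1 : phi F₀ P u ≠ 0 := fun h => h0 (phi_eq_zero F₀ P u h)
    obtain ⟨x, hx⟩ := (hQ.nondegenerate _ h1).2
    apply hx
    rw [← polarBilin_apply hQ, eq_sum_phi F₀ P x, map_sum]
    refine Finset.sum_eq_zero (fun i _ => ?_)
    rw [map_smul, polarBilin_apply, smul_eq_mul]
    have h2 := hu (Pi.single i 1)
    rw [QuadraticMap.polarBilin_apply_apply] at h2
    have h3 := coe_polar_qf0 hQ F₀ P ζ hrat u (Pi.single i 1)
    rw [h2] at h3
    have h4 : QuadraticMap.polar Q (phi F₀ P u) (phi F₀ P (Pi.single i 1)) = 0 := by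
      have : ζ * QuadraticMap.polar Q (phi F₀ P u) (phi F₀ P (Pi.single i 1)) = 0 := by
        rw [← h3]; rfl
      exact (mul_eq_zero.1 this).resolve_left hζ
    rw [h4, mul_zero]
  refine ⟨hL, ?_⟩
  intro y hy
  apply hL y
  intro x
  have := hy x
  rw [QuadraticMap.polarBilin_apply_apply] at this ⊢
  rw [QuadraticMap.polar_comm]
  exact this

end Cfsg.Agent.Lib.Helper52.OeSubfield2

namespace Cfsg.Agent.Lib.Helper52.OeSubfield2

open Cfsg Cfsg.Geo Module Cfsg.Agent.Lib.Helper44 Cfsg.Agent.Lib.Helper94 Cfsg.Agent.Lib.Helper52.OeKit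
open scoped Matrix

variable {n : ℕ} {F : Type*} [Field F] [Fintype F]

lemma finrank_subfield_eq_two (F₀ : Subfield F) (hcard : Fintype.card F = Nat.card F₀ ^ 2) :
    Module.finrank F₀ F = 2 := by
  classical
  haveI : Fintype F₀ := Fintype.ofFinite F₀
  have h1 : Fintype.card F = Fintype.card F₀ ^ Module.finrank F₀ F :=
    Module.card_eq_pow_finrank (K := F₀) (V := F)
  rw [hcard, Nat.card_eq_fintype_card] at h1
  exact (Nat.pow_right_injective Fintype.one_lt_card h1).symm

/-- a non-trivial zero over `F` of a binary quadratic form over `F₀`. -/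
lemma exists_binary_zero (F₀ : Subfield F) (hcard : Fintype.card F = Nat.card F₀ ^ 2) (a b c : F₀) :
    ∃ s t : F, (s ≠ 0 ∨ t ≠ 0) ∧ (a : F) * s ^ 2 + (b : F) * (s * t) + (c : F) * t ^ 2 = 0 := by
  by_cases ha : a = 0
  · refine ⟨1, 0, Or.inl one_ne_zero, ?_⟩
    rw [ha]; simp
  · obtain ⟨t, ht⟩ := exists_root_quadratic (K := F₀) (F := F) (finrank_subfield_eq_two F₀ hcard) a b c ha
    refine ⟨t, 1, Or.inr one_ne_zero, ?_⟩
    have : (algebraMap F₀ F) = F₀.subtype := rfl
    simp only [this, Subfield.coe_subtype] at ht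
    linear_combination ht

end Cfsg.Agent.Lib.Helper52.OeSubfield2

namespace Cfsg.Agent.Lib.Helper55.Oe

open Cfsg Cfsg.Geo Module Cfsg.Agent.Lib.Helper44 Cfsg.Agent.Lib.Helper94 Cfsg.Agent.Lib.Helper52.OeKit
  Cfsg.Agent.Lib.Helper52.OeSubfield2
open scoped Matrix

variable {n : ℕ} {F : Type*} [Field F] [Fintype F]

/-- ASCHOE-[T-SUBFIELD2] -/
theorem isPlusTypeOn_top_of_subfield_two {Q : (Fin n → F) → F} (hQ : IsNondegenerateQuadraticForm Q)
    (hn : Even n) (F₀ : Subfield F) (hcard : Fintype.card F = Nat.card F₀ ^ 2) (P : GL (Fin n) F) (ζ : F)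
    (hζ : ζ ≠ 0) (hrat : IsQuadFormRationalStructure (fun v : Fin n → F => ζ * Q v) F₀ P) :
    IsPlusTypeOn Q ⊤ := by
  classical
  obtain ⟨k', hk'⟩ := hn
  rcases Nat.eq_zero_or_pos k' with h0 | hpos
  · refine ⟨⊥, bot_le, ?_, ?_⟩
    · intro w hw
      rw [Submodule.mem_bot] at hw
      rw [hw]
      have := hQ.smul 0 0
      simpa using this
    · rw [finrank_bot, finrank_top, Module.finrank_fin_fun]; omega
  obtain ⟨k, rfl⟩ : ∃ k, k' = k + 1 := ⟨k' - 1, by omega⟩
  have hD := quadData_polarBilin hQ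
  set B := polarBilin hQ with hB
  set Q₀ := qf0 hQ F₀ P ζ hrat with hQ₀
  have hnd := qf0_nondeg hQ F₀ P ζ hζ hrat
  have hfr : finrank F₀ (Fin n → F₀) = 2 * k + 2 := by
    rw [Module.finrank_fin_fun]; omega
  obtain ⟨e, f, x, y, hsys, horth, hdet⟩ := exists_hypSys_plane (K := F₀) k Q₀ hnd hfr
  -- dictionary
  have hq : ∀ u : Fin n → F₀, Q (phi F₀ P u) = ζ⁻¹ * ((Q₀ u : F₀) : F) := by
    intro u
    rw [hQ₀, coe_qf0, ← mul_assoc, inv_mul_cancel₀ hζ, one_mul]
  have hb : ∀ u v : Fin n → F₀, B (phi F₀ P u) (phi F₀ P v) =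
      ζ⁻¹ * ((QuadraticMap.polar Q₀ u v : F₀) : F) := by
    intro u v
    rw [hQ₀, coe_polar_qf0, ← mul_assoc, inv_mul_cancel₀ hζ, one_mul, hB, polarBilin_apply]
  obtain ⟨s, t, hst, hzero⟩ := exists_binary_zero F₀ hcard (Q₀ x) (QuadraticMap.polar Q₀ x y) (Q₀ y)
  set u₀ : Fin n → F := s • phi F₀ P x + t • phi F₀ P y with hu₀
  have hQu₀ : Q u₀ = 0 := by
    rw [hu₀, hD.polar, hD.smul, hD.smul, map_smul, map_smul, LinearMap.smul_apply, hq, hq, hb,
      smul_eq_mul, smul_eq_mul]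
    linear_combination ζ⁻¹ * hzero
  have hBu₀ : ∀ v : Fin n → F₀, B u₀ (phi F₀ P v) =
      ζ⁻¹ * (s * ((QuadraticMap.polar Q₀ x v : F₀) : F) + t * ((QuadraticMap.polar Q₀ y v : F₀) : F)) := by
    intro v
    rw [hu₀, map_add, map_smul, map_smul, LinearMap.add_apply, LinearMap.smul_apply,
      LinearMap.smul_apply, hb, hb, smul_eq_mul, smul_eq_mul]
    ring
  have hsymm : ∀ a b : Fin n → F₀, QuadraticMap.polar Q₀ a b = QuadraticMap.polar Q₀ b a :=
    fun a b => QuadraticMap.polar_comm _ a b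
  -- a partner of u₀
  obtain ⟨w₀, hw₀, hw₀e⟩ : ∃ w₀ : Fin n → F, B u₀ w₀ ≠ 0 ∧ ∀ i, B (phi F₀ P (e i)) w₀ = 0 := by
    by_cases hx : B u₀ (phi F₀ P x) = 0
    · refine ⟨phi F₀ P y, ?_, fun i => ?_⟩
      · intro hy
        rw [hBu₀] at hx hy
        have hx' := (mul_eq_zero.1 hx).resolve_left (inv_ne_zero hζ)
        have hy' := (mul_eq_zero.1 hy).resolve_left (inv_ne_zero hζ)
        have hdet' : ((QuadraticMap.polar Q₀ x x : F₀) : F) * ((QuadraticMap.polar Q₀ y y : F₀) : F) -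
            ((QuadraticMap.polar Q₀ x y : F₀) : F) * ((QuadraticMap.polar Q₀ x y : F₀) : F) ≠ 0 := by
          intro h
          apply hdet
          apply Subtype.ext
          rw [Subfield.coe_sub, Subfield.coe_mul, Subfield.coe_mul]
          exact h
        rw [hsymm y x] at hx'
        have hs : s = 0 := by
          apply (mul_eq_zero.1 (_ : s * _ = 0)).resolve_right hdet'
          linear_combination ((QuadraticMap.polar Q₀ y y : F₀) : F) * hx' -
            ((QuadraticMap.polar Q₀ x y : F₀) : F) * hy'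
        have ht : t = 0 := by
          apply (mul_eq_zero.1 (_ : t * _ = 0)).resolve_right hdet'
          linear_combination ((QuadraticMap.polar Q₀ x x : F₀) : F) * hy' -
            ((QuadraticMap.polar Q₀ x y : F₀) : F) * hx'
        rcases hst with h | h
        · exact h hs
        · exact h ht
      · rw [hb, (horth i).2.2.1]; simp
    · refine ⟨phi F₀ P x, hx, fun i => ?_⟩
      rw [hb, (horth i).1]; simp
  obtain ⟨h1, h2, h3⟩ := hsys
  set uu : Fin k ⊕ Unit → (Fin n → F) := Sum.elim (fun i => phi F₀ P (e i)) (fun _ => u₀) with huu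
  set ww : Fin k ⊕ Unit → (Fin n → F) := Sum.elim (fun i => phi F₀ P (f i)) (fun _ => w₀) with hww
  have hu₀f : ∀ j, B u₀ (phi F₀ P (f j)) = 0 := by
    intro j
    rw [hBu₀, hsymm x, hsymm y, (horth j).2.1, (horth j).2.2.2]; simp
  have hu₀e : ∀ j, B u₀ (phi F₀ P (e j)) = 0 := by
    intro j
    rw [hBu₀, hsymm x, hsymm y, (horth j).1, (horth j).2.2.1]; simp
  have hli : LinearIndependent F uu := by
    apply linearIndependent_of_dual B uu ww
    · rintro (i | i)
      · simp only [huu, hww, Sum.elim_inl]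
        rw [hb, h2 i i]; simp [hζ]
      · simpa only [huu, hww, Sum.elim_inr] using hw₀
    · rintro (i | i) (j | j) hij
      · simp only [huu, hww, Sum.elim_inl]
        have hij' : i ≠ j := fun h => hij (by rw [h])
        rw [hb, h2 i j]; simp [hij']
      · simp only [huu, hww, Sum.elim_inl, Sum.elim_inr]
        exact hw₀e i
      · simp only [huu, hww, Sum.elim_inl, Sum.elim_inr]
        exact hu₀f j
      · exact absurd rfl hij
  refine ⟨Submodule.span F (Set.range uu), le_top, ?_, ?_⟩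
  · apply quad_zero_on_span B Q hD.smul hD.polar uu
    · rintro (i | i)
      · simp only [huu, Sum.elim_inl]
        rw [hq, (h1 i).1]; simp
      · simpa only [huu, Sum.elim_inr] using hQu₀
    · rintro (i | i) (j | j)
      · simp only [huu, Sum.elim_inl]
        rw [hb, (h3 i j).1]; simp
      · simp only [huu, Sum.elim_inl, Sum.elim_inr]
        rw [hD.symm]; exact hu₀e i
      · simp only [huu, Sum.elim_inl, Sum.elim_inr]
        exact hu₀e j
      · simp only [huu, Sum.elim_inr]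
        rw [hD.self, hQu₀, mul_zero]
  · rw [finrank_span_eq_card hli, finrank_top, Module.finrank_fin_fun]
    simp only [Fintype.card_sum, Fintype.card_fin, Fintype.card_unit]
    omega

end Cfsg.Agent.Lib.Helper55.Oe
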