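/-
Ω₂-lemma for the prime 2 (helper52): an element of odd order normalizing a 2-subgroup `K` and
commuting with every `x ∈ K` with `x ^ 4 = 1` centralizes `K`.  Companion of
`Cfsg.Agent.Lib.Helper24.centralizes_of_centralizes_omega` (odd `p`, elements of order `p`).
Also the combined statement for all primes.
-/
import Mathlib
import Cfsg.Agent.Lib.Helper24.Omega

set_option autoImplicit false

open scoped commutatorElement

namespace Cfsg.Agent.Lib.Helper52

open Cfsg.Agent.Lib.Helper24

/-- When `frat 2 K` is central in `K`, the fourth-power map is multiplicative on `K`. -/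
theorem mul_pow_four_of_frat_central {G : Type*} [Group G]
    (K : Subgroup G) (hcen : ∀ x ∈ K, ∀ c ∈ frat 2 K, c * x = x * c) (x y : G) (hx : x ∈ K)
    (hy : y ∈ K) : (x * y) ^ 4 = x ^ 4 * y ^ 4 := by
  have hz : ⁅y, x⁆ ∈ frat 2 K := comm_mem_frat 2 K hy hx
  have hzx : Commute ⁅y, x⁆ x := hcen x hx _ hz
  have hzy : Commute ⁅y, x⁆ y := hcen y hy _ hz
  have h1 : y * x = ⁅y, x⁆ * x * y := by rw [commutatorElement_def]; group
  have h2 := mul_pow_of_central_comm x y ⁅y, x⁆ h1 hzx hzy 4
  have hz2 : ⁅y, x⁆ ^ 2 = 1 := by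
    rw [← commutatorElement_pow_right_of_commute x y hzx 2, commutatorElement_eq_one_iff_commute]
    exact (hcen y hy _ (pow_mem_frat 2 K hx)).symm
  have hch : Nat.choose 4 2 = 2 * 3 := by decide
  rw [h2, hch, pow_mul, hz2, one_pow, mul_one]

/-- **Ω₂-lemma** (auxiliary induction). -/
theorem centralizes_of_centralizes_omega_two_aux {G : Type*} [Group G] [Finite G]
    (a : G) (hcop : (orderOf a).Coprime 2) :
    ∀ (n : ℕ) (K : Subgroup G), Nat.card K ≤ n → IsPGroup 2 K →
      a ∈ Subgroup.normalizer (K : Set G) →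
      (∀ x ∈ K, x ^ 4 = 1 → a * x = x * a) → ∀ x ∈ K, a * x = x * a := by
  have : Fact (Nat.Prime 2) := ⟨Nat.prime_two⟩
  intro n
  induction n with
  | zero =>
    intro K hcard
    have := Nat.card_pos (α := K)
    omega
  | succ n ih =>
    intro K hcard hK ha hfix
    have hzp : Subgroup.zpowers a ≤ Subgroup.normalizer (K : Set G) := Subgroup.zpowers_le.mpr ha
    have hLK : ⁅K, Subgroup.zpowers a⁆ ≤ K := Subgroup.le_normalizer_iff_commutator_le_left.mp hzp
    have haL : a ∈ Subgroup.normalizer ((⁅K, Subgroup.zpowers a⁆ : Subgroup G) : Set G) :=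
      Subgroup.normalizer_commutator_ge_right K (Subgroup.zpowers a) (Subgroup.mem_zpowers a)
    by_cases hL : ⁅K, Subgroup.zpowers a⁆ = K
    · by_cases hbot : K = ⊥
      · intro x hx
        rw [hbot, Subgroup.mem_bot] at hx
        subst hx; simp
      have hΦne : frat 2 K ≠ K := frat_ne 2 K hK hbot
      have hΦle : frat 2 K ≤ K := frat_le 2 K
      have hΦcard : Nat.card (frat 2 K) ≤ n := by
        have := card_lt_of_le_of_ne hΦle hΦne
        omega
      have haΦ : a ∈ Subgroup.normalizer ((frat 2 K : Subgroup G) : Set G) :=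
        normalizer_le_normalizer_frat 2 K ha
      have hcΦ : ∀ x ∈ frat 2 K, a * x = x * a :=
        ih (frat 2 K) hΦcard (hK.to_le hΦle) haΦ (fun x hx hxp => hfix x (hΦle hx) hxp)
      have hzc : Subgroup.zpowers a ≤ Subgroup.centralizer ((frat 2 K : Subgroup G) : Set G) := by
        rw [Subgroup.zpowers_le]
        exact Subgroup.mem_centralizer_iff.mpr (fun x hx => (hcΦ x hx).symm)
      have h1 : ⁅⁅Subgroup.zpowers a, frat 2 K⁆, K⁆ = ⊥ := by
        rw [Subgroup.commutator_eq_bot_iff_le_centralizer.mpr hzc, Subgroup.commutator_bot_left]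
      have h2 : ⁅⁅frat 2 K, K⁆, Subgroup.zpowers a⁆ = ⊥ := by
        rw [eq_bot_iff]
        have hle1 : ⁅frat 2 K, K⁆ ≤ frat 2 K :=
          le_trans (Subgroup.commutator_mono hΦle le_rfl) (comm_le_frat 2 K)
        have hle2 : ⁅⁅frat 2 K, K⁆, Subgroup.zpowers a⁆ ≤ ⁅Subgroup.zpowers a, frat 2 K⁆ := by
          rw [Subgroup.commutator_comm (Subgroup.zpowers a)]
          exact Subgroup.commutator_mono hle1 le_rfl
        rw [Subgroup.commutator_eq_bot_iff_le_centralizer.mpr hzc] at hle2
        exact hle2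
      have h3 := Subgroup.commutator_commutator_eq_bot_of_rotate h1 h2
      rw [hL, Subgroup.commutator_eq_bot_iff_le_centralizer] at h3
      have hcen : ∀ x ∈ K, ∀ c ∈ frat 2 K, c * x = x * c := by
        intro x hx c hc
        exact Subgroup.mem_centralizer_iff.mp (h3 hx) c hc
      intro x hx
      apply commute_of_comm_commute_pgroup 2 a hcop K hK ha x hx
      have haxa : a * x * a⁻¹ ∈ K := (Subgroup.mem_normalizer_iff.mp ha x).mp hx
      apply hfix _ (K.mul_mem (K.inv_mem hx) haxa)
      rw [mul_pow_four_of_frat_central K hcen _ _ (K.inv_mem hx) haxa, conj_pow]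
      have hx4 : x ^ 4 ∈ frat 2 K := by
        have : x ^ 4 = (x ^ 2) ^ 2 := by rw [← pow_mul]
        rw [this]
        exact Subgroup.pow_mem _ (pow_mem_frat 2 K hx) 2
      have hxp : a * x ^ 4 = x ^ 4 * a := hcΦ _ hx4
      rw [hxp]; group
    · have hLcard : Nat.card (⁅K, Subgroup.zpowers a⁆ : Subgroup G) ≤ n := by
        have := card_lt_of_le_of_ne hLK hL
        omega
      have hcL : ∀ y ∈ ⁅K, Subgroup.zpowers a⁆, a * y = y * a :=
        ih _ hLcard (hK.to_le hLK) haL (fun x hx hxp => hfix x (hLK hx) hxp)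
      exact centralizes_of_centralizes_comm 2 a hcop K hK ha hcL

/-- **Ω₂-lemma.** An element `a` of odd order normalizing the `2`-subgroup `K` of the finite group
`G` and commuting with every `x ∈ K` with `x ^ 4 = 1` centralizes `K`. -/
theorem centralizes_of_centralizes_omega_two {G : Type*} [Group G] [Finite G]
    (a : G) (hcop : (orderOf a).Coprime 2) (K : Subgroup G)
    (hK : IsPGroup 2 K) (ha : a ∈ Subgroup.normalizer (K : Set G))
    (hfix : ∀ x ∈ K, x ^ 4 = 1 → a * x = x * a) : ∀ x ∈ K, a * x = x * a :=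
  centralizes_of_centralizes_omega_two_aux a hcop _ K le_rfl hK ha hfix

/-- **Ω-lemma, all primes.** A `p'`-element `a` normalizing the `p`-subgroup `K` and commuting with
every `x ∈ K` with `x ^ p = 1` (or `x ^ 4 = 1` when `p = 2`) centralizes `K`. -/
theorem centralizes_of_centralizes_omega_all {G : Type*} [Group G] [Finite G] (p : ℕ)
    [hp : Fact p.Prime] (a : G) (hcop : (orderOf a).Coprime p) (K : Subgroup G)
    (hK : IsPGroup p K) (ha : a ∈ Subgroup.normalizer (K : Set G))
    (hfix : ∀ x ∈ K, (x ^ p = 1 ∨ (p = 2 ∧ x ^ 4 = 1)) → a * x = x * a) :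
    ∀ x ∈ K, a * x = x * a := by
  by_cases hp2 : p = 2
  · subst hp2
    exact centralizes_of_centralizes_omega_two a hcop K hK ha
      (fun x hx h4 => hfix x hx (Or.inr ⟨rfl, h4⟩))
  · exact centralizes_of_centralizes_omega p hp2 a hcop K hK ha
      (fun x hx hxp => hfix x hx (Or.inl hxp))

end Cfsg.Agent.Lib.Helper52
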