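/-
helper52: Peterfalvi sec.14, [DISJ-III]: the supports of a Type I class `(L, H)` and of the
Type III pseudo-class `(T, QV, Q)` are not fused (helper23's argument):
* `no_fusion`: `H` nilpotent with `C_G(h) ≤ H` on `H#`, `V` abelian with `C_G(v) ≤ V` on `V#`,
  `V` not conjugate to `H` ⟹ no element of `V#` is conjugate into `H`.
* `conj_into_V`: if `V` normalises `Q` and acts semiregularly, every `t v` (`t ∈ Q`, `v ∈ V#`) is
  `Q`-conjugate to `v`.
* `disjoint'_of`: the `Disjoint'` statement for `subgroupOf` data.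
-/
import Mathlib
import Cfsg.Agent.Lib.Helper52.PF14XiCross

set_option autoImplicit false
set_option linter.unusedSectionVars false

namespace Cfsg.Agent.Lib.Helper52.PF14Xi

open Cfsg

universe u

variable {G : Type u} [Group G]

/-- **no fusion**: see the header. -/
theorem no_fusion (H V : Subgroup G) (hHnil : Group.IsNilpotent H)
    (hCH : ∀ h ∈ H, h ≠ 1 → ∀ c : G, c * h = h * c → c ∈ H)
    (hCV : ∀ v ∈ V, v ≠ 1 → ∀ c : G, c * v = v * c → c ∈ V)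
    (hVab : ∀ a ∈ V, ∀ b ∈ V, a * b = b * a)
    (hnc : ∀ g : G, ¬ ∀ x : G, x ∈ V ↔ g * x * g⁻¹ ∈ H)
    (g : G) (v : G) (hv : v ∈ V) (hv1 : v ≠ 1) : g * v * g⁻¹ ∉ H := by
  intro hmem
  have hh1 : g * v * g⁻¹ ≠ 1 := by
    intro h
    apply hv1
    have : v = g⁻¹ * (g * v * g⁻¹) * g := by group
    rw [this, h]
    group
  -- V ⊆ H^g
  have h1 : ∀ a ∈ V, g * a * g⁻¹ ∈ H := by
    intro a ha
    apply hCH _ hmem hh1
    have := hVab a ha v hv
    calc g * a * g⁻¹ * (g * v * g⁻¹) = g * (a * v) * g⁻¹ := by group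
      _ = g * (v * a) * g⁻¹ := by rw [this]
      _ = g * v * g⁻¹ * (g * a * g⁻¹) := by group
  -- a central element of H
  haveI : Nontrivial H := ⟨⟨⟨g * v * g⁻¹, hmem⟩, 1, fun h => hh1 (congrArg Subtype.val h)⟩⟩
  haveI := hHnil
  have hcen := Group.IsNilpotent.center_ne_bot (G := H)
  obtain ⟨z, hz1⟩ := (Subgroup.ne_bot_iff_exists_ne_one).mp hcen
  obtain ⟨z, hzc⟩ := z
  have hzc' : ∀ y : H, y * z = z * y := fun y => (Subgroup.mem_center_iff.mp hzc y)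
  have hz1' : (z : G) ≠ 1 := by
    intro h
    apply hz1
    apply Subtype.ext
    apply Subtype.ext
    exact h
  have hzG : ∀ y ∈ H, y * (z : G) = (z : G) * y := by
    intro y hy
    have := hzc' ⟨y, hy⟩
    exact congrArg Subtype.val this
  -- z' := g⁻¹ z g ∈ V
  have hz'V : g⁻¹ * (z : G) * g ∈ V := by
    apply hCV v hv hv1
    have := hzG _ hmem
    calc g⁻¹ * (z : G) * g * v = g⁻¹ * ((z : G) * (g * v * g⁻¹)) * g := by group
      _ = g⁻¹ * ((g * v * g⁻¹) * (z : G)) * g := by rw [this]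
      _ = v * (g⁻¹ * (z : G) * g) := by group
  have hz'1 : g⁻¹ * (z : G) * g ≠ 1 := by
    intro h
    apply hz1'
    have : (z : G) = g * (g⁻¹ * (z : G) * g) * g⁻¹ := by group
    rw [this, h]
    group
  -- H^g ⊆ V
  have h2 : ∀ x : G, g * x * g⁻¹ ∈ H → x ∈ V := by
    intro x hx
    apply hCV _ hz'V hz'1
    have := hzG _ hx
    calc x * (g⁻¹ * (z : G) * g) = g⁻¹ * ((g * x * g⁻¹) * (z : G)) * g := by group
      _ = g⁻¹ * ((z : G) * (g * x * g⁻¹)) * g := by rw [this]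
      _ = g⁻¹ * (z : G) * g * x := by group
  exact hnc g (fun x => ⟨h1 x, h2 x⟩)

/-- `V` is not conjugate to `H` when the normalisers have different orders -/
theorem not_conj_of_card_normalizer_ne [Finite G] (H V : Subgroup G)
    (hne : Nat.card (Subgroup.normalizer (H : Set G)) ≠ Nat.card (Subgroup.normalizer (V : Set G)))
    (g : G) : ¬ ∀ x : G, x ∈ V ↔ g * x * g⁻¹ ∈ H := by
  intro h
  apply hne
  have hmap : V.map (MulAut.conj g).toMonoidHom = H := by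
    ext y
    rw [Subgroup.mem_map]
    constructor
    · rintro ⟨x, hx, rfl⟩
      exact (h x).mp hx
    · intro hy
      refine ⟨g⁻¹ * y * g, (h _).mpr ?_, ?_⟩
      · have : g * (g⁻¹ * y * g) * g⁻¹ = y := by group
        rw [this]
        exact hy
      · show g * (g⁻¹ * y * g) * g⁻¹ = y
        group
  rw [← hmap, ← Subgroup.map_equiv_normalizer_eq]
  exact Subgroup.card_map_of_injective (MulAut.conj g).injective

/-- **semiregular action**: `t v` is `Q`-conjugate to `v`. -/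
theorem conj_into_V [Finite G] (Q V : Subgroup G) (hnorm : ∀ v ∈ V, ∀ t ∈ Q, v * t * v⁻¹ ∈ Q)
    (hsemi : ∀ v ∈ V, v ≠ 1 → ∀ t ∈ Q, v * t = t * v → t = 1)
    (t : G) (ht : t ∈ Q) (v : G) (hv : v ∈ V) (hv1 : v ≠ 1) :
    ∃ s ∈ Q, s * (t * v) * s⁻¹ = v := by
  classical
  let f : Q → Q := fun s => ⟨(s : G)⁻¹ * (v * s * v⁻¹), Q.mul_mem (Q.inv_mem s.2) (hnorm v hv s s.2)⟩
  have hinj : Function.Injective f := by
    intro s r hsr
    have h1 : (s : G)⁻¹ * (v * s * v⁻¹) = (r : G)⁻¹ * (v * r * v⁻¹) := congrArg Subtype.val hsr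
    have h2 : v * ((s : G) * (r : G)⁻¹) = ((s : G) * (r : G)⁻¹) * v := by
      have h3 : (s : G)⁻¹ * v * s = (r : G)⁻¹ * v * r := by
        have : (s : G)⁻¹ * v * s = ((s : G)⁻¹ * (v * s * v⁻¹)) * v := by group
        rw [this, h1]
        group
      calc v * ((s : G) * (r : G)⁻¹) = (s : G) * ((s : G)⁻¹ * v * s) * (r : G)⁻¹ := by group
        _ = (s : G) * ((r : G)⁻¹ * v * r) * (r : G)⁻¹ := by rw [h3]
        _ = ((s : G) * (r : G)⁻¹) * v := by group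
    have h4 := hsemi v hv hv1 _ (Q.mul_mem s.2 (Q.inv_mem r.2)) h2
    apply Subtype.ext
    have : (s : G) = ((s : G) * (r : G)⁻¹) * r := by group
    rw [this, h4, one_mul]
  have hsurj := Finite.surjective_of_injective hinj
  obtain ⟨s, hs⟩ := hsurj ⟨t, ht⟩
  have hs' : (s : G)⁻¹ * (v * s * v⁻¹) = t := congrArg Subtype.val hs
  refine ⟨s, s.2, ?_⟩
  rw [← hs']
  group

/-- **[DISJ-III]**: the supports of `(L, H, ⊥)` and `(T, QV, Q)` are not fused. -/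
theorem disjoint'_of [Finite G] (L T H Q V : Subgroup G)
    (hHnil : Group.IsNilpotent H)
    (hCH : ∀ h ∈ H, h ≠ 1 → ∀ c : G, c * h = h * c → c ∈ H)
    (hCV : ∀ v ∈ V, v ≠ 1 → ∀ c : G, c * v = v * c → c ∈ V)
    (hVab : ∀ a ∈ V, ∀ b ∈ V, a * b = b * a)
    (hnc : ∀ g : G, ¬ ∀ x : G, x ∈ V ↔ g * x * g⁻¹ ∈ H)
    (hnorm : ∀ v ∈ V, ∀ t ∈ Q, v * t * v⁻¹ ∈ Q)
    (hsemi : ∀ v ∈ V, v ≠ 1 → ∀ t ∈ Q, v * t = t * v → t = 1)
    (K : Subgroup G) (hK : ∀ x ∈ K, ∃ t ∈ Q, ∃ v ∈ V, x = t * v) :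
    Disjoint' L (H.subgroupOf L) ⊥ T (K.subgroupOf T) (Q.subgroupOf T) := by
  intro g x hx y hy hc
  have hxH : (x : G) ∈ H := Subgroup.mem_subgroupOf.mp hx.1
  have hyK : (y : G) ∈ K := Subgroup.mem_subgroupOf.mp hy.1
  have hyQ : (y : G) ∉ Q := fun h => hy.2 (Subgroup.mem_subgroupOf.mpr h)
  obtain ⟨t, ht, v, hv, hytv⟩ := hK _ hyK
  have hv1 : v ≠ 1 := by
    intro h
    apply hyQ
    rw [hytv, h, mul_one]
    exact ht
  obtain ⟨s, hs, hsv⟩ := conj_into_V Q V hnorm hsemi t ht v hv hv1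
  -- v = s y s⁻¹ = s g⁻¹ x g s⁻¹, so (g s⁻¹) v (g s⁻¹)⁻¹ = x ∈ H
  apply no_fusion H V hHnil hCH hCV hVab hnc (g * s⁻¹) v hv hv1
  have : g * s⁻¹ * v * (g * s⁻¹)⁻¹ = (x : G) := by
    rw [← hsv, ← hytv, ← hc]
    group
  rw [this]
  exact hxH

end Cfsg.Agent.Lib.Helper52.PF14Xi
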