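/-
helper52: Peterfalvi sec.14, [DISJ-I]: two nilpotent subgroups `H, V` containing the centralisers
of their non-identity elements and not conjugate in `G` are not fused; the `Disjoint'` statement
for two Type I classes `(L, H, ⊥)`, `(L', V, ⊥)`.
-/
import Mathlib
import Cfsg.Agent.Lib.Helper52.PF14XiDisj

set_option autoImplicit false
set_option linter.unusedSectionVars false

namespace Cfsg.Agent.Lib.Helper52.PF14Xi

open Cfsg

universe u

variable {G : Type u} [Group G]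

/-- a nontrivial nilpotent subgroup has a non-identity element commuting with all its elements -/
theorem exists_central_of_nilpotent (H : Subgroup G) (hHnil : Group.IsNilpotent H) (h : G)
    (hh : h ∈ H) (hh1 : h ≠ 1) : ∃ z ∈ H, z ≠ 1 ∧ ∀ y ∈ H, y * z = z * y := by
  haveI : Nontrivial H := ⟨⟨⟨h, hh⟩, 1, fun h' => hh1 (congrArg Subtype.val h')⟩⟩
  haveI := hHnil
  have hcen := Group.IsNilpotent.center_ne_bot (G := H)
  obtain ⟨z, hz1⟩ := (Subgroup.ne_bot_iff_exists_ne_one).mp hcen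
  obtain ⟨z, hzc⟩ := z
  refine ⟨(z : G), z.2, ?_, ?_⟩
  · intro h'
    apply hz1
    apply Subtype.ext
    apply Subtype.ext
    exact h'
  · intro y hy
    have := Subgroup.mem_center_iff.mp hzc ⟨y, hy⟩
    exact congrArg Subtype.val this

/-- **no fusion**, both subgroups nilpotent. -/
theorem no_fusion_nil (H V : Subgroup G) (hHnil : Group.IsNilpotent H)
    (hVnil : Group.IsNilpotent V)
    (hCH : ∀ h ∈ H, h ≠ 1 → ∀ c : G, c * h = h * c → c ∈ H)
    (hCV : ∀ v ∈ V, v ≠ 1 → ∀ c : G, c * v = v * c → c ∈ V)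
    (hnc : ∀ g : G, ¬ ∀ x : G, x ∈ V ↔ g * x * g⁻¹ ∈ H)
    (g : G) (v : G) (hv : v ∈ V) (hv1 : v ≠ 1) : g * v * g⁻¹ ∉ H := by
  intro hmem
  have hh1 : g * v * g⁻¹ ≠ 1 := by
    intro h
    apply hv1
    have : v = g⁻¹ * (g * v * g⁻¹) * g := by group
    rw [this, h]
    group
  obtain ⟨z, hzH, hz1, hzc⟩ := exists_central_of_nilpotent H hHnil _ hmem hh1
  -- z' := g⁻¹ z g ∈ V
  have hz'V : g⁻¹ * z * g ∈ V := by
    apply hCV v hv hv1
    have := hzc _ hmem
    calc g⁻¹ * z * g * v = g⁻¹ * (z * (g * v * g⁻¹)) * g := by group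
      _ = g⁻¹ * ((g * v * g⁻¹) * z) * g := by rw [this]
      _ = v * (g⁻¹ * z * g) := by group
  have hz'1 : g⁻¹ * z * g ≠ 1 := by
    intro h
    apply hz1
    have : z = g * (g⁻¹ * z * g) * g⁻¹ := by group
    rw [this, h]
    group
  -- H^g ⊆ V
  have h2 : ∀ x : G, g * x * g⁻¹ ∈ H → x ∈ V := by
    intro x hx
    apply hCV _ hz'V hz'1
    have := hzc _ hx
    calc x * (g⁻¹ * z * g) = g⁻¹ * ((g * x * g⁻¹) * z) * g := by group
      _ = g⁻¹ * (z * (g * x * g⁻¹)) * g := by rw [this]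
      _ = g⁻¹ * z * g * x := by group
  -- a central element w of V lies in H^g
  obtain ⟨w, hwV, hw1, hwc⟩ := exists_central_of_nilpotent V hVnil _ hv hv1
  have hwH : g * w * g⁻¹ ∈ H := by
    apply hCH z hzH hz1
    have := hwc _ hz'V
    calc g * w * g⁻¹ * z = g * (w * (g⁻¹ * z * g)) * g⁻¹ := by group
      _ = g * ((g⁻¹ * z * g) * w) * g⁻¹ := by rw [← this]
      _ = z * (g * w * g⁻¹) := by group
  have hw1' : g * w * g⁻¹ ≠ 1 := by
    intro h
    apply hw1
    have : w = g⁻¹ * (g * w * g⁻¹) * g := by group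
    rw [this, h]
    group
  -- V ⊆ H^g
  have h1 : ∀ a ∈ V, g * a * g⁻¹ ∈ H := by
    intro a ha
    apply hCH _ hwH hw1'
    have := hwc a ha
    calc g * a * g⁻¹ * (g * w * g⁻¹) = g * (a * w) * g⁻¹ := by group
      _ = g * (w * a) * g⁻¹ := by rw [this]
      _ = g * w * g⁻¹ * (g * a * g⁻¹) := by group
  exact hnc g (fun x => ⟨h1 x, h2 x⟩)

/-- **[DISJ-I]**: the supports of two non-conjugate Type I classes are not fused. -/
theorem disjoint'_of_nil (L L' H V : Subgroup G) (hHnil : Group.IsNilpotent H)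
    (hVnil : Group.IsNilpotent V)
    (hCH : ∀ h ∈ H, h ≠ 1 → ∀ c : G, c * h = h * c → c ∈ H)
    (hCV : ∀ v ∈ V, v ≠ 1 → ∀ c : G, c * v = v * c → c ∈ V)
    (hnc : ∀ g : G, ¬ ∀ x : G, x ∈ V ↔ g * x * g⁻¹ ∈ H) :
    Disjoint' L (H.subgroupOf L) ⊥ L' (V.subgroupOf L') ⊥ := by
  intro g x hx y hy hc
  have hxH : (x : G) ∈ H := Subgroup.mem_subgroupOf.mp hx.1
  have hyV : (y : G) ∈ V := Subgroup.mem_subgroupOf.mp hy.1
  have hy1 : (y : G) ≠ 1 := by
    intro h
    apply hy.2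
    rw [Subgroup.mem_bot]
    exact Subtype.ext h
  apply no_fusion_nil H V hHnil hVnil hCH hCV hnc g (y : G) hyV hy1
  have : g * (y : G) * g⁻¹ = (x : G) := by
    rw [← hc]
    group
  rw [this]
  exact hxH

end Cfsg.Agent.Lib.Helper52.PF14Xi
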