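import Mathlib
import Cfsg.Prelude.Def_Local
import Cfsg.Prelude.Def_Transfer
import Cfsg.Agent.Lib.Helper41.PGV.Defs

/-!
# S3086 / PGV-[LOC], kit: the restriction of a representation to `C_V(D)` for `H ≤ C_G(D)`,
the faithful quotient, and the offender computation (T2).
-/

set_option autoImplicit false

universe v

namespace Cfsg.Agent.Lib.Helper52.PGV

open Cfsg Cfsg.Agent.Lib.Helper41.PGV

variable {p : ℕ} [Fact p.Prime] {G V : Type v} [Group G] [AddCommGroup V] [Module (ZMod p) V]

/-- `H ≤ C_G(D)` leaves `C_V(D)` invariant. -/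
theorem fix_invariant (ρ : Representation (ZMod p) G V) (D H : Subgroup G)
    (hHD : H ≤ Subgroup.centralizer (D : Set G)) (h : G) (hh : h ∈ H) (w : V)
    (hw : w ∈ fix ρ (D : Set G)) : ρ h w ∈ fix ρ (D : Set G) := by
  intro d hd
  have hc : d * h = h * d := (Subgroup.mem_centralizer_iff.mp (hHD hh)) d hd
  have h1 : ρ d (ρ h w) = ρ (d * h) w := by rw [map_mul]; rfl
  rw [h1, hc, map_mul]
  show ρ h (ρ d w) = ρ h w
  rw [hw d hd]

/-- the restriction `H → End(C_V(D))` -/
def resRep (ρ : Representation (ZMod p) G V) (D H : Subgroup G)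
    (hHD : H ≤ Subgroup.centralizer (D : Set G)) :
    Representation (ZMod p) ↥H ↥(fix ρ (D : Set G)) where
  toFun h := (ρ h.1).restrict (fun w hw => fix_invariant ρ D H hHD h.1 h.2 w hw)
  map_one' := by
    ext w
    simp [LinearMap.restrict_apply]
  map_mul' := by
    intro x y
    ext w
    simp [LinearMap.restrict_apply]

@[simp] theorem resRep_apply (ρ : Representation (ZMod p) G V) (D H : Subgroup G)
    (hHD : H ≤ Subgroup.centralizer (D : Set G)) (h : ↥H) (w : ↥(fix ρ (D : Set G))) :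
    ((resRep ρ D H hHD h w : ↥(fix ρ (D : Set G))) : V) = ρ h.1 w.1 := rfl

theorem mem_ker_resRep (ρ : Representation (ZMod p) G V) (D H : Subgroup G)
    (hHD : H ≤ Subgroup.centralizer (D : Set G)) (h : ↥H) :
    h ∈ (resRep ρ D H hHD).ker ↔ ∀ w ∈ fix ρ (D : Set G), ρ h.1 w = w := by
  rw [MonoidHom.mem_ker]
  constructor
  · intro hk w hw
    have := congrArg (fun f : Module.End (ZMod p) ↥(fix ρ (D : Set G)) => ((f ⟨w, hw⟩ : ↥(fix ρ (D : Set G))) : V)) hk
    simpa using this
  · intro hk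
    ext w
    simp only [resRep_apply, Module.End.one_apply]
    exact hk w.1 w.2

/-- `D ∩ H` acts trivially on `C_V(D)`. -/
theorem subgroupOf_le_ker_resRep (ρ : Representation (ZMod p) G V) (D H : Subgroup G)
    (hHD : H ≤ Subgroup.centralizer (D : Set G)) :
    D.subgroupOf H ≤ (resRep ρ D H hHD).ker := by
  intro h hh
  rw [mem_ker_resRep]
  intro w hw
  exact hw h.1 (Subgroup.mem_subgroupOf.mp hh)

/-- `card K = card (N ⊓ K) * N.relIndex K` -/
theorem card_eq_inf_mul_relIndex' {X : Type*} [Group X] (N K : Subgroup X) :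
    Nat.card ↥K = Nat.card ↥(N ⊓ K) * N.relIndex K := by
  have := Subgroup.relIndex_mul_relIndex (H := ⊥) (K := N ⊓ K) (L := K) bot_le inf_le_right
  rw [Subgroup.relIndex_bot_left, Subgroup.relIndex_bot_left, Subgroup.inf_relIndex_right] at this
  exact this.symm

/-- the faithful action of `H / N` on `W = C_V(D)`, `N` the kernel of `H` on `W` -/
def barRep (ρ : Representation (ZMod p) G V) (D H : Subgroup G)
    (hHD : H ≤ Subgroup.centralizer (D : Set G)) :
    Representation (ZMod p) (↥H ⧸ (resRep ρ D H hHD).ker) ↥(fix ρ (D : Set G)) :=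
  QuotientGroup.lift (resRep ρ D H hHD).ker (resRep ρ D H hHD) le_rfl

theorem barRep_mk (ρ : Representation (ZMod p) G V) (D H : Subgroup G)
    (hHD : H ≤ Subgroup.centralizer (D : Set G)) (h : ↥H) :
    barRep ρ D H hHD (QuotientGroup.mk' (resRep ρ D H hHD).ker h) = resRep ρ D H hHD h := rfl

theorem barRep_injective (ρ : Representation (ZMod p) G V) (D H : Subgroup G)
    (hHD : H ≤ Subgroup.centralizer (D : Set G)) : Function.Injective (barRep ρ D H hHD) := by
  unfold barRep
  rw [QuotientGroup.injective_lift_iff]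

/-- **(T2), the computation**: for `D ∩ H ≤ Y ≤ H`, with `N` the kernel of `H` on `W = C_V(D)` and
`ρ̄` the faithful action of `H/N` on `W`: `j_W(Ȳ) · |N ∩ Y| = j_V(Y)`. -/
theorem jj_res (ρ : Representation (ZMod p) G V) (D H : Subgroup G)
    (hHD : H ≤ Subgroup.centralizer (D : Set G)) (Y : Subgroup ↥H) (hDY : D.subgroupOf H ≤ Y)
    (hDH : D ≤ H) :
    jj (barRep ρ D H hHD) (Y.map (QuotientGroup.mk' (resRep ρ D H hHD).ker)) *
      Nat.card ↥((resRep ρ D H hHD).ker ⊓ Y) = jj ρ (Y.map H.subtype) := by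
  classical
  unfold jj
  -- the group part
  have h1 : Nat.card ↥Y = Nat.card ↥((resRep ρ D H hHD).ker ⊓ Y) *
      Nat.card ↥(Y.map (QuotientGroup.mk' (resRep ρ D H hHD).ker)) := by
    have := card_eq_inf_mul_relIndex' (resRep ρ D H hHD).ker Y
    rw [this]
    congr 1
    have h2 := Subgroup.relIndex_ker (K := Y) (QuotientGroup.mk' (resRep ρ D H hHD).ker)
    rw [QuotientGroup.ker_mk'] at h2
    exact h2
  have h3 : Nat.card ↥(Y.map H.subtype) = Nat.card ↥Y :=
    Subgroup.card_map_of_injective H.subtype_injective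
  -- the fixed-point part
  have h4 : Nat.card ↥(fix (barRep ρ D H hHD)
        ((Y.map (QuotientGroup.mk' (resRep ρ D H hHD).ker) :
          Subgroup (↥H ⧸ (resRep ρ D H hHD).ker)) : Set (↥H ⧸ (resRep ρ D H hHD).ker))) =
      Nat.card ↥(fix ρ ((Y.map H.subtype : Subgroup G) : Set G)) := by
    apply Nat.card_congr
    refine
      { toFun := fun w => ⟨w.1.1, ?_⟩
        invFun := fun v => ⟨⟨v.1, ?_⟩, ?_⟩
        left_inv := fun w => rfl
        right_inv := fun v => rfl }
    · -- forward
      intro x hx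
      obtain ⟨y, hy, rfl⟩ := hx
      have hw := w.2 (QuotientGroup.mk' (resRep ρ D H hHD).ker y) ⟨y, hy, rfl⟩
      rw [barRep_mk] at hw
      have := congrArg Subtype.val hw
      simpa using this
    · -- `v ∈ W`
      intro d hd
      exact v.2 d ⟨⟨d, hDH hd⟩, hDY (Subgroup.mem_subgroupOf.mpr hd), rfl⟩
    · -- backward
      intro x hx
      obtain ⟨y, hy, rfl⟩ := hx
      rw [barRep_mk]
      apply Subtype.ext
      simp only [resRep_apply]
      exact v.2 y.1 ⟨y, hy, rfl⟩
  rw [h4, h3, h1]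
  ring

end Cfsg.Agent.Lib.Helper52.PGV
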