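import Mathlib
import Cfsg.Prelude.Def_Local
import Cfsg.Prelude.Def_Transfer
import Cfsg.Agent.Lib.Helper41.PGV.Defs
import Cfsg.Agent.Lib.Helper22.Components
import Cfsg.Agent.Lib.Helper22.ComponentsMap
import Cfsg.Agent.Lib.Helper52.PgvLocKit
import Cfsg.Agent.Lib.Helper25.PgvPQRep

/-!
# S3086 / PGV-[LOC] (sheet `Lib/Helper41/PGV/RED_SHEET1.lean.txt`): the localisation lemma.
`loc_of` takes the leaf [PQ-REP] as a hypothesis; `loc` is the exact sheet statement (with helper25's
`pq_rep`).
-/

set_option autoImplicit false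

universe v

namespace Cfsg.Agent.Lib.Helper52.PGV

open Cfsg Cfsg.Agent.Lib.Helper41.PGV

variable {p : ℕ} [Fact p.Prime] {G V : Type v} [Group G] [Finite G] [AddCommGroup V] [Finite V]
  [Module (ZMod p) V] {ρ : Representation (ZMod p) G V} {A : Subgroup G}

/-- `C_V(D) < V` for `D ≠ 1` acting faithfully. -/
theorem card_fix_lt (hinj : Function.Injective ρ) (D : Subgroup G) (hD : D ≠ ⊥) :
    Nat.card ↥(fix ρ (D : Set G)) < Nat.card V := by
  classical
  obtain ⟨d', hd'⟩ := (Subgroup.ne_bot_iff_exists_ne_one (H := D)).mp hD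
  obtain ⟨d, hdD, hd1⟩ : ∃ d : G, d ∈ D ∧ d ≠ 1 := ⟨d'.1, d'.2, fun h => hd' (Subtype.ext h)⟩
  have hρd : ρ d ≠ 1 := by
    intro h
    apply hd1
    apply hinj
    rw [h, map_one]
  have hex : ∃ v : V, ρ d v ≠ v := by
    by_contra hall
    push_neg at hall
    apply hρd
    ext v
    simpa using hall v
  obtain ⟨v, hv⟩ := hex
  have hss : ((fix ρ (D : Set G) : Submodule (ZMod p) V) : Set V) ⊂ Set.univ := by
    rw [Set.ssubset_univ_iff]
    intro h
    have : v ∈ ((fix ρ (D : Set G) : Submodule (ZMod p) V) : Set V) := by rw [h]; trivial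
    exact hv (this d hdD)
  have := Set.ncard_lt_ncard hss (Set.toFinite _)
  rw [Set.ncard_univ] at this
  rw [← Nat.card_coe_set_eq] at this
  exact this

/-- the image `Ā` of `A` in `H / N` is a best offender on `W = C_V(D)` -/
theorem bestOffender_bar (hoff : BestOffender ρ A) (D H : Subgroup G) (hDA : D ≤ A)
    (hHD : H ≤ Subgroup.centralizer (D : Set G)) (hAH : A ≤ H) :
    BestOffender (barRep ρ D H hHD)
      ((A.subgroupOf H).map (QuotientGroup.mk' (resRep ρ D H hHD).ker)) := by
  classical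
  haveI : Finite ↥H := inferInstance
  have hDH : D ≤ H := hDA.trans hAH
  have hDN : D.subgroupOf H ≤ (resRep ρ D H hHD).ker := subgroupOf_le_ker_resRep ρ D H hHD
  have hDAH : D.subgroupOf H ≤ A.subgroupOf H := by
    intro x hx
    exact Subgroup.mem_subgroupOf.mpr (hDA (Subgroup.mem_subgroupOf.mp hx))
  intro Bbar hBbar
  -- the preimage `X` of `Bbar` in `A_H`
  obtain ⟨X, hX⟩ : ∃ X : Subgroup ↥H,
      X = A.subgroupOf H ⊓ Bbar.comap (QuotientGroup.mk' (resRep ρ D H hHD).ker) := ⟨_, rfl⟩
  have hXmap : X.map (QuotientGroup.mk' (resRep ρ D H hHD).ker) = Bbar := by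
    apply le_antisymm
    · rintro _ ⟨x, hx, rfl⟩
      rw [hX] at hx
      exact hx.2
    · intro b hb
      obtain ⟨a, ha, rfl⟩ := hBbar hb
      refine ⟨a, ?_, rfl⟩
      rw [hX]
      exact ⟨ha, hb⟩
  have hNcomap : (resRep ρ D H hHD).ker ≤
      Bbar.comap (QuotientGroup.mk' (resRep ρ D H hHD).ker) := by
    intro n hn
    rw [Subgroup.mem_comap]
    have : QuotientGroup.mk' (resRep ρ D H hHD).ker n = 1 := by
      rw [QuotientGroup.mk'_apply, QuotientGroup.eq_one_iff]; exact hn
    rw [this]; exact Bbar.one_mem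
  have hDX : D.subgroupOf H ≤ X := by
    rw [hX]; exact le_inf hDAH (hDN.trans hNcomap)
  have hNX : (resRep ρ D H hHD).ker ⊓ X = (resRep ρ D H hHD).ker ⊓ A.subgroupOf H := by
    rw [hX]
    apply le_antisymm
    · exact inf_le_inf_left _ inf_le_left
    · exact le_inf inf_le_left (le_inf inf_le_right (inf_le_left.trans hNcomap))
  have e1 := jj_res ρ D H hHD X hDX hDH
  have e2 := jj_res ρ D H hHD (A.subgroupOf H) hDAH hDH
  rw [hXmap, hNX] at e1
  have hAmap : (A.subgroupOf H).map H.subtype = A := by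
    rw [Subgroup.subgroupOf_map_subtype]; exact inf_of_le_left hAH
  rw [hAmap] at e2
  have hXA : X.map H.subtype ≤ A := by
    rintro _ ⟨x, hx, rfl⟩
    rw [hX] at hx
    exact Subgroup.mem_subgroupOf.mp hx.1
  have h3 := hoff (X.map H.subtype) hXA
  rw [← e1, ← e2] at h3
  have hcpos : 0 < Nat.card ↥((resRep ρ D H hHD).ker ⊓ A.subgroupOf H) := Nat.card_pos
  exact Nat.le_of_mul_le_mul_right h3 hcpos

/-- `|Ā| ≤ |A|` -/
theorem card_bar_le (D H : Subgroup G)
    (hHD : H ≤ Subgroup.centralizer (D : Set G)) (hAH : A ≤ H) :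
    Nat.card ↥((A.subgroupOf H).map (QuotientGroup.mk' (resRep ρ D H hHD).ker)) ≤ Nat.card ↥A := by
  have h1 : Nat.card ↥(A.subgroupOf H) = Nat.card ↥A :=
    Nat.card_congr (Subgroup.subgroupOfEquivOfLe hAH).toEquiv
  rw [← h1]
  exact Nat.le_of_dvd Nat.card_pos (Subgroup.card_map_dvd _ _)

/-- the image of `A` in `H / N` is elementary abelian -/
theorem elementaryAbelian_bar (hel : IsElementaryAbelian p A) (D H : Subgroup G)
    (hHD : H ≤ Subgroup.centralizer (D : Set G)) :
    IsElementaryAbelian p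
      ((A.subgroupOf H).map (QuotientGroup.mk' (resRep ρ D H hHD).ker)) := by
  refine ⟨⟨⟨?_⟩⟩, ?_⟩
  · rintro ⟨_, x, hx, rfl⟩ ⟨_, y, hy, rfl⟩
    apply Subtype.ext
    show QuotientGroup.mk' _ x * QuotientGroup.mk' _ y = QuotientGroup.mk' _ y * QuotientGroup.mk' _ x
    have hc := hel.1
    have h2 : (⟨x.1, Subgroup.mem_subgroupOf.mp hx⟩ : A) * ⟨y.1, Subgroup.mem_subgroupOf.mp hy⟩ =
        ⟨y.1, Subgroup.mem_subgroupOf.mp hy⟩ * ⟨x.1, Subgroup.mem_subgroupOf.mp hx⟩ := mul_comm' _ _
    have h3 : x * y = y * x := by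
      apply Subtype.ext
      have := congrArg Subtype.val h2
      simpa using this
    rw [← map_mul, ← map_mul, h3]
  · rintro _ ⟨x, hx, rfl⟩
    rw [← map_pow]
    have : x ^ p = 1 := by
      apply Subtype.ext
      simpa using hel.2 x.1 (Subgroup.mem_subgroupOf.mp hx)
    rw [this, map_one]

/-- **[LOC]** with [PQ-REP] as a hypothesis. -/
theorem loc_of
    (hpq : ∀ (D : Subgroup G), IsPGroup p D → ∀ x : G, (∀ d ∈ D, d * x = x * d) →
      (orderOf x).Coprime p → (∀ v ∈ fix ρ (D : Set G), ρ x v = v) → x = 1)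
    (hinj : Function.Injective ρ) (hel : IsElementaryAbelian p A) (hoff : BestOffender ρ A)
    (ih : Holds.{v} p (Nat.card V + Nat.card A))
    (D H L : Subgroup G) (hDA : D ≤ A) (hD : D ≠ ⊥) (hHD : H ≤ Subgroup.centralizer (D : Set G))
    (hAH : A ≤ H) (hLH : L ≤ H) (hL : IsComponent (L.subgroupOf H)) (b : G) (hb : b ∈ A)
    (hcomm : ∀ x ∈ L, ∀ y ∈ L, (b * x * b⁻¹) * y = y * (b * x * b⁻¹)) : False := by
  classical
  have hpp : p.Prime := Fact.out
  -- the image of `L` in `H / N` is commutative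
  have hLbar : ∀ x ∈ L.subgroupOf H, ∀ y ∈ L.subgroupOf H,
      QuotientGroup.mk' (resRep ρ D H hHD).ker x * QuotientGroup.mk' (resRep ρ D H hHD).ker y =
        QuotientGroup.mk' (resRep ρ D H hHD).ker y * QuotientGroup.mk' (resRep ρ D H hHD).ker x := by
    -- `b` as an element of `H`
    obtain ⟨bH, hbH⟩ : ∃ bH : ↥H, bH = ⟨b, hAH hb⟩ := ⟨_, rfl⟩
    have hbHA : bH ∈ A.subgroupOf H := by
      rw [hbH]; exact Subgroup.mem_subgroupOf.mpr hb
    have hconj : ∀ x ∈ L.subgroupOf H, ∀ y ∈ L.subgroupOf H,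
        QuotientGroup.mk' (resRep ρ D H hHD).ker (bH * x * bH⁻¹) *
            QuotientGroup.mk' (resRep ρ D H hHD).ker y =
          QuotientGroup.mk' (resRep ρ D H hHD).ker y *
            QuotientGroup.mk' (resRep ρ D H hHD).ker (bH * x * bH⁻¹) := by
      intro x hx y hy
      rw [← map_mul, ← map_mul]
      congr 1
      apply Subtype.ext
      rw [hbH]
      exact hcomm x.1 (Subgroup.mem_subgroupOf.mp hx) y.1 (Subgroup.mem_subgroupOf.mp hy)
    by_cases hAbar : (A.subgroupOf H).map (QuotientGroup.mk' (resRep ρ D H hHD).ker) = ⊥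
    · -- `Ā = 1`
      have hb1 : QuotientGroup.mk' (resRep ρ D H hHD).ker bH = 1 := by
        have : QuotientGroup.mk' (resRep ρ D H hHD).ker bH ∈
            (A.subgroupOf H).map (QuotientGroup.mk' (resRep ρ D H hHD).ker) := ⟨bH, hbHA, rfl⟩
        rw [hAbar] at this
        exact this
      intro x hx y hy
      have := hconj x hx y hy
      rw [map_mul, map_mul, map_inv, hb1] at this
      simpa using this
    · -- induction
      have hlt : Nat.card ↥(fix ρ (D : Set G)) +
          Nat.card ↥((A.subgroupOf H).map (QuotientGroup.mk' (resRep ρ D H hHD).ker)) <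
            Nat.card V + Nat.card ↥A :=
        Nat.add_lt_add_of_lt_of_le (card_fix_lt hinj D hD) (card_bar_le D H hHD hAH)
      have hnorm := ih (↥H ⧸ (resRep ρ D H hHD).ker) ↥(fix ρ (D : Set G)) (barRep ρ D H hHD)
        (barRep_injective ρ D H hHD) _ hAbar (elementaryAbelian_bar hel D H hHD)
        (bestOffender_bar hoff D H hDA hHD hAH) hlt
      rcases Cfsg.Agent.Lib.Helper22.component_map_of_surjective hL
        (f := QuotientGroup.mk' (resRep ρ D H hHD).ker) (QuotientGroup.mk'_surjective _) with hbot | hcomp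
      · intro x hx y hy
        have hx1 : QuotientGroup.mk' (resRep ρ D H hHD).ker x = 1 := by
          have : QuotientGroup.mk' (resRep ρ D H hHD).ker x ∈
              (L.subgroupOf H).map (QuotientGroup.mk' (resRep ρ D H hHD).ker) := ⟨x, hx, rfl⟩
          rw [hbot] at this
          exact this
        rw [hx1, one_mul, mul_one]
      · have hbn := hnorm _ hcomp (show QuotientGroup.mk' (resRep ρ D H hHD).ker bH ∈ _ from
          ⟨bH, hbHA, rfl⟩)
        rw [Subgroup.mem_normalizer_iff] at hbn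
        intro x hx y hy
        -- write `π x = π (bH x' bH⁻¹)`
        have hz : (QuotientGroup.mk' (resRep ρ D H hHD).ker bH)⁻¹ *
            QuotientGroup.mk' (resRep ρ D H hHD).ker x *
            QuotientGroup.mk' (resRep ρ D H hHD).ker bH ∈
            (L.subgroupOf H).map (QuotientGroup.mk' (resRep ρ D H hHD).ker) := by
          rw [hbn]
          have : QuotientGroup.mk' (resRep ρ D H hHD).ker bH *
              ((QuotientGroup.mk' (resRep ρ D H hHD).ker bH)⁻¹ *
                QuotientGroup.mk' (resRep ρ D H hHD).ker x *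
                QuotientGroup.mk' (resRep ρ D H hHD).ker bH) *
              (QuotientGroup.mk' (resRep ρ D H hHD).ker bH)⁻¹ =
              QuotientGroup.mk' (resRep ρ D H hHD).ker x := by group
          rw [this]
          exact ⟨x, hx, rfl⟩
        obtain ⟨x', hx', hx'eq⟩ := hz
        have := hconj x' hx' y hy
        rw [map_mul, map_mul, map_inv, hx'eq] at this
        have h2 : QuotientGroup.mk' (resRep ρ D H hHD).ker bH *
              ((QuotientGroup.mk' (resRep ρ D H hHD).ker bH)⁻¹ *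
                QuotientGroup.mk' (resRep ρ D H hHD).ker x *
                QuotientGroup.mk' (resRep ρ D H hHD).ker bH) *
              (QuotientGroup.mk' (resRep ρ D H hHD).ker bH)⁻¹ =
              QuotientGroup.mk' (resRep ρ D H hHD).ker x := by group
        rw [h2] at this
        exact this
  -- so the image of `L` is trivial: `L_H ≤ N`
  have hperf : ⁅L.subgroupOf H, L.subgroupOf H⁆ = L.subgroupOf H :=
    Cfsg.Agent.Lib.Helper22.component_commutator_self hL
  have hLN : L.subgroupOf H ≤ (resRep ρ D H hHD).ker := by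
    have h1 : (L.subgroupOf H).map (QuotientGroup.mk' (resRep ρ D H hHD).ker) = ⊥ := by
      have h2 := congrArg (Subgroup.map (QuotientGroup.mk' (resRep ρ D H hHD).ker)) hperf
      rw [Subgroup.map_commutator] at h2
      rw [← h2, Subgroup.commutator_eq_bot_iff_le_centralizer]
      rintro _ ⟨x, hx, rfl⟩
      rw [Subgroup.mem_centralizer_iff]
      rintro _ ⟨y, hy, rfl⟩
      exact hLbar y hy x hx
    intro x hx
    have : QuotientGroup.mk' (resRep ρ D H hHD).ker x ∈
        (L.subgroupOf H).map (QuotientGroup.mk' (resRep ρ D H hHD).ker) := ⟨x, hx, rfl⟩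
    rw [h1, Subgroup.mem_bot, QuotientGroup.mk'_apply, QuotientGroup.eq_one_iff] at this
    exact this
  -- every element of `L` is trivial on `W`
  have htriv : ∀ x ∈ L, ∀ w ∈ fix ρ (D : Set G), ρ x w = w := by
    intro x hx
    have := hLN (show (⟨x, hLH hx⟩ : ↥H) ∈ L.subgroupOf H from Subgroup.mem_subgroupOf.mpr hx)
    rw [mem_ker_resRep] at this
    exact this
  -- `D` is a `p`-group
  have hDp : IsPGroup p D := by
    intro d
    refine ⟨1, ?_⟩
    apply Subtype.ext
    simpa using hel.2 d.1 (hDA d.2)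
  -- `L` is a `p`-group
  have hLp : IsPGroup p ↥(L.subgroupOf H) := by
    intro x
    have hxL : x.1.1 ∈ L := Subgroup.mem_subgroupOf.mp x.2
    have hpos : orderOf x.1.1 ≠ 0 := (orderOf_pos x.1.1).ne'
    obtain ⟨k, m, hm, hkm⟩ := Nat.exists_eq_pow_mul_and_not_dvd hpos p hpp.ne_one
    refine ⟨k, ?_⟩
    have hy : x.1.1 ^ (p ^ k) = 1 := by
      apply hpq D hDp
      · intro d hd
        have hxc := hHD (hLH hxL)
        have hc : d * x.1.1 = x.1.1 * d := (Subgroup.mem_centralizer_iff.mp hxc) d hd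
        exact (Commute.pow_right hc _)
      · have hdvd : orderOf (x.1.1 ^ (p ^ k)) ∣ m := by
          apply orderOf_dvd_of_pow_eq_one
          rw [← pow_mul, ← hkm, pow_orderOf_eq_one]
        have hcop : m.Coprime p := by
          rw [Nat.coprime_comm, Nat.Prime.coprime_iff_not_dvd hpp]; exact hm
        exact Nat.Coprime.coprime_dvd_left hdvd hcop
      · intro v hv
        have h1 : ρ (x.1.1 ^ (p ^ k)) = (ρ x.1.1) ^ (p ^ k) := map_pow _ _ _
        rw [h1]
        have : ∀ n : ℕ, ((ρ x.1.1) ^ n) v = v := by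
          intro n
          induction n with
          | zero => simp
          | succ n ihn =>
            rw [pow_succ, Module.End.mul_apply, htriv _ hxL v hv, ihn]
        exact this _
    apply Subtype.ext
    apply Subtype.ext
    simpa using hy
  haveI : Group.IsNilpotent ↥(L.subgroupOf H) := hLp.isNilpotent
  exact Cfsg.Agent.Lib.Helper22.component_not_isSolvable hL inferInstance

/-- **[LOC]** exact sheet statement. -/
theorem loc (hinj : Function.Injective ρ) (hel : IsElementaryAbelian p A) (hoff : BestOffender ρ A)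
    (ih : Holds.{v} p (Nat.card V + Nat.card A))
    (D H L : Subgroup G) (hDA : D ≤ A) (hD : D ≠ ⊥) (hHD : H ≤ Subgroup.centralizer (D : Set G)) (hAH : A ≤ H)
    (hLH : L ≤ H) (hL : IsComponent (L.subgroupOf H)) (b : G) (hb : b ∈ A)
    (hcomm : ∀ x ∈ L, ∀ y ∈ L, (b * x * b⁻¹) * y = y * (b * x * b⁻¹)) : False :=
  loc_of (fun D hD x hx hxp hfix => Cfsg.Agent.Lib.Helper41.PGV.H25.pq_rep hinj D hD x hx hxp hfix)
    hinj hel hoff ih D H L hDA hD hHD hAH hLH hL b hb hcomm

end Cfsg.Agent.Lib.Helper52.PGV
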