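import Mathlib
import Cfsg.Prelude.Def_Local
import Cfsg.Prelude.Def_Transfer
import Cfsg.Agent.Lib.Helper41.PGV.Defs
import Cfsg.Agent.Lib.Helper25.PgvRedD
import Cfsg.Agent.Lib.Helper95.PgvT5
import Cfsg.Agent.Lib.Helper52.PgvLoc

/-!
# S3086 / PGV-[RED-D] and PGV-[RED-D-COR] (sheet `Lib/Helper41/PGV/RED_SHEET1.lean.txt`): exact sheet
statements, assembled from helper25's `_of` forms, helper95's [T5-DISTINCT]/[T5-COMMGEN] and [LOC].
-/

set_option autoImplicit false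

universe v

namespace Cfsg.Agent.Lib.Helper52.PGV

open Cfsg Cfsg.Agent.Lib.Helper41.PGV

variable {p : ℕ} [Fact p.Prime] {G V : Type v} [Group G] [Finite G] [AddCommGroup V] [Finite V]
  [Module (ZMod p) V] {ρ : Representation (ZMod p) G V} {A K1 : Subgroup G} {a : G}

/-- **[RED-D]** no `1 ≠ D ≤ A` centralizes `K1`. -/
theorem red_D (h : CE ρ A K1 a) (D : Subgroup G) (hDA : D ≤ A) (hD : D ≠ ⊥)
    (hcent : ∀ d ∈ D, ∀ x ∈ K1, d * x = x * d) : False :=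
  Cfsg.Agent.Lib.Helper41.PGV.H25.red_D_of (fun hL hM hne => components_commute hL hM hne)
    (fun D H L h1 h2 h3 h4 h5 h6 b hb hc =>
      loc h.inj h.el h.off h.ih D H L h1 h2 h3 h4 h5 h6 b hb hc)
    h D hDA hD hcent

/-- **[RED-D-COR]** `C_A(K1) = 1`, hence `[K1, q] = K1` for `1 ≠ q ∈ N_A(K1)`. -/
theorem comm_gen (h : CE ρ A K1 a) (q : G) (hqA : q ∈ A) (hq1 : q ≠ 1)
    (hqN : q ∈ Subgroup.normalizer (K1 : Set G)) :
    K1 ≤ Subgroup.closure {u | ∃ x ∈ K1, u = q⁻¹ * x⁻¹ * q * x} :=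
  Cfsg.Agent.Lib.Helper41.PGV.H25.comm_gen_of
    (fun hL q h1 h2 h3 => comm_gen_of_not_centralizes hL q h1 h2 h3)
    (fun D hDA hD hcent => red_D h D hDA hD hcent) h q hqA hq1 hqN

end Cfsg.Agent.Lib.Helper52.PGV
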