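import Mathlib
import Cfsg.Prelude.Def_Local
import Cfsg.Prelude.Def_Transfer
import Cfsg.Agent.Lib.Helper41.PGV.Defs
import Cfsg.Agent.Lib.Helper22.Components

/-!
# S3086 / PGV-[T5-PGROUP] (sheet `Lib/Helper41/PGV/RED_SHEET1.lean.txt`): a component is not a
`p`-group modulo its centre.  Exact sheet statement.
-/

set_option autoImplicit false

universe v

namespace Cfsg.Agent.Lib.Helper52.PGV

open Cfsg

variable {p : ℕ} [Fact p.Prime] {G : Type v} [Group G] [Finite G]

/-- **[T5-PGROUP]** a component is not a `p`-group modulo its centre. -/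
theorem component_not_pgroup_mod_center {L : Subgroup G} (hL : IsComponent L)
    (h : ∀ x ∈ L, ∃ k : ℕ, ∀ y ∈ L, x ^ (p ^ k) * y = y * x ^ (p ^ k)) : False := by
  apply Cfsg.Agent.Lib.Helper22.component_not_isSolvable hL
  -- `↥L ⧸ Z(↥L)` is a `p`-group
  have hQ : IsPGroup p (↥L ⧸ Subgroup.center ↥L) := by
    intro xbar
    obtain ⟨x, rfl⟩ := QuotientGroup.mk_surjective xbar
    obtain ⟨k, hk⟩ := h x.1 x.2
    refine ⟨k, ?_⟩
    rw [← QuotientGroup.mk_pow, QuotientGroup.eq_one_iff, Subgroup.mem_center_iff]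
    intro y
    apply Subtype.ext
    have := hk y.1 y.2
    simp only [Subgroup.coe_mul, SubgroupClass.coe_pow]
    exact this.symm
  haveI : Group.IsNilpotent (↥L ⧸ Subgroup.center ↥L) := hQ.isNilpotent
  haveI : Group.IsSolvable (↥L ⧸ Subgroup.center ↥L) := inferInstance
  haveI : Group.IsSolvable ↥(Subgroup.center ↥L) :=
    isSolvable_of_comm (fun a b => Subtype.ext ((Subgroup.mem_center_iff.mp b.2) a.1))
  refine solvable_of_ker_le_range (Subgroup.center ↥L).subtype
    (QuotientGroup.mk' (Subgroup.center ↥L)) ?_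
  rw [QuotientGroup.ker_mk', Subgroup.range_subtype]

end Cfsg.Agent.Lib.Helper52.PGV
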