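import Mathlib
import Cfsg.Agent.Lib.Helper22.S1936Defs
import Cfsg.Agent.Lib.Helper25.S1936Theta
import Cfsg.Agent.Lib.Helper52.S1936Bal

/-!
# S1936 SIGF-[FUN]: `θ` is a solvable `Ω₁(T)`-signalizer functor for the prime 2.
Exact skeleton statement (`notes/helper22_S1936_modules.lean.txt`).
-/

set_option autoImplicit false
universe u
open Cfsg.Agent.Lib.Helper22.S1936

namespace Cfsg.Agent.Lib.Helper52.S1936

variable {G : Type u} [Group G] [Finite G] {p : ℕ} [Fact p.Prime]

/-- `2`-subgroups of a `MinCE` are commutative. -/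
theorem two_group_comm_of_minCE (hG : MinCE p G) {S : Subgroup G} (hS : IsPGroup 2 S) :
    ∀ s ∈ S, ∀ t ∈ S, s * t = t * s := by
  have hpp : p.Prime := Fact.out
  obtain ⟨n, hn⟩ := IsPGroup.iff_card.mp hS
  have hcop : (Nat.card S).Coprime p := by
    rw [hn]
    apply Nat.Coprime.pow_left
    rw [Nat.coprime_comm, Nat.Prime.coprime_iff_not_dvd hpp]
    intro h2
    have := Nat.le_of_dvd (by norm_num) h2
    have := hG.hp5
    omega
  have hc : IsMulCommutative S := minCE_hab hG S hcop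
  intro s hs t ht
  have h2 : (⟨s, hs⟩ : S) * ⟨t, ht⟩ = ⟨t, ht⟩ * ⟨s, hs⟩ := mul_comm' _ _
  exact congrArg Subtype.val h2

/-- SIGF-[FUN]: `θ` is a solvable `Ω₁(T)`-signalizer functor for the prime 2. -/
theorem theta_signalizer (hG : MinCE p G) (T : Sylow 2 G) :
    Cfsg.IsSolvableSignalizerFunctor 2 (omega1 (T : Subgroup G)) (theta p) := by
  have hpp : p.Prime := Fact.out
  have hTc : ∀ s ∈ (T : Subgroup G), ∀ t ∈ (T : Subgroup G), s * t = t * s :=
    two_group_comm_of_minCE hG T.isPGroup'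
  have hmem : ∀ {t : G}, t ∈ omega1 (T : Subgroup G) ↔ t ∈ (T : Subgroup G) ∧ t ^ 2 = 1 :=
    fun {t} => mem_omega1 (T : Subgroup G) hTc
  have hord : ∀ a ∈ omega1 (T : Subgroup G), a ≠ 1 → orderOf a = 2 := by
    intro a ha ha1
    exact orderOf_eq_prime (hmem.mp ha).2 ha1
  refine ⟨⟨?_, ?_, ?_, ?_⟩, ?_⟩
  · intro a _ _
    exact Cfsg.Agent.Lib.Helper25.S1936.theta_le_centralizer (p := p) a
  · intro a _ _ h2
    obtain ⟨n, hn⟩ := IsPGroup.iff_card.mp
      (Cfsg.Agent.Lib.Helper25.S1936.theta_isPGroup (p := p) a)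
    rw [hn] at h2
    have h3 : 2 ∣ p := Nat.Prime.dvd_of_dvd_pow Nat.prime_two h2
    have := (Nat.prime_dvd_prime_iff_eq Nat.prime_two hpp).mp h3
    have := hG.hp5
    omega
  · intro a ha _ b hb x hx
    have hbC : b ∈ Subgroup.centralizer ({a} : Set G) := by
      rw [Subgroup.mem_centralizer_iff]
      intro y hy
      rw [Set.mem_singleton_iff] at hy
      subst hy
      exact hTc y (hmem.mp ha).1 b (hmem.mp hb).1
    have hbN := Cfsg.Agent.Lib.Helper25.S1936.centralizer_le_normalizer_theta (p := p) a hbC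
    rw [Subgroup.mem_normalizer_iff] at hbN
    exact (hbN x).mp hx
  · intro a ha ha1 b hb hb1
    exact theta_balance hG (hord a ha ha1) (hord b hb hb1)
      (hTc a (hmem.mp ha).1 b (hmem.mp hb).1)
  · intro a _ _
    haveI : Group.IsNilpotent ↥(theta p a) :=
      (Cfsg.Agent.Lib.Helper25.S1936.theta_isPGroup (p := p) a).isNilpotent
    infer_instance

end Cfsg.Agent.Lib.Helper52.S1936
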