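import Mathlib
import Cfsg.Prelude.Def_GeometricClasses
import Cfsg.Agent.Lib.Helper99.AschDefs
import Cfsg.Agent.Lib.Helper52.AschOKFormT

/-!
# Slot forms, generic version (helper52)

The content of ASCHO-[KFORM] for an arbitrary invertible Gram matrix `P` on `F^n`
(`gᵀ P g = P` for the members `g` of the slot groups): in slot coordinates `P` is a non-zero
constant times a tensor product of invertible matrices, each of them symmetric or skew and
invariant under its slot group.  No hypothesis on the characteristic or on the parity of `d`.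
-/

set_option autoImplicit false
set_option maxHeartbeats 800000

namespace Cfsg.Agent.Lib.Helper52.AschOKForm

open Cfsg Cfsg.Geo Cfsg.Agent.Lib.Helper99.Asch
open scoped MatrixGroups Matrix Kronecker

section S
variable {d : ℕ} {F : Type*} [Field F]

/-- an invertible invariant matrix is symmetric or skew -/
theorem transpose_eq_or_neg_of_invUnder {A : Set (Matrix (Fin d) (Fin d) F)}
    (hAu : ∀ a ∈ A, IsUnit a.det)
    (hspan : ∀ m : Matrix (Fin d) (Fin d) F, m ∈ Submodule.span F A)
    {β : Matrix (Fin d) (Fin d) F} (hβ : InvUnder A β) (hu : IsUnit β.det) (h0 : β ≠ 0) :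
    βᵀ = β ∨ βᵀ = -β := by
  obtain ⟨ε, hε⟩ := exists_smul_of_invUnder hAu hspan hβ hu hβ.transpose
  have h1 : β = ε • βᵀ := by
    have := congrArg Matrix.transpose hε
    rw [Matrix.transpose_transpose, Matrix.transpose_smul] at this
    exact this
  have hεε : ε * ε = 1 := by
    have h3 : β = (ε * ε) • β := by
      conv_lhs => rw [h1, hε, smul_smul]
    have h4 : (ε * ε - 1) • β = 0 := by
      rw [sub_smul, one_smul, ← h3, sub_self]
    rcases smul_eq_zero.1 h4 with h5 | h5
    · exact sub_eq_zero.1 h5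
    · exact absurd h5 h0
  rcases mul_self_eq_one_iff.1 hεε with h5 | h5
  · left; rw [hε, h5, one_smul]
  · right; rw [hε, h5, neg_one_smul]

end S

section T
variable {k d : ℕ} {F : Type*} [Field F]

/-- the product formula, without parity hypotheses -/
theorem exists_slot_forms' (G : Matrix (Fin k → Fin d) (Fin k → Fin d) F) (s t : Fin k → Fin d)
    (hst : G s t ≠ 0)
    (A : Fin k → Set (Matrix (Fin d) (Fin d) F))
    (hAu : ∀ i, ∀ a ∈ A i, IsUnit a.det)
    (hspan : ∀ i, ∀ m : Matrix (Fin d) (Fin d) F, m ∈ Submodule.span F (A i))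
    (hinv : ∀ i x y, InvUnder (A i) (block i G x y)) :
    ∃ (J : Fin k → Matrix (Fin d) (Fin d) F), (∀ i, (J i)ᵀ = J i ∨ (J i)ᵀ = -(J i)) ∧
      (∀ i, IsUnit (J i).det) ∧ (∀ i, InvUnder (A i) (J i)) ∧
      ∀ x y : Fin k → Fin d, G x y = G s t * ∏ i, J i (x i) (y i) := by
  classical
  have hM : ∀ i, block i G s t (s i) (t i) = G s t := by
    intro i
    simp only [block, Function.update_eq_self]
  have hM0 : ∀ i, block i G s t ≠ 0 := by
    intro i h0
    apply hst
    rw [← hM i, h0]
    rfl
  have hMu : ∀ i, IsUnit (block i G s t).det := fun i =>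
    isUnit_det_of_invUnder (hAu i) (hspan i) (hinv i s t) (hM0 i)
  have hc : IsUnit (G s t) := isUnit_iff_ne_zero.2 hst
  refine ⟨fun i => (G s t)⁻¹ • block i G s t, ?_, ?_, ?_, ?_⟩
  · intro i
    rcases transpose_eq_or_neg_of_invUnder (hAu i) (hspan i) (hinv i s t) (hMu i) (hM0 i)
      with h | h
    · left; rw [Matrix.transpose_smul, h]
    · right; rw [Matrix.transpose_smul, h, smul_neg]
  · intro i
    rw [Matrix.det_smul]
    exact (hc.inv.pow _).mul (hMu i)
  · intro i
    exact (hinv i s t).smul _
  · have hslot : ∀ i x y, G x y = ((G s t)⁻¹ • block i G s t) (x i) (y i) *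
        G (Function.update x i (s i)) (Function.update y i (t i)) := by
      intro i x y
      obtain ⟨l, hl⟩ := exists_smul_of_invUnder (hAu i) (hspan i) (hinv i s t) (hMu i)
        (hinv i x y)
      have e1 : G (Function.update x i (s i)) (Function.update y i (t i)) = l * G s t := by
        have := congrFun (congrFun hl (s i)) (t i)
        rw [Matrix.smul_apply, hM i, smul_eq_mul] at this
        exact this
      have e2 : G x y = l * block i G s t (x i) (y i) := by
        have := congrFun (congrFun hl (x i)) (y i)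
        rw [Matrix.smul_apply, smul_eq_mul] at this
        simp only [block, Function.update_eq_self] at this
        simpa only [block] using this
      rw [e1, e2, Matrix.smul_apply, smul_eq_mul]
      field_simp
    have hind : ∀ S : Finset (Fin k), ∀ x y, G x y =
        (∏ i ∈ S, ((G s t)⁻¹ • block i G s t) (x i) (y i)) *
          G (fun j => if j ∈ S then s j else x j) (fun j => if j ∈ S then t j else y j) := by
      intro S
      induction S using Finset.induction_on with
      | empty =>
        intro x y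
        simp
      | insert i S hi ih =>
        intro x y
        have e1 : Function.update (fun j => if j ∈ S then s j else x j) i (s i) =
            fun j => if j ∈ insert i S then s j else x j := by
          funext j
          by_cases hj : j = i
          · subst hj; simp
          · simp [Function.update_of_ne hj, Finset.mem_insert, hj]
        have e2 : Function.update (fun j => if j ∈ S then t j else y j) i (t i) =
            fun j => if j ∈ insert i S then t j else y j := by
          funext j
          by_cases hj : j = i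
          · subst hj; simp
          · simp [Function.update_of_ne hj, Finset.mem_insert, hj]
        rw [Finset.prod_insert hi, ih x y,
          hslot i (fun j => if j ∈ S then s j else x j) (fun j => if j ∈ S then t j else y j),
          e1, e2]
        simp only [if_neg hi]
        ring
    intro x y
    have := hind Finset.univ x y
    simp only [Finset.mem_univ, if_true] at this
    rw [this, mul_comm]

end T

section N
variable {n : ℕ} {F : Type*} [Field F]

/-- generic slot-form theorem for an invertible Gram matrix `P` -/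
theorem slot_gram_generic (hn0 : 0 < n) (P : Matrix (Fin n) (Fin n) F) (hPdet : IsUnit P.det) {k : ℕ}
    (Qs : Fin k → Subgroup (GL (Fin n) F))
    (hgP : ∀ i, ∀ g ∈ Qs i,
      (g : Matrix (Fin n) (Fin n) F)ᵀ * P * (g : Matrix (Fin n) (Fin n) F) = P)
    (d : ℕ) (idx : Fin n ≃ (Fin k → Fin d)) (B : GL (Fin n) F)
    (hslot : ∀ i, ∀ x ∈ Qs i, ∃ a : GL (Fin d) F,
        ((B * x * B⁻¹ : GL (Fin n) F) : Matrix (Fin n) (Fin n) F) =
          Matrix.reindex idx.symm idx.symm (slotMatrix i (a : Matrix (Fin d) (Fin d) F)))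
    (hspan : ∀ i (a : Matrix (Fin d) (Fin d) F),
        ((B⁻¹ : GL (Fin n) F) : Matrix (Fin n) (Fin n) F) *
          Matrix.reindex idx.symm idx.symm (slotMatrix i a) * (B : Matrix (Fin n) (Fin n) F) ∈
          Submodule.span F (matrixSet (Qs i))) :
    ∃ (J : Fin k → Matrix (Fin d) (Fin d) F) (c : F), c ≠ 0 ∧
      (∀ i, (J i)ᵀ = J i ∨ (J i)ᵀ = -(J i)) ∧
      (∀ i, IsUnit (J i).det) ∧
      (∀ i, ∀ x ∈ Qs i, ∀ a : GL (Fin d) F,
        ((B * x * B⁻¹ : GL (Fin n) F) : Matrix (Fin n) (Fin n) F) =
          Matrix.reindex idx.symm idx.symm (slotMatrix i (a : Matrix (Fin d) (Fin d) F)) →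
        (a : Matrix (Fin d) (Fin d) F)ᵀ * J i * (a : Matrix (Fin d) (Fin d) F) = J i) ∧
      ∀ x y : (Fin k → Fin d) → F,
        (((B⁻¹ : GL (Fin n) F) : Matrix (Fin n) (Fin n) F) *ᵥ (x ∘ idx)) ⬝ᵥ
          (P *ᵥ (((B⁻¹ : GL (Fin n) F) : Matrix (Fin n) (Fin n) F) *ᵥ (y ∘ idx))) =
        c * ∑ a, ∑ b, x a * (∏ i, J i (a i) (b i)) * y b := by
  classical
  have hBiB : ((B⁻¹ : GL (Fin n) F) : Matrix (Fin n) (Fin n) F) *
      (B : Matrix (Fin n) (Fin n) F) = 1 := by
    rw [← Units.val_mul, inv_mul_cancel, Units.val_one]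
  have hBBi : (B : Matrix (Fin n) (Fin n) F) *
      ((B⁻¹ : GL (Fin n) F) : Matrix (Fin n) (Fin n) F) = 1 := by
    rw [← Units.val_mul, mul_inv_cancel, Units.val_one]
  have hconjval : ∀ g : GL (Fin n) F, ((B * g * B⁻¹ : GL (Fin n) F) : Matrix (Fin n) (Fin n) F) =
      (B : Matrix (Fin n) (Fin n) F) * (g : Matrix (Fin n) (Fin n) F) *
        ((B⁻¹ : GL (Fin n) F) : Matrix (Fin n) (Fin n) F) := by
    intro g
    rw [Units.val_mul, Units.val_mul]
  generalize hBm : (B : Matrix (Fin n) (Fin n) F) = Bm at hBiB hBBi hconjval hspan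
  generalize hBi : ((B⁻¹ : GL (Fin n) F) : Matrix (Fin n) (Fin n) F) = Bi at hBiB hBBi hconjval hspan
  set Gn : Matrix (Fin n) (Fin n) F := Biᵀ * P * Bi with hGn
  set G : Matrix (Fin k → Fin d) (Fin k → Fin d) F := Gn.submatrix idx.symm idx.symm with hG
  have hform : ∀ x y : (Fin k → Fin d) → F,
      (Bi *ᵥ (x ∘ idx)) ⬝ᵥ (P *ᵥ (Bi *ᵥ (y ∘ idx))) = ∑ a, ∑ b, x a * G a b * y b := by
    intro x y
    have e : (x ∘ idx) ⬝ᵥ (Gn *ᵥ (y ∘ idx)) =
        (Bi *ᵥ (x ∘ idx)) ⬝ᵥ (P *ᵥ (Bi *ᵥ (y ∘ idx))) := by
      rw [hGn, ← Matrix.mulVec_mulVec, ← Matrix.mulVec_mulVec, Matrix.dotProduct_mulVec,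
        Matrix.vecMul_transpose]
    rw [← e]
    calc (x ∘ idx) ⬝ᵥ (Gn *ᵥ (y ∘ idx))
        = ∑ i, (fun a => ∑ b, x a * G a b * y b) (idx i) := by
          simp only [dotProduct, Matrix.mulVec, Function.comp]
          refine Finset.sum_congr rfl (fun i _ => ?_)
          rw [Finset.mul_sum]
          calc ∑ j, x (idx i) * (Gn i j * y (idx j))
              = ∑ j, (fun b => x (idx i) * G (idx i) b * y b) (idx j) := by
                refine Finset.sum_congr rfl (fun j _ => ?_)
                simp only [hG, Matrix.submatrix_apply, Equiv.symm_apply_apply]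
                ring
            _ = ∑ b, x (idx i) * G (idx i) b * y b :=
                Equiv.sum_comp idx (fun b => x (idx i) * G (idx i) b * y b)
      _ = ∑ a, ∑ b, x a * G a b * y b :=
          Equiv.sum_comp idx (fun a => ∑ b, x a * G a b * y b)
  have hGinv : ∀ i, ∀ g ∈ Qs i, ∀ a : Matrix (Fin d) (Fin d) F,
      ((B * g * B⁻¹ : GL (Fin n) F) : Matrix (Fin n) (Fin n) F) =
        Matrix.reindex idx.symm idx.symm (slotMatrix i a) →
      (slotMatrix i a)ᵀ * G * slotMatrix i a = G := by
    intro i g hg a ha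
    have hgP' := hgP i g hg
    have hconj : (Bm * (g : Matrix (Fin n) (Fin n) F) * Bi)ᵀ * Gn *
        (Bm * (g : Matrix (Fin n) (Fin n) F) * Bi) = Gn := by
      rw [hGn, Matrix.transpose_mul, Matrix.transpose_mul]
      have hBt : Bmᵀ * Biᵀ = 1 := by rw [← Matrix.transpose_mul, hBiB, Matrix.transpose_one]
      calc Biᵀ * ((g : Matrix (Fin n) (Fin n) F)ᵀ * Bmᵀ) * (Biᵀ * P * Bi) *
            (Bm * (g : Matrix (Fin n) (Fin n) F) * Bi)
          = Biᵀ * (g : Matrix (Fin n) (Fin n) F)ᵀ * (Bmᵀ * Biᵀ) * P * (Bi * Bm) *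
              (g : Matrix (Fin n) (Fin n) F) * Bi := by simp only [mul_assoc]
        _ = Biᵀ * ((g : Matrix (Fin n) (Fin n) F)ᵀ * P * (g : Matrix (Fin n) (Fin n) F)) * Bi := by
            rw [hBt, hBiB]; simp only [mul_assoc, mul_one, one_mul]
        _ = Biᵀ * P * Bi := by rw [hgP']
    have hslotT : slotMatrix i a =
        (Bm * (g : Matrix (Fin n) (Fin n) F) * Bi).submatrix idx.symm idx.symm := by
      rw [← hconjval, ha, Matrix.reindex_apply, Matrix.submatrix_submatrix]
      simp
    rw [hslotT, hG, Matrix.transpose_submatrix, Matrix.submatrix_mul_equiv,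
      Matrix.submatrix_mul_equiv, hconj]
  have hBidet : IsUnit Bi.det :=
    IsUnit.of_mul_eq_one Bm.det (by rw [← Matrix.det_mul, hBiB, Matrix.det_one])
  have hGn_det : IsUnit Gn.det := by
    rw [hGn, Matrix.det_mul, Matrix.det_mul, Matrix.det_transpose]
    exact (hBidet.mul hPdet).mul hBidet
  obtain ⟨s, t, hst⟩ : ∃ s t, G s t ≠ 0 := by
    by_contra hcon
    push_neg at hcon
    have h0 : Gn = 0 := by
      ext i j
      have := hcon (idx i) (idx j)
      simpa [hG] using this
    haveI : Nonempty (Fin n) := ⟨⟨0, hn0⟩⟩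
    rw [h0, Matrix.det_zero] at hGn_det
    exact not_isUnit_zero hGn_det
  let A : Fin k → Set (Matrix (Fin d) (Fin d) F) := fun i =>
    {a | IsUnit a.det ∧ ∃ g ∈ Qs i,
      ((B * g * B⁻¹ : GL (Fin n) F) : Matrix (Fin n) (Fin n) F) =
        Matrix.reindex idx.symm idx.symm (slotMatrix i a)}
  have hAu : ∀ i, ∀ a ∈ A i, IsUnit a.det := fun i a ha => ha.1
  have hAinv : ∀ i x y, InvUnder (A i) (block i G x y) := by
    rintro i x y a ⟨_, g, hg, hga⟩
    exact block_conj_eq i a G (hGinv i g hg a hga) x y
  have hAspan : ∀ i, ∀ m : Matrix (Fin d) (Fin d) F, m ∈ Submodule.span F (A i) := by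
    intro i a₀
    let z : Fin k → Fin d := idx ⟨0, hn0⟩
    let L : Matrix (Fin n) (Fin n) F →ₗ[F] Matrix (Fin d) (Fin d) F :=
      { toFun := fun m => Matrix.of fun p q =>
          (Bm * m * Bi) (idx.symm (Function.update z i p)) (idx.symm (Function.update z i q))
        map_add' := by
          intro m m'
          ext p q
          simp [mul_add, add_mul, Matrix.add_apply]
        map_smul' := by
          intro c m
          ext p q
          simp [Matrix.mul_smul, Matrix.smul_mul] }
    have hL : ∀ m p q, L m p q =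
        (Bm * m * Bi) (idx.symm (Function.update z i p)) (idx.symm (Function.update z i q)) :=
      fun m p q => rfl
    have hρ : ∀ (a : Matrix (Fin d) (Fin d) F) (p q : Fin d),
        slotMatrix i a (Function.update z i p) (Function.update z i q) = a p q := by
      intro a p q
      simp only [slotMatrix, Function.update_self]
      rw [if_pos]
      intro j hj
      rw [Function.update_of_ne hj, Function.update_of_ne hj]
    have hL1 : ∀ g ∈ Qs i, L (g : Matrix (Fin n) (Fin n) F) ∈ A i := by
      intro g hg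
      obtain ⟨a, ha⟩ := hslot i g hg
      have : L (g : Matrix (Fin n) (Fin n) F) = (a : Matrix (Fin d) (Fin d) F) := by
        ext p q
        rw [hL, ← hconjval, ha, Matrix.reindex_apply, Matrix.submatrix_apply]
        simp only [Equiv.symm_symm, Equiv.apply_symm_apply]
        exact hρ _ p q
      rw [this]
      exact ⟨(Matrix.isUnit_iff_isUnit_det _).1 a.isUnit, g, hg, ha⟩
    have hL2 : L (Bi * Matrix.reindex idx.symm idx.symm (slotMatrix i a₀) * Bm) = a₀ := by
      ext p q
      rw [hL]
      have hcancel : Bm * (Bi * Matrix.reindex idx.symm idx.symm (slotMatrix i a₀) * Bm) * Bi =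
          Matrix.reindex idx.symm idx.symm (slotMatrix i a₀) := by
        calc Bm * (Bi * Matrix.reindex idx.symm idx.symm (slotMatrix i a₀) * Bm) * Bi
            = (Bm * Bi) * Matrix.reindex idx.symm idx.symm (slotMatrix i a₀) * (Bm * Bi) := by
              simp only [mul_assoc]
          _ = _ := by rw [hBBi, one_mul, mul_one]
      rw [hcancel, Matrix.reindex_apply, Matrix.submatrix_apply]
      simp only [Equiv.symm_symm, Equiv.apply_symm_apply]
      exact hρ _ p q
    have hmem := Submodule.apply_mem_span_image_of_mem_span L (hspan i a₀)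
    rw [hL2] at hmem
    refine Submodule.span_mono ?_ hmem
    rintro _ ⟨m, ⟨g, hg, rfl⟩, rfl⟩
    exact hL1 g hg
  obtain ⟨J, hJsym, hJu, hJinv, hprod⟩ :=
    exists_slot_forms' G s t hst A hAu hAspan hAinv
  refine ⟨J, G s t, hst, hJsym, hJu, ?_, ?_⟩
  · intro i x hx a ha
    exact hJinv i (a : Matrix (Fin d) (Fin d) F)
      ⟨(Matrix.isUnit_iff_isUnit_det _).1 a.isUnit, x, hx, ha⟩
  · intro x y
    rw [hform, Finset.mul_sum]
    refine Finset.sum_congr rfl (fun a _ => ?_)
    rw [Finset.mul_sum]
    refine Finset.sum_congr rfl (fun b _ => ?_)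
    rw [hprod a b]
    ring

end N

end Cfsg.Agent.Lib.Helper52.AschOKForm
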