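import Mathlib
import Cfsg.Agent.Lib.Helper85.SqfDefs
import Cfsg.Agent.Lib.Helper1.PCore
import Cfsg.Agent.Lib.Helper1.Fitting

/-!
# Project SQF (helper85, S4130), module SQF-[IDX-M] (helper52)

`pCore_inf_centralizer_eq_of`: `q`-elements `x, x'` not centralising `O_p(G)` (`p ≠ q`) have the same
centraliser in `O_p(G)` — from the statements of [IDX-H] (`inf_centralizer_eq_of_inner_comm`) and
[FDEC] (`fitting_acts_inner`), taken as hypotheses `hH`, `hF` (exact skeleton statements for `G`).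
-/

set_option autoImplicit false

namespace Cfsg.Agent.Lib.Helper52.Sqf

open Cfsg Cfsg.Agent.Lib.Helper85.Sqf
open scoped commutatorElement

section
variable {G : Type*} [Group G]

/-- the statement of [IDX-H] for the group `G` and the prime `p` -/
def IdxHStmt (G : Type*) [Group G] (p : ℕ) : Prop :=
  ∀ (P : Subgroup G) [P.Normal] (_ : IsPGroup p P) (x x' : G)
    (_ : ¬ ∀ v ∈ P, x * v = v * x) (_ : ¬ ∀ v ∈ P, x' * v = v * x')
    (n n' : ℕ) (_ : n.Coprime p) (_ : n'.Coprime p)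
    (_ : ∀ v ∈ P, x ^ n * v = v * x ^ n) (_ : ∀ v ∈ P, x' ^ n' * v = v * x' ^ n')
    (c : G) (_ : c ∈ P)
    (_ : ∀ v ∈ P, (x' * x * x'⁻¹ * x⁻¹) * v * (x' * x * x'⁻¹ * x⁻¹)⁻¹ = c * v * c⁻¹),
    P ⊓ Subgroup.centralizer ({x} : Set G) = P ⊓ Subgroup.centralizer ({x'} : Set G)

/-- the statement of [FDEC] for the group `G` and the prime `p` -/
def FdecStmt (G : Type*) [Group G] (p : ℕ) : Prop :=
  ∀ k : G, k ∈ fittingSubgroup G →
    ∃ a ∈ pCore p G, ∀ v ∈ pCore p G, k * v * k⁻¹ = a * v * a⁻¹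

/-- [IDX-M], from the statements of [IDX-H] and [FDEC] -/
theorem pCore_inf_centralizer_eq_of [Finite G] (h : SqF G)
    (hab : commutator G ≤ fittingSubgroup G) {p q : ℕ} [Fact p.Prime] [Fact q.Prime]
    (hH : IdxHStmt G p) (hF : FdecStmt G p)
    (hpq : p ≠ q) (x x' : G) (hx : ∃ k : ℕ, orderOf x = q ^ k) (hx' : ∃ k : ℕ, orderOf x' = q ^ k)
    (hnx : ¬ ∀ v ∈ pCore p G, x * v = v * x) (hnx' : ¬ ∀ v ∈ pCore p G, x' * v = v * x') :
    pCore p G ⊓ Subgroup.centralizer ({x} : Set G) =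
      pCore p G ⊓ Subgroup.centralizer ({x'} : Set G) := by
  have hp : p.Prime := Fact.out
  have hq : q.Prime := Fact.out
  haveI : (pCore p G).Normal := Cfsg.Agent.Lib.Helper1.pCore_normal p
  have hcop : ∀ k : ℕ, (q ^ k).Coprime p :=
    fun k => Nat.Coprime.pow_left k ((Nat.coprime_primes hq hp).mpr (Ne.symm hpq))
  obtain ⟨k, hk⟩ := hx
  obtain ⟨k', hk'⟩ := hx'
  have hmem : x' * x * x'⁻¹ * x⁻¹ ∈ fittingSubgroup G := by
    apply hab
    have h1 : ⁅x', x⁆ ∈ ⁅(⊤ : Subgroup G), ⊤⁆ :=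
      Subgroup.commutator_mem_commutator (Subgroup.mem_top x') (Subgroup.mem_top x)
    rw [commutatorElement_def] at h1
    exact h1
  obtain ⟨c, hc, hcv⟩ := hF _ hmem
  refine hH (pCore p G) (Cfsg.Agent.Lib.Helper1.pCore_isPGroup p) x x' hnx hnx' (orderOf x)
    (orderOf x') (hk ▸ hcop k) (hk' ▸ hcop k') ?_ ?_ c hc hcv
  · intro v _
    rw [pow_orderOf_eq_one, one_mul, mul_one]
  · intro v _
    rw [pow_orderOf_eq_one, one_mul, mul_one]

end

end Cfsg.Agent.Lib.Helper52.Sqf
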