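import Mathlib
import Cfsg.Agent.Lib.Helper52.SqfIdxM
import Cfsg.Agent.Lib.Helper36.SqfIdxH
import Cfsg.Agent.Lib.Helper1.SqfFDec

/-!
# Project SQF (helper85, S4130), module SQF-[IDX-M], exact form (helper52)

`pCore_inf_centralizer_eq`: the exact skeleton statement, from `pCore_inf_centralizer_eq_of` with
[IDX-H] (helper36) and [FDEC] (helper1).
-/

set_option autoImplicit false

namespace Cfsg.Agent.Lib.Helper52.Sqf

open Cfsg Cfsg.Agent.Lib.Helper85.Sqf

section
variable {G : Type*} [Group G]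

/-- [IDX-M] -/
theorem pCore_inf_centralizer_eq [Finite G] (h : SqF G)
    (hab : commutator G ≤ fittingSubgroup G) {p q : ℕ} [Fact p.Prime] [Fact q.Prime]
    (hpq : p ≠ q) (x x' : G) (hx : ∃ k : ℕ, orderOf x = q ^ k) (hx' : ∃ k : ℕ, orderOf x' = q ^ k)
    (hnx : ¬ ∀ v ∈ pCore p G, x * v = v * x) (hnx' : ¬ ∀ v ∈ pCore p G, x' * v = v * x') :
    pCore p G ⊓ Subgroup.centralizer ({x} : Set G) =
      pCore p G ⊓ Subgroup.centralizer ({x'} : Set G) :=
  pCore_inf_centralizer_eq_of h hab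
    (fun P _ hP x x' hx hx' n n' hn hn' hxn hxn' c hc hcomm =>
      Cfsg.Agent.Lib.Helper36.Sqf.inf_centralizer_eq_of_inner_comm h P hP x x' hx hx' n n' hn hn'
        hxn hxn' c hc hcomm)
    (fun k hk => Cfsg.Agent.Lib.Helper1.Sqf.fitting_acts_inner p k hk) hpq x x' hx hx' hnx hnx'

end

end Cfsg.Agent.Lib.Helper52.Sqf
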