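import Mathlib
import Cfsg.Agent.Lib.Helper85.SqfDefs
import Cfsg.Agent.Lib.Helper52.SqfInh
import Cfsg.Agent.Lib.Helper1.MinimalNormal
import Cfsg.Agent.Lib.Helper9.SS
import Cfsg.Agent.Lib.Helper9.SS3

/-!
# Project SQF (helper85, S4130), module SQF-[SS] (helper52)

`isSupersolvable_of_sqF_of`: a finite solvable group with squarefree class sizes is supersolvable, from the
statement of [MIN] (`card_minimal_normal_prime`: minimal normal subgroups have prime order), taken as
the hypothesis `hMIN` (exact skeleton statement, universe `u`).  Strong induction on `|G|`; [INH-S] for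
the quotient.
-/

set_option autoImplicit false

universe u

namespace Cfsg.Agent.Lib.Helper52.Sqf

open Cfsg Cfsg.Agent.Lib.Helper85.Sqf

/-- the statement of [MIN] in universe `u` -/
def MinStmt : Prop :=
  ∀ (G : Type u) [Group G] [Finite G] [Group.IsSolvable G], SqF G →
    ∀ (N : Subgroup G) [N.Normal], N ≠ ⊥ →
      (∀ M : Subgroup G, M.Normal → M ≤ N → M = ⊥ ∨ M = N) → (Nat.card N).Prime

theorem isSupersolvable_of_sqF_aux (hMIN : MinStmt.{u}) : ∀ n : ℕ,
    ∀ (G : Type u) [Group G] [Finite G] [Group.IsSolvable G],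
    Nat.card G = n → SqF G → Cfsg.IsSupersolvable G := by
  intro n
  induction n using Nat.strong_induction_on with
  | _ n ih =>
  intro G _ _ _ hn h
  by_cases h1 : Nat.card G = 1
  · have : Subsingleton G := (Nat.card_eq_one_iff_unique.mp h1).1
    exact Cfsg.Agent.Lib.Helper9.isSupersolvable_of_subsingleton
  have hnt : Nontrivial G := by
    rw [← Finite.one_lt_card_iff_nontrivial]
    have : 0 < Nat.card G := Nat.card_pos
    omega
  obtain ⟨R, hRn, hR1, -, hRmin⟩ :=
    Cfsg.Agent.Lib.Helper1.exists_minimal_normal_le (⊤ : Subgroup G) inferInstance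
      (by exact top_ne_bot)
  haveI := hRn
  have hprime : (Nat.card R).Prime := hMIN G h R hR1 hRmin
  haveI : Fact (Nat.card R).Prime := ⟨hprime⟩
  haveI : IsCyclic R := isCyclic_of_prime_card rfl
  have hquot : Cfsg.IsSupersolvable (G ⧸ R) := by
    apply ih (Nat.card (G ⧸ R)) _ (G ⧸ R) rfl
      (SqF.of_surjective h (QuotientGroup.mk' R) (QuotientGroup.mk'_surjective R))
    rw [← hn, ← Subgroup.index_eq_card, ← R.index_mul_card]
    have h0 : 0 < R.index := Nat.pos_of_ne_zero Subgroup.index_ne_zero_of_finite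
    have h2 : 2 ≤ Nat.card R := hprime.two_le
    nlinarith
  exact Cfsg.Agent.Lib.Helper9.isSupersolvable_of_quotient_cyclic R hquot

/-- [SS], from the statement of [MIN] -/
theorem isSupersolvable_of_sqF_of (hMIN : MinStmt.{u}) {G : Type u} [Group G] [Finite G]
    [Group.IsSolvable G] (h : SqF G) : Cfsg.IsSupersolvable G :=
  isSupersolvable_of_sqF_aux hMIN (Nat.card G) G rfl h

end Cfsg.Agent.Lib.Helper52.Sqf
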