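import Cfsg.Agent.Lib.Helper52.SqfSS
import Cfsg.Agent.Lib.Helper84.SqfMin

/-!
# PROJECT SQF (helper85), module SQF-[SS] (helper52), EXACT form

`isSupersolvable_of_sqF` : a finite solvable group all of whose conjugacy class sizes are
squarefree is supersolvable.  [MIN] (helper84 `card_minimal_normal_prime`) plugged into
`isSupersolvable_of_sqF_of`.
-/

set_option autoImplicit false

universe u

namespace Cfsg.Agent.Lib.Helper52.Sqf

open Cfsg Cfsg.Agent.Lib.Helper85.Sqf

/-- [SS] -/
theorem isSupersolvable_of_sqF {G : Type u} [Group G] [Finite G] [Group.IsSolvable G]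
    (h : SqF G) : Cfsg.IsSupersolvable G :=
  isSupersolvable_of_sqF_of
    (fun _ _ _ _ h N _ hN hmin =>
      Cfsg.Agent.Lib.Helper84.Sqf.card_minimal_normal_prime h N hN hmin) h

end Cfsg.Agent.Lib.Helper52.Sqf
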