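import Cfsg.Agent.Lib.Helper52.TIFNLocal

/-!
# Exceptional characters of two abelian T.I. subgroups with Frobenius normalizers and no fusion
-/

set_option autoImplicit false
set_option linter.unusedSectionVars false
set_option linter.style.haveILetI false

namespace Cfsg.Agent.Lib.Helper52

open Cfsg Cfsg.Agent.Lib.Helper74 Cfsg.Agent.Lib.Helper78 Cfsg.Agent.Lib.Helper75
open scoped ComplexConjugate

universe u

section Cross

variable {G : Type u} [Group G] [Fintype G] {K K' : Subgroup G}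
variable [Fintype ↥(Subgroup.normalizer (K : Set G))]
variable [Fintype ↥(Subgroup.normalizer (K' : Set G))]

theorem relSub_supp
    (hC : ∀ k ∈ K, k ≠ 1 → Subgroup.centralizer ({k} : Set G) ≤ K)
    (hab : ∀ a ∈ K, ∀ b ∈ K, a * b = b * a) (χ ξ : RelChar K) {g : G}
    (hg : indFun (Subgroup.normalizer (K : Set G))
      ((χ.1 : ↥(Subgroup.normalizer (K : Set G)) → ℂ) -
        (ξ.1 : ↥(Subgroup.normalizer (K : Set G)) → ℂ)) g ≠ 0) :
    ∃ k ∈ K, k ≠ 1 ∧ ∃ x : G, x⁻¹ * g * x = k := by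
  apply indFun_supp _ _ hg
  · intro x hx
    rw [Pi.sub_apply, relChar_vanish hC χ x hx, relChar_vanish hC ξ x hx, sub_zero]
  · rw [Pi.sub_apply, relChar_apply_one hC hab χ, relChar_apply_one hC hab ξ, sub_self]

theorem sum_mult_mul_cross
    (hnf : ∀ g : G, ∀ k ∈ K, g * k * g⁻¹ ∈ K' → k = 1)
    (hC : ∀ k ∈ K, k ≠ 1 → Subgroup.centralizer ({k} : Set G) ≤ K)
    (hab : ∀ a ∈ K, ∀ b ∈ K, a * b = b * a)
    (hC' : ∀ k ∈ K', k ≠ 1 → Subgroup.centralizer ({k} : Set G) ≤ K')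
    (hab' : ∀ a ∈ K', ∀ b ∈ K', a * b = b * a) (ζ : RelChar K) (ζ' : RelChar K') :
    ∑ ψ : IrrCharacter G, mult ζ ψ * mult ζ' ψ = 0 := by
  have h := classInner_eq_sum_mul_conj (gammaK ζ') (gammaK_isClassFunction ζ)
  rw [classInner_eq_zero_of_supp hnf (fun g hg => gammaK_supp hC hab ζ hg)
    (fun g hg => gammaK_supp hC' hab' ζ' hg)] at h
  have h2 : ∑ ψ : IrrCharacter G, classInner (gammaK ζ) (ψ : G → ℂ) *
      conj (classInner (gammaK ζ') (ψ : G → ℂ)) =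
      ((∑ ψ : IrrCharacter G, mult ζ ψ * mult ζ' ψ : ℤ) : ℂ) := by
    push_cast
    apply Finset.sum_congr rfl
    intro ψ _
    rw [mult_spec, mult_spec, map_intCast]
  rw [h2] at h
  exact_mod_cast h.symm

theorem mult_cross_const
    (hnf : ∀ g : G, ∀ k ∈ K, g * k * g⁻¹ ∈ K' → k = 1)
    (hC : ∀ k ∈ K, k ≠ 1 → Subgroup.centralizer ({k} : Set G) ≤ K)
    (hab : ∀ a ∈ K, ∀ b ∈ K, a * b = b * a)
    (hC' : ∀ k ∈ K', k ≠ 1 → Subgroup.centralizer ({k} : Set G) ≤ K')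
    (hab' : ∀ a ∈ K', ∀ b ∈ K', a * b = b * a) (ζ : RelChar K) (D' : ExcData K')
    (χ' ξ' : RelChar K') : mult ζ (D'.f χ') = mult ζ (D'.f ξ') := by
  have h := classInner_eq_zero_of_supp hnf (fun g hg => gammaK_supp hC hab ζ hg)
    (fun g hg => relSub_supp hC' hab' χ' ξ' hg)
  rw [D'.hind, classInner_smul_right, Cfsg.Agent.Lib.Helper26.classInner_sub_right, mult_spec,
    mult_spec] at h
  rcases mul_eq_zero.mp h with h | h
  · exfalso
    rw [D'.conj_ε] at h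
    exact D'.ε_ne_zero h
  · have := sub_eq_zero.mp h
    exact_mod_cast this

theorem exc_ne_exc (hodd : Odd (Nat.card G))
    (hnf : ∀ g : G, ∀ k ∈ K, g * k * g⁻¹ ∈ K' → k = 1)
    (hC : ∀ k ∈ K, k ≠ 1 → Subgroup.centralizer ({k} : Set G) ≤ K)
    (hab : ∀ a ∈ K, ∀ b ∈ K, a * b = b * a) (hK : K ≠ ⊥)
    (hC' : ∀ k ∈ K', k ≠ 1 → Subgroup.centralizer ({k} : Set G) ≤ K')
    (hab' : ∀ a ∈ K', ∀ b ∈ K', a * b = b * a) (hK' : K' ≠ ⊥) (D : ExcData K) (D' : ExcData K')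
    (χ : RelChar K) (χ' : RelChar K') : D.f χ ≠ D'.f χ' := by
  intro heq
  obtain ⟨ξ, hξ⟩ := exists_relChar_ne hodd hC hab hK D χ
  obtain ⟨ξ', hξ'⟩ := exists_relChar_ne hodd hC' hab' hK' D' χ'
  have h := classInner_eq_zero_of_supp hnf (fun g hg => relSub_supp hC hab χ ξ hg)
    (fun g hg => relSub_supp hC' hab' χ' ξ' hg)
  rw [D.hind, D'.hind, classInner_smul_left, classInner_smul_right,
    Cfsg.Agent.Lib.Helper26.classInner_sub_left, Cfsg.Agent.Lib.Helper26.classInner_sub_right,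
    Cfsg.Agent.Lib.Helper26.classInner_sub_right, classInner_irr_irr, classInner_irr_irr,
    classInner_irr_irr, classInner_irr_irr, if_pos heq] at h
  have h1 : ¬ D.f χ = D'.f ξ' := fun h' => hξ' (D'.hf (h'.symm.trans heq))
  have h2 : ¬ D.f ξ = D'.f χ' := fun h' => hξ (D.hf (h'.trans heq.symm))
  rw [if_neg h1, if_neg h2] at h
  rcases mul_eq_zero.mp h with h | h
  · exact D.ε_ne_zero h
  rcases mul_eq_zero.mp h with h | h
  · rw [D'.conj_ε] at h
    exact D'.ε_ne_zero h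
  · split_ifs at h <;> norm_num at h

theorem excSet_disjoint (hodd : Odd (Nat.card G))
    (hnf : ∀ g : G, ∀ k ∈ K, g * k * g⁻¹ ∈ K' → k = 1)
    (hC : ∀ k ∈ K, k ≠ 1 → Subgroup.centralizer ({k} : Set G) ≤ K)
    (hab : ∀ a ∈ K, ∀ b ∈ K, a * b = b * a) (hK : K ≠ ⊥)
    (hC' : ∀ k ∈ K', k ≠ 1 → Subgroup.centralizer ({k} : Set G) ≤ K')
    (hab' : ∀ a ∈ K', ∀ b ∈ K', a * b = b * a) (hK' : K' ≠ ⊥) (D : ExcData K) (D' : ExcData K') :
    Disjoint (excSet D) (excSet D') := by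
  rw [Finset.disjoint_left]
  intro ψ h1 h2
  rw [mem_excSet] at h1 h2
  obtain ⟨χ, rfl⟩ := h1
  obtain ⟨χ', h'⟩ := h2
  exact exc_ne_exc hodd hnf hC hab hK hC' hab' hK' D D' χ χ' h'.symm

end Cross

end Cfsg.Agent.Lib.Helper52
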