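import Cfsg.Agent.Lib.Helper52.TIFNSum
import Cfsg.Agent.Lib.Helper74.OddOrder
import Cfsg.Agent.S0851

/-!
# Exceptional characters of an abelian T.I. subgroup with Frobenius normalizer: the data
`(ε, f)` and its closure under complex conjugation
-/

set_option autoImplicit false
set_option linter.unusedSectionVars false
set_option linter.style.haveILetI false

namespace Cfsg.Agent.Lib.Helper52

open Cfsg Cfsg.Agent.Lib.Helper74 Cfsg.Agent.Lib.Helper78 Cfsg.Agent.Lib.Helper75
open scoped ComplexConjugate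

universe u

section TIFN

variable {G : Type u} [Group G] [Fintype G]

/-- complex conjugation commutes with induction -/
theorem conj_indFun (H : Subgroup G) (θ : H → ℂ) (g : G) :
    conj (indFun H θ g) = indFun H (fun h => conj (θ h)) g := by
  unfold indFun
  rw [map_mul, map_inv₀, map_natCast, map_sum]
  congr 1
  apply Finset.sum_congr rfl
  intro x _
  by_cases hx : x⁻¹ * g * x ∈ H
  · rw [extendByZero_of_mem H θ hx, extendByZero_of_mem H _ hx]
  · rw [extendByZero_of_not_mem H θ hx, extendByZero_of_not_mem H _ hx, map_zero]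

/-- if `a - b = c - d` for irreducible characters with `c ≠ d` then `a = c` -/
theorem irr_eq_of_sub_eq_sub (a b c d : IrrCharacter G) (hcd : c ≠ d)
    (h : (a : G → ℂ) - (b : G → ℂ) = (c : G → ℂ) - (d : G → ℂ)) : a = c := by
  have h1 := congrArg (fun F => classInner F (c : G → ℂ)) h
  simp only [Cfsg.Agent.Lib.Helper26.classInner_sub_left, classInner_irr_irr] at h1
  have hdc : ¬ d = c := fun h' => hcd h'.symm
  by_contra hac
  simp only [if_true, if_neg hdc, if_neg hac] at h1
  split_ifs at h1 <;> norm_num at h1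

variable {K : Subgroup G}

local notation "NK" => Subgroup.normalizer (K : Set G)

variable (K) in
/-- the exceptional characters attached to `K` -/
structure ExcData where
  /-- the sign -/
  ε : ℂ
  /-- the map to the exceptional characters -/
  f : RelChar K → IrrCharacter G
  hε : ε = 1 ∨ ε = -1
  hf : Function.Injective f
  hind : ∀ χ ξ : RelChar K, indFun NK ((χ.1 : ↥NK → ℂ) - (ξ.1 : ↥NK → ℂ)) =
      ε • ((f χ : G → ℂ) - (f ξ : G → ℂ))

theorem index_odd (hodd : Odd (Nat.card G)) : Odd (K.subgroupOf NK).index := by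
  have h1 : (K.subgroupOf NK).index ∣ Nat.card ↥NK := Subgroup.index_dvd_card _
  have h2 : Nat.card ↥NK ∣ Nat.card G := Subgroup.card_subgroup_dvd_card _
  exact Odd.of_dvd_nat hodd (h1.trans h2)

theorem card_odd (hodd : Odd (Nat.card G)) : Odd (Nat.card K) :=
  Odd.of_dvd_nat hodd (Subgroup.card_subgroup_dvd_card _)

theorem two_le_index (hlt : K < NK) : 2 ≤ (K.subgroupOf NK).index := by
  have h0 : (K.subgroupOf NK).index ≠ 0 := Subgroup.index_ne_zero_of_finite
  have h1 : (K.subgroupOf NK).index ≠ 1 := by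
    intro h
    rw [Subgroup.index_eq_one, Subgroup.subgroupOf_eq_top] at h
    exact lt_irrefl _ (lt_of_lt_of_le hlt h)
  omega

theorem exists_excData (hodd : Odd (Nat.card G))
    (hTI : ∀ g : G, g ∉ NK → ∀ k ∈ K, g * k * g⁻¹ ∈ K → k = 1) (hlt : K < NK)
    (hC : ∀ k ∈ K, k ≠ 1 → Subgroup.centralizer ({k} : Set G) ≤ K)
    (hab : ∀ a ∈ K, ∀ b ∈ K, a * b = b * a) : Nonempty (ExcData K) := by
  rcases Cfsg.Agent.S0851.result K hTI hlt hC hab with ⟨_, p, _, _, hcard⟩ | ⟨ε, f, hε, hf, hind⟩
  · exfalso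
    have h1 := card_odd (K := K) hodd
    have h2 := index_odd (K := K) hodd
    rw [hcard] at h1
    rcases h1 with ⟨m, hm⟩
    rcases h2 with ⟨n, hn⟩
    omega
  · exact ⟨⟨ε, f, hε, hf, hind⟩⟩

variable [Fintype ↥(Subgroup.normalizer (K : Set G))]

theorem relChar_card (hodd : Odd (Nat.card G))
    (hC : ∀ k ∈ K, k ≠ 1 → Subgroup.centralizer ({k} : Set G) ≤ K)
    (hab : ∀ a ∈ K, ∀ b ∈ K, a * b = b * a) (hK : K ≠ ⊥) :
    Even (Nat.card (RelChar K)) ∧ 2 ≤ Nat.card (RelChar K) := by
  have h := card_relChar_mul_index hC hab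
  have h1 := card_odd (K := K) hodd
  have h2 := index_odd (K := K) hodd
  have h3 : 1 < Nat.card K := by
    rw [Subgroup.one_lt_card_iff_ne_bot]
    exact hK
  have heven : Even (Nat.card (RelChar K)) := by
    by_contra hne
    rw [Nat.not_even_iff_odd] at hne
    have := hne.mul h2
    rw [← h] at h1
    rcases this with ⟨m, hm⟩
    rcases h1 with ⟨n, hn⟩
    omega
  refine ⟨heven, ?_⟩
  rcases heven with ⟨m, hm⟩
  have : Nat.card (RelChar K) ≠ 0 := by
    intro h0
    rw [h0] at h
    omega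
  omega

/-- the complex conjugate of a relevant character -/
noncomputable def conjRel (χ : RelChar K) : RelChar K :=
  ⟨conjIrrChar χ.1, by
    obtain ⟨k, hk, hne⟩ := χ.2
    refine ⟨k, hk, ?_⟩
    intro h
    apply hne
    exact (starRingEnd ℂ).injective h⟩

theorem conjRel_apply (χ : RelChar K) (x : ↥NK) :
    ((conjRel χ).1 : ↥NK → ℂ) x = conj ((χ.1 : ↥NK → ℂ) x) := rfl

theorem conjRel_injective : Function.Injective (conjRel (K := K)) := by
  intro χ ξ h
  apply Subtype.ext
  apply Subtype.ext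
  funext x
  have := congrArg (fun θ : RelChar K => (θ.1 : ↥NK → ℂ) x) h
  simp only [conjRel_apply] at this
  exact (starRingEnd ℂ).injective this

/-- the set of exceptional characters is closed under complex conjugation -/
theorem ExcData.f_conjRel (D : ExcData K) (hodd : Odd (Nat.card G))
    (hC : ∀ k ∈ K, k ≠ 1 → Subgroup.centralizer ({k} : Set G) ≤ K)
    (hab : ∀ a ∈ K, ∀ b ∈ K, a * b = b * a) (hK : K ≠ ⊥) (χ : RelChar K) :
    D.f (conjRel χ) = conjIrrChar (D.f χ) := by
  classical
  haveI : Finite (RelChar K) := Finite.of_injective D.f D.hf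
  obtain ⟨ξ, hξ⟩ : ∃ ξ : RelChar K, ξ ≠ χ := by
    by_contra hcon
    push Not at hcon
    have : Nat.card (RelChar K) ≤ 1 := by
      rw [Finite.card_le_one_iff_subsingleton]
      exact ⟨fun a b => (hcon a).trans (hcon b).symm⟩
    have := (relChar_card hodd hC hab hK).2
    omega
  have hε0 : D.ε ≠ 0 := by
    rcases D.hε with h | h <;> rw [h] <;> norm_num
  have hεc : conj D.ε = D.ε := by rcases D.hε with h | h <;> rw [h] <;> simp
  have h1 := D.hind (conjRel χ) (conjRel ξ)
  have h2 : indFun NK (((conjRel χ).1 : ↥NK → ℂ) - ((conjRel ξ).1 : ↥NK → ℂ)) =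
      D.ε • (((conjIrrChar (D.f χ) : IrrCharacter G) : G → ℂ) -
        ((conjIrrChar (D.f ξ) : IrrCharacter G) : G → ℂ)) := by
    funext g
    have h3 := conj_indFun NK ((χ.1 : ↥NK → ℂ) - (ξ.1 : ↥NK → ℂ)) g
    rw [D.hind χ ξ] at h3
    have h4 : (fun h : ↥NK => conj (((χ.1 : ↥NK → ℂ) - (ξ.1 : ↥NK → ℂ)) h)) =
        ((conjRel χ).1 : ↥NK → ℂ) - ((conjRel ξ).1 : ↥NK → ℂ) := by
      funext h
      simp only [Pi.sub_apply, map_sub, conjRel_apply]
    rw [h4] at h3
    rw [← h3]
    simp only [Pi.smul_apply, Pi.sub_apply, smul_eq_mul, map_mul, map_sub, hεc]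
    rfl
  rw [h1] at h2
  have h5 : (D.f (conjRel χ) : G → ℂ) - (D.f (conjRel ξ) : G → ℂ) =
      ((conjIrrChar (D.f χ) : IrrCharacter G) : G → ℂ) -
        ((conjIrrChar (D.f ξ) : IrrCharacter G) : G → ℂ) := by
    funext g
    have := congrFun h2 g
    simp only [Pi.smul_apply, smul_eq_mul] at this
    exact mul_left_cancel₀ hε0 this
  apply irr_eq_of_sub_eq_sub _ _ _ _ _ h5
  intro h
  have h6 := congrArg conjIrrChar h
  rw [conjIrrChar_conjIrrChar, conjIrrChar_conjIrrChar] at h6
  exact hξ (D.hf h6).symm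

end TIFN

end Cfsg.Agent.Lib.Helper52
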