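import Cfsg.Agent.Lib.Helper52.TIFNGamma

/-!
# Exceptional characters of an abelian T.I. subgroup with Frobenius normalizer: values on `K#`
-/

set_option autoImplicit false
set_option linter.unusedSectionVars false
set_option linter.style.haveILetI false

namespace Cfsg.Agent.Lib.Helper52

open Cfsg Cfsg.Agent.Lib.Helper74 Cfsg.Agent.Lib.Helper78 Cfsg.Agent.Lib.Helper75
open scoped ComplexConjugate

universe u

section TIFN

variable {G : Type u} [Group G] [Fintype G] {K : Subgroup G}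

local notation "NK" => Subgroup.normalizer (K : Set G)

variable [Fintype ↥(Subgroup.normalizer (K : Set G))]

/-- a class function of `N` with equal multiplicities on all relevant characters is constant on
`K#` -/
theorem const_on_K_of_eq_mult
    (hC : ∀ k ∈ K, k ≠ 1 → Subgroup.centralizer ({k} : Set G) ≤ K)
    (hab : ∀ a ∈ K, ∀ b ∈ K, a * b = b * a) (ζ : RelChar K)
    {γ : ↥NK → ℂ} (hγ : IsClassFunction ↥NK γ)
    (hmult : ∀ χ ξ : RelChar K, classInner γ (χ.1 : ↥NK → ℂ) = classInner γ (ξ.1 : ↥NK → ℂ)) :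
    ∃ v : ℂ, ∀ x : ↥NK, (x : G) ∈ K → x ≠ 1 → γ x = v := by
  classical
  have hdeg : ∀ χ : ↥NK → ℂ, χ ∈ tifnS K →
      (charDegree χ : ℂ) = ((K.subgroupOf NK).index : ℂ) := by
    intro χ hχ
    rw [← IsCharacter.apply_one_eq_charDegree (IsIrrCharacter.isCharacter hχ.1)]
    exact relChar_apply_one hC hab ⟨⟨χ, hχ.1⟩, hχ.2⟩
  have hprop : ∀ χ ∈ tifnS K, ∀ ξ ∈ tifnS K, classInner γ (tifnBeta χ ξ) = 0 := by
    intro χ hχ ξ hξ
    rw [classInner_tifnBeta_right, hdeg χ hχ, hdeg ξ hξ,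
      hmult ⟨⟨χ, hχ.1⟩, hχ.2⟩ ⟨⟨ξ, hξ.1⟩, hξ.2⟩]
    ring
  refine ⟨_, fun x hx hx1 => tifn_value_on_K hγ hprop ζ.mem_tifnS x hx hx1⟩

variable (ε : ℂ) (f : RelChar K → IrrCharacter G)

/-- Frobenius reciprocity against differences of relevant characters -/
theorem classInner_res_sub
    (hind : ∀ χ ξ : RelChar K, indFun NK ((χ.1 : ↥NK → ℂ) - (ξ.1 : ↥NK → ℂ)) =
      ε • ((f χ : G → ℂ) - (f ξ : G → ℂ)))
    {ψ : G → ℂ} (hψ : IsClassFunction G ψ) (χ ξ : RelChar K) :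
    classInner (fun x : ↥NK => ψ x) (χ.1 : ↥NK → ℂ) -
      classInner (fun x : ↥NK => ψ x) (ξ.1 : ↥NK → ℂ) =
      conj ε * (classInner ψ (f χ : G → ℂ) - classInner ψ (f ξ : G → ℂ)) := by
  rw [← Cfsg.Agent.Lib.Helper26.classInner_sub_right, ← frobenius_reciprocity' NK _ hψ, hind,
    classInner_smul_right, Cfsg.Agent.Lib.Helper26.classInner_sub_right]

theorem classInner_irr_irr (ψ φ : IrrCharacter G) :
    classInner (ψ : G → ℂ) (φ : G → ℂ) = if ψ = φ then 1 else 0 := by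
  rw [classInner_irr ψ.2 φ.2]
  by_cases h : ψ = φ
  · rw [if_pos h, if_pos (by rw [h])]
  · rw [if_neg h, if_neg (fun h' => h (Subtype.ext h'))]

/-- an irreducible character of `G` outside the range of `f` is constant on `K#`, with integer
value equal to its multiplicity in `Γ` -/
theorem const_of_not_mem_range
    (hC : ∀ k ∈ K, k ≠ 1 → Subgroup.centralizer ({k} : Set G) ≤ K)
    (hab : ∀ a ∈ K, ∀ b ∈ K, a * b = b * a) (ζ : RelChar K)
    (hind : ∀ χ ξ : RelChar K, indFun NK ((χ.1 : ↥NK → ℂ) - (ξ.1 : ↥NK → ℂ)) =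
      ε • ((f χ : G → ℂ) - (f ξ : G → ℂ)))
    (ψ : IrrCharacter G) (hψ : ∀ χ : RelChar K, f χ ≠ ψ) :
    ∃ n : ℤ, (∀ x : ↥NK, (x : G) ∈ K → x ≠ 1 → (ψ : G → ℂ) x = n) ∧
      classInner (gammaK ζ) (ψ : G → ℂ) = n := by
  have hcl := isClassFunction_irr ψ
  have hmult : ∀ χ ξ : RelChar K,
      classInner (fun x : ↥NK => (ψ : G → ℂ) x) (χ.1 : ↥NK → ℂ) =
        classInner (fun x : ↥NK => (ψ : G → ℂ) x) (ξ.1 : ↥NK → ℂ) := by
    intro χ ξ
    have h := classInner_res_sub ε f hind hcl χ ξ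
    rw [classInner_irr_irr, classInner_irr_irr, if_neg (fun h => hψ χ h.symm),
      if_neg (fun h => hψ ξ h.symm), sub_zero, mul_zero] at h
    exact sub_eq_zero.mp h
  obtain ⟨v, hv⟩ := const_on_K_of_eq_mult hC hab ζ (isClassFunction_res NK hcl) hmult
  obtain ⟨n, hn⟩ := gammaK_int ζ ψ
  have h1 : classInner (gammaK ζ) (ψ : G → ℂ) = conj v := by
    rw [classInner_gammaK ζ hcl]
    exact classInner_betaK_of_const hC hab ζ hv
  have hvn : v = n := by
    have : conj v = (n : ℂ) := by rw [← h1, hn]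
    have h2 := congrArg conj this
    rw [Complex.conj_conj] at h2
    rw [h2]
    simp
  refine ⟨n, fun x hx hx1 => ?_, hn⟩
  rw [← hvn]
  exact hv x hx hx1

end TIFN

end Cfsg.Agent.Lib.Helper52
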