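import Cfsg.Agent.Lib.Helper52.TIFNBasic

/-!
# The class function `Γ = Ind (ρ - ζ)` attached to an abelian T.I. subgroup with Frobenius normalizer
-/

set_option autoImplicit false
set_option linter.unusedSectionVars false
set_option linter.style.haveILetI false

namespace Cfsg.Agent.Lib.Helper52

open Cfsg Cfsg.Agent.Lib.Helper74 Cfsg.Agent.Lib.Helper78 Cfsg.Agent.Lib.Helper75
open scoped ComplexConjugate

universe u

section TIFN

variable {G : Type u} [Group G] [Fintype G] {K : Subgroup G}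

local notation "NK" => Subgroup.normalizer (K : Set G)

variable [Fintype ↥(Subgroup.normalizer (K : Set G))]

/-- `β = ρ - ζ` -/
noncomputable def betaK (ζ : RelChar K) : ↥NK → ℂ := rhoK K - (ζ.1 : ↥NK → ℂ)

theorem betaK_isClassFunction (ζ : RelChar K) : IsClassFunction ↥NK (betaK ζ) :=
  isClassFunction_sub rhoK_isClassFunction (isClassFunction_irr ζ.1)

theorem betaK_vanish (hC : ∀ k ∈ K, k ≠ 1 → Subgroup.centralizer ({k} : Set G) ≤ K)
    (ζ : RelChar K) (x : ↥NK) (hx : (x : G) ∉ K) : betaK ζ x = 0 := by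
  unfold betaK
  rw [Pi.sub_apply, rhoK_apply_not_mem x hx, relChar_vanish hC ζ x hx, sub_zero]

theorem betaK_one (hC : ∀ k ∈ K, k ≠ 1 → Subgroup.centralizer ({k} : Set G) ≤ K)
    (hab : ∀ a ∈ K, ∀ b ∈ K, a * b = b * a) (ζ : RelChar K) : betaK ζ 1 = 0 := by
  unfold betaK
  rw [Pi.sub_apply, rhoK_apply_mem (1 : ↥NK) K.one_mem, relChar_apply_one hC hab ζ, sub_self]

theorem classInner_betaK_one (ζ : RelChar K) :
    classInner (betaK ζ) (fun _ : ↥NK => (1 : ℂ)) = 1 := by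
  unfold betaK
  rw [Cfsg.Agent.Lib.Helper26.classInner_sub_left, classInner_rhoK_one,
    relChar_classInner_one, sub_zero]

theorem classInner_relChar_relChar (χ ξ : RelChar K) :
    classInner (χ.1 : ↥NK → ℂ) (ξ.1 : ↥NK → ℂ) = if χ = ξ then 1 else 0 := by
  rw [classInner_irr χ.1.2 ξ.1.2]
  by_cases h : χ = ξ
  · rw [if_pos h, if_pos (by rw [h])]
  · rw [if_neg h, if_neg (fun h' => h (Subtype.ext (Subtype.ext h')))]

theorem classInner_betaK_relChar
    (hC : ∀ k ∈ K, k ≠ 1 → Subgroup.centralizer ({k} : Set G) ≤ K) (ζ χ : RelChar K) :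
    classInner (betaK ζ) (χ.1 : ↥NK → ℂ) = if ζ = χ then -1 else 0 := by
  unfold betaK
  rw [Cfsg.Agent.Lib.Helper26.classInner_sub_left, classInner_rhoK_relChar hC,
    classInner_relChar_relChar]
  split_ifs <;> simp

theorem classInner_relChar_rhoK
    (hC : ∀ k ∈ K, k ≠ 1 → Subgroup.centralizer ({k} : Set G) ≤ K) (χ : RelChar K) :
    classInner (χ.1 : ↥NK → ℂ) (rhoK K) = 0 := by
  rw [← classInner_conj_symm, classInner_rhoK_relChar hC, map_zero]

theorem classInner_betaK_betaK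
    (hC : ∀ k ∈ K, k ≠ 1 → Subgroup.centralizer ({k} : Set G) ≤ K) (ζ : RelChar K) :
    classInner (betaK ζ) (betaK ζ) = ((K.subgroupOf NK).index : ℂ) + 1 := by
  have h1 : classInner (betaK ζ) (betaK ζ) =
      classInner (betaK ζ) (rhoK K) - classInner (betaK ζ) (ζ.1 : ↥NK → ℂ) := by
    conv_lhs => rw [show betaK ζ = rhoK K - (ζ.1 : ↥NK → ℂ) from rfl]
    rw [Cfsg.Agent.Lib.Helper26.classInner_sub_right]
    rfl
  rw [h1, classInner_betaK_relChar hC, if_pos rfl]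
  unfold betaK
  rw [Cfsg.Agent.Lib.Helper26.classInner_sub_left, classInner_rhoK_rhoK,
    classInner_relChar_rhoK hC]
  ring

/-- the inner product of `β` with a function constant on `K#` -/
theorem classInner_betaK_of_const
    (hC : ∀ k ∈ K, k ≠ 1 → Subgroup.centralizer ({k} : Set G) ≤ K)
    (hab : ∀ a ∈ K, ∀ b ∈ K, a * b = b * a) (ζ : RelChar K)
    {f : ↥NK → ℂ} {c : ℂ} (hf : ∀ x : ↥NK, (x : G) ∈ K → x ≠ 1 → f x = c) :
    classInner (betaK ζ) f = conj c := by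
  have h1 : classInner (betaK ζ) f = classInner (betaK ζ) (c • fun _ : ↥NK => (1 : ℂ)) := by
    unfold classInner
    congr 1
    apply Finset.sum_congr rfl
    intro x _
    by_cases hx : (x : G) ∈ K
    · by_cases hx1 : x = 1
      · rw [hx1, betaK_one hC hab, zero_mul, zero_mul]
      · rw [hf x hx hx1]
        simp
    · rw [betaK_vanish hC ζ x hx, zero_mul, zero_mul]
  rw [h1, classInner_smul_right, classInner_betaK_one, mul_one]

/-- `Γ = Ind_N^G (ρ - ζ)` -/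
noncomputable def gammaK (ζ : RelChar K) : G → ℂ := indFun NK (betaK ζ)

theorem gammaK_isClassFunction (ζ : RelChar K) : IsClassFunction G (gammaK ζ) :=
  isClassFunction_indFun _ _

theorem classInner_gammaK (ζ : RelChar K) {ψ : G → ℂ} (hψ : IsClassFunction G ψ) :
    classInner (gammaK ζ) ψ = classInner (betaK ζ) (fun x : ↥NK => ψ x) :=
  frobenius_reciprocity _ _ hψ

theorem classInner_gammaK_one (ζ : RelChar K) :
    classInner (gammaK ζ) (fun _ : G => (1 : ℂ)) = 1 := by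
  rw [classInner_gammaK ζ (ψ := fun _ => (1 : ℂ)) (fun _ _ => rfl)]
  exact classInner_betaK_one ζ

theorem classInner_gammaK_gammaK
    (hTI : ∀ g : G, g ∉ NK → ∀ k ∈ K, g * k * g⁻¹ ∈ K → k = 1)
    (hC : ∀ k ∈ K, k ≠ 1 → Subgroup.centralizer ({k} : Set G) ≤ K)
    (hab : ∀ a ∈ K, ∀ b ∈ K, a * b = b * a) (ζ : RelChar K) :
    classInner (gammaK ζ) (gammaK ζ) = ((K.subgroupOf NK).index : ℂ) + 1 := by
  unfold gammaK
  rw [Cfsg.Agent.Lib.Helper3.classInner_indFun_TI (K : Set G) hTI _ _ (betaK_isClassFunction ζ)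
    (betaK_vanish hC ζ) (betaK_vanish hC ζ) (betaK_one hC hab ζ)]
  exact classInner_betaK_betaK hC ζ

theorem gammaK_eq_sub (ζ : RelChar K) :
    gammaK ζ = indFun NK (rhoK K) - indFun NK (ζ.1 : ↥NK → ℂ) :=
  Cfsg.Agent.S0851.indFun_sub_aux _ _ _

/-- the multiplicities of `Γ` are integers -/
theorem gammaK_int (ζ : RelChar K) (ψ : IrrCharacter G) :
    ∃ n : ℤ, classInner (gammaK ζ) (ψ : G → ℂ) = n := by
  rw [gammaK_eq_sub, Cfsg.Agent.Lib.Helper26.classInner_sub_left]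
  obtain ⟨a, ha⟩ := IsCharacter.exists_nat_classInner
    (Cfsg.Agent.S0148.result NK _ (rhoK_isCharacter (K := K))) ψ
  obtain ⟨b, hb⟩ := IsCharacter.exists_nat_classInner
    (Cfsg.Agent.S0148.result NK _ (IsIrrCharacter.isCharacter ζ.1.2)) ψ
  exact ⟨(a : ℤ) - b, by rw [ha, hb]; push_cast; ring⟩

/-- the support of a function induced from `N` and vanishing off `K#` -/
theorem indFun_supp {φ : ↥NK → ℂ} (hφ : ∀ x : ↥NK, (x : G) ∉ K → φ x = 0) (hφ1 : φ 1 = 0)
    {g : G} (hg : indFun NK φ g ≠ 0) : ∃ k ∈ K, k ≠ 1 ∧ ∃ x : G, x⁻¹ * g * x = k := by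
  classical
  unfold indFun at hg
  have h1 : ∑ x : G, extendByZero NK φ (x⁻¹ * g * x) ≠ 0 := fun h => hg (by rw [h, mul_zero])
  obtain ⟨x, -, hx⟩ := Finset.exists_ne_zero_of_sum_ne_zero h1
  by_cases hmem : x⁻¹ * g * x ∈ NK
  · rw [extendByZero_of_mem NK φ hmem] at hx
    have hK : x⁻¹ * g * x ∈ K := by
      by_contra hK
      exact hx (hφ ⟨_, hmem⟩ hK)
    refine ⟨x⁻¹ * g * x, hK, ?_, x, rfl⟩
    intro h1'
    apply hx
    have : (⟨x⁻¹ * g * x, hmem⟩ : ↥NK) = 1 := Subtype.ext h1'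
    rw [this, hφ1]
  · rw [extendByZero_of_not_mem NK φ hmem] at hx
    exact absurd rfl hx

theorem gammaK_supp (hC : ∀ k ∈ K, k ≠ 1 → Subgroup.centralizer ({k} : Set G) ≤ K)
    (hab : ∀ a ∈ K, ∀ b ∈ K, a * b = b * a) (ζ : RelChar K) {g : G} (hg : gammaK ζ g ≠ 0) :
    ∃ k ∈ K, k ≠ 1 ∧ ∃ x : G, x⁻¹ * g * x = k :=
  indFun_supp (betaK_vanish hC ζ) (betaK_one hC hab ζ) hg

end TIFN

end Cfsg.Agent.Lib.Helper52
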