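import Cfsg.Agent.Lib.Helper52.TIFNData

/-!
# Exceptional characters of an abelian T.I. subgroup with Frobenius normalizer: the integer
multiplicities of `Γ = Ind (ρ - ζ)` and the set of exceptional characters
-/

set_option autoImplicit false
set_option linter.unusedSectionVars false
set_option linter.style.haveILetI false

namespace Cfsg.Agent.Lib.Helper52

open Cfsg Cfsg.Agent.Lib.Helper74 Cfsg.Agent.Lib.Helper78 Cfsg.Agent.Lib.Helper75
open scoped ComplexConjugate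

universe u

section TIFN

variable {G : Type u} [Group G] [Fintype G]

/-- functions supported on the conjugates of `K#` and `K'#` are orthogonal when no nonidentity
element of `K` is conjugate into `K'` -/
theorem classInner_eq_zero_of_supp {K K' : Subgroup G}
    (hnf : ∀ g : G, ∀ k ∈ K, g * k * g⁻¹ ∈ K' → k = 1) {F F' : G → ℂ}
    (hF : ∀ g, F g ≠ 0 → ∃ k ∈ K, k ≠ 1 ∧ ∃ x : G, x⁻¹ * g * x = k)
    (hF' : ∀ g, F' g ≠ 0 → ∃ k ∈ K', k ≠ 1 ∧ ∃ x : G, x⁻¹ * g * x = k) :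
    classInner F F' = 0 := by
  unfold classInner
  rw [Finset.sum_eq_zero, mul_zero]
  intro g _
  by_cases h1 : F g = 0
  · rw [h1, zero_mul]
  by_cases h2 : F' g = 0
  · rw [h2, map_zero, mul_zero]
  exfalso
  obtain ⟨k, hk, hk1, x, hx⟩ := hF g h1
  obtain ⟨k', hk', _, y, hy⟩ := hF' g h2
  apply hk1
  apply hnf (y⁻¹ * x) k hk
  have : y⁻¹ * x * k * (y⁻¹ * x)⁻¹ = k' := by
    rw [← hx, ← hy]; group
  rw [this]
  exact hk'

variable {K : Subgroup G}

local notation "NK" => Subgroup.normalizer (K : Set G)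

variable [Fintype ↥(Subgroup.normalizer (K : Set G))]

/-- the integer multiplicity of `ψ` in `Γ` -/
noncomputable def mult (ζ : RelChar K) (ψ : IrrCharacter G) : ℤ :=
  Classical.choose (gammaK_int ζ ψ)

theorem mult_spec (ζ : RelChar K) (ψ : IrrCharacter G) :
    classInner (gammaK ζ) (ψ : G → ℂ) = mult ζ ψ :=
  Classical.choose_spec (gammaK_int ζ ψ)

theorem mult_one (ζ : RelChar K) : mult ζ (oneIrr : IrrCharacter G) = 1 := by
  have h1 := mult_spec ζ (oneIrr : IrrCharacter G)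
  have h2 : classInner (gammaK ζ) ((oneIrr : IrrCharacter G) : G → ℂ) = 1 :=
    classInner_gammaK_one ζ
  rw [h1] at h2
  exact_mod_cast h2

theorem sum_mult_mul_self
    (hTI : ∀ g : G, g ∉ NK → ∀ k ∈ K, g * k * g⁻¹ ∈ K → k = 1)
    (hC : ∀ k ∈ K, k ≠ 1 → Subgroup.centralizer ({k} : Set G) ≤ K)
    (hab : ∀ a ∈ K, ∀ b ∈ K, a * b = b * a) (ζ : RelChar K) :
    ∑ ψ : IrrCharacter G, mult ζ ψ * mult ζ ψ = ((K.subgroupOf NK).index : ℤ) + 1 := by
  have h := classInner_eq_sum_mul_conj (gammaK ζ) (gammaK_isClassFunction ζ)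
  rw [classInner_gammaK_gammaK hTI hC hab ζ] at h
  have h2 : ∑ ψ : IrrCharacter G, classInner (gammaK ζ) (ψ : G → ℂ) *
      conj (classInner (gammaK ζ) (ψ : G → ℂ)) =
      ((∑ ψ : IrrCharacter G, mult ζ ψ * mult ζ ψ : ℤ) : ℂ) := by
    push_cast
    apply Finset.sum_congr rfl
    intro ψ _
    rw [mult_spec, map_intCast]
  rw [h2] at h
  exact_mod_cast h.symm

/-- the set of exceptional characters -/
noncomputable def excSet (D : ExcData K) : Finset (IrrCharacter G) :=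
  open Classical in Finset.univ.filter (fun ψ => ∃ χ, D.f χ = ψ)

theorem mem_excSet (D : ExcData K) (ψ : IrrCharacter G) : ψ ∈ excSet D ↔ ∃ χ, D.f χ = ψ := by
  unfold excSet
  simp

theorem sum_excSet {M : Type*} [AddCommMonoid M] (D : ExcData K) [Fintype (RelChar K)]
    (F : IrrCharacter G → M) :
    ∑ ψ ∈ excSet D, F ψ = ∑ χ : RelChar K, F (D.f χ) := by
  classical
  have h : excSet D = Finset.univ.image D.f := by
    ext ψ
    rw [mem_excSet]
    simp
  rw [h, Finset.sum_image (fun x _ y _ hxy => D.hf hxy)]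

theorem card_excSet (D : ExcData K) : (excSet D).card = Nat.card (RelChar K) := by
  classical
  haveI : Finite (RelChar K) := Finite.of_injective D.f D.hf
  haveI : Fintype (RelChar K) := Fintype.ofFinite _
  rw [Finset.card_eq_sum_ones, sum_excSet D (fun _ => 1), Finset.sum_const, Finset.card_univ,
    Nat.card_eq_fintype_card]
  simp

theorem exists_relChar_ne (hodd : Odd (Nat.card G))
    (hC : ∀ k ∈ K, k ≠ 1 → Subgroup.centralizer ({k} : Set G) ≤ K)
    (hab : ∀ a ∈ K, ∀ b ∈ K, a * b = b * a) (hK : K ≠ ⊥) (D : ExcData K) (χ : RelChar K) :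
    ∃ ξ : RelChar K, ξ ≠ χ := by
  haveI : Finite (RelChar K) := Finite.of_injective D.f D.hf
  by_contra hcon
  push Not at hcon
  have : Nat.card (RelChar K) ≤ 1 := by
    rw [Finite.card_le_one_iff_subsingleton]
    exact ⟨fun a b => (hcon a).trans (hcon b).symm⟩
  have := (relChar_card hodd hC hab hK).2
  omega

theorem ExcData.ε_ne_zero (D : ExcData K) : D.ε ≠ 0 := by
  rcases D.hε with h | h <;> rw [h] <;> norm_num

theorem ExcData.conj_ε (D : ExcData K) : conj D.ε = D.ε := by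
  rcases D.hε with h | h <;> rw [h] <;> simp

/-- the principal character is not exceptional -/
theorem ExcData.f_ne_one (D : ExcData K) (hodd : Odd (Nat.card G))
    (hC : ∀ k ∈ K, k ≠ 1 → Subgroup.centralizer ({k} : Set G) ≤ K)
    (hab : ∀ a ∈ K, ∀ b ∈ K, a * b = b * a) (hK : K ≠ ⊥) (χ : RelChar K) :
    D.f χ ≠ oneIrr := by
  intro h
  obtain ⟨ξ, hξ⟩ := exists_relChar_ne hodd hC hab hK D χ
  have h1 : classInner (indFun NK ((χ.1 : ↥NK → ℂ) - (ξ.1 : ↥NK → ℂ))) (fun _ : G => (1 : ℂ)) = 0 := by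
    rw [frobenius_reciprocity NK _ (ψ := fun _ : G => (1 : ℂ)) (fun _ _ => rfl),
      Cfsg.Agent.Lib.Helper26.classInner_sub_left]
    rw [show (fun x : ↥NK => (fun _ : G => (1 : ℂ)) (x : G)) = fun _ : ↥NK => (1 : ℂ) from rfl,
      relChar_classInner_one, relChar_classInner_one, sub_zero]
  rw [D.hind, classInner_smul_left, Cfsg.Agent.Lib.Helper26.classInner_sub_left] at h1
  have h2 : classInner (D.f χ : G → ℂ) (fun _ : G => (1 : ℂ)) = 1 := by
    rw [h]
    exact classInner_irr_self isIrrCharacter_one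
  have h3 : classInner (D.f ξ : G → ℂ) (fun _ : G => (1 : ℂ)) = 0 := by
    have := classInner_irr_irr (D.f ξ) (oneIrr : IrrCharacter G)
    rw [if_neg] at this
    · exact this
    · intro h'
      exact hξ (D.hf (h'.trans h.symm))
  rw [h2, h3, sub_zero, mul_one] at h1
  exact D.ε_ne_zero h1

theorem one_notMem_excSet (D : ExcData K) (hodd : Odd (Nat.card G))
    (hC : ∀ k ∈ K, k ≠ 1 → Subgroup.centralizer ({k} : Set G) ≤ K)
    (hab : ∀ a ∈ K, ∀ b ∈ K, a * b = b * a) (hK : K ≠ ⊥) :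
    (oneIrr : IrrCharacter G) ∉ excSet D := by
  rw [mem_excSet]
  rintro ⟨χ, hχ⟩
  exact D.f_ne_one hodd hC hab hK χ hχ

theorem conj_mem_excSet (D : ExcData K) (hodd : Odd (Nat.card G))
    (hC : ∀ k ∈ K, k ≠ 1 → Subgroup.centralizer ({k} : Set G) ≤ K)
    (hab : ∀ a ∈ K, ∀ b ∈ K, a * b = b * a) (hK : K ≠ ⊥) {ψ : IrrCharacter G}
    (hψ : ψ ∈ excSet D) : conjIrrChar ψ ∈ excSet D := by
  rw [mem_excSet] at hψ ⊢
  obtain ⟨χ, rfl⟩ := hψ
  exact ⟨conjRel χ, D.f_conjRel hodd hC hab hK χ⟩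

theorem conj_notMem_excSet (D : ExcData K) (hodd : Odd (Nat.card G))
    (hC : ∀ k ∈ K, k ≠ 1 → Subgroup.centralizer ({k} : Set G) ≤ K)
    (hab : ∀ a ∈ K, ∀ b ∈ K, a * b = b * a) (hK : K ≠ ⊥) {ψ : IrrCharacter G}
    (hψ : ψ ∉ excSet D) : conjIrrChar ψ ∉ excSet D := by
  intro h
  apply hψ
  have := conj_mem_excSet D hodd hC hab hK h
  rwa [conjIrrChar_conjIrrChar] at this

/-- a non-exceptional character takes the value `mult ζ ψ` on `K#` -/
theorem apply_of_notMem_excSet (D : ExcData K)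
    (hC : ∀ k ∈ K, k ≠ 1 → Subgroup.centralizer ({k} : Set G) ≤ K)
    (hab : ∀ a ∈ K, ∀ b ∈ K, a * b = b * a) (ζ : RelChar K) {ψ : IrrCharacter G}
    (hψ : ψ ∉ excSet D) (x : G) (hx : x ∈ K) (hx1 : x ≠ 1) :
    (ψ : G → ℂ) x = mult ζ ψ := by
  rw [mem_excSet] at hψ
  push Not at hψ
  obtain ⟨n, hn1, hn2⟩ := const_of_not_mem_range D.ε D.f hC hab ζ D.hind ψ hψ
  rw [mult_spec] at hn2
  have := hn1 ⟨x, Subgroup.le_normalizer hx⟩ hx (fun h => hx1 (congrArg Subtype.val h))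
  rw [hn2]
  exact this

theorem mult_conj (D : ExcData K) (hodd : Odd (Nat.card G))
    (hC : ∀ k ∈ K, k ≠ 1 → Subgroup.centralizer ({k} : Set G) ≤ K)
    (hab : ∀ a ∈ K, ∀ b ∈ K, a * b = b * a) (hK : K ≠ ⊥) (ζ : RelChar K) {ψ : IrrCharacter G}
    (hψ : ψ ∉ excSet D) : mult ζ (conjIrrChar ψ) = mult ζ ψ := by
  obtain ⟨x, hx, hx1⟩ : ∃ x ∈ K, x ≠ 1 := by
    by_contra hcon
    push Not at hcon
    exact hK ((Subgroup.eq_bot_iff_forall K).mpr hcon)
  have h1 := apply_of_notMem_excSet D hC hab ζ hψ x hx hx1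
  have h2 := apply_of_notMem_excSet D hC hab ζ (conj_notMem_excSet D hodd hC hab hK hψ) x hx hx1
  have h3 : ((conjIrrChar ψ : IrrCharacter G) : G → ℂ) x = conj ((ψ : G → ℂ) x) := rfl
  rw [h3, h1, map_intCast] at h2
  exact_mod_cast h2.symm

/-- the multiplicities of the exceptional characters -/
theorem mult_exc (D : ExcData K)
    (hTI : ∀ g : G, g ∉ NK → ∀ k ∈ K, g * k * g⁻¹ ∈ K → k = 1)
    (hC : ∀ k ∈ K, k ≠ 1 → Subgroup.centralizer ({k} : Set G) ≤ K)
    (hab : ∀ a ∈ K, ∀ b ∈ K, a * b = b * a) (ζ : RelChar K) :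
    ∃ (c εz : ℤ), (εz = 1 ∨ εz = -1) ∧ D.ε = εz ∧
      (∀ x : ↥NK, (x : G) ∈ K → x ≠ 1 →
        (D.f ζ : G → ℂ) x = D.ε * (ζ.1 : ↥NK → ℂ) x + c) ∧
      mult ζ (D.f ζ) = c - εz ∧ ∀ χ : RelChar K, χ ≠ ζ → mult ζ (D.f χ) = c := by
  obtain ⟨c, h1, h2, h3⟩ := star_values D.ε D.f hTI hC hab ζ D.hε D.hf D.hind
  obtain ⟨εz, hεz, hεz'⟩ : ∃ εz : ℤ, (εz = 1 ∨ εz = -1) ∧ D.ε = εz := by
    rcases D.hε with h | h
    · exact ⟨1, Or.inl rfl, by rw [h]; simp⟩
    · exact ⟨-1, Or.inr rfl, by rw [h]; simp⟩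
  refine ⟨c, εz, hεz, hεz', h1, ?_, ?_⟩
  · rw [mult_spec, hεz'] at h2
    exact_mod_cast h2
  · intro χ hχ
    have := h3 χ hχ
    rw [mult_spec] at this
    exact_mod_cast this

end TIFN

end Cfsg.Agent.Lib.Helper52
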