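import Cfsg.Agent.Lib.Helper74.OddOrder

/-!
# A parity lemma for multiplicities in a group of odd order
-/

set_option autoImplicit false
set_option linter.unusedSectionVars false
set_option linter.style.haveILetI false

namespace Cfsg.Agent.Lib.Helper52

open Cfsg Cfsg.Agent.Lib.Helper74 Cfsg.Agent.Lib.Helper78
open scoped ComplexConjugate

universe u

theorem zmod2_of_odd {n : ℤ} (h : Odd n) : ((n : ℤ) : ZMod 2) = 1 := by
  obtain ⟨k, rfl⟩ := h
  push_cast
  rw [show (2 : ZMod 2) = 0 from rfl]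
  ring

theorem odd_of_zmod2 {n : ℤ} (h : ((n : ℤ) : ZMod 2) = 1) : Odd n := by
  by_contra hne
  rw [Int.not_odd_iff_even] at hne
  obtain ⟨k, rfl⟩ := hne
  push_cast at h
  rw [CharTwo.add_self_eq_zero] at h
  exact zero_ne_one h

theorem conjIrrChar_oneIrr {G : Type u} [Group G] [Fintype G] :
    conjIrrChar (oneIrr : IrrCharacter G) = oneIrr := by
  apply Subtype.ext
  funext g
  simp [conjIrrChar, oneIrr]

theorem parity_lemma {G : Type u} [Group G] [Fintype G] (hodd : Odd (Nat.card G))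
    (m m' : IrrCharacter G → ℤ) (X X' : Finset (IrrCharacter G))
    (hsum : ∑ ψ : IrrCharacter G, m ψ * m' ψ = 0)
    (hm1 : m oneIrr = 1) (hm1' : m' oneIrr = 1)
    (h1X : (oneIrr : IrrCharacter G) ∉ X) (h1X' : (oneIrr : IrrCharacter G) ∉ X')
    (hdisj : Disjoint X X')
    (hXc : ∀ ψ ∈ X, conjIrrChar ψ ∈ X) (hXc' : ∀ ψ ∈ X', conjIrrChar ψ ∈ X')
    (hmc : ∀ ψ, ψ ∉ X → m (conjIrrChar ψ) = m ψ)
    (hmc' : ∀ ψ, ψ ∉ X' → m' (conjIrrChar ψ) = m' ψ)
    (μ ν : ℤ) (hμ : ∀ ψ ∈ X, m' ψ = μ) (hν : ∀ ψ ∈ X', m ψ = ν)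
    (hoddX : Odd (∑ ψ ∈ X, m ψ)) (hoddX' : Odd (∑ ψ ∈ X', m' ψ)) :
    Odd (μ + ν) := by
  classical
  set F : IrrCharacter G → ZMod 2 := fun ψ => ((m ψ * m' ψ : ℤ) : ZMod 2) with hF
  have h0 : ∑ ψ : IrrCharacter G, F ψ = 0 := by
    rw [hF, ← Int.cast_sum, hsum, Int.cast_zero]
  have hX'sub : X' ⊆ Finset.univ \ X := by
    intro ψ hψ
    rw [Finset.mem_sdiff]
    exact ⟨Finset.mem_univ _, fun h => (Finset.disjoint_left.mp hdisj) h hψ⟩
  have h1mem : (oneIrr : IrrCharacter G) ∈ (Finset.univ \ X) \ X' := by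
    simp [h1X, h1X']
  have hsplit : ∑ ψ : IrrCharacter G, F ψ =
      (F oneIrr + ∑ ψ ∈ ((Finset.univ \ X) \ X').erase oneIrr, F ψ) + ∑ ψ ∈ X', F ψ +
        ∑ ψ ∈ X, F ψ := by
    rw [Finset.add_sum_erase _ _ h1mem, Finset.sum_sdiff hX'sub,
      Finset.sum_sdiff (Finset.subset_univ X)]
  have hrest : ∑ ψ ∈ ((Finset.univ \ X) \ X').erase oneIrr, F ψ = 0 := by
    apply Finset.sum_involution (fun ψ _ => conjIrrChar ψ)
    · intro ψ hψ
      simp only [Finset.mem_erase, Finset.mem_sdiff, Finset.mem_univ, true_and] at hψ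
      simp only [hF]
      rw [hmc ψ hψ.2.1, hmc' ψ hψ.2.2]
      exact CharTwo.add_self_eq_zero _
    · intro ψ hψ _ heq
      simp only [Finset.mem_erase, Finset.mem_sdiff, Finset.mem_univ, true_and] at hψ
      apply hψ.1
      rw [eq_oneIrr_iff]
      exact eq_one_of_real_of_odd_card hodd ψ ((conjIrrChar_eq_self_iff ψ).mp heq)
    · intro ψ hψ
      simp only [Finset.mem_erase, Finset.mem_sdiff, Finset.mem_univ, true_and] at hψ ⊢
      refine ⟨?_, ?_, ?_⟩
      · intro h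
        apply hψ.1
        have := congrArg conjIrrChar h
        rw [conjIrrChar_conjIrrChar, conjIrrChar_oneIrr] at this
        exact this
      · intro h
        apply hψ.2.1
        have := hXc _ h
        rwa [conjIrrChar_conjIrrChar] at this
      · intro h
        apply hψ.2.2
        have := hXc' _ h
        rwa [conjIrrChar_conjIrrChar] at this
    · intro ψ _
      exact conjIrrChar_conjIrrChar ψ
  have hXsum : ∑ ψ ∈ X, F ψ = (μ : ZMod 2) := by
    have : ∑ ψ ∈ X, F ψ = (((∑ ψ ∈ X, m ψ) * μ : ℤ) : ZMod 2) := by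
      rw [Finset.sum_mul, Int.cast_sum]
      apply Finset.sum_congr rfl
      intro ψ hψ
      simp only [hF]
      rw [hμ ψ hψ]
    rw [this, Int.cast_mul, zmod2_of_odd hoddX, one_mul]
  have hX'sum : ∑ ψ ∈ X', F ψ = (ν : ZMod 2) := by
    have : ∑ ψ ∈ X', F ψ = ((ν * (∑ ψ ∈ X', m' ψ) : ℤ) : ZMod 2) := by
      rw [Finset.mul_sum, Int.cast_sum]
      apply Finset.sum_congr rfl
      intro ψ hψ
      simp only [hF]
      rw [hν ψ hψ]
    rw [this, Int.cast_mul, zmod2_of_odd hoddX', mul_one]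
  have hF1 : F oneIrr = 1 := by
    simp only [hF]
    rw [hm1, hm1']
    simp
  rw [hsplit, hrest, hXsum, hX'sum, hF1, add_zero] at h0
  apply odd_of_zmod2
  push_cast
  have h2 : (1 : ZMod 2) + 1 = 0 := rfl
  linear_combination h0 - h2

end Cfsg.Agent.Lib.Helper52
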