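import Mathlib

/-!
# A weighted count for a group partitioned by the conjugates of T.I. subgroups
-/

set_option autoImplicit false
set_option linter.unusedSectionVars false
set_option linter.style.haveILetI false

namespace Cfsg.Agent.Lib.Helper52

universe u v

theorem conj_eq_one' {G : Type u} [Group G] {a x : G} (h : a * x * a⁻¹ = 1) : x = 1 := by
  have h2 := congrArg (fun t => a⁻¹ * t * a) h
  simpa [mul_assoc] using h2

theorem sum_subtype_ne_one {M : Type*} [AddCommMonoid M] {α : Type*} [Fintype α] [DecidableEq α]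
    (a : α) (F : α → M) [Fintype {x : α // x ≠ a}] :
    ∑ x : {x : α // x ≠ a}, F x = ∑ x : α, (if x = a then 0 else F x) := by
  rw [← Finset.sum_subtype (Finset.univ.filter (fun x : α => x ≠ a)) (by simp) F,
    Finset.sum_filter]
  apply Finset.sum_congr rfl
  intro x _
  by_cases h : x = a
  · simp [h]
  · simp [h]

open Classical in
theorem weighted_partition {G : Type u} [Group G] [Fintype G] {ι : Type v} [Fintype ι]
    (H : ι → Subgroup G) [∀ i, Fintype ↥(H i)]
    (hnf : ∀ i j, i ≠ j → ∀ g : G, ∀ k ∈ H i, g * k * g⁻¹ ∈ H j → k = 1)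
    (hTI : ∀ i, ∀ g : G, g ∉ Subgroup.normalizer (H i : Set G) → ∀ k ∈ H i,
      g * k * g⁻¹ ∈ H i → k = 1)
    (hcover : ∀ g : G, g ≠ 1 → ∃ i, ∃ x : G, x * g * x⁻¹ ∈ H i)
    (F : G → ℝ) (hF : ∀ g x : G, F (x * g * x⁻¹) = F g) :
    ∑ g : G, F g = F 1 + ∑ i, ((Subgroup.normalizer (H i : Set G)).index : ℝ) *
      ∑ h : ↥(H i), (if h = 1 then 0 else F h) := by
  classical
  -- the parametrising type
  let β : ι → Type _ := fun i => (G ⧸ Subgroup.normalizer (H i : Set G)) × {h : H i // h ≠ 1}
  let f : (Σ i, β i) → {g : G // g ≠ 1} := fun x =>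
    ⟨(Quotient.out x.2.1 : G) * (x.2.2.1 : G) * (Quotient.out x.2.1 : G)⁻¹, by
      intro h
      apply x.2.2.2
      exact Subtype.ext (conj_eq_one' h)⟩
  have hf : Function.Bijective f := by
    constructor
    · rintro ⟨i, c, h⟩ ⟨j, c', h'⟩ hEq
      have hEq' : (Quotient.out c : G) * (h.1 : G) * (Quotient.out c : G)⁻¹ =
          (Quotient.out c' : G) * (h'.1 : G) * (Quotient.out c' : G)⁻¹ := congrArg Subtype.val hEq
      generalize ha : (Quotient.out c : G) = a at hEq'
      generalize hb : (Quotient.out c' : G) = b at hEq'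
      -- b⁻¹ a conjugates h to h'
      have hconj : (b⁻¹ * a) * (h.1 : G) * (b⁻¹ * a)⁻¹ = (h'.1 : G) := by
        have h2 := congrArg (fun t => b⁻¹ * t * b) hEq'
        simp only [mul_assoc, inv_mul_cancel_left, inv_mul_cancel, mul_one] at h2
        simp only [mul_inv_rev, inv_inv, mul_assoc]
        exact h2
      -- i = j
      have hij : i = j := by
        by_contra hne
        have := hnf i j hne (b⁻¹ * a) (h.1 : G) h.1.2 (by rw [hconj]; exact h'.1.2)
        exact h.2 (Subtype.ext this)
      subst hij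
      have hmem : b⁻¹ * a ∈ Subgroup.normalizer (H i : Set G) := by
        by_contra hnot
        have := hTI i (b⁻¹ * a) hnot (h.1 : G) h.1.2 (by rw [hconj]; exact h'.1.2)
        exact h.2 (Subtype.ext this)
      have hcc : c' = c := by
        rw [← QuotientGroup.out_eq' c, ← QuotientGroup.out_eq' c', ha, hb]
        exact QuotientGroup.eq.2 hmem
      subst hcc
      have hab : a = b := by rw [← ha, ← hb]
      subst hab
      have hh : h = h' := by
        apply Subtype.ext; apply Subtype.ext
        have h2 := congrArg (fun t => a⁻¹ * t * a) hEq'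
        simpa [mul_assoc] using h2
      subst hh
      rfl
    · rintro ⟨g, hg1⟩
      obtain ⟨i, x, hx⟩ := hcover g hg1
      obtain ⟨n, hn⟩ := QuotientGroup.mk_out_eq_mul (Subgroup.normalizer (H i : Set G)) x⁻¹
      generalize hc : ((x⁻¹ : G) : G ⧸ Subgroup.normalizer (H i : Set G)) = c at hn
      have hmem : (Quotient.out c : G)⁻¹ * g * (Quotient.out c : G) ∈ H i := by
        rw [hn]
        have hn' : (n : G)⁻¹ ∈ Subgroup.normalizer (H i : Set G) := inv_mem n.2
        have := (Subgroup.mem_set_normalizer_iff.1 hn' (x * g * x⁻¹)).1 hx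
        simpa [mul_assoc] using this
      have hne : (⟨(Quotient.out c : G)⁻¹ * g * (Quotient.out c : G), hmem⟩ : H i) ≠ 1 := by
        intro h1
        apply hg1
        have h2 : (Quotient.out c : G)⁻¹ * g * (Quotient.out c : G) = 1 := congrArg Subtype.val h1
        have h3 := congrArg (fun t => (Quotient.out c : G) * t * (Quotient.out c : G)⁻¹) h2
        simpa [mul_assoc] using h3
      refine ⟨⟨i, c, ⟨⟨_, hmem⟩, hne⟩⟩, ?_⟩
      apply Subtype.ext
      simp [f, mul_assoc]
  haveI : ∀ i, Fintype (G ⧸ Subgroup.normalizer (H i : Set G)) := fun i => Fintype.ofFinite _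
  have h1 : ∑ g : G, F g = F 1 + ∑ g : {g : G // g ≠ 1}, F g := by
    rw [sum_subtype_ne_one (1 : G) F]
    have h3 : ∀ g : G, F g = (if g = 1 then F 1 else 0) + (if g = 1 then 0 else F g) := by
      intro g
      by_cases hg : g = 1
      · subst hg
        simp
      · simp [hg]
    rw [Finset.sum_congr rfl (fun g _ => h3 g), Finset.sum_add_distrib,
      Finset.sum_ite_eq' Finset.univ (1 : G), if_pos (Finset.mem_univ _)]
  rw [h1]
  congr 1
  rw [← Equiv.sum_comp (Equiv.ofBijective f hf) (fun g => F g), Fintype.sum_sigma]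
  apply Finset.sum_congr rfl
  intro i _
  rw [Fintype.sum_prod_type]
  have h2 : ∀ (c : G ⧸ Subgroup.normalizer (H i : Set G)),
      ∑ y : {h : H i // h ≠ 1}, F ((Equiv.ofBijective f hf) ⟨i, (c, y)⟩) =
        ∑ h : ↥(H i), (if h = 1 then 0 else F h) := by
    intro c
    rw [← sum_subtype_ne_one (1 : ↥(H i)) (fun h => F h)]
    apply Finset.sum_congr rfl
    intro y _
    exact hF _ _
  rw [Finset.sum_congr rfl (fun c _ => h2 c), Finset.sum_const, Finset.card_univ, nsmul_eq_mul,
    Subgroup.index_eq_card, Nat.card_eq_fintype_card]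

end Cfsg.Agent.Lib.Helper52
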