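import Cfsg.Agent.Lib.Helper52.TIFNCross
import Cfsg.Agent.Lib.Helper52.TIFNParity
import Cfsg.Agent.Lib.Helper52.WeightedPartition
import Cfsg.Agent.Lib.Helper52.CAArith

/-!
# No group of odd order is partitioned by the conjugates of abelian T.I. subgroups with
Frobenius normalizers and pairwise distinct orders (Suzuki's argument for CA-groups)
-/

set_option autoImplicit false
set_option linter.unusedSectionVars false
set_option linter.style.haveILetI false

namespace Cfsg.Agent.Lib.Helper52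

open Cfsg Cfsg.Agent.Lib.Helper74 Cfsg.Agent.Lib.Helper78 Cfsg.Agent.Lib.Helper75
open scoped ComplexConjugate

universe u v

section Local

variable {G : Type u} [Group G] [Fintype G] {K : Subgroup G}

local notation "NK" => Subgroup.normalizer (K : Set G)

variable [Fintype ↥(Subgroup.normalizer (K : Set G))]

theorem sum_excSet_mult (D : ExcData K) (ζ : RelChar K) (c εz : ℤ)
    (h1 : mult ζ (D.f ζ) = c - εz) (h2 : ∀ χ : RelChar K, χ ≠ ζ → mult ζ (D.f χ) = c)
    (F : ℤ → ℤ) :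
    ∑ ψ ∈ excSet D, F (mult ζ ψ) =
      F (c - εz) + ((Nat.card (RelChar K) : ℤ) - 1) * F c := by
  classical
  haveI : Finite (RelChar K) := Finite.of_injective D.f D.hf
  haveI : Fintype (RelChar K) := Fintype.ofFinite _
  rw [sum_excSet D (fun ψ => F (mult ζ ψ))]
  have h3 : ∀ χ : RelChar K,
      F (mult ζ (D.f χ)) = F c + (if χ = ζ then F (c - εz) - F c else 0) := by
    intro χ
    by_cases h : χ = ζ
    · rw [if_pos h, h, h1]; ring
    · rw [if_neg h, h2 χ h]; ring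
  rw [Finset.sum_congr rfl (fun χ _ => h3 χ), Finset.sum_add_distrib, Finset.sum_const,
    Finset.sum_ite_eq' Finset.univ ζ, if_pos (Finset.mem_univ _), Finset.card_univ,
    Nat.card_eq_fintype_card]
  simp only [nsmul_eq_mul]
  ring

theorem odd_sum_mult_excSet (D : ExcData K) (hodd : Odd (Nat.card G))
    (hTI : ∀ g : G, g ∉ NK → ∀ k ∈ K, g * k * g⁻¹ ∈ K → k = 1)
    (hC : ∀ k ∈ K, k ≠ 1 → Subgroup.centralizer ({k} : Set G) ≤ K)
    (hab : ∀ a ∈ K, ∀ b ∈ K, a * b = b * a) (hK : K ≠ ⊥) (ζ : RelChar K) :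
    Odd (∑ ψ ∈ excSet D, mult ζ ψ) := by
  obtain ⟨c, εz, hεz, -, -, h1, h2⟩ := mult_exc D hTI hC hab ζ
  have h : ∑ ψ ∈ excSet D, mult ζ ψ = (c - εz) + ((Nat.card (RelChar K) : ℤ) - 1) * c :=
    sum_excSet_mult D ζ c εz h1 h2 (fun z => z)
  rw [h]
  obtain ⟨k, hk⟩ := (relChar_card hodd hC hab hK).1
  rw [hk]
  rcases hεz with rfl | rfl
  · refine ⟨k * c - 1, ?_⟩
    push_cast
    ring
  · refine ⟨k * c, ?_⟩
    push_cast
    ring

end Local

theorem sum_ite_ne_one_const {α : Type*} [Group α] [Fintype α] [DecidableEq α] (C : ℝ) :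
    ∑ h : α, (if h = 1 then (0 : ℝ) else C) = ((Nat.card α : ℝ) - 1) * C := by
  have h3 : ∀ h : α, (if h = 1 then (0 : ℝ) else C) = C - (if h = 1 then C else 0) := by
    intro h
    by_cases hh : h = 1
    · simp [hh]
    · simp [hh]
  rw [Finset.sum_congr rfl (fun h _ => h3 h), Finset.sum_sub_distrib, Finset.sum_const,
    Finset.sum_ite_eq' Finset.univ (1 : α), if_pos (Finset.mem_univ _), Finset.card_univ,
    Nat.card_eq_fintype_card]
  simp only [nsmul_eq_mul]
  ring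

theorem no_abelian_TI_partition {G : Type u} [Group G] [Finite G] (hodd : Odd (Nat.card G))
    {ι : Type v} [Fintype ι] [Nonempty ι] (H : ι → Subgroup G)
    (hH1 : ∀ i, H i ≠ ⊥)
    (hTI : ∀ i, ∀ g : G, g ∉ Subgroup.normalizer (H i : Set G) → ∀ k ∈ H i,
      g * k * g⁻¹ ∈ H i → k = 1)
    (hlt : ∀ i, H i < Subgroup.normalizer (H i : Set G))
    (hC : ∀ i, ∀ k ∈ H i, k ≠ 1 → Subgroup.centralizer ({k} : Set G) ≤ H i)
    (hab : ∀ i, ∀ a ∈ H i, ∀ b ∈ H i, a * b = b * a)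
    (hnf : ∀ i j, i ≠ j → ∀ g : G, ∀ k ∈ H i, g * k * g⁻¹ ∈ H j → k = 1)
    (hcard : ∀ i j, i ≠ j → Nat.card (H i) ≠ Nat.card (H j))
    (hcover : ∀ g : G, g ≠ 1 → ∃ i, ∃ x : G, x * g * x⁻¹ ∈ H i) : False := by
  classical
  haveI : Fintype G := Fintype.ofFinite G
  haveI : ∀ i, Fintype ↥(Subgroup.normalizer (H i : Set G)) := fun i => Fintype.ofFinite _
  haveI : ∀ i, Fintype ↥(H i) := fun i => Fintype.ofFinite _
  have hD : ∀ i, Nonempty (ExcData (H i)) := fun i =>
    exists_excData hodd (hTI i) (hlt i) (hC i) (hab i)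
  have hζ : ∀ i, Nonempty (RelChar (H i)) := by
    intro i
    have h2 := (relChar_card hodd (hC i) (hab i) (hH1 i)).2
    by_contra hne
    rw [not_nonempty_iff] at hne
    rw [Nat.card_of_isEmpty] at h2
    omega
  obtain ⟨D⟩ : Nonempty (∀ i, ExcData (H i)) := ⟨fun i => Classical.choice (hD i)⟩
  obtain ⟨ζ⟩ : Nonempty (∀ i, RelChar (H i)) := ⟨fun i => Classical.choice (hζ i)⟩
  obtain ⟨i₀, hi₀⟩ := Finite.exists_min (fun i => Nat.card (H i))
  set S : Finset ι := Finset.univ.erase i₀ with hS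
  have hSne : ∀ j ∈ S, j ≠ i₀ := fun j hj => Finset.ne_of_mem_erase hj
  obtain ⟨c, εz, hεz, hεD, hval, hmζ, hmχ⟩ := mult_exc (D i₀) (hTI i₀) (hC i₀) (hab i₀) (ζ i₀)
  set Ψ : IrrCharacter G := (D i₀).f (ζ i₀) with hΨ
  have hΨmem : Ψ ∈ excSet (D i₀) := (mem_excSet _ _).mpr ⟨ζ i₀, rfl⟩
  set μ : ι → ℤ := fun j => mult (ζ j) Ψ with hμdef
  set ν : ι → ℤ := fun j => mult (ζ i₀) ((D j).f (ζ j)) with hνdef
  have hdisj : ∀ i j, i ≠ j → Disjoint (excSet (D i)) (excSet (D j)) := fun i j hij =>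
    excSet_disjoint hodd (hnf i j hij) (hC i) (hab i) (hH1 i) (hC j) (hab j) (hH1 j) (D i) (D j)
  have h1not : ∀ i, (oneIrr : IrrCharacter G) ∉ excSet (D i) := fun i =>
    one_notMem_excSet (D i) hodd (hC i) (hab i) (hH1 i)
  have hνconst : ∀ j ∈ S, ∀ ψ ∈ excSet (D j), mult (ζ i₀) ψ = ν j := by
    intro j hj ψ hψ
    rw [mem_excSet] at hψ
    obtain ⟨χ, rfl⟩ := hψ
    exact mult_cross_const (hnf i₀ j (hSne j hj).symm) (hC i₀) (hab i₀) (hC j) (hab j) (ζ i₀)
      (D j) χ (ζ j)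
  have hμconst : ∀ j ∈ S, ∀ ψ ∈ excSet (D i₀), mult (ζ j) ψ = μ j := by
    intro j hj ψ hψ
    rw [mem_excSet] at hψ
    obtain ⟨χ, rfl⟩ := hψ
    exact mult_cross_const (hnf j i₀ (hSne j hj)) (hC j) (hab j) (hC i₀) (hab i₀) (ζ j)
      (D i₀) χ (ζ i₀)
  -- the tournament
  have hpar : ∀ j ∈ S, μ j ≠ 0 ∨ ν j ≠ 0 := by
    intro j hj
    have hne : j ≠ i₀ := hSne j hj
    have hodd' : Odd (μ j + ν j) := by
      apply parity_lemma hodd (mult (ζ i₀)) (mult (ζ j)) (excSet (D i₀)) (excSet (D j))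
      · exact sum_mult_mul_cross (hnf i₀ j hne.symm) (hC i₀) (hab i₀) (hC j) (hab j) (ζ i₀) (ζ j)
      · exact mult_one _
      · exact mult_one _
      · exact h1not i₀
      · exact h1not j
      · exact hdisj i₀ j hne.symm
      · exact fun ψ hψ => conj_mem_excSet (D i₀) hodd (hC i₀) (hab i₀) (hH1 i₀) hψ
      · exact fun ψ hψ => conj_mem_excSet (D j) hodd (hC j) (hab j) (hH1 j) hψ
      · exact fun ψ hψ => mult_conj (D i₀) hodd (hC i₀) (hab i₀) (hH1 i₀) (ζ i₀) hψ
      · exact fun ψ hψ => mult_conj (D j) hodd (hC j) (hab j) (hH1 j) (ζ j) hψ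
      · exact hμconst j hj
      · exact hνconst j hj
      · exact odd_sum_mult_excSet (D i₀) hodd (hTI i₀) (hC i₀) (hab i₀) (hH1 i₀) (ζ i₀)
      · exact odd_sum_mult_excSet (D j) hodd (hTI j) (hC j) (hab j) (hH1 j) (ζ j)
    by_contra hcon
    push Not at hcon
    rw [hcon.1, hcon.2] at hodd'
    simp at hodd'
  -- the column inequality
  have hcolZ : (1 : ℤ) + (((c - εz) * (c - εz)) + ((Nat.card (RelChar (H i₀)) : ℤ) - 1) * (c * c))
      + ∑ j ∈ S, (Nat.card (RelChar (H j)) : ℤ) * (ν j * ν j) ≤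
      (((H i₀).subgroupOf (Subgroup.normalizer (H i₀ : Set G))).index : ℤ) + 1 := by
    rw [← sum_mult_mul_self (hTI i₀) (hC i₀) (hab i₀) (ζ i₀)]
    set T : Finset (IrrCharacter G) :=
      insert oneIrr (excSet (D i₀) ∪ S.biUnion (fun j => excSet (D j))) with hT
    have hle : ∑ ψ ∈ T, mult (ζ i₀) ψ * mult (ζ i₀) ψ ≤
        ∑ ψ : IrrCharacter G, mult (ζ i₀) ψ * mult (ζ i₀) ψ :=
      Finset.sum_le_sum_of_subset_of_nonneg (Finset.subset_univ _)
        (fun ψ _ _ => mul_self_nonneg _)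
    refine le_trans (le_of_eq ?_) hle
    have hn1 : (oneIrr : IrrCharacter G) ∉ excSet (D i₀) ∪ S.biUnion (fun j => excSet (D j)) := by
      rw [Finset.mem_union, Finset.mem_biUnion]
      rintro (h | ⟨j, _, h⟩)
      · exact h1not i₀ h
      · exact h1not j h
    have hd2 : Disjoint (excSet (D i₀)) (S.biUnion (fun j => excSet (D j))) := by
      rw [Finset.disjoint_biUnion_right]
      intro j hj
      exact hdisj i₀ j (hSne j hj).symm
    have hpd : Set.PairwiseDisjoint (S : Set ι) (fun j => excSet (D j)) := by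
      intro j _ k _ hjk
      exact hdisj j k hjk
    rw [hT, Finset.sum_insert hn1, Finset.sum_union hd2, Finset.sum_biUnion hpd, mult_one]
    have e1 := sum_excSet_mult (D i₀) (ζ i₀) c εz hmζ hmχ (fun z => z * z)
    rw [e1]
    have e2 : ∀ j ∈ S, ∑ ψ ∈ excSet (D j), mult (ζ i₀) ψ * mult (ζ i₀) ψ =
        (Nat.card (RelChar (H j)) : ℤ) * (ν j * ν j) := by
      intro j hj
      rw [Finset.sum_congr rfl (fun ψ hψ => by rw [hνconst j hj ψ hψ]), Finset.sum_const,
        card_excSet, nsmul_eq_mul]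
    rw [Finset.sum_congr rfl e2]
    ring
  -- numerical data
  have hre : ∀ i, (Nat.card (RelChar (H i)) : ℝ) *
      (((H i).subgroupOf (Subgroup.normalizer (H i : Set G))).index : ℝ) + 1 =
      (Nat.card (H i) : ℝ) := by
    intro i
    have := card_relChar_mul_index (hC i) (hab i)
    exact_mod_cast this
  have hng : ∀ i, ((Subgroup.normalizer (H i : Set G)).index : ℝ) * ((Nat.card (H i) : ℝ) *
      (((H i).subgroupOf (Subgroup.normalizer (H i : Set G))).index : ℝ)) = (Nat.card G : ℝ) := by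
    intro i
    have h1 := Subgroup.index_mul_card (Subgroup.normalizer (H i : Set G))
    rw [card_normalizer_eq] at h1
    exact_mod_cast h1
  -- the class equation
  have hclass := weighted_partition H hnf hTI hcover (fun _ => (1 : ℝ)) (fun _ _ => rfl)
  simp only [Finset.sum_const, Finset.card_univ, nsmul_eq_mul, mul_one] at hclass
  rw [← Nat.card_eq_fintype_card] at hclass
  have hclass' : (Nat.card G : ℝ) = 1 + ∑ i, ((Subgroup.normalizer (H i : Set G)).index : ℝ) *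
      ((Nat.card (H i) : ℝ) - 1) := by
    rw [hclass]
    congr 1
    apply Finset.sum_congr rfl
    intro i _
    rw [sum_ite_ne_one_const, mul_one]
  rw [← Finset.add_sum_erase Finset.univ _ (Finset.mem_univ i₀), ← hS, ← add_assoc] at hclass'
  -- the row equation
  have hrow := weighted_partition H hnf hTI hcover (fun g => Complex.normSq ((Ψ : G → ℂ) g))
    (fun g x => by
      show Complex.normSq ((Ψ : G → ℂ) (x * g * x⁻¹)) = Complex.normSq ((Ψ : G → ℂ) g)
      rw [isClassFunction_irr Ψ g x])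
  rw [sum_normSq_irr Ψ, ← Finset.add_sum_erase Finset.univ _ (Finset.mem_univ i₀), ← hS,
    ← add_assoc] at hrow
  have hrow0 := sum_normSq_on_K (hC i₀) (hab i₀) (ζ i₀) (Ψ : G → ℂ) (D i₀).ε (D i₀).hε c hval
  have hεre : ((D i₀).ε).re = (εz : ℝ) := by rw [hεD]; simp
  rw [hεre] at hrow0
  have hrowj : ∀ j ∈ S, ((Subgroup.normalizer (H j : Set G)).index : ℝ) *
      ∑ h : ↥(H j), (if h = 1 then (0 : ℝ) else Complex.normSq ((Ψ : G → ℂ) h)) =
      ((Subgroup.normalizer (H j : Set G)).index : ℝ) *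
        (((Nat.card (H j) : ℝ) - 1) * (μ j : ℝ) ^ 2) := by
    intro j hj
    congr 1
    rw [← sum_ite_ne_one_const]
    apply Finset.sum_congr rfl
    intro h _
    by_cases hh : h = 1
    · rw [if_pos hh, if_pos hh]
    · rw [if_neg hh, if_neg hh]
      have hΨj : Ψ ∉ excSet (D j) := fun hmem =>
        (Finset.disjoint_left.mp (hdisj i₀ j (hSne j hj).symm)) hΨmem hmem
      rw [apply_of_notMem_excSet (D j) (hC j) (hab j) (ζ j) hΨj (h : G) h.2
        (fun h1 => hh (Subtype.ext h1))]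
      rw [Complex.normSq_intCast]
      ring
  rw [Finset.sum_congr rfl hrowj, hrow0] at hrow
  -- degree
  have hd : (1 : ℝ) ≤ Complex.normSq ((Ψ : G → ℂ) 1) := by
    rw [IsCharacter.apply_one_eq_charDegree (IsIrrCharacter.isCharacter Ψ.2)]
    have := IsIrrCharacter.charDegree_pos Ψ.2
    rw [Complex.normSq_natCast]
    have h1 : (1 : ℝ) ≤ (charDegree (Ψ : G → ℂ) : ℝ) := by exact_mod_cast this
    nlinarith
  have hcolR : (1 : ℝ) + ((Nat.card (RelChar (H i₀)) : ℝ) * (c : ℝ) ^ 2 - 2 * c * εz + 1)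
      + ∑ j ∈ S, (Nat.card (RelChar (H j)) : ℝ) * (ν j : ℝ) ^ 2 ≤
      (((H i₀).subgroupOf (Subgroup.normalizer (H i₀ : Set G))).index : ℝ) + 1 := by
    have h1 : (((1 : ℤ) + (((c - εz) * (c - εz)) +
        ((Nat.card (RelChar (H i₀)) : ℤ) - 1) * (c * c))
        + ∑ j ∈ S, (Nat.card (RelChar (H j)) : ℤ) * (ν j * ν j) : ℤ) : ℝ) ≤
        (((((H i₀).subgroupOf (Subgroup.normalizer (H i₀ : Set G))).index : ℤ) + 1 : ℤ) : ℝ) := by
      exact_mod_cast hcolZ
    push_cast at h1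
    have hεz2 : (εz : ℝ) * εz = 1 := by
      rcases hεz with rfl | rfl <;> norm_num
    have e3 : ∑ j ∈ S, (Nat.card (RelChar (H j)) : ℝ) * ((ν j : ℝ) * (ν j : ℝ)) =
        ∑ j ∈ S, (Nat.card (RelChar (H j)) : ℝ) * (ν j : ℝ) ^ 2 := by
      apply Finset.sum_congr rfl
      intro j _
      ring
    rw [e3] at h1
    nlinarith
  refine final_arith S (Nat.card G : ℝ) (Complex.normSq ((Ψ : G → ℂ) 1)) (Nat.card (H i₀) : ℝ)
    (((H i₀).subgroupOf (Subgroup.normalizer (H i₀ : Set G))).index : ℝ)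
    (Nat.card (RelChar (H i₀)) : ℝ) ((Subgroup.normalizer (H i₀ : Set G)).index : ℝ) c εz
    (fun j => (Nat.card (H j) : ℝ))
    (fun j => (((H j).subgroupOf (Subgroup.normalizer (H j : Set G))).index : ℝ))
    (fun j => (Nat.card (RelChar (H j)) : ℝ))
    (fun j => ((Subgroup.normalizer (H j : Set G)).index : ℝ)) μ ν hd hεz ?_ ?_ (hre i₀) (hng i₀)
    ?_ (fun j _ => Nat.cast_nonneg _) (fun j _ => hre j) (fun j _ => hng j)
    (fun j _ => Nat.cast_nonneg _) ?_ hpar hclass' hrow hcolR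
  · have := (relChar_card hodd (hC i₀) (hab i₀) (hH1 i₀)).2
    exact_mod_cast this
  · have := two_le_index (hlt i₀)
    exact_mod_cast this
  · have : 0 < (Subgroup.normalizer (H i₀ : Set G)).index :=
      Nat.pos_of_ne_zero Subgroup.index_ne_zero_of_finite
    exact_mod_cast this
  · intro j hj
    have h1 := hi₀ j
    have h2 := hcard i₀ j (hSne j hj).symm
    have h3 : Nat.card (H i₀) + 1 ≤ Nat.card (H j) := by omega
    exact_mod_cast h3

end Cfsg.Agent.Lib.Helper52
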