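import Cfsg.Agent.Lib.Helper52.TIFNExc

/-!
# Exceptional characters of an abelian T.I. subgroup with Frobenius normalizer: values of the
exceptional characters on `K#` and the sum of their squared norms over `K#`
-/

set_option autoImplicit false
set_option linter.unusedSectionVars false
set_option linter.style.haveILetI false

namespace Cfsg.Agent.Lib.Helper52

open Cfsg Cfsg.Agent.Lib.Helper74 Cfsg.Agent.Lib.Helper78 Cfsg.Agent.Lib.Helper75
open scoped ComplexConjugate

universe u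

theorem sum_normSq_irr {H : Type u} [Group H] [Fintype H] (θ : IrrCharacter H) :
    ∑ x : H, Complex.normSq ((θ : H → ℂ) x) = (Nat.card H : ℝ) := by
  have h := classInner_irr_self θ.2
  unfold classInner at h
  have hne : (Nat.card H : ℂ) ≠ 0 := by
    have : Nat.card H ≠ 0 := Nat.card_pos.ne'
    exact_mod_cast this
  have h2 : ∑ x : H, (θ : H → ℂ) x * conj ((θ : H → ℂ) x) = (Nat.card H : ℂ) := by
    field_simp at h
    exact h
  have h3 : ((∑ x : H, Complex.normSq ((θ : H → ℂ) x) : ℝ) : ℂ) = ((Nat.card H : ℝ) : ℂ) := by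
    push_cast
    rw [← h2]
    apply Finset.sum_congr rfl
    intro x _
    rw [Complex.mul_conj]
  exact_mod_cast h3

theorem sum_eq_zero_of_classInner_one {H : Type u} [Group H] [Fintype H] {θ : H → ℂ}
    (h : classInner θ (fun _ : H => (1 : ℂ)) = 0) : ∑ x : H, θ x = 0 := by
  unfold classInner at h
  have hne : (Nat.card H : ℂ) ≠ 0 := by
    have : Nat.card H ≠ 0 := Nat.card_pos.ne'
    exact_mod_cast this
  simp only [map_one, mul_one] at h
  rcases mul_eq_zero.mp h with h' | h'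
  · exact absurd (inv_eq_zero.mp h') hne
  · exact h'

section TIFN

variable {G : Type u} [Group G] [Fintype G] {K : Subgroup G}

local notation "NK" => Subgroup.normalizer (K : Set G)

variable [Fintype ↥(Subgroup.normalizer (K : Set G))]

open Classical in
theorem sum_indicator_K :
    ∑ x : ↥NK, (if (x : G) ∈ K ∧ x ≠ 1 then (1 : ℝ) else 0) = (Nat.card K : ℝ) - 1 := by
  rw [Finset.sum_boole]
  have h1 : (Finset.univ.filter fun x : ↥NK => (x : G) ∈ K ∧ x ≠ 1) =
      (Finset.univ.filter fun x : ↥NK => (x : G) ∈ K).erase 1 := by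
    ext x
    simp [and_comm]
  rw [h1, Finset.card_erase_of_mem (by simp [K.one_mem])]
  have h2 : (Finset.univ.filter fun x : ↥NK => (x : G) ∈ K).card = Nat.card K := by
    rw [← Nat.card_congr (Subgroup.subgroupOfEquivOfLe (Subgroup.le_normalizer (H := K))).toEquiv,
      Nat.card_eq_fintype_card, ← Fintype.card_subtype]
    rfl
  rw [h2]
  have : 1 ≤ Nat.card K := Nat.card_pos
  push_cast [Nat.cast_sub this]
  ring

open Classical in
/-- a sum over `K` as a sum over `N` -/
theorem sum_K_eq_sum_NK [Fintype ↥K] (F : ↥NK → ℝ) (hF : ∀ x : ↥NK, (x : G) ∉ K → F x = 0) :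
    ∑ h : ↥K, F ⟨(h : G), Subgroup.le_normalizer h.2⟩ = ∑ x : ↥NK, F x := by
  apply Fintype.sum_of_injective (fun h : ↥K => (⟨(h : G), Subgroup.le_normalizer h.2⟩ : ↥NK))
  · intro h h' hh
    apply Subtype.ext
    exact congrArg (fun x : ↥NK => (x : G)) hh
  · intro x hx
    apply hF
    intro hxK
    exact hx ⟨⟨x, hxK⟩, rfl⟩
  · intro h
    rfl

open Classical in
/-- the sum of `|Ψ|²` over `K#` for a function with `Ψ = ε ζ + c` on `K#` -/
theorem sum_normSq_on_K [Fintype ↥K]
    (hC : ∀ k ∈ K, k ≠ 1 → Subgroup.centralizer ({k} : Set G) ≤ K)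
    (hab : ∀ a ∈ K, ∀ b ∈ K, a * b = b * a) (ζ : RelChar K) (Ψ : G → ℂ) (ε : ℂ)
    (hε : ε = 1 ∨ ε = -1) (c : ℤ)
    (hval : ∀ x : ↥NK, (x : G) ∈ K → x ≠ 1 → Ψ x = ε * (ζ.1 : ↥NK → ℂ) x + c) :
    ∑ h : ↥K, (if h = 1 then (0 : ℝ) else Complex.normSq (Ψ h)) =
      (Nat.card K : ℝ) * ((K.subgroupOf NK).index : ℝ) - ((K.subgroupOf NK).index : ℝ) ^ 2
        - 2 * ε.re * c * ((K.subgroupOf NK).index : ℝ) + ((Nat.card K : ℝ) - 1) * (c : ℝ) ^ 2 := by
  set e : ℝ := ((K.subgroupOf NK).index : ℝ) with he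
  have hζ1 : (ζ.1 : ↥NK → ℂ) 1 = (e : ℂ) := by
    rw [relChar_apply_one hC hab ζ, he]; push_cast; rfl
  have hεre : ε = ((ε.re : ℝ) : ℂ) ∧ ε.re * ε.re = 1 := by
    rcases hε with rfl | rfl <;> simp
  have key : ∀ x : ↥NK, (if (x : G) ∈ K ∧ x ≠ 1 then Complex.normSq (Ψ x) else 0) =
      Complex.normSq ((ζ.1 : ↥NK → ℂ) x) - (if x = 1 then e ^ 2 else 0)
        + 2 * ε.re * c * (((ζ.1 : ↥NK → ℂ) x).re - (if x = 1 then e else 0))
        + (c : ℝ) ^ 2 * (if (x : G) ∈ K ∧ x ≠ 1 then (1 : ℝ) else 0) := by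
    intro x
    by_cases hxK : (x : G) ∈ K
    · by_cases hx1 : x = 1
      · subst hx1
        rw [if_neg (by simp), if_pos rfl, if_pos rfl, if_neg (by simp), hζ1]
        simp [Complex.normSq_apply]
        ring
      · rw [if_pos ⟨hxK, hx1⟩, if_neg hx1, if_neg hx1, if_pos ⟨hxK, hx1⟩, hval x hxK hx1]
        rw [hεre.1]
        set z := (ζ.1 : ↥NK → ℂ) x
        rw [Complex.normSq_apply, Complex.normSq_apply]
        simp only [Complex.add_re, Complex.mul_re, Complex.ofReal_re, Complex.ofReal_im,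
          Complex.intCast_re, Complex.add_im, Complex.mul_im, Complex.intCast_im]
        have := hεre.2
        ring_nf
        ring_nf at this
        nlinarith [this]
    · have hx1 : x ≠ 1 := by
        rintro rfl
        exact hxK K.one_mem
      rw [if_neg (fun h => hxK h.1), if_neg hx1, if_neg hx1, if_neg (fun h => hxK h.1),
        relChar_vanish hC ζ x hxK]
      simp
  have hsum := sum_K_eq_sum_NK (K := K)
    (fun x : ↥NK => if (x : G) ∈ K ∧ x ≠ 1 then Complex.normSq (Ψ x) else 0)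
    (fun x hx => if_neg (fun h => hx h.1))
  have hlhs : ∑ h : ↥K, (if h = 1 then (0 : ℝ) else Complex.normSq (Ψ h)) =
      ∑ h : ↥K, (fun x : ↥NK => if (x : G) ∈ K ∧ x ≠ 1 then Complex.normSq (Ψ x) else 0)
        ⟨(h : G), Subgroup.le_normalizer h.2⟩ := by
    apply Finset.sum_congr rfl
    intro h _
    beta_reduce
    by_cases h1 : h = 1
    · subst h1
      rw [if_pos rfl, if_neg]
      rintro ⟨_, h2⟩
      exact h2 rfl
    · rw [if_neg h1, if_pos]
      refine ⟨h.2, ?_⟩
      intro h2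
      apply h1
      apply Subtype.ext
      exact congrArg (fun x : ↥NK => (x : G)) h2
  rw [hlhs, hsum, Finset.sum_congr rfl (fun x _ => key x)]
  rw [Finset.sum_add_distrib, Finset.sum_add_distrib, Finset.sum_sub_distrib, ← Finset.mul_sum,
    ← Finset.mul_sum, Finset.sum_sub_distrib, sum_indicator_K, sum_normSq_irr ζ.1,
    Finset.sum_ite_eq' Finset.univ (1 : ↥NK), Finset.sum_ite_eq' Finset.univ (1 : ↥NK),
    if_pos (Finset.mem_univ _), if_pos (Finset.mem_univ _)]
  have hre : ∑ x : ↥NK, ((ζ.1 : ↥NK → ℂ) x).re = 0 := by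
    have := sum_eq_zero_of_classInner_one (relChar_classInner_one ζ)
    have h2 := congrArg Complex.re this
    rw [Complex.re_sum] at h2
    simpa using h2
  rw [hre, card_normalizer_eq]
  push_cast
  ring

variable (ε : ℂ) (f : RelChar K → IrrCharacter G)

/-- the multiplicities of the exceptional characters in `Γ` and the values of `f ζ` on `K#` -/
theorem star_values
    (hTI : ∀ g : G, g ∉ NK → ∀ k ∈ K, g * k * g⁻¹ ∈ K → k = 1)
    (hC : ∀ k ∈ K, k ≠ 1 → Subgroup.centralizer ({k} : Set G) ≤ K)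
    (hab : ∀ a ∈ K, ∀ b ∈ K, a * b = b * a) (ζ : RelChar K)
    (hε : ε = 1 ∨ ε = -1) (hf : Function.Injective f)
    (hind : ∀ χ ξ : RelChar K, indFun NK ((χ.1 : ↥NK → ℂ) - (ξ.1 : ↥NK → ℂ)) =
      ε • ((f χ : G → ℂ) - (f ξ : G → ℂ))) :
    ∃ c : ℤ, (∀ x : ↥NK, (x : G) ∈ K → x ≠ 1 →
        (f ζ : G → ℂ) x = ε * (ζ.1 : ↥NK → ℂ) x + c) ∧
      classInner (gammaK ζ) (f ζ : G → ℂ) = c - ε ∧
      ∀ χ : RelChar K, χ ≠ ζ → classInner (gammaK ζ) (f χ : G → ℂ) = c := by
  have hεc : conj ε = ε := by rcases hε with rfl | rfl <;> simp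
  have hε2 : ε * ε = 1 := by rcases hε with rfl | rfl <;> simp
  have hcl := isClassFunction_irr (f ζ)
  set γ : ↥NK → ℂ := (fun x : ↥NK => (f ζ : G → ℂ) x) - ε • (ζ.1 : ↥NK → ℂ) with hγ
  have hγcl : IsClassFunction ↥NK γ :=
    isClassFunction_sub (isClassFunction_res NK hcl) (isClassFunction_smul ε (isClassFunction_irr ζ.1))
  have hmult : ∀ χ ξ : RelChar K,
      classInner γ (χ.1 : ↥NK → ℂ) = classInner γ (ξ.1 : ↥NK → ℂ) := by
    intro χ ξ
    have h := classInner_res_sub ε f hind hcl χ ξ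
    rw [classInner_irr_irr, classInner_irr_irr, hεc] at h
    rw [hγ, Cfsg.Agent.Lib.Helper26.classInner_sub_left,
      Cfsg.Agent.Lib.Helper26.classInner_sub_left, classInner_smul_left, classInner_smul_left,
      classInner_relChar_relChar, classInner_relChar_relChar]
    have e1 : (if f ζ = f χ then (1 : ℂ) else 0) = if ζ = χ then 1 else 0 := by
      by_cases h' : ζ = χ
      · rw [if_pos h', if_pos (by rw [h'])]
      · rw [if_neg h', if_neg (fun h'' => h' (hf h''))]
    have e2 : (if f ζ = f ξ then (1 : ℂ) else 0) = if ζ = ξ then 1 else 0 := by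
      by_cases h' : ζ = ξ
      · rw [if_pos h', if_pos (by rw [h'])]
      · rw [if_neg h', if_neg (fun h'' => h' (hf h''))]
    rw [e1, e2] at h
    linear_combination h
  obtain ⟨v, hv⟩ := const_on_K_of_eq_mult hC hab ζ hγcl hmult
  obtain ⟨n, hn⟩ := gammaK_int ζ (f ζ)
  have hres : (fun x : ↥NK => (f ζ : G → ℂ) x) = γ + ε • (ζ.1 : ↥NK → ℂ) := by
    rw [hγ]; abel
  have h1 : classInner (gammaK ζ) (f ζ : G → ℂ) = conj v - ε := by
    rw [classInner_gammaK ζ hcl, hres, classInner_add_right, classInner_smul_right,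
      classInner_betaK_of_const hC hab ζ hv, classInner_betaK_relChar hC, if_pos rfl, hεc]
    ring
  -- `ε` as an integer
  obtain ⟨εz, hεz⟩ : ∃ εz : ℤ, ε = εz := by
    rcases hε with rfl | rfl
    · exact ⟨1, by simp⟩
    · exact ⟨-1, by simp⟩
  have hv' : v = ((n + εz : ℤ) : ℂ) := by
    have : conj v = ((n + εz : ℤ) : ℂ) := by
      push_cast
      rw [← hεz, ← hn, h1]
      ring
    have h2 := congrArg conj this
    rw [Complex.conj_conj] at h2
    rw [h2]
    simp
  refine ⟨n + εz, ?_, ?_, ?_⟩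
  · intro x hx hx1
    have := hv x hx hx1
    rw [hγ, Pi.sub_apply, Pi.smul_apply, smul_eq_mul] at this
    rw [← hv']
    linear_combination this
  · rw [hn]; push_cast; rw [← hεz]; ring
  · intro χ hχ
    have h2 : classInner (gammaK ζ) (indFun NK ((χ.1 : ↥NK → ℂ) - (ζ.1 : ↥NK → ℂ))) = 1 := by
      unfold gammaK
      rw [Cfsg.Agent.Lib.Helper3.classInner_indFun_TI (K : Set G) hTI _ _
        (isClassFunction_sub (isClassFunction_irr χ.1) (isClassFunction_irr ζ.1))
        (betaK_vanish hC ζ)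
        (fun x hx => by rw [Pi.sub_apply, relChar_vanish hC χ x hx, relChar_vanish hC ζ x hx, sub_zero])
        (betaK_one hC hab ζ),
        Cfsg.Agent.Lib.Helper26.classInner_sub_right, classInner_betaK_relChar hC,
        classInner_betaK_relChar hC, if_pos rfl, if_neg (fun h => hχ h.symm)]
      ring
    rw [hind, classInner_smul_right, Cfsg.Agent.Lib.Helper26.classInner_sub_right, hεc, hn] at h2
    push_cast
    rw [← hεz]
    linear_combination ε * h2 - (classInner (gammaK ζ) (f χ : G → ℂ) - n) * hε2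
  
end TIFN

end Cfsg.Agent.Lib.Helper52
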