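/-
Helper52, project S5655 part 2 (helper94's sheet UDEC), module [IND]: from all pairs of members to all
isotropic vectors, by induction on the number of non-zero components.
`all_of_pairs_of` takes the statement of [EX7] (`ex_norm_prod`) as a hypothesis.
-/
import Mathlib
import Cfsg.Agent.Lib.Helper94.UDec.Core
import Cfsg.Agent.Lib.Helper94.UDec.B1

set_option autoImplicit false
set_option linter.unusedSectionVars false
set_option linter.unusedVariables false

namespace Cfsg.Agent.Lib.Helper52.UDec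

open Cfsg.Agent.Lib.Helper94 Cfsg.Agent.Lib.Helper94.SympData Cfsg.Agent.Lib.Helper94.UDec Module

variable {K V : Type*} [Field K] [AddCommGroup V] [Module K V] [FiniteDimensional K V]
variable {σ : K →+* K} {h : V → V → K}
variable {t k : ℕ} {D : Fin t → Submodule K V}

/-- the statement of [EX7] `ex_norm_prod` (for all non-degenerate subspaces) -/
def Ex7Stmt (σ : K →+* K) (h : V → V → K) : Prop :=
  ∀ {W : Submodule K V}, NdOn h W → 2 ≤ finrank K W → ∀ {x : V}, x ∈ W → x ≠ 0 →
    ∀ ρ β : K, σ ρ = ρ → (3 ≤ finrank K W ∨ h x x ≠ 0 ∨ β ≠ 0 ∨ ρ = 0) →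
      ∃ z ∈ W, h z z = ρ ∧ h x z = β

/-- [IND], relative to [EX7] -/
theorem all_of_pairs_of (hEX7 : Ex7Stmt σ h) (C : UCtx σ h k D) {M : Subgroup (V ≃ₗ[K] V)}
    (hMU : M ≤ UG h) (hHM : HG h D ≤ M)
    (hcase : 3 ≤ k ∨ ∀ μ : K, ∃ l : K, σ l = l ∧ l ≠ 0 ∧ l ≠ μ)
    (hP : ∀ a b : Fin t, a ≠ b → ∀ u ∈ D a, ∀ v ∈ D b, h (u + v) (u + v) = 0 →
      u + v ∈ UXa C.herm M)
    {x : V} (hxx : h x x = 0) : x ∈ UXa C.herm M := by
  classical
  induction' hn : (Finset.univ.filter (fun i => C.ld.pr i x ≠ 0)).card using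
    Nat.strong_induction_on with n ih generalizing x
  set S : Finset (Fin t) := Finset.univ.filter (fun i => C.ld.pr i x ≠ 0) with hS
  have hmemS : ∀ i, i ∈ S ↔ C.ld.pr i x ≠ 0 := fun i => by simp [hS]
  -- empty support
  rcases S.eq_empty_or_nonempty with hS0 | ⟨a, haS⟩
  · have hx0 : x = 0 := by
      apply C.ld.eq_zero_of_pr
      intro i
      by_contra hi
      have : i ∈ S := (hmemS i).2 hi
      rw [hS0] at this
      exact absurd this (Finset.notMem_empty i)
    rw [hx0]
    exact zero_mem_UXa C.herm M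
  have hxa : C.ld.pr a x ≠ 0 := (hmemS a).1 haS
  rcases (S.erase a).eq_empty_or_nonempty with hS1 | ⟨b, hbS⟩
  · -- support `{a}`
    have hx1 : x = C.ld.pr a x := by
      conv_lhs => rw [← C.ld.sum_pr x]
      apply Finset.sum_eq_single a
      · intro i _ hia
        by_contra hi
        have : i ∈ S.erase a := Finset.mem_erase.2 ⟨hia, (hmemS i).2 hi⟩
        rw [hS1] at this
        exact absurd this (Finset.notMem_empty i)
      · intro ha
        exact absurd (Finset.mem_univ a) ha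
    have hxD : x ∈ D a := by
      rw [hx1]
      exact C.ld.pr_mem a x
    exact block_mem C hHM hxD hxx
  -- two indices in the support
  have hba : b ≠ a := (Finset.mem_erase.1 hbS).1
  have hab : a ≠ b := hba.symm
  have hxb : C.ld.pr b x ≠ 0 := (hmemS b).1 (Finset.mem_erase.1 hbS).2
  set xa : V := C.ld.pr a x with hxa_def
  set xb : V := C.ld.pr b x with hxb_def
  have hxaD : xa ∈ D a := C.ld.pr_mem a x
  have hxbD : xb ∈ D b := C.ld.pr_mem b x
  set α : K := h xa xa with hα
  have hσα : σ α = α := σ_norm C.herm xa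
  -- the element `γ` of trace zero
  obtain ⟨γ, hγ0, hγtz, hγα⟩ : ∃ γ : K, γ ≠ 0 ∧ γ + σ γ = 0 ∧ (3 ≤ k ∨ γ ≠ α) := by
    obtain ⟨c₀, hc₀, hc₀tz⟩ := C.tz
    rcases hcase with hk | hq
    · exact ⟨c₀, hc₀, hc₀tz, Or.inl hk⟩
    · obtain ⟨l, hl, hl0, hlμ⟩ := hq (α / c₀)
      refine ⟨c₀ * l, mul_ne_zero hc₀ hl0, C.σ_tz_mul hc₀tz hl, Or.inr ?_⟩
      intro he
      apply hlμ
      rw [← he]
      field_simp
  -- the vector `z_b`
  have hkb : finrank K (D b) = k := C.ld.finrank_eq b
  obtain ⟨zb, hzbD, hzbzb, hxbzb⟩ : ∃ z ∈ D b, h z z = -α ∧ h xb z = γ - α := by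
    apply hEX7 (C.nd b) (by rw [hkb]; exact C.two_le) hxbD hxb (-α) (γ - α)
    · rw [map_neg, hσα]
    · rcases hγα with hk | hne
      · left
        rw [hkb]
        exact hk
      · right; right; left
        exact sub_ne_zero.2 hne
  set z : V := xa + zb with hz
  have hab0 : h xa zb = 0 := C.orth a b hab xa hxaD zb hzbD
  have hba0 : h zb xa = 0 := C.orth b a hba zb hzbD xa hxaD
  have hzz : h z z = 0 := by
    rw [hz, C.herm.add_left, C.herm.add_right, C.herm.add_right, hab0, hba0, hzbzb, ← hα]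
    ring
  have hzX : z ∈ UXa C.herm M := hP a b hab xa hxaD zb hzbD hzz
  -- products with `x`
  have hxz : h x z = γ := by
    rw [hz, C.herm.add_right, C.h_right_of_mem hxaD x, C.h_right_of_mem hzbD x, ← hxa_def,
      ← hxb_def, hxbzb, ← hα]
    ring
  have hzx : h z x = -γ := by
    rw [C.herm.conj x z, hxz]
    exact eq_neg_of_add_eq_zero_right hγtz
  set y : V := x - z with hy
  have hyy : h y y = 0 := by
    rw [hy, h_sub_left C.herm, h_sub_right C.herm, h_sub_right C.herm, hxx, hxz, hzx, hzz]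
    ring
  have hyz : h y z = γ := by
    rw [hy, h_sub_left C.herm, hxz, hzz, sub_zero]
  -- the support of `y`
  have hpra : C.ld.pr a y = 0 := by
    rw [hy, hz, map_sub, map_add, hxa_def, C.ld.pr_pr, C.ld.pr_of_mem_ne hba hzbD]
    simp
  have hpri : ∀ i, i ≠ a → i ≠ b → C.ld.pr i y = C.ld.pr i x := by
    intro i hia hib
    rw [hy, hz, map_sub, map_add, C.ld.pr_of_mem_ne (Ne.symm hia) hxaD,
      C.ld.pr_of_mem_ne (Ne.symm hib) hzbD]
    simp
  have hsub : Finset.univ.filter (fun i => C.ld.pr i y ≠ 0) ⊆ S.erase a := by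
    intro i hi
    rw [Finset.mem_filter] at hi
    have hia : i ≠ a := by
      rintro rfl
      exact hi.2 hpra
    refine Finset.mem_erase.2 ⟨hia, ?_⟩
    by_cases hib : i = b
    · rw [hib]
      exact (Finset.mem_erase.1 hbS).2
    · rw [hmemS, ← hpri i hia hib]
      exact hi.2
  have hlt : (Finset.univ.filter (fun i => C.ld.pr i y ≠ 0)).card < n := by
    rw [← hn]
    calc (Finset.univ.filter (fun i => C.ld.pr i y ≠ 0)).card ≤ (S.erase a).card :=
          Finset.card_le_card hsub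
      _ < S.card := Finset.card_erase_lt_of_mem haS
  have hyX : y ∈ UXa C.herm M := ih _ hlt hyy rfl
  have hsum : y + z = x := by rw [hy]; abel
  have := C.uxa_add hMU hyX hzX (by rw [hyz]; exact hγ0) (by rw [hsum]; exact hxx)
  rwa [hsum] at this

end Cfsg.Agent.Lib.Helper52.UDec
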