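/-
Helper52, project S5655 part 2 (helper94's sheet UDEC), module [IND], exact skeleton statement:
`all_of_pairs` = `all_of_pairs_of` with [EX7] (`Helper51.UDec.ex_norm_prod`) plugged in.
-/
import Mathlib
import Cfsg.Agent.Lib.Helper52.UDecInd
import Cfsg.Agent.Lib.Helper51.UDecEx7

set_option autoImplicit false
set_option linter.unusedSectionVars false
set_option linter.unusedVariables false

namespace Cfsg.Agent.Lib.Helper52.UDec

open Cfsg.Agent.Lib.Helper94 Cfsg.Agent.Lib.Helper94.SympData Cfsg.Agent.Lib.Helper94.UDec Module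

variable {K V : Type*} [Field K] [AddCommGroup V] [Module K V] [FiniteDimensional K V]
variable {σ : K →+* K} {h : V → V → K}
variable {t k : ℕ} {D : Fin t → Submodule K V}

/-- [EX7] in the form used by [IND] -/
theorem ex7Stmt (F : FCtx σ h) : Ex7Stmt σ h :=
  fun hW hk _ hx hx0 ρ β hρ hc =>
    Cfsg.Agent.Lib.Helper51.UDec.ex_norm_prod F hW hk hx hx0 ρ β hρ hc

section DEC
variable (C : UCtx σ h k D) {M : Subgroup (V ≃ₗ[K] V)} (hMU : M ≤ UG h) (hHM : HG h D ≤ M)
include C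

/-- [IND] from all pairs of members to all isotropic vectors -/
theorem all_of_pairs (hMU : M ≤ UG h) (hHM : HG h D ≤ M)
    (hcase : 3 ≤ k ∨ ∀ μ : K, ∃ l : K, σ l = l ∧ l ≠ 0 ∧ l ≠ μ)
    (hP : ∀ a b : Fin t, a ≠ b → ∀ u ∈ D a, ∀ v ∈ D b, h (u + v) (u + v) = 0 →
      u + v ∈ UXa C.herm M)
    {x : V} (hxx : h x x = 0) : x ∈ UXa C.herm M :=
  all_of_pairs_of (ex7Stmt C.toFCtx) C hMU hHM hcase hP hxx

end DEC

end Cfsg.Agent.Lib.Helper52.UDec
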